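import Cfsg.Agent.Lib.Core.Nilpotent
import Cfsg.Agent.Lib.Core.Basic

/-!
# Lifting abelian subgroups through a normal subgroup with cyclic Sylow subgroups

If every prime dividing both `|M|` and `|G : M|` has cyclic Sylow subgroups, an abelian subgroup of
`G ⧸ M` is the image of an abelian subgroup whose order depends only on the order of the image.
-/

set_option autoImplicit false
set_option linter.all false

namespace CfsgLib.Orders.AbelianLift

open Subgroup

variable {G : Type*} [Group G] [Finite G]

theorem le_of_card_dvd_of_isCyclic {Q : Subgroup G} [IsCyclic Q] {S T : Subgroup G} (hS : S ≤ Q) (hT : T ≤ Q)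
    (h : Nat.card S ∣ Nat.card T) : S ≤ T := by
  classical
  haveI := Fintype.ofFinite Q
  intro x hx
  set U : Finset Q := Finset.univ.filter fun a : Q => a ^ Nat.card T = 1
  set V : Finset Q := Finset.univ.filter fun a : Q => (a : G) ∈ T
  have hVU : V ⊆ U := fun a ha => by
    simp only [U, V, Finset.mem_filter, Finset.mem_univ, true_and] at ha ⊢
    refine Subtype.ext ?_
    have := pow_card_eq_one' (x := (⟨a, ha⟩ : T))
    exact (congrArg Subtype.val this :)
  have hV : V.card = Nat.card T := by
    rw [← Nat.card_congr (Subgroup.subgroupOfEquivOfLe hT).toEquiv, Nat.card_eq_fintype_card,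
      Fintype.card_subtype]
    simp [V, mem_subgroupOf]
  have hUV : V = U := Finset.eq_of_subset_of_card_le hVU
    ((IsCyclic.card_pow_eq_one_le (α := Q) Nat.card_pos).trans hV.ge)
  have hxU : (⟨x, hS hx⟩ : Q) ∈ U := by
    simp only [U, Finset.mem_filter, Finset.mem_univ, true_and]
    refine Subtype.ext ?_
    show x ^ Nat.card T = 1
    exact orderOf_dvd_iff_pow_eq_one.1 ((orderOf_dvd_natCard S hx).trans h)
  rw [← hUV] at hxU
  simpa [V] using hxU

theorem exists_abelian_lift (M : Subgroup G) [M.Normal]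
    (hM : ∀ p : ℕ, p.Prime → p ∣ Nat.card M → p ∣ M.index → ∀ P : Sylow p G, IsCyclic P)
    (A : Subgroup (G ⧸ M)) (hA : IsMulCommutative A) :
    ∃ D : Subgroup G, IsMulCommutative D ∧ D.map (QuotientGroup.mk' M) = A ∧
      ∀ p : ℕ, p.Prime → (Nat.card D).factorization p =
        if p ∣ Nat.card A then (Nat.card A).factorization p + (Nat.card M).factorization p else 0 := by
  classical
  set π := QuotientGroup.mk' M with hπ
  obtain ⟨D, hD, hmin⟩ := Set.Finite.exists_minimal (s := {D : Subgroup G | D.map π = A}) (Set.toFinite _)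
    ⟨A.comap π, map_comap_eq_self_of_surjective (QuotientGroup.mk'_surjective M) A⟩
  replace hD : D.map π = A := hD
  set f : D →* G ⧸ M := π.comp D.subtype
  have hrange : f.range = A := by
    rw [MonoidHom.range_eq_map, ← Subgroup.map_map, ← MonoidHom.range_eq_map, D.range_subtype, hD]
  set N := f.ker
  have hNM : ∀ x : D, x ∈ N ↔ (x : G) ∈ M := fun x => by
    simp [N, f, π, MonoidHom.mem_ker, QuotientGroup.eq_one_iff]
  have hNidx : N.index = Nat.card A := by rw [index_ker, hrange]
  have hNΦ : N ≤ frattini D := by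
    refine le_iInf₂ fun L hL => ?_
    by_contra hNL
    have hsup : L ⊔ N = ⊤ := hL.2 _ (left_lt_sup.2 hNL)
    have h1 : (L.map D.subtype).map π = A := by
      rw [Subgroup.map_map, ← hrange, MonoidHom.range_eq_map, ← hsup, Subgroup.map_sup,
        (Subgroup.map_eq_bot_iff N).2 le_rfl, sup_bot_eq]
    have h2 := hmin (show L.map D.subtype ∈ {D : Subgroup G | D.map π = A} from h1) (map_subtype_le L)
    refine hL.1 (eq_top_iff.2 fun x _ => ?_)
    obtain ⟨y, hy, hyx⟩ := h2 x.2
    exact Subtype.ext hyx ▸ hy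
  have hcomm : ∀ x y : D, x * y * x⁻¹ * y⁻¹ ∈ N := by
    intro x y
    have hx : f x ∈ A := hrange ▸ ⟨x, rfl⟩
    have hy : f y ∈ A := hrange ▸ ⟨y, rfl⟩
    have h : f x * f y = f y * f x := congrArg Subtype.val (hA.1.1 (⟨_, hx⟩ : A) ⟨_, hy⟩)
    rw [MonoidHom.mem_ker, map_mul, map_mul, map_mul, map_inv, map_inv, h]
    group
  have hnil : Group.IsNilpotent D := by
    refine ((Group.isNilpotent_of_finite_tfae (G := D)).out 0 2).2 fun L hL => ?_
    have hNL : N ≤ L := hNΦ.trans (frattini_le_coatom hL)
    refine ⟨fun n hn g => ?_⟩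
    have := L.mul_mem (hNL (hcomm g n)) hn
    rwa [inv_mul_cancel_right] at this
  have hAidx : Nat.card A ∣ M.index := by
    rw [index_eq_card]; exact card_subgroup_dvd_card A
  have hzero : ∀ p : ℕ, p.Prime → p ∣ Nat.card D → p ∣ Nat.card A := fun p hp h =>
    hNidx ▸ (CfsgLib.Core.prime_dvd_index_frattini hp h).trans (index_dvd_of_le hNΦ)
  -- in the cyclic case the Sylow subgroup of `D` contains that of `M`
  have hkey : ∀ (p : ℕ) [Fact p.Prime] (P : Sylow p D), p ∣ Nat.card A → p ∣ Nat.card M →
      (Nat.card M).factorization p ≤ (Nat.card N).factorization p := by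
    intro p hp P hpA hpM
    set P0 := (P : Subgroup D).map D.subtype
    obtain ⟨Q, hQ⟩ := (P.isPGroup'.map D.subtype : IsPGroup p P0).exists_le_sylow
    haveI : IsCyclic (Q : Subgroup G) := hM p hp.out hpM (hpA.trans hAidx) Q
    set S := M ⊓ (Q : Subgroup G)
    have hcardS : (Nat.card M).factorization p ≤ (Nat.card S).factorization p := by
      have h1 := CfsgLib.Core.card_sup_mul_card_inf (Q : Subgroup G) M
        (by rw [normalizer_eq_top]; exact le_top)
      rw [inf_comm] at h1
      have h3 : Nat.card M * Nat.card (Q : Subgroup G) ∣ Nat.card S * Nat.card G := by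
        rw [mul_comm (Nat.card M), ← h1, mul_comm (Nat.card ↥((Q : Subgroup G) ⊔ M))]
        exact mul_dvd_mul_left _ (card_subgroup_dvd_card _)
      have h4 := (Nat.factorization_le_iff_dvd (mul_ne_zero Nat.card_pos.ne' Nat.card_pos.ne')
        (mul_ne_zero Nat.card_pos.ne' Nat.card_pos.ne')).2 h3 p
      rw [Nat.factorization_mul Nat.card_pos.ne' Nat.card_pos.ne',
        Nat.factorization_mul Nat.card_pos.ne' Nat.card_pos.ne', Finsupp.add_apply, Finsupp.add_apply] at h4
      have h5 : (Nat.card (Q : Subgroup G)).factorization p = (Nat.card G).factorization p := by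
        rw [Q.card_eq_multiplicity, Nat.factorization_pow, Finsupp.smul_apply, smul_eq_mul,
          hp.out.factorization_self, mul_one]
      omega
    have hle : S ≤ P0 := by
      have hP0p : IsPGroup p P0 := P.isPGroup'.map _
      obtain ⟨i, hi⟩ := IsPGroup.iff_card.1 hP0p
      obtain ⟨j, hj⟩ := IsPGroup.iff_card.1 (Q.isPGroup'.to_le inf_le_right : IsPGroup p S)
      rcases le_total j i with hij | hij
      · exact le_of_card_dvd_of_isCyclic inf_le_right hQ (hi ▸ hj ▸ pow_dvd_pow p hij)
      · exfalso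
        have h' : P0 ≤ S := le_of_card_dvd_of_isCyclic hQ inf_le_right (hi ▸ hj ▸ pow_dvd_pow p hij)
        refine P.not_dvd_index ((hNidx.symm ▸ hpA).trans (index_dvd_of_le fun x hx => ?_))
        exact (hNM x).2 (h' (mem_map_of_mem _ hx)).1
    have hSN : S.subgroupOf D ≤ N := fun x hx => (hNM x).2 hx.1
    refine hcardS.trans ((Nat.factorization_le_iff_dvd Nat.card_pos.ne' Nat.card_pos.ne').2 ?_ p)
    rw [← Nat.card_congr (subgroupOfEquivOfLe (hle.trans (map_subtype_le _))).toEquiv]
    exact card_dvd_of_le hSN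
  refine ⟨D, ?_, hD, ?_⟩
  · have hab : ∀ (p : ℕ) [Fact p.Prime] (P : Sylow p D), ∀ x y : (P : Subgroup D), x * y = y * x := by
      intro p hp P x y
      by_cases hpM : p ∣ Nat.card M
      · by_cases hpi : p ∣ M.index
        · obtain ⟨Q, hQ⟩ := (P.isPGroup'.map D.subtype : IsPGroup p ((P : Subgroup D).map D.subtype)).exists_le_sylow
          haveI : IsCyclic (Q : Subgroup G) := hM p hp.out hpM hpi Q
          refine Subtype.ext (Subtype.ext ?_)
          exact (congrArg Subtype.val (IsCyclic.commGroup.mul_comm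
            (⟨_, hQ (mem_map_of_mem _ x.2)⟩ : (Q : Subgroup G)) ⟨_, hQ (mem_map_of_mem _ y.2)⟩) :)
        · have h1 : ¬ p ∣ Nat.card D := fun h => hpi ((hzero p hp.out h).trans hAidx)
          have h2 : Nat.card (P : Subgroup D) = 1 := by
            rw [P.card_eq_multiplicity, Nat.factorization_eq_zero_of_not_dvd h1, pow_zero]
          haveI := (Nat.card_eq_one_iff_unique.1 h2).1
          exact Subsingleton.elim _ _
      · refine Subtype.ext ?_
        have hc := hcomm (x : D) (y : D)
        rw [hNM] at hc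
        have hP : ((x : D) * y * (x : D)⁻¹ * (y : D)⁻¹) ∈ (P : Subgroup D) :=
          mul_mem (mul_mem (mul_mem x.2 y.2) (inv_mem x.2)) (inv_mem y.2)
        obtain ⟨i, hi⟩ := IsPGroup.iff_orderOf.1 P.isPGroup' ⟨_, hP⟩
        have h1 : orderOf (((x : D) * y * (x : D)⁻¹ * (y : D)⁻¹ : D) : G) = p ^ i := by
          rw [orderOf_coe, ← hi]
          exact (Subgroup.orderOf_mk _ hP).symm
        have h2 := orderOf_dvd_natCard M hc
        rw [h1] at h2
        have h3 : i = 0 := by
          by_contra h
          exact hpM ((dvd_pow_self p h).trans h2)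
        rw [h3, pow_zero, orderOf_eq_one_iff, OneMemClass.coe_eq_one] at h1
        exact mul_inv_eq_iff_eq_mul.1 (mul_inv_eq_one.1 h1)
    obtain ⟨e⟩ := ((Group.isNilpotent_of_finite_tfae (G := D)).out 0 4).1 hnil
    refine ⟨⟨fun x y => e.symm.injective ?_⟩⟩
    rw [map_mul, map_mul]
    funext p P
    haveI : Fact (p : ℕ).Prime := ⟨Nat.prime_of_mem_primeFactors p.2⟩
    exact hab p P _ _
  · intro p hp
    haveI := Fact.mk hp
    split_ifs with hpA
    · have h1 : Nat.card D = Nat.card A * Nat.card N := by rw [← hNidx, mul_comm, card_mul_index]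
      rw [h1, Nat.factorization_mul Nat.card_pos.ne' Nat.card_pos.ne', Finsupp.add_apply]
      congr 1
      refine le_antisymm ?_ ?_
      · refine (Nat.factorization_le_iff_dvd Nat.card_pos.ne' Nat.card_pos.ne').2 ?_ p
        rw [← card_map_of_injective D.subtype_injective]
        exact card_dvd_of_le (by rintro _ ⟨x, hx, rfl⟩; exact (hNM x).1 hx)
      · by_cases hpM : p ∣ Nat.card M
        · obtain ⟨P⟩ := (Sylow.nonempty : Nonempty (Sylow p D))
          exact hkey p P hpA hpM
        · simp [Nat.factorization_eq_zero_of_not_dvd hpM]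
    · exact Nat.factorization_eq_zero_of_not_dvd fun h => hpA (hzero p hp h)

/-- conjugacy of abelian subgroups passes to such quotients -/
theorem conj_quotient (hB : ∀ A B : Subgroup G, IsMulCommutative A → IsMulCommutative B →
      Nat.card A = Nat.card B → ∃ g : G, B = A.map (MulAut.conj g).toMonoidHom)
    (M : Subgroup G) [M.Normal]
    (hM : ∀ p : ℕ, p.Prime → p ∣ Nat.card M → p ∣ M.index → ∀ P : Sylow p G, IsCyclic P)
    (A B : Subgroup (G ⧸ M)) (hA : IsMulCommutative A) (hBc : IsMulCommutative B)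
    (h : Nat.card A = Nat.card B) :
    ∃ g : G ⧸ M, B = A.map (MulAut.conj g).toMonoidHom := by
  obtain ⟨D, hDc, hDA, hDf⟩ := exists_abelian_lift M hM A hA
  obtain ⟨E, hEc, hEB, hEf⟩ := exists_abelian_lift M hM B hBc
  have hcard : Nat.card D = Nat.card E := by
    refine Nat.eq_of_factorization_eq Nat.card_pos.ne' Nat.card_pos.ne' fun p => ?_
    by_cases hp : p.Prime
    · rw [hDf p hp, hEf p hp, h]
    · simp [Nat.factorization_eq_zero_of_not_prime _ hp]
  obtain ⟨g, hg⟩ := hB D E hDc hEc hcard
  refine ⟨QuotientGroup.mk' M g, ?_⟩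
  rw [← hEB, ← hDA, hg, Subgroup.map_map, Subgroup.map_map]
  congr 1

end CfsgLib.Orders.AbelianLift
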