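import Cfsg.Agent.Lib.Core.Basic
import Cfsg.Agent.Lib.PGroups.ClassTwo
import Cfsg.Agent.Lib.PGroups.MaxAbelian
import Cfsg.Agent.Lib.Transfer.RankTwo
import Cfsg.Agent.Lib.OddLocal.Puig

/-!
# Frobenius' theorem on solutions of `x ^ m = 1`, and Miller's theorem
-/

set_option autoImplicit false

namespace CfsgLib.Orders

universe u

open scoped commutatorElement

variable {G : Type u} [Group G] [Finite G]

theorem totient_dvd_card_of_closed (o : ℕ) (S : Finset G) (ho : ∀ x ∈ S, orderOf x = o)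
    (hcl : ∀ x ∈ S, ∀ y ∈ Subgroup.zpowers x, orderOf y = o → y ∈ S) :
    Nat.totient o ∣ S.card := by
  classical
  rw [Finset.card_eq_sum_card_image Subgroup.zpowers S]
  refine Finset.dvd_sum fun H hH => ?_
  obtain ⟨x, hx, rfl⟩ := Finset.mem_image.1 hH
  refine dvd_of_eq ?_
  have := Fintype.ofFinite G
  have h := IsCyclic.card_orderOf_eq_totient (α := Subgroup.zpowers x) (d := o)
    (by rw [← Nat.card_eq_fintype_card, Nat.card_zpowers, ho x hx])
  rw [← h, ← Finset.card_map ⟨((↑) : Subgroup.zpowers x → G), Subtype.val_injective⟩]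
  congr 1
  ext y
  simp only [Finset.mem_map, Finset.mem_filter, Finset.mem_univ, true_and,
    Function.Embedding.coeFn_mk]
  constructor
  · rintro ⟨a, ha, rfl⟩
    rw [← Subgroup.orderOf_coe] at ha
    refine ⟨hcl x hx _ a.2 ha, ?_⟩
    refine Subgroup.eq_of_le_of_card_ge (Subgroup.zpowers_le.2 a.2) ?_
    rw [Nat.card_zpowers, Nat.card_zpowers, ha, ho x hx]
  · rintro ⟨hy, hz⟩
    exact ⟨⟨y, hz ▸ Subgroup.mem_zpowers y⟩, by rw [← Subgroup.orderOf_coe]; exact ho y hy, rfl⟩

theorem totient_dvd_card_orderOf (o : ℕ) : Nat.totient o ∣ Nat.card {x : G // orderOf x = o} := by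
  classical
  have := Fintype.ofFinite G
  rw [Nat.card_eq_fintype_card, Fintype.card_subtype]
  exact totient_dvd_card_of_closed o _ (fun x hx => (Finset.mem_filter.1 hx).2)
    fun x _ y _ hy => Finset.mem_filter.2 ⟨Finset.mem_univ y, hy⟩

/-- Splitting an element into two commuting parts of coprime orders. -/
theorem card_split {d r : ℕ} (hd : 0 < d) (hr : 0 < r) (hco : d.Coprime r) (R : G → Prop) :
    ∃ e : ℕ, (∀ u v : G, u ^ d = 1 → v ^ r = 1 → Commute u v → (u * v) ^ e = u) ∧
    (∀ x : G, x ^ (d * r) = 1 → (x ^ e) ^ d = 1 ∧ ((x ^ e)⁻¹ * x) ^ r = 1) ∧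
    ∀ Q : G → Prop, Nat.card {x : G // x ^ (d * r) = 1 ∧ Q (x ^ e) ∧ R ((x ^ e)⁻¹ * x)} =
      Nat.card (Σ u : {u : G // u ^ d = 1 ∧ Q u},
        {v : G // v ∈ Subgroup.centralizer {(u : G)} ∧ v ^ r = 1 ∧ R v}) := by
  obtain ⟨e, he1, he0⟩ := Nat.chineseRemainder hco 1 0
  have hsplit : ∀ u v : G, u ^ d = 1 → v ^ r = 1 → Commute u v → (u * v) ^ e = u := by
    intro u v hu hv hc
    have h1 : u ^ e = u := by
      conv_rhs => rw [← pow_one u]
      exact pow_eq_pow_iff_modEq.2 (he1.of_dvd (orderOf_dvd_of_pow_eq_one hu))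
    have h2 : v ^ e = 1 := by
      rw [← pow_zero v]
      exact pow_eq_pow_iff_modEq.2 (he0.of_dvd (orderOf_dvd_of_pow_eq_one hv))
    rw [hc.mul_pow, h1, h2, mul_one]
  have hparts : ∀ x : G, x ^ (d * r) = 1 → (x ^ e) ^ d = 1 ∧ ((x ^ e)⁻¹ * x) ^ r = 1 := by
    intro x hx
    constructor
    · rw [← pow_mul, ← orderOf_dvd_iff_pow_eq_one]
      refine (orderOf_dvd_of_pow_eq_one hx).trans ?_
      rw [mul_comm e d]
      exact mul_dvd_mul_left d ((Nat.modEq_zero_iff_dvd).1 he0)
    · rw [(((Commute.refl x).pow_left e).inv_left).mul_pow, inv_pow, ← pow_mul, inv_mul_eq_one,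
        pow_eq_pow_iff_modEq]
      refine (Nat.ModEq.of_dvd (orderOf_dvd_of_pow_eq_one hx) ?_)
      have := he1.mul_right' r
      rwa [one_mul] at this
  refine ⟨e, hsplit, hparts, fun Q => ?_⟩
  symm
  refine Nat.card_congr (Equiv.ofBijective (fun a => ⟨(a.1 : G) * (a.2 : G), ?_⟩) ⟨?_, ?_⟩)
  · have hc : Commute (a.1 : G) (a.2 : G) := (Subgroup.mem_centralizer_singleton_iff.1 a.2.2.1).symm
    refine ⟨?_, ?_, ?_⟩
    · rw [hc.mul_pow, pow_mul, a.1.2.1, one_pow, one_mul, mul_comm d r, pow_mul, a.2.2.2.1, one_pow]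
    · rw [hsplit _ _ a.1.2.1 a.2.2.2.1 hc]; exact a.1.2.2
    · rw [hsplit _ _ a.1.2.1 a.2.2.2.1 hc, inv_mul_cancel_left]; exact a.2.2.2.2
  · intro a b hab
    have h0 : (a.1 : G) * (a.2 : G) = (b.1 : G) * (b.2 : G) := congrArg Subtype.val hab
    have ha := hsplit _ _ a.1.2.1 a.2.2.2.1 (Subgroup.mem_centralizer_singleton_iff.1 a.2.2.1).symm
    have hb := hsplit _ _ b.1.2.1 b.2.2.2.1 (Subgroup.mem_centralizer_singleton_iff.1 b.2.2.1).symm
    have h1 : a.1 = b.1 := Subtype.ext (ha.symm.trans (h0 ▸ hb))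
    obtain ⟨u, v⟩ := a
    obtain ⟨u', v'⟩ := b
    subst h1
    exact congrArg _ (Subtype.ext (mul_left_cancel h0))
  · rintro ⟨x, hx, hQ, hR⟩
    obtain ⟨hu, hv⟩ := hparts x hx
    have hc : Commute (x ^ e) ((x ^ e)⁻¹ * x) :=
      ((Commute.refl (x ^ e)).inv_right).mul_right ((Commute.refl x).pow_left e)
    exact ⟨⟨⟨x ^ e, hu, hQ⟩, ⟨(x ^ e)⁻¹ * x, Subgroup.mem_centralizer_singleton_iff.2 hc.eq.symm, hv, hR⟩⟩,
      Subtype.ext (mul_inv_cancel_left _ _)⟩

/-- A conjugation invariant sum is divisible by `r` if each class contributes a multiple of `r`. -/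
theorem dvd_card_sigma_of_class {r : ℕ} (Q : G → Prop) (P : G → G → Prop)
    (hQ : ∀ g u, Q u → Q (g * u * g⁻¹)) (hP : ∀ g u v, P u v → P (g * u * g⁻¹) (g * v * g⁻¹))
    (h : ∀ u, Q u → r ∣ (Subgroup.centralizer ({u} : Set G)).index * Nat.card {v : G // P u v}) :
    r ∣ Nat.card (Σ u : {u : G // Q u}, {v : G // P u v}) := by
  classical
  have := Fintype.ofFinite G
  haveI := Fintype.ofFinite {u : G // Q u}
  let f : G → ℕ := fun u => Nat.card {v : G // P u v}
  have hf : ∀ g u, f (g * u * g⁻¹) = f u := by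
    intro g u
    refine (Nat.card_congr ((MulAut.conj g).toEquiv.subtypeEquiv fun v => ?_)).symm
    refine ⟨hP g u v, fun hv => ?_⟩
    have := hP g⁻¹ _ _ hv
    simpa [mul_assoc] using this
  rw [Nat.card_sigma]
  have hsum : ∑ u : {u : G // Q u}, f u = ∑ u ∈ Finset.univ.filter Q, f u :=
    (Finset.sum_subtype _ (fun u => by simp) f).symm
  show r ∣ ∑ u : {u : G // Q u}, f u
  rw [hsum, ← Finset.sum_fiberwise_of_maps_to (t := Finset.univ.image ConjClasses.mk)
    (g := ConjClasses.mk) (fun u _ => Finset.mem_image_of_mem _ (Finset.mem_univ u))]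
  refine Finset.dvd_sum fun c hc => ?_
  obtain ⟨u, -, rfl⟩ := Finset.mem_image.1 hc
  by_cases hu : Q u
  · have hfil : (Finset.univ.filter Q).filter (fun a => ConjClasses.mk a = ConjClasses.mk u) =
        Finset.univ.filter fun a => IsConj u a := by
      ext a
      simp only [Finset.mem_filter, Finset.mem_univ, true_and, ConjClasses.mk_eq_mk_iff_isConj]
      refine ⟨fun h => h.2.symm, fun h => ⟨?_, h.symm⟩⟩
      obtain ⟨g, rfl⟩ := isConj_iff.1 h
      exact hQ g u hu
    rw [hfil, Finset.sum_congr rfl (g := fun _ => f u) (fun a ha => by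
      obtain ⟨g, rfl⟩ := isConj_iff.1 (Finset.mem_filter.1 ha).2
      exact hf g u), Finset.sum_const, smul_eq_mul]
    refine dvd_trans (h u hu) (dvd_of_eq ?_)
    congr 1
    rw [← Nat.card_eq_finsetCard]
    have h' := MulAction.index_stabilizer (ConjAct G) u
    rw [ConjAct.stabilizer_eq_centralizer] at h'
    refine h'.trans ?_
    rw [← Nat.card_coe_set_eq]
    exact Nat.card_congr (Equiv.subtypeEquivRight fun a => by
      rw [MulAction.mem_orbit_iff, Finset.mem_filter, isConj_iff, and_iff_right (Finset.mem_univ a)]; rfl)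
  · rw [Finset.sum_eq_zero]
    · exact dvd_zero r
    intro a ha
    simp only [Finset.mem_filter, Finset.mem_univ, true_and, ConjClasses.mk_eq_mk_iff_isConj] at ha
    obtain ⟨g, rfl⟩ := isConj_iff.1 ha.2
    exact absurd (hQ g a ha.1) hu

theorem dvd_mul_gcd {r K c : ℕ} (h : r ∣ K * c) : r ∣ K * Nat.gcd r c := by
  rw [← Nat.gcd_mul_left]
  exact Nat.dvd_gcd (dvd_mul_left r K) h

/-- The part `gcd s |C|` of Frobenius' theorem, for the quotient of a centraliser. -/
theorem card_solutions_centralizer {u : G} {s : ℕ} (hs : (orderOf u).Coprime s) (hs0 : 0 < s)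
    (hFrob : ∀ (Q : Type u) [Group Q] [Finite Q], Nat.card Q * orderOf u ≤ Nat.card G →
      ∀ m, m ∣ Nat.card Q → m ∣ Nat.card {x : Q // x ^ m = 1}) :
    Nat.gcd s (Nat.card (Subgroup.centralizer ({u} : Set G))) ∣
      Nat.card {v : G // v ∈ Subgroup.centralizer {u} ∧ v ^ s = 1} := by
  set C := Subgroup.centralizer ({u} : Set G)
  set Z : Subgroup C := (Subgroup.zpowers u).subgroupOf C
  have huC : u ∈ C := Subgroup.mem_centralizer_singleton_iff.2 rfl
  have hcomm : ∀ z ∈ Z, ∀ a : C, a * z = z * a := by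
    intro z hz a
    obtain ⟨i, hi⟩ := Subgroup.mem_zpowers_iff.1 (Subgroup.mem_subgroupOf.1 hz)
    refine Subtype.ext ?_
    rw [Subgroup.coe_mul, Subgroup.coe_mul, ← hi]
    exact ((show Commute (a : G) u from Subgroup.mem_centralizer_singleton_iff.1 a.2).zpow_right i).eq
  have hZn : Z.Normal := ⟨fun z hz a => by rw [hcomm z hz a, mul_inv_cancel_right]; exact hz⟩
  have hZc : Nat.card Z = orderOf u := by
    rw [← Nat.card_zpowers]
    exact Nat.card_congr (Subgroup.subgroupOfEquivOfLe (Subgroup.zpowers_le.2 huC)).toEquiv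
  have hgcd : Nat.gcd s (Nat.card C) = Nat.gcd s (Nat.card (C ⧸ Z)) := by
    rw [Subgroup.card_eq_card_quotient_mul_card_subgroup Z, hZc]
    exact Nat.Coprime.gcd_mul_right_cancel_right (k := orderOf u) _ hs
  rw [hgcd]
  have hle : Nat.card (C ⧸ Z) * orderOf u ≤ Nat.card G := by
    rw [← hZc, ← Subgroup.card_eq_card_quotient_mul_card_subgroup Z]
    exact Subgroup.card_le_card_group C
  refine (hFrob (C ⧸ Z) hle _ (Nat.gcd_dvd_right _ _)).trans (dvd_of_eq ?_)
  have h1 : Nat.card {x : C ⧸ Z // x ^ Nat.gcd s (Nat.card (C ⧸ Z)) = 1} =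
      Nat.card {x : C ⧸ Z // x ^ s = 1} := Nat.card_congr (Equiv.subtypeEquivRight fun x => by
    rw [← orderOf_dvd_iff_pow_eq_one, ← orderOf_dvd_iff_pow_eq_one, Nat.dvd_gcd_iff,
      and_iff_left (orderOf_dvd_natCard x)])
  rw [h1]
  obtain ⟨t, ht1, ht0⟩ := Nat.chineseRemainder hs 0 1
  symm
  refine Nat.card_congr (Equiv.ofBijective
    (fun v => ⟨((⟨v.1, v.2.1⟩ : C) : C ⧸ Z), by
      rw [← QuotientGroup.mk_pow, show (⟨v.1, v.2.1⟩ : C) ^ s = 1 from Subtype.ext v.2.2,
        QuotientGroup.mk_one]⟩) ⟨?_, ?_⟩)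
  · intro a b hab
    have h2 := QuotientGroup.eq.1 (congrArg Subtype.val hab)
    have hz := hcomm _ h2 ⟨a.1, a.2.1⟩
    set z := (⟨a.1, a.2.1⟩ : C)⁻¹ * ⟨b.1, b.2.1⟩ with hzdef
    have h3 : (z : G) ^ s = 1 := by
      have hb : (⟨b.1, b.2.1⟩ : C) = ⟨a.1, a.2.1⟩ * z := by rw [hzdef, mul_inv_cancel_left]
      have hb' := congrArg (fun c : C => (c : G) ^ s) hb
      simp only [Subgroup.coe_mul] at hb'
      rw [b.2.2, (show Commute (a : G) (z : G) from congrArg Subtype.val hz).mul_pow, a.2.2, one_mul] at hb'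
      exact hb'.symm
    have h4 : orderOf (z : G) ∣ orderOf u :=
      orderOf_dvd_of_mem_zpowers (Subgroup.mem_subgroupOf.1 h2)
    have h5 := orderOf_eq_one_iff.1 (Nat.eq_one_of_dvd_coprimes hs h4 (orderOf_dvd_of_pow_eq_one h3))
    have h6 : z = 1 := Subtype.ext h5
    rw [hzdef, inv_mul_eq_one] at h6
    have h7 := congrArg (fun c : C => (c : G)) h6
    exact Subtype.ext h7
  · rintro ⟨w, hw⟩
    obtain ⟨y, rfl⟩ := QuotientGroup.mk_surjective w
    have hys : y ^ s ∈ Z := by rwa [← QuotientGroup.eq_one_iff, QuotientGroup.mk_pow]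
    have hy : ((y ^ t : C) : G) ^ s = 1 := by
      rw [Subgroup.coe_pow, ← pow_mul, mul_comm, pow_mul, ← Subgroup.coe_pow]
      exact orderOf_dvd_iff_pow_eq_one.1
        ((orderOf_dvd_of_mem_zpowers (Subgroup.mem_subgroupOf.1 hys)).trans (Nat.modEq_zero_iff_dvd.1 ht1))
    refine ⟨⟨((y ^ t : C) : G), (y ^ t).2, hy⟩, Subtype.ext ?_⟩
    show ((y ^ t : C) : C ⧸ Z) = (y : C ⧸ Z)
    rw [QuotientGroup.mk_pow]
    conv_rhs => rw [← pow_one (y : C ⧸ Z)]
    exact pow_eq_pow_iff_modEq.2 (ht0.of_dvd (orderOf_dvd_of_pow_eq_one hw))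

/-- **Frobenius' theorem**: if `m` divides the order of a finite group, `m` divides the number of
solutions of `x ^ m = 1`. -/
theorem dvd_card_pow_eq_one {G : Type u} [Group G] [Finite G] :
    ∀ m, m ∣ Nat.card G → m ∣ Nat.card {x : G // x ^ m = 1} := by
  induction hn : Nat.card G using Nat.strong_induction_on generalizing G with
  | _ n ih =>
    subst hn
    intro m hm
    induction hk : Nat.card G / m using Nat.strong_induction_on generalizing m with
    | _ k ihk =>
      subst hk
      by_cases htop : m = Nat.card G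
      · refine htop ▸ dvd_of_eq ?_
        exact (Nat.card_congr (Equiv.subtypeUnivEquiv fun g : G => pow_card_eq_one')).symm
      have hm0 : 0 < m := Nat.pos_of_dvd_of_pos hm Nat.card_pos
      obtain ⟨p, hp, hpd⟩ := Nat.exists_prime_and_dvd (n := Nat.card G / m) fun h1 => htop (by
        have := Nat.div_mul_cancel hm; rw [h1, one_mul] at this; exact this)
      have hpm : p * m ∣ Nat.card G :=
        (mul_dvd_mul_right hpd m).trans (dvd_of_eq (Nat.div_mul_cancel hm))
      have hA := ihk (Nat.card G / (p * m))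
        ((Nat.div_lt_div_left Nat.card_pos.ne' hpm hm).2 (lt_mul_of_one_lt_left hm0 hp.one_lt)) (p * m) hpm rfl
      have hA' : Nat.card {x : G // x ^ (p * m) = 1} = Nat.card {x : G // x ^ m = 1} +
          Nat.card {x : G // x ^ (p * m) = 1 ∧ x ^ m ≠ 1} := by
        classical
        rw [← Nat.card_sum]
        refine Nat.card_congr ((Equiv.sumCompl fun x : {x : G // x ^ (p * m) = 1} => x.1 ^ m = 1).symm.trans
          (Equiv.sumCongr ?_ (Equiv.subtypeSubtypeEquivSubtypeInter (fun x : G => x ^ (p * m) = 1) (fun x : G => x ^ m ≠ 1))))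
        exact (Equiv.subtypeSubtypeEquivSubtypeInter (fun x : G => x ^ (p * m) = 1) (fun x : G => x ^ m = 1)).trans (Equiv.subtypeEquivRight fun x =>
          ⟨fun h => h.2, fun h => ⟨by rw [mul_comm, pow_mul, h, one_pow], h⟩⟩)
      refine (Nat.dvd_add_left ?_).1 ((dvd_mul_left m p).trans (hA' ▸ hA))
      obtain ⟨a, s, hs, rfl⟩ := Nat.exists_eq_pow_mul_and_not_dvd hm0.ne' p hp.ne_one
      have hs0 : 0 < s := Nat.pos_of_mul_pos_left hm0
      have hco : (p ^ (a + 1)).Coprime s := (hp.coprime_iff_not_dvd.2 hs).pow_left _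
      rw [show p * (p ^ a * s) = p ^ (a + 1) * s by rw [pow_succ']; ring] at hA' ⊢
      obtain ⟨e, he, hparts, hcount⟩ := card_split (G := G) (pow_pos hp.pos (a + 1)) hs0 hco (fun _ => True)
      have hB : Nat.card {x : G // x ^ (p ^ (a + 1) * s) = 1 ∧ x ^ (p ^ a * s) ≠ 1} =
          Nat.card (Σ u : {u : G // u ^ p ^ (a + 1) = 1 ∧ orderOf u = p ^ (a + 1)},
            {v : G // v ∈ Subgroup.centralizer {(u : G)} ∧ v ^ s = 1 ∧ True}) := by
        rw [← hcount (fun u => orderOf u = p ^ (a + 1))]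
        refine Nat.card_congr (Equiv.subtypeEquivRight fun x => and_congr_right fun hx => ?_)
        rw [and_true]
        have hu : (x ^ e) ^ p ^ (a + 1) = 1 ∧ ((x ^ e)⁻¹ * x) ^ (p ^ a * s) = 1 :=
          ⟨(hparts x hx).1, by rw [mul_comm, pow_mul, (hparts x hx).2, one_pow]⟩
        have hsplit : x ^ (p ^ a * s) = ((x ^ e) ^ p ^ a) ^ s := by
          calc x ^ (p ^ a * s) = (x ^ e * ((x ^ e)⁻¹ * x)) ^ (p ^ a * s) := by rw [mul_inv_cancel_left]
            _ = _ := by
              rw [(((Commute.refl (x ^ e)).inv_right).mul_right ((Commute.refl x).pow_left e)).mul_pow,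
                hu.2, mul_one, ← pow_mul (x ^ e) (p ^ a) s]
        rw [hsplit]
        constructor
        · intro hne
          obtain ⟨i, hi, hi'⟩ := (Nat.dvd_prime_pow hp).1 (orderOf_dvd_of_pow_eq_one hu.1)
          rcases Nat.lt_or_ge i (a + 1) with h | h
          · exfalso
            refine hne ?_
            rw [orderOf_dvd_iff_pow_eq_one.1 (hi' ▸ pow_dvd_pow p (by omega) : orderOf (x ^ e) ∣ p ^ a),
              one_pow]
          · rw [hi', show i = a + 1 by omega]
        · intro ho h1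
          have h2 := orderOf_dvd_of_pow_eq_one ((pow_mul (x ^ e) (p ^ a) s).trans h1)
          rw [ho] at h2
          have h3 := Nat.le_of_dvd (pow_pos hp.pos a) (hco.dvd_of_dvd_mul_right h2)
          rw [pow_succ] at h3
          exact absurd h3 (not_le.2 (lt_mul_of_one_lt_right (pow_pos hp.pos a) hp.one_lt))
      refine Nat.Coprime.mul_dvd_of_dvd_of_dvd ((hp.coprime_iff_not_dvd.2 hs).pow_left a) ?_ ?_
      · -- the `p`-part
        classical
        have := Fintype.ofFinite G
        rw [Nat.card_eq_fintype_card, Fintype.card_subtype]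
        rw [Finset.card_eq_sum_card_image (orderOf : G → ℕ)]
        refine Finset.dvd_sum fun o ho => ?_
        obtain ⟨x, hx, rfl⟩ := Finset.mem_image.1 ho
        simp only [Finset.mem_filter, Finset.mem_univ, true_and] at hx
        refine dvd_trans ?_ (totient_dvd_card_of_closed (orderOf x) _ (fun y hy => (Finset.mem_filter.1 hy).2) ?_)
        · have hpo : p ^ (a + 1) ∣ orderOf x := by
            have h1 := orderOf_dvd_of_pow_eq_one hx.1
            have h2 : ¬ orderOf x ∣ p ^ a * s := fun h => hx.2 (orderOf_dvd_iff_pow_eq_one.1 h)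
            obtain ⟨d₁, d₂, hd1, hd2, hd⟩ := Nat.dvd_mul.1 h1
            obtain ⟨i, hi, rfl⟩ := (Nat.dvd_prime_pow hp).1 hd1
            rcases Nat.lt_or_ge i (a + 1) with h | h
            · exact absurd (hd ▸ mul_dvd_mul (pow_dvd_pow p (by omega)) hd2) h2
            · exact hd ▸ (pow_dvd_pow p h).trans (dvd_mul_right _ _)
          refine dvd_trans ?_ (Nat.totient_dvd_of_dvd hpo)
          rw [Nat.totient_prime_pow_succ hp]
          exact dvd_mul_right _ _
        · intro y hy z hz ho
          simp only [Finset.mem_filter, Finset.mem_univ, true_and] at hy ⊢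
          refine ⟨⟨?_, ?_⟩, ho⟩
          · rw [← orderOf_dvd_iff_pow_eq_one, ho, ← hy.2]; exact orderOf_dvd_of_pow_eq_one hy.1.1
          · rw [ne_eq, ← orderOf_dvd_iff_pow_eq_one, ho, ← hy.2, orderOf_dvd_iff_pow_eq_one]; exact hy.1.2
      · -- the part prime to `p`
        rw [hB]
        refine dvd_card_sigma_of_class (fun u => u ^ p ^ (a + 1) = 1 ∧ orderOf u = p ^ (a + 1))
          (fun u v => v ∈ Subgroup.centralizer {u} ∧ v ^ s = 1 ∧ True) ?_ ?_ ?_
        · intro g u hu
          refine ⟨by rw [conj_pow, hu.1, mul_one, mul_inv_cancel], ?_⟩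
          rw [← hu.2]
          exact orderOf_injective (MulAut.conj g).toMonoidHom (MulAut.conj g).injective u
        · intro g u v hv
          refine ⟨?_, by rw [conj_pow, hv.2.1, mul_one, mul_inv_cancel], trivial⟩
          rw [Subgroup.mem_centralizer_singleton_iff] at hv ⊢
          rw [conj_mul, conj_mul, hv.1]
        · intro u hu
          have hfr := card_solutions_centralizer (u := u) (s := s) (hu.2 ▸ hco) hs0
            (fun Q _ _ hQ => ih (Nat.card Q) (lt_of_lt_of_le
              (lt_mul_of_one_lt_right Nat.card_pos (hu.2 ▸ Nat.one_lt_pow (Nat.succ_ne_zero a) hp.one_lt)) hQ) rfl)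
          simp only [and_true]
          refine (dvd_mul_gcd ?_).trans (mul_dvd_mul_left _ hfr)
          rw [Subgroup.index_mul_card]
          exact (dvd_mul_left s _).trans hm

/-- Elements whose order is divisible by `k`. -/
theorem dvd_card_orderOf_divisible {k : ℕ} :
    Nat.card G / Nat.gcd (Nat.card G) (k ^ Nat.card G) ∣ Nat.card {x : G // k ∣ orderOf x} := by
  set d := Nat.gcd (Nat.card G) (k ^ Nat.card G)
  set r := Nat.card G / d
  have hG : d * r = Nat.card G := Nat.mul_div_cancel' (Nat.gcd_dvd_left _ _)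
  have hd : 0 < d := Nat.gcd_pos_of_pos_left _ Nat.card_pos
  have hr : 0 < r := Nat.div_pos (Nat.le_of_dvd Nat.card_pos (Nat.gcd_dvd_left _ _)) hd
  have hrk : r.Coprime k := by
    refine Nat.coprime_of_dvd fun p hp hpr hpk => ?_
    obtain ⟨i, w, hw, hiw⟩ := Nat.exists_eq_pow_mul_and_not_dvd (Nat.card_pos (α := G)).ne' p hp.ne_one
    have hi : i ≤ Nat.card G := (Nat.lt_pow_self hp.one_lt).le.trans
      (Nat.le_of_dvd Nat.card_pos ⟨w, hiw⟩)
    have h1 : p ^ i ∣ d := Nat.dvd_gcd ⟨w, hiw⟩ ((pow_dvd_pow_of_dvd hpk i).trans (pow_dvd_pow k hi))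
    have h2 : p ^ (i + 1) ∣ Nat.card G := by rw [pow_succ, ← hG]; exact mul_dvd_mul h1 hpr
    rw [hiw, pow_succ] at h2
    exact hw (Nat.dvd_of_mul_dvd_mul_left (pow_pos hp.pos i) h2)
  have hco : d.Coprime r :=
    ((hrk.pow_right (Nat.card G)).coprime_dvd_right (Nat.gcd_dvd_right _ _)).symm
  obtain ⟨e, he, hparts, hcount⟩ := card_split (G := G) hd hr hco (fun _ => True)
  have hB : Nat.card {x : G // k ∣ orderOf x} =
      Nat.card (Σ u : {u : G // u ^ d = 1 ∧ k ∣ orderOf u},
        {v : G // v ∈ Subgroup.centralizer {(u : G)} ∧ v ^ r = 1 ∧ True}) := by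
    rw [← hcount (fun u => k ∣ orderOf u)]
    refine Nat.card_congr (Equiv.subtypeEquivRight fun x => ?_)
    have hx : x ^ (d * r) = 1 := by rw [hG]; exact pow_card_eq_one'
    rw [and_true, and_iff_right hx]
    refine ⟨fun hk => ?_, fun hk => hk.trans (orderOf_dvd_of_mem_zpowers (pow_mem (Subgroup.mem_zpowers x) e))⟩
    have hc : Commute (x ^ e) ((x ^ e)⁻¹ * x) :=
      ((Commute.refl (x ^ e)).inv_right).mul_right ((Commute.refl x).pow_left e)
    have h1 : orderOf x ∣ orderOf (x ^ e) * r := by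
      rw [orderOf_dvd_iff_pow_eq_one]
      calc x ^ (orderOf (x ^ e) * r)
          = (x ^ e * ((x ^ e)⁻¹ * x)) ^ (orderOf (x ^ e) * r) := by rw [mul_inv_cancel_left]
        _ = 1 := by
          rw [hc.mul_pow, pow_mul, pow_orderOf_eq_one, one_pow, one_mul, mul_comm, pow_mul,
            (hparts x hx).2, one_pow]
    exact hrk.symm.dvd_of_dvd_mul_right (hk.trans h1)
  rw [hB]
  refine dvd_card_sigma_of_class (fun u => u ^ d = 1 ∧ k ∣ orderOf u)
    (fun u v => v ∈ Subgroup.centralizer {u} ∧ v ^ r = 1 ∧ True) ?_ ?_ ?_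
  · intro g u hu
    refine ⟨by rw [conj_pow, hu.1, mul_one, mul_inv_cancel], ?_⟩
    rw [show orderOf (g * u * g⁻¹) = orderOf u from
      orderOf_injective (MulAut.conj g).toMonoidHom (MulAut.conj g).injective u]
    exact hu.2
  · intro g u v hv
    refine ⟨?_, by rw [conj_pow, hv.2.1, mul_one, mul_inv_cancel], trivial⟩
    rw [Subgroup.mem_centralizer_singleton_iff] at hv ⊢
    rw [conj_mul, conj_mul, hv.1]
  · intro u hu
    have hfr := card_solutions_centralizer (u := u) (s := r)
      (hco.coprime_dvd_left (orderOf_dvd_of_pow_eq_one hu.1)) hr (fun Q _ _ _ => dvd_card_pow_eq_one)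
    simp only [and_true]
    refine (dvd_mul_gcd ?_).trans (mul_dvd_mul_left _ hfr)
    rw [Subgroup.index_mul_card, ← hG]
    exact dvd_mul_left r d

section Miller

variable {p : ℕ} [hp : Fact p.Prime]

/-- In a noncyclic `p`-group, `p` odd, the number of elements of order `p ^ s` (`s ≥ 2`) is
divisible by `p ^ s`. -/
theorem pow_dvd_card_orderOf (hp2 : p ≠ 2) (hG : IsPGroup p G) (hnc : ¬ IsCyclic G) {s : ℕ}
    (hs : 2 ≤ s) : p ^ s ∣ Nat.card {x : G // orderOf x = p ^ s} := by
  classical
  have := Fintype.ofFinite G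
  obtain ⟨A, hAn, hA, hAc⟩ := CfsgLib.Transfer.exists_normal_elementary_card_sq hp2 hG hnc
  have hodd : Odd p := hp.out.odd_of_ne_two hp2
  have hexp : ∀ a ∈ A, a ^ p = 1 := hA.2
  have hpow : ∀ x : G, ∀ a ∈ A, (x * a) ^ p = x ^ p := by
    intro x a ha
    have hz : ⁅a, x⁆ ∈ Subgroup.center G := by
      obtain ⟨z, hzA, hz1, hzC⟩ := CfsgLib.OddLocal.exists_ne_one_mem_center hG (N := A)
        (by rintro rfl; rw [Subgroup.card_bot] at hAc; exact (Nat.one_lt_pow two_ne_zero hp.out.one_lt).ne hAc)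
      set Z := Subgroup.zpowers z
      have hZn : Z.Normal := ⟨fun n hn g => by
        have hnc' : n ∈ Subgroup.center G := (Subgroup.zpowers_le.2 hzC) hn
        rw [Subgroup.mem_center_iff.1 hnc' g, mul_inv_cancel_right]; exact hn⟩
      let π := QuotientGroup.mk' Z
      have hzo : orderOf z = p := orderOf_eq_prime (hexp z hzA) hz1
      have hAbar : Nat.card (A.map π) = p := by
        have h1 : Nat.card (A.map π) * Nat.card Z = Nat.card A := by
          rw [Core.card_map_mk', ← Nat.card_congr (Subgroup.subgroupOfEquivOfLe (Subgroup.zpowers_le.2 hzA : Z ≤ A)).toEquiv]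
          exact (mul_comm _ _).trans (Z.subgroupOf A).card_mul_index
        rw [hAc, Nat.card_zpowers, hzo, sq] at h1
        exact Nat.eq_of_mul_eq_mul_right hp.out.pos h1
      have hAn' : (A.map π).Normal := hAn.map π (QuotientGroup.mk'_surjective Z)
      have h2 := CfsgLib.PGroups.le_center_of_card_prime (hG.to_quotient Z) hAbar
        (Subgroup.mem_map_of_mem π ha)
      have h3 : π ⁅a, x⁆ = 1 := by
        rw [map_commutatorElement, commutatorElement_eq_one_iff_mul_comm]
        exact (Subgroup.mem_center_iff.1 h2 (π x)).symm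
      exact (Subgroup.zpowers_le.2 hzC) ((QuotientGroup.eq_one_iff _).1 h3)
    rw [CfsgLib.PGroups.mul_pow_of_central_odd hz hodd (hexp _ (by
      rw [commutatorElement_def, show a * x * a⁻¹ * x⁻¹ = a * (x * a⁻¹ * x⁻¹) by group]
      exact mul_mem ha (hAn.conj_mem _ (inv_mem ha) x))), hexp a ha, mul_one]
  have hord : ∀ x : G, orderOf x = p ^ s → ∀ a ∈ A, orderOf (x * a) = p ^ s := by
    intro x hx a ha
    obtain ⟨t, rfl⟩ : ∃ t, s = t + 2 := ⟨s - 2, by omega⟩
    refine orderOf_eq_prime_pow ?_ ?_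
    · rw [pow_succ', pow_mul, hpow x a ha, ← pow_mul, ← pow_succ']
      intro h1
      have h2 := orderOf_dvd_of_pow_eq_one h1
      rw [hx] at h2
      exact absurd ((Nat.pow_dvd_pow_iff_le_right hp.out.one_lt).1 h2) (by omega)
    · rw [pow_succ', pow_mul, hpow x a ha, ← pow_mul, ← pow_succ', ← hx, pow_orderOf_eq_one]
  let π := QuotientGroup.mk' A
  set X := Finset.univ.filter fun x : G => orderOf x = p ^ s
  have hX : Nat.card {x : G // orderOf x = p ^ s} = X.card := by
    rw [Nat.card_eq_fintype_card, Fintype.card_subtype]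
  have hXE : X.card = p ^ 2 * (X.image π).card := by
    rw [Finset.card_eq_sum_card_image π X, Finset.sum_congr rfl (g := fun _ => p ^ 2), Finset.sum_const,
      smul_eq_mul, mul_comm]
    intro c hc
    obtain ⟨x, hx, rfl⟩ := Finset.mem_image.1 hc
    have hxo := (Finset.mem_filter.1 hx).2
    rw [← hAc, Nat.card_eq_fintype_card, ← Finset.card_univ]
    refine Finset.card_bij' (fun y hy => ⟨x⁻¹ * y, QuotientGroup.eq.1 (Finset.mem_filter.1 hy).2.symm⟩)
      (fun a _ => x * (a : G)) (fun y _ => Finset.mem_univ _) (fun a _ => ?_) (fun y _ => mul_inv_cancel_left _ _)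
      (fun a _ => Subtype.ext (inv_mul_cancel_left _ _))
    refine Finset.mem_filter.2 ⟨Finset.mem_filter.2 ⟨Finset.mem_univ _, hord x hxo _ a.2⟩, ?_⟩
    rw [map_mul, show π (a : G) = 1 from (QuotientGroup.eq_one_iff _).2 a.2, mul_one]
  have himg : p ^ (s - 2) ∣ (X.image π).card := by
    rw [Finset.card_eq_sum_card_image orderOf (X.image π)]
    refine Finset.dvd_sum fun o ho => ?_
    obtain ⟨c, hc, rfl⟩ := Finset.mem_image.1 ho
    obtain ⟨x, hx, rfl⟩ := Finset.mem_image.1 hc
    have hxo := (Finset.mem_filter.1 hx).2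
    refine dvd_trans ?_ (totient_dvd_card_of_closed (orderOf (π x)) _ (fun y hy => (Finset.mem_filter.1 hy).2) ?_)
    · have h1 : p ^ (s - 1) ∣ orderOf (π x) := by
        obtain ⟨i, hi, hi'⟩ := (Nat.dvd_prime_pow hp.out).1 (hxo ▸ orderOf_map_dvd π x)
        have h2 : x ^ p ^ i ∈ A := (QuotientGroup.eq_one_iff _).1 (by
          show π (x ^ p ^ i) = 1
          rw [map_pow, ← hi', pow_orderOf_eq_one])
        have h3 := orderOf_dvd_of_pow_eq_one (show x ^ p ^ (i + 1) = 1 by
          rw [pow_succ, pow_mul]; exact hexp _ h2)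
        rw [hxo] at h3
        rw [hi']
        exact pow_dvd_pow p (by have := (Nat.pow_dvd_pow_iff_le_right hp.out.one_lt).1 h3; omega)
      refine dvd_trans ?_ (Nat.totient_dvd_of_dvd h1)
      rw [show s - 1 = (s - 2) + 1 by omega, Nat.totient_prime_pow_succ hp.out]
      exact dvd_mul_right _ _
    · intro y hy z hz hzo
      refine Finset.mem_filter.2 ⟨?_, hzo⟩
      obtain ⟨hy1, hy2⟩ := Finset.mem_filter.1 hy
      obtain ⟨w, hw, rfl⟩ := Finset.mem_image.1 hy1
      have hwo := (Finset.mem_filter.1 hw).2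
      obtain ⟨i, hi⟩ := Subgroup.mem_zpowers_iff.1 hz
      refine Finset.mem_image.2 ⟨w ^ i, Finset.mem_filter.2 ⟨Finset.mem_univ _, ?_⟩, (map_zpow π w i).trans hi⟩
      obtain ⟨j, hj⟩ : ∃ j : ℕ, w ^ i = w ^ j :=
        ((IsOfFinOrder.mem_powers_iff_mem_zpowers (isOfFinOrder_of_finite w)).2
          (zpow_mem (Subgroup.mem_zpowers w) i)).imp fun j hj => hj.symm
      rw [hj, Nat.Coprime.orderOf_pow ?_, hwo]
      rw [hwo]
      refine Nat.Coprime.pow_left _ (hp.out.coprime_iff_not_dvd.2 fun hdvd => ?_)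
      obtain ⟨j', rfl⟩ := hdvd
      have hz1 : z = π w ^ (p * j') := by rw [← hi, ← map_zpow, hj, map_pow]
      obtain ⟨b, hb⟩ : ∃ b, orderOf (π w) = p ^ b := ((Nat.dvd_prime_pow hp.out).1 (hwo ▸ orderOf_map_dvd π w)).imp fun b h => h.2
      rcases Nat.eq_zero_or_pos b with rfl | hb0
      · have hwA : w ∈ A := (QuotientGroup.eq_one_iff _).1 (orderOf_eq_one_iff.1 (hb.trans (pow_zero p)))
        have h5 := orderOf_dvd_of_pow_eq_one (hexp w hwA)
        rw [hwo] at h5
        have := (Nat.pow_dvd_pow_iff_le_right hp.out.one_lt).1 (h5.trans (pow_one p).symm.dvd)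
        omega
      have h4 : orderOf z ∣ p ^ (b - 1) := by
        rw [orderOf_dvd_iff_pow_eq_one, hz1, ← pow_mul, mul_right_comm, ← pow_succ',
          Nat.sub_add_cancel hb0, pow_mul, ← hb, pow_orderOf_eq_one, one_pow]
      rw [hzo, ← hy2, hb] at h4
      have := (Nat.pow_dvd_pow_iff_le_right hp.out.one_lt).1 h4
      omega
  rw [hX, hXE]
  calc p ^ s = p ^ 2 * p ^ (s - 2) := by rw [← pow_add]; congr 1; omega
    _ ∣ _ := mul_dvd_mul_left _ himg

/-- **Miller's theorem**: for odd `p`, if the Sylow `p`-subgroups are not cyclic, `p ^ s` divides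
the number of elements of order `p ^ s` for `s ≥ 2`. -/
theorem pow_dvd_card_orderOf_of_sylow (hp2 : p ≠ 2) (P : Sylow p G) (hnc : ¬ IsCyclic P) {s : ℕ}
    (hs : 2 ≤ s) : p ^ s ∣ Nat.card {x : G // orderOf x = p ^ s} := by
  classical
  set T := {C : Subgroup G // IsCyclic C ∧ Nat.card C = p ^ s}
  -- elements of order `p ^ s` are generators of cyclic subgroups of that order
  have hcount : ∀ (H : Type u) [Group H] [Finite H], Nat.card {x : H // orderOf x = p ^ s} =
      Nat.card {C : Subgroup H // IsCyclic C ∧ Nat.card C = p ^ s} * Nat.totient (p ^ s) := by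
    intro H _ _
    haveI := Fintype.ofFinite {C : Subgroup H // IsCyclic C ∧ Nat.card C = p ^ s}
    rw [Nat.card_congr (Equiv.sigmaFiberEquiv fun x : {x : H // orderOf x = p ^ s} =>
      (⟨Subgroup.zpowers x.1, inferInstance, (Nat.card_zpowers x.1).trans x.2⟩ :
        {C : Subgroup H // IsCyclic C ∧ Nat.card C = p ^ s})).symm, Nat.card_sigma,
      Finset.sum_congr rfl (g := fun _ => Nat.totient (p ^ s)), Finset.sum_const, smul_eq_mul,
      Finset.card_univ, ← Nat.card_eq_fintype_card]
    rintro ⟨C, hC, hCc⟩ -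
    have := Fintype.ofFinite C
    rw [← IsCyclic.card_orderOf_eq_totient (α := C) (d := p ^ s)
      (by rw [← Nat.card_eq_fintype_card, hCc]), ← Fintype.card_subtype, ← Nat.card_eq_fintype_card]
    refine Nat.card_congr ⟨fun x => ⟨⟨x.1.1, by have := congrArg Subtype.val x.2; simp only at this; exact this.le (Subgroup.mem_zpowers x.1.1)⟩,
        (Subgroup.orderOf_mk _ _).trans x.1.2⟩,
      fun a => ⟨⟨a.1.1, (Subgroup.orderOf_coe a.1).trans a.2⟩, Subtype.ext (Subgroup.eq_of_le_of_card_ge
        (Subgroup.zpowers_le.2 a.1.2) (by rw [Nat.card_zpowers, Subgroup.orderOf_coe, a.2, hCc]))⟩,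
      fun x => rfl, fun a => rfl⟩
  have hdvd : p ∣ Nat.card T := by
    letI : MulAction (P : Subgroup G) T :=
      { smul := fun g C => ⟨C.1.map (MulAut.conj (g : G)).toMonoidHom,
          (Subgroup.equivMapOfInjective _ _ (MulAut.conj (g : G)).injective).isCyclic.1 C.2.1,
          (Subgroup.card_map_of_injective (MulAut.conj (g : G)).injective).trans C.2.2⟩
        one_smul := fun C => Subtype.ext (by
          show C.1.map (MulAut.conj ((1 : (P : Subgroup G)) : G)).toMonoidHom = C.1
          ext y; simp)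
        mul_smul := fun a b C => Subtype.ext (by
          show C.1.map (MulAut.conj ((a * b : (P : Subgroup G)) : G)).toMonoidHom =
            (C.1.map (MulAut.conj (b : G)).toMonoidHom).map (MulAut.conj (a : G)).toMonoidHom
          rw [Subgroup.map_map]; congr 1; ext y; simp [mul_assoc]) }
    have h1 := P.isPGroup'.card_modEq_card_fixedPoints T
    refine Nat.modEq_zero_iff_dvd.1 (h1.trans ?_)
    -- fixed points are the normal cyclic subgroups of `P`
    set T' := {C : Subgroup (P : Subgroup G) // IsCyclic C ∧ Nat.card C = p ^ s}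
    have h2 : p ∣ Nat.card T' := by
      have hP := pow_dvd_card_orderOf hp2 P.isPGroup' hnc hs
      obtain ⟨t, rfl⟩ : ∃ t, s = t + 1 := ⟨s - 1, by omega⟩
      rw [hcount, Nat.totient_prime_pow_succ hp.out, pow_succ, mul_left_comm] at hP
      have h3 := Nat.dvd_of_mul_dvd_mul_left (pow_pos hp.out.pos t) hP
      have hcop : p.Coprime (p - 1) := (hp.out.coprime_iff_not_dvd.2 fun h => by
        have := Nat.le_of_dvd (by have := hp.out.two_le; omega) h
        have := hp.out.pos
        omega)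
      exact hcop.dvd_of_dvd_mul_right h3
    letI : MulAction (P : Subgroup G) T' :=
      { smul := fun g C => ⟨C.1.map (MulAut.conj g).toMonoidHom,
          (Subgroup.equivMapOfInjective _ _ (MulAut.conj g).injective).isCyclic.1 C.2.1,
          (Subgroup.card_map_of_injective (MulAut.conj g).injective).trans C.2.2⟩
        one_smul := fun C => Subtype.ext (by
          show C.1.map (MulAut.conj (1 : (P : Subgroup G))).toMonoidHom = C.1
          ext y; simp)
        mul_smul := fun a b C => Subtype.ext (by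
          show C.1.map (MulAut.conj (a * b)).toMonoidHom =
            (C.1.map (MulAut.conj b).toMonoidHom).map (MulAut.conj a).toMonoidHom
          rw [Subgroup.map_map]; congr 1; ext y; simp [mul_assoc]) }
    refine Nat.ModEq.trans ?_ (((P.isPGroup'.card_modEq_card_fixedPoints T').symm).trans
      (Nat.modEq_zero_iff_dvd.2 h2))
    refine congrArg (· % p) (Nat.card_congr ?_)
    have hle : ∀ C : MulAction.fixedPoints (P : Subgroup G) T, C.1.1 ≤ (P : Subgroup G) := by
      intro C
      have hnorm : (P : Subgroup G) ≤ Subgroup.normalizer (C.1.1 : Set G) := fun g hg => by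
        rw [Core.mem_normalizer_iff_conj_smul_eq, Core.conj_smul_eq_map]
        exact congrArg Subtype.val (C.2 ⟨g, hg⟩)
      have hp' : IsPGroup p ((P : Subgroup G) ⊔ C.1.1 : Subgroup G) :=
        P.isPGroup'.to_sup_of_normal_right' (IsPGroup.of_card C.1.2.2) hnorm
      exact le_sup_right.trans (P.is_maximal' hp' le_sup_left).le
    exact
      { toFun := fun C => ⟨⟨C.1.1.subgroupOf (P : Subgroup G),
            (Subgroup.subgroupOfEquivOfLe (hle C)).isCyclic.2 C.1.2.1,
            (Nat.card_congr (Subgroup.subgroupOfEquivOfLe (hle C)).toEquiv).trans C.1.2.2⟩,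
          fun g => Subtype.ext (by
            show (C.1.1.subgroupOf (P : Subgroup G)).map (MulAut.conj g).toMonoidHom = _
            apply Subgroup.map_injective (P : Subgroup G).subtype_injective
            rw [Subgroup.map_map, Subgroup.map_subgroupOf_eq_of_le (hle C),
              show (P : Subgroup G).subtype.comp (MulAut.conj g).toMonoidHom =
                (MulAut.conj (g : G)).toMonoidHom.comp (P : Subgroup G).subtype from
                MonoidHom.ext fun y => rfl,
              ← Subgroup.map_map, Subgroup.map_subgroupOf_eq_of_le (hle C)]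
            exact congrArg Subtype.val (C.2 g))⟩
        invFun := fun C => ⟨⟨C.1.1.map (P : Subgroup G).subtype,
            (Subgroup.equivMapOfInjective _ _ (P : Subgroup G).subtype_injective).isCyclic.1 C.1.2.1,
            (Subgroup.card_map_of_injective (P : Subgroup G).subtype_injective).trans C.1.2.2⟩,
          fun g => Subtype.ext (by
            show (C.1.1.map (P : Subgroup G).subtype).map (MulAut.conj (g : G)).toMonoidHom = _
            rw [Subgroup.map_map,
              show (MulAut.conj (g : G)).toMonoidHom.comp (P : Subgroup G).subtype =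
                (P : Subgroup G).subtype.comp (MulAut.conj g).toMonoidHom from MonoidHom.ext fun y => rfl,
              ← Subgroup.map_map]
            exact congrArg (fun D : T' => D.1.map (P : Subgroup G).subtype) (C.2 g))⟩
        left_inv := fun C => Subtype.ext (Subtype.ext (Subgroup.map_subgroupOf_eq_of_le (hle C)))
        right_inv := fun C => Subtype.ext (Subtype.ext
          (Subgroup.comap_map_eq_self_of_injective (P : Subgroup G).subtype_injective _)) }
  obtain ⟨t, rfl⟩ : ∃ t, s = t + 1 := ⟨s - 1, by omega⟩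
  rw [hcount, Nat.totient_prime_pow_succ hp.out]
  exact (dvd_of_eq (pow_succ' p t)).trans (mul_dvd_mul hdvd (dvd_mul_right _ _))

theorem pow_dvd_card_orderOf_mul (hp2 : p ≠ 2) (P : Sylow p G) (hnc : ¬ IsCyclic P) {s m : ℕ}
    (hs : 2 ≤ s) (hm : p.Coprime m) : p ^ s ∣ Nat.card {x : G // orderOf x = p ^ s * m} := by
  rcases Nat.eq_zero_or_pos m with rfl | hm0
  · exact absurd ((Nat.coprime_zero_right p).1 hm) hp.out.ne_one
  have hco : m.Coprime (p ^ s) := (hm.pow_left s).symm
  obtain ⟨e, he, hparts, hcount⟩ := card_split (G := G) hm0 (pow_pos hp.out.pos s) hco (fun v => orderOf v = p ^ s)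
  have hB : Nat.card {x : G // orderOf x = p ^ s * m} =
      Nat.card (Σ u : {u : G // u ^ m = 1 ∧ orderOf u = m},
        {v : G // v ∈ Subgroup.centralizer {(u : G)} ∧ v ^ p ^ s = 1 ∧ orderOf v = p ^ s}) := by
    rw [← hcount (fun u => orderOf u = m)]
    refine Nat.card_congr (Equiv.subtypeEquivRight fun x => ?_)
    have hc : Commute (x ^ e) ((x ^ e)⁻¹ * x) :=
      ((Commute.refl (x ^ e)).inv_right).mul_right ((Commute.refl x).pow_left e)
    constructor
    · intro ho
      have hx : x ^ (m * p ^ s) = 1 := by rw [mul_comm, ← ho, pow_orderOf_eq_one]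
      refine ⟨hx, ?_⟩
      have hu' := hparts x hx
      obtain ⟨hu, hv⟩ := hu'
      have ha := orderOf_dvd_of_pow_eq_one hu
      have hb := orderOf_dvd_of_pow_eq_one hv
      have hprod : orderOf x = orderOf (x ^ e) * orderOf ((x ^ e)⁻¹ * x) := by
        conv_lhs => rw [← mul_inv_cancel_left (x ^ e) x]
        exact hc.orderOf_mul_eq_mul_orderOf_of_coprime ((hco.coprime_dvd_left ha).coprime_dvd_right hb)
      rw [ho, mul_comm] at hprod
      exact ⟨Nat.dvd_antisymm ha ((hco.coprime_dvd_right hb).dvd_of_dvd_mul_right ⟨p ^ s, hprod.symm⟩),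
        Nat.dvd_antisymm hb ((hco.symm.coprime_dvd_right ha).dvd_of_dvd_mul_left ⟨m, by rw [mul_comm (p ^ s)]; exact hprod.symm⟩)⟩
    · rintro ⟨-, ho1, ho2⟩
      conv_lhs => rw [← mul_inv_cancel_left (x ^ e) x]
      rw [hc.orderOf_mul_eq_mul_orderOf_of_coprime (by rw [ho1, ho2]; exact hco), ho1, ho2, mul_comm]
  rw [hB]
  refine dvd_card_sigma_of_class (fun u => u ^ m = 1 ∧ orderOf u = m)
    (fun u v => v ∈ Subgroup.centralizer {u} ∧ v ^ p ^ s = 1 ∧ orderOf v = p ^ s) ?_ ?_ ?_
  · intro g u hu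
    refine ⟨by rw [conj_pow, hu.1, mul_one, mul_inv_cancel], ?_⟩
    rw [show orderOf (g * u * g⁻¹) = orderOf u from
      orderOf_injective (MulAut.conj g).toMonoidHom (MulAut.conj g).injective u]
    exact hu.2
  · intro g u v hv
    refine ⟨?_, by rw [conj_pow, hv.2.1, mul_one, mul_inv_cancel], ?_⟩
    · rw [Subgroup.mem_centralizer_singleton_iff] at hv ⊢
      rw [conj_mul, conj_mul, hv.1]
    · rw [show orderOf (g * v * g⁻¹) = orderOf v from
        orderOf_injective (MulAut.conj g).toMonoidHom (MulAut.conj g).injective v]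
      exact hv.2.2
  · intro u _
    set C := Subgroup.centralizer ({u} : Set G)
    have hcard : Nat.card {v : G // v ∈ C ∧ v ^ p ^ s = 1 ∧ orderOf v = p ^ s} =
        Nat.card {w : C // orderOf w = p ^ s} :=
      Nat.card_congr ⟨fun v => ⟨⟨v.1, v.2.1⟩, (Subgroup.orderOf_mk _ _).trans v.2.2.2⟩,
        fun w => ⟨w.1.1, w.1.2, orderOf_dvd_iff_pow_eq_one.1 ((Subgroup.orderOf_coe w.1).trans w.2).dvd,
          (Subgroup.orderOf_coe w.1).trans w.2⟩, fun v => rfl, fun w => rfl⟩
    rw [hcard]
    obtain ⟨S⟩ : Nonempty (Sylow p C) := inferInstance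
    by_cases hScyc : IsCyclic S
    · have hidx : p ∣ C.index := by
        by_contra hnd
        obtain ⟨Q, hQ⟩ := (S.isPGroup'.map C.subtype).exists_le_sylow
        have heq : (S : Subgroup C).map C.subtype = (Q : Subgroup G) := by
          refine Subgroup.eq_of_le_of_card_ge hQ ?_
          rw [Subgroup.card_map_of_injective C.subtype_injective, S.card_eq_multiplicity, Q.card_eq_multiplicity]
          refine Nat.pow_le_pow_right hp.out.pos ?_
          rw [← C.index_mul_card, Nat.factorization_mul Subgroup.index_ne_zero_of_finite Nat.card_pos.ne',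
            Finsupp.add_apply, Nat.factorization_eq_zero_of_not_dvd hnd, zero_add]
        have h1 : IsCyclic (Q : Subgroup G) :=
          heq ▸ (Subgroup.equivMapOfInjective _ _ C.subtype_injective).isCyclic.1 hScyc
        exact hnc ((Q.equiv P).isCyclic.1 h1)
      obtain ⟨t, rfl⟩ : ∃ t, s = t + 1 := ⟨s - 1, by omega⟩
      refine (dvd_of_eq (pow_succ' p t)).trans (mul_dvd_mul hidx (dvd_trans ?_ (totient_dvd_card_orderOf (p ^ (t + 1)))))
      rw [Nat.totient_prime_pow_succ hp.out]
      exact dvd_mul_right _ _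
    · exact Dvd.dvd.mul_left (pow_dvd_card_orderOf_of_sylow hp2 S hScyc hs) _

end Miller

end CfsgLib.Orders
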