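import Cfsg.Agent.Lib.Orders.SelfNormalizing
import Mathlib

/-!
# Solvable groups in which every nonabelian subgroup is self-normalizing
-/

set_option autoImplicit false

open scoped commutatorElement

namespace CfsgLib.Orders.SelfNorm

universe u

variable {G : Type u} [Group G] [Finite G]

/-- the map `a ↦ a⁻¹ y a y⁻¹` on an abelian normal subgroup -/
noncomputable def delta (A : Subgroup G) [A.Normal] (hA : IsMulCommutative A) (y : G) : A →* A where
  toFun a := ⟨(a : G)⁻¹ * (y * a * y⁻¹), mul_mem (inv_mem a.2) ((inferInstance : A.Normal).conj_mem a a.2 y)⟩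
  map_one' := Subtype.ext (by simp)
  map_mul' a b := Subtype.ext (by
    show ((a : G) * b)⁻¹ * (y * (a * b) * y⁻¹) = (a : G)⁻¹ * (y * a * y⁻¹) * ((b : G)⁻¹ * (y * b * y⁻¹))
    have h : (b : G)⁻¹ * ((a : G)⁻¹ * (y * a * y⁻¹)) = (a : G)⁻¹ * (y * a * y⁻¹) * (b : G)⁻¹ :=
      comm_of_mem hA (inv_mem b.2) (mul_mem (inv_mem a.2) ((inferInstance : A.Normal).conj_mem a a.2 y))
    calc ((a : G) * b)⁻¹ * (y * (a * b) * y⁻¹)
        = (b : G)⁻¹ * ((a : G)⁻¹ * (y * a * y⁻¹)) * (y * b * y⁻¹) := by group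
      _ = (a : G)⁻¹ * (y * a * y⁻¹) * (b : G)⁻¹ * (y * b * y⁻¹) := by rw [h]
      _ = _ := by group)

theorem coe_delta (A : Subgroup G) [A.Normal] (hA : IsMulCommutative A) (y : G) (a : A) :
    ((delta A hA y a : A) : G) = (a : G)⁻¹ * (y * a * y⁻¹) := rfl

/-- if `y` acts fixed point freely on `A` and `G = A⟨y⟩`, subgroups containing `y` are self-normalizing -/
theorem selfNormalizing_of_mem (A : Subgroup G) [A.Normal] (hA : IsMulCommutative A) (y : G)
    (hfix : ∀ a ∈ A, y * a * y⁻¹ = a → a = 1) (hgen : ∀ g : G, ∃ a ∈ A, ∃ n : ℤ, g = a * y ^ n)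
    (H : Subgroup G) (hy : y ∈ H) : Subgroup.normalizer (H : Set G) = H := by
  refine le_antisymm (fun g hg => ?_) Subgroup.le_normalizer
  obtain ⟨a, ha, n, rfl⟩ := hgen g
  have haN : a ∈ Subgroup.normalizer (H : Set G) := by
    have := mul_mem hg (inv_mem (Subgroup.le_normalizer (zpow_mem hy n)))
    rwa [mul_inv_cancel_right] at this
  refine mul_mem ?_ (zpow_mem hy n)
  set d := delta A hA y
  have hdA : ∀ c : A, (c : G) ∈ H → (d c : G) ∈ H := fun c hc => by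
    rw [coe_delta]; exact mul_mem (inv_mem hc) (mul_mem (mul_mem hy hc) (inv_mem hy))
  have hinj : Function.Injective d := by
    rw [injective_iff_map_eq_one]
    intro c hc
    have h1 : (c : G)⁻¹ * (y * c * y⁻¹) = 1 := congrArg Subtype.val hc
    exact Subtype.ext (hfix _ c.2 (inv_mul_eq_one.1 h1).symm)
  let f : {c : A // (c : G) ∈ H} → {c : A // (c : G) ∈ H} := fun c => ⟨d c.1, hdA c.1 c.2⟩
  have hsurj : Function.Surjective f := Finite.surjective_of_injective fun c c' h =>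
    Subtype.ext (hinj (congrArg Subtype.val h))
  have hmem : (d ⟨a, ha⟩ : G) ∈ H := by
    rw [coe_delta]
    show a⁻¹ * (y * a * y⁻¹) ∈ H
    rw [← mul_assoc, ← mul_assoc]
    refine mul_mem ?_ (inv_mem hy)
    have := (Subgroup.mem_normalizer_iff.1 (inv_mem haN) y).1 hy
    simpa using this
  obtain ⟨⟨c, hc⟩, hfc⟩ := hsurj ⟨d ⟨a, ha⟩, hmem⟩
  have h1 : c = ⟨a, ha⟩ := hinj (congrArg Subtype.val hfc)
  rw [h1] at hc
  exact hc

theorem exists_prime_index_normal [Group.IsSolvable G] [Nontrivial G] :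
    ∃ (M : Subgroup G) (p : ℕ), p.Prime ∧ M.Normal ∧ M.index = p := by
  obtain ⟨M, hM, hle⟩ := (IsCoatomic.eq_top_or_exists_le_coatom (commutator G)).resolve_left
    (Group.IsSolvable.commutator_lt_top_of_nontrivial (G := G)).ne
  haveI hMn : M.Normal := ⟨fun m hm g => by
    have h1 : ⁅g, m⁆ ∈ M := hle (Subgroup.commutator_mem_commutator (Subgroup.mem_top _) (Subgroup.mem_top _))
    have h2 := mul_mem h1 hm
    rwa [commutatorElement_def, inv_mul_cancel_right] at h2⟩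
  haveI : Nontrivial (G ⧸ M) := QuotientGroup.nontrivial_iff.2 hM.1
  obtain ⟨p, hp, hpd⟩ := Nat.exists_prime_and_dvd (Finite.one_lt_card (α := G ⧸ M)).ne'
  haveI := Fact.mk hp
  obtain ⟨y, hy⟩ := exists_prime_orderOf_dvd_card' p hpd
  refine ⟨M, p, hp, hMn, ?_⟩
  have htop : (Subgroup.zpowers y).comap (QuotientGroup.mk' M) = ⊤ := by
    refine hM.2 _ (lt_of_le_of_ne (fun m hm => ?_) fun h => ?_)
    · show QuotientGroup.mk' M m ∈ Subgroup.zpowers y
      rw [show QuotientGroup.mk' M m = 1 from (QuotientGroup.eq_one_iff m).2 hm]; exact one_mem _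
    · obtain ⟨x, rfl⟩ := QuotientGroup.mk'_surjective M y
      have hx : x ∈ M := h.ge (Subgroup.mem_zpowers _)
      rw [show QuotientGroup.mk' M x = 1 from (QuotientGroup.eq_one_iff x).2 hx, orderOf_one] at hy
      exact hp.one_lt.ne hy
  have : Subgroup.zpowers y = ⊤ := by
    rw [eq_top_iff]
    intro z _
    obtain ⟨g, rfl⟩ := QuotientGroup.mk'_surjective M z
    exact htop.ge (Subgroup.mem_top g)
  rw [Subgroup.index, ← hy, ← Nat.card_zpowers, this, Subgroup.card_top]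

theorem structure_of_solvable [Group.IsSolvable G] (hnn : ¬ Group.IsNilpotent G)
    (hS : ∀ H : Subgroup G, ¬ IsMulCommutative H → Subgroup.normalizer (H : Set G) = H) :
    ∃ (x : G) (A : Subgroup G) (p : ℕ), p.Prime ∧ A.Normal ∧ IsMulCommutative A ∧ (∃ k : ℕ, orderOf x = p ^ k) ∧
      ¬ p ∣ Nat.card A ∧ (Subgroup.zpowers x).IsComplement' A ∧ x ^ p ∈ Subgroup.center G ∧
      ∀ a : G, a ∈ A → a ≠ 1 → x * a * x⁻¹ ≠ a := by
  classical
  haveI : Nontrivial G := by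
    by_contra h
    rw [not_nontrivial_iff_subsingleton] at h
    exact hnn inferInstance
  obtain ⟨M, p, hp, hMn, hMi⟩ := exists_prime_index_normal (G := G)
  haveI := Fact.mk hp
  have hMne : M ≠ ⊤ := fun h => hp.one_lt.ne' (by rw [← hMi, h, Subgroup.index_top])
  have hMab := abelian_of_normal hS hMn hMne
  obtain ⟨g, hgM⟩ : ∃ g, g ∉ M := by
    by_contra h
    push Not at h
    exact hMne ((Subgroup.eq_top_iff' M).2 h)
  have hpow : ∀ g : G, g ^ p ∈ M := fun g => hMi ▸ Subgroup.pow_index_mem M g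
  obtain ⟨k, m, hm, hkm⟩ := Nat.exists_eq_pow_mul_and_not_dvd (orderOf_pos g).ne' p hp.ne_one
  set x := g ^ m with hxdef
  have hxord : orderOf x = p ^ k := by
    rw [hxdef, orderOf_pow' g (fun h => by rw [h] at hm; exact hm (dvd_zero p)), hkm, Nat.gcd_eq_right (dvd_mul_left m _),
      Nat.mul_div_cancel _ (Nat.pos_of_ne_zero fun h => by rw [h] at hm; exact hm (dvd_zero p))]
  have hxM : x ∉ M := fun h => hgM (by
    obtain ⟨u, v, huv⟩ := Nat.isCoprime_iff_coprime.2 ((hp.coprime_iff_not_dvd).2 hm)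
    have hg : g = (g ^ p) ^ u * (g ^ m) ^ v := by
      rw [← zpow_natCast g p, ← zpow_natCast g m, ← zpow_mul, ← zpow_mul, ← zpow_add,
        show (p : ℤ) * u + m * v = 1 by rw [← huv]; ring, zpow_one]
    rw [hg]
    exact mul_mem (zpow_mem (hpow g) u) (zpow_mem h v))
  let π := QuotientGroup.mk' M
  have hgenM : ∀ y : G, ∃ a ∈ M, ∃ i : ℤ, y = a * x ^ i := by
    intro y
    have hcard : Nat.card (G ⧸ M) = p := hMi
    have htop : π y ∈ Subgroup.zpowers (π x) :=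
      mem_zpowers_of_prime_card hcard (fun h => hxM ((QuotientGroup.eq_one_iff x).1 h))
    obtain ⟨i, hi⟩ := Subgroup.mem_zpowers_iff.1 htop
    refine ⟨y * (x ^ i)⁻¹, (QuotientGroup.eq_one_iff _).1 ?_, i, by group⟩
    show π (y * (x ^ i)⁻¹) = 1
    rw [map_mul, map_inv, map_zpow, hi, mul_inv_cancel]
  have hxp : x ^ p ∈ Subgroup.center G := by
    rw [Subgroup.mem_center_iff]
    intro y
    obtain ⟨a, ha, i, rfl⟩ := hgenM y
    have h1 : Commute a (x ^ p) := comm_of_mem hMab ha (hpow x)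
    exact (h1.mul_left (((Commute.refl x).zpow_left i).pow_right p)).eq
  obtain ⟨e, m', hm', hcM⟩ := Nat.exists_eq_pow_mul_and_not_dvd (Nat.card_pos (α := M)).ne' p hp.ne_one
  let A : Subgroup G :=
    { carrier := {a | a ∈ M ∧ a ^ m' = 1}
      one_mem' := ⟨one_mem _, one_pow _⟩
      mul_mem' := fun {a b} ha hb => ⟨mul_mem ha.1 hb.1, by
        rw [Commute.mul_pow (comm_of_mem hMab ha.1 hb.1), ha.2, hb.2, one_mul]⟩
      inv_mem' := fun {a} ha => ⟨inv_mem ha.1, by rw [inv_pow, ha.2, inv_one]⟩ }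
  haveI hAn : A.Normal := ⟨fun a ha y => ⟨hMn.conj_mem a ha.1 y, by rw [conj_pow, ha.2, mul_one, mul_inv_cancel]⟩⟩
  have hAab : IsMulCommutative A := ⟨⟨fun a b => Subtype.ext (comm_of_mem hMab a.2.1 b.2.1)⟩⟩
  have hpA : ¬ p ∣ Nat.card A := fun h => by
    obtain ⟨⟨a, ha⟩, hord⟩ := exists_prime_orderOf_dvd_card' p h
    rw [Subgroup.orderOf_mk] at hord
    exact hm' (hord ▸ orderOf_dvd_of_pow_eq_one ha.2)
  let ρ := QuotientGroup.mk' A
  have hq : IsPGroup p (G ⧸ A) := fun z => by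
    obtain ⟨y, rfl⟩ := QuotientGroup.mk'_surjective A z
    refine ⟨e + 1, ?_⟩
    rw [← map_pow]
    refine (QuotientGroup.eq_one_iff _).2 ⟨?_, ?_⟩
    · rw [pow_succ, mul_comm, pow_mul]; exact pow_mem (hpow y) _
    · rw [pow_succ, mul_comm, pow_mul, ← pow_mul, ← hcM]
      exact orderOf_dvd_iff_pow_eq_one.1 (M.orderOf_dvd_natCard (hpow y))
  haveI := hq.isNilpotent
  have hAnc : ∃ a ∈ A, x * a * x⁻¹ ≠ a := by
    by_contra h
    push Not at h
    refine hnn (Subgroup.isNilpotent_of_ker_le_center ρ (fun a ha => ?_))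
    rw [QuotientGroup.ker_mk'] at ha
    rw [Subgroup.mem_center_iff]
    intro y
    obtain ⟨b, hb, i, rfl⟩ := hgenM y
    have h1 : Commute b a := comm_of_mem hMab hb ha.1
    have h2 : Commute x a := by
      have := h a ha
      exact mul_inv_eq_iff_eq_mul.1 this
    exact (h1.mul_left (h2.zpow_left i)).eq
  obtain ⟨a₀, ha₀, ha₀x⟩ := hAnc
  -- `G = A⟨x⟩`
  have hgen : ∀ y : G, ∃ a ∈ A, ∃ i : ℤ, y = a * x ^ i := by
    set L := (Subgroup.zpowers (ρ x)).comap ρ
    have hL : ¬ IsMulCommutative L := fun hab => ha₀x (by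
      have ha : a₀ ∈ L := by
        show ρ a₀ ∈ Subgroup.zpowers (ρ x)
        rw [show ρ a₀ = 1 from (QuotientGroup.eq_one_iff a₀).2 ha₀]; exact one_mem _
      rw [comm_of_mem hab (Subgroup.mem_zpowers (ρ x) : x ∈ L) ha, mul_inv_cancel_right])
    have htop : Subgroup.zpowers (ρ x) = ⊤ := by
      by_contra h
      obtain ⟨z, hz, hzn⟩ := SetLike.exists_of_lt
        (Group.normalizerCondition_of_isNilpotent (Subgroup.zpowers (ρ x)) (lt_top_iff_ne_top.2 h))
      obtain ⟨y, rfl⟩ := QuotientGroup.mk'_surjective A z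
      refine hzn ?_
      have hy : y ∈ Subgroup.normalizer (L : Set G) := by
        rw [Subgroup.mem_normalizer_iff]
        intro w
        show ρ w ∈ Subgroup.zpowers (ρ x) ↔ ρ (y * w * y⁻¹) ∈ Subgroup.zpowers (ρ x)
        rw [map_mul, map_mul, map_inv]
        exact Subgroup.mem_normalizer_iff.1 hz _
      rw [hS L hL] at hy
      exact hy
    intro y
    obtain ⟨i, hi⟩ := Subgroup.mem_zpowers_iff.1 (htop.ge (Subgroup.mem_top (ρ y)))
    refine ⟨y * (x ^ i)⁻¹, (QuotientGroup.eq_one_iff _).1 ?_, i, by group⟩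
    show ρ (y * (x ^ i)⁻¹) = 1
    rw [map_mul, map_inv, map_zpow, hi, mul_inv_cancel]
  have hdisj : ∀ y, y ∈ Subgroup.zpowers x → y ∈ A → y = 1 := by
    intro y hy hyA
    have hcop : Nat.Coprime (Nat.card (Subgroup.zpowers x)) (Nat.card A) := by
      rw [Nat.card_zpowers, hxord]; exact ((hp.coprime_iff_not_dvd).2 hpA).pow_left k
    have := Subgroup.inf_eq_bot_of_coprime hcop
    exact Subgroup.mem_bot.1 (this ▸ ⟨hy, hyA⟩)
  have hcompl : (Subgroup.zpowers x).IsComplement' A := by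
    refine Subgroup.isComplement'_of_disjoint_and_mul_eq_univ (Subgroup.disjoint_def.2 fun {y} h1 h2 => hdisj y h1 h2) ?_
    rw [Set.eq_univ_iff_forall]
    intro y
    obtain ⟨a, ha, i, rfl⟩ := hgen y
    refine Set.mem_mul.2 ⟨x ^ i, Subgroup.zpow_mem _ (Subgroup.mem_zpowers x) i, (x ^ i)⁻¹ * a * x ^ i, ?_, by group⟩
    exact hAn.conj_mem' a ha _
  refine ⟨x, A, p, hp, hAn, hAab, ⟨k, hxord⟩, hpA, hcompl, hxp, ?_⟩
  set d := delta A hAab x with hd
  -- kernel and image of `d` are disjoint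
  have hkerim : ∀ c : A, d (d c) = 1 → d c = 1 := by
    intro c hc
    set w : G := ((d c : A) : G) with hw
    have hwx : x * w * x⁻¹ = w := by
      have h1 : w⁻¹ * (x * w * x⁻¹) = 1 := congrArg Subtype.val hc
      exact (inv_mul_eq_one.1 h1).symm
    have hstep : ∀ n : ℕ, x ^ n * (c : G) * (x ^ n)⁻¹ = c * w ^ n := by
      intro n
      induction n with
      | zero => simp
      | succ n ih =>
        have hc1 : x * (c : G) * x⁻¹ = c * w := by rw [hw, coe_delta]; group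
        calc x ^ (n + 1) * (c : G) * (x ^ (n + 1))⁻¹ = x * (x ^ n * c * (x ^ n)⁻¹) * x⁻¹ := by rw [pow_succ']; group
          _ = (x * c * x⁻¹) * (x * w * x⁻¹) ^ n := by rw [ih, conj_pow]; group
          _ = c * w ^ (n + 1) := by rw [hc1, hwx, pow_succ', mul_assoc]
    have h1 := hstep (p ^ k)
    rw [← hxord, pow_orderOf_eq_one] at h1
    have hwk : w ^ p ^ k = 1 := by
      rw [hxord] at h1; simpa using h1
    have h2 : orderOf w ∣ p ^ k := orderOf_dvd_of_pow_eq_one hwk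
    have h3 : orderOf w ∣ Nat.card A := by
      have := orderOf_dvd_natCard (d c); rwa [← Subgroup.orderOf_coe] at this
    have h4 := Nat.dvd_gcd h2 h3
    rw [((hp.coprime_iff_not_dvd).2 hpA).pow_left k, Nat.dvd_one, orderOf_eq_one_iff] at h4
    exact Subtype.ext h4
  set B : Subgroup G := d.range.map A.subtype with hB
  have hBA : B ≤ A := Subgroup.map_subtype_le _
  haveI hBn : B.Normal := ⟨fun b hb y => by
    obtain ⟨a, ha, i, rfl⟩ := hgen y
    obtain ⟨_, ⟨c, rfl⟩, rfl⟩ := hb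
    refine ⟨_, ⟨⟨a * x ^ i * c * (a * x ^ i)⁻¹, hAn.conj_mem c c.2 _⟩, rfl⟩, ?_⟩
    show (a * x ^ i * c * (a * x ^ i)⁻¹)⁻¹ * (x * (a * x ^ i * c * (a * x ^ i)⁻¹) * x⁻¹) =
      a * x ^ i * ((d c : A) : G) * (a * x ^ i)⁻¹
    have hd1 : ∀ u ∈ A, a * u * a⁻¹ = u := fun u hu => by rw [comm_of_mem hAab ha hu, mul_inv_cancel_right]
    have hcx : x ^ i * x = x * x ^ i := ((Commute.refl x).zpow_left i).eq
    have e : ∀ u ∈ A, a * x ^ i * u * (a * x ^ i)⁻¹ = x ^ i * u * (x ^ i)⁻¹ := fun u hu => by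
      rw [← hd1 _ (hAn.conj_mem u hu (x ^ i))]; group
    rw [e _ c.2, e _ (d c).2, hd, coe_delta]
    calc (x ^ i * ↑c * (x ^ i)⁻¹)⁻¹ * (x * (x ^ i * ↑c * (x ^ i)⁻¹) * x⁻¹)
        = x ^ i * (↑c : G)⁻¹ * (x ^ i)⁻¹ * ((x * x ^ i) * ↑c * (x * x ^ i)⁻¹) := by group
      _ = x ^ i * (↑c : G)⁻¹ * (x ^ i)⁻¹ * ((x ^ i * x) * ↑c * (x ^ i * x)⁻¹) := by rw [hcx]
      _ = _ := by group⟩
  set L := (Subgroup.zpowers (QuotientGroup.mk' B x)).comap (QuotientGroup.mk' B)
  have hBL : B ≤ L := fun b hb => by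
    show QuotientGroup.mk' B b ∈ Subgroup.zpowers (QuotientGroup.mk' B x)
    rw [show QuotientGroup.mk' B b = 1 from (QuotientGroup.eq_one_iff b).2 hb]; exact one_mem _
  have hdB : ∀ c : A, ((d c : A) : G) ∈ B := fun c => ⟨d c, ⟨c, rfl⟩, rfl⟩
  have hL : ¬ IsMulCommutative L := fun hab => by
    have hx : x ∈ L := Subgroup.mem_zpowers (QuotientGroup.mk' B x)
    have h1 := comm_of_mem hab hx (hBL (hdB ⟨a₀, ha₀⟩))
    have h2 : d (d ⟨a₀, ha₀⟩) = 1 := Subtype.ext (by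
      rw [hd, coe_delta, h1, mul_inv_cancel_right, inv_mul_cancel]; rfl)
    have h3 : a₀⁻¹ * (x * a₀ * x⁻¹) = 1 := congrArg Subtype.val (hkerim _ h2)
    exact ha₀x (inv_mul_eq_one.1 h3).symm
  intro a ha hne hfix
  have haN : a ∈ Subgroup.normalizer (L : Set G) := by
    rw [Subgroup.mem_normalizer_iff]
    intro w
    show QuotientGroup.mk' B w ∈ Subgroup.zpowers _ ↔ QuotientGroup.mk' B (a * w * a⁻¹) ∈ Subgroup.zpowers _
    have hc : Commute a x := (mul_inv_eq_iff_eq_mul.1 hfix).symm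
    have hc' : Commute (QuotientGroup.mk' B a) (QuotientGroup.mk' B x) := hc.map _
    rw [map_mul, map_mul, map_inv]
    constructor
    · intro h
      obtain ⟨i, hi⟩ := Subgroup.mem_zpowers_iff.1 h
      rw [← hi, (hc'.zpow_right i).eq, mul_inv_cancel_right]
      exact Subgroup.zpow_mem _ (Subgroup.mem_zpowers _) i
    · intro h
      obtain ⟨i, hi⟩ := Subgroup.mem_zpowers_iff.1 h
      have : QuotientGroup.mk' B w = (QuotientGroup.mk' B a)⁻¹ * QuotientGroup.mk' B x ^ i * QuotientGroup.mk' B a := by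
        rw [hi]; group
      rw [this, mul_assoc, ← (hc'.zpow_right i).eq, inv_mul_cancel_left]
      exact Subgroup.zpow_mem _ (Subgroup.mem_zpowers _) i
  rw [hS L hL] at haN
  obtain ⟨i, hi⟩ := Subgroup.mem_zpowers_iff.1 (haN : QuotientGroup.mk' B a ∈ _)
  rw [← map_zpow] at hi
  have hb : (x ^ i)⁻¹ * a ∈ B := QuotientGroup.eq.1 hi
  have hxi : x ^ i = 1 := hdisj _ (Subgroup.zpow_mem _ (Subgroup.mem_zpowers x) i) (by
    have := mul_mem ha (inv_mem (hBA hb))
    simpa [mul_assoc] using this)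
  rw [hxi, inv_one, one_mul] at hb
  obtain ⟨_, ⟨c, rfl⟩, hca⟩ := hb
  have hca' : ((d c : A) : G) = a := hca
  have h2 : d (d c) = 1 := Subtype.ext (by rw [hd, coe_delta, ← hd, hca', hfix, inv_mul_cancel]; rfl)
  exact hne (by rw [← hca', hkerim c h2]; rfl)

theorem selfNormalizing_of_structure (x : G) (A : Subgroup G) (p : ℕ) (hp : p.Prime) (hAn : A.Normal)
    (hA : IsMulCommutative A) (hx : ∃ k : ℕ, orderOf x = p ^ k)
    (hcompl : (Subgroup.zpowers x).IsComplement' A) (hxp : x ^ p ∈ Subgroup.center G)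
    (hfix : ∀ a : G, a ∈ A → a ≠ 1 → x * a * x⁻¹ ≠ a)
    (H : Subgroup G) (hH : ¬ IsMulCommutative H) : Subgroup.normalizer (H : Set G) = H := by
  classical
  obtain ⟨k, hk⟩ := hx
  have hdec : ∀ g : G, ∃ i : ℤ, ∃ a ∈ A, g = x ^ i * a := fun g => by
    obtain ⟨⟨⟨z, hz⟩, ⟨a, ha⟩⟩, h⟩ := hcompl.2 g
    obtain ⟨i, rfl⟩ := Subgroup.mem_zpowers_iff.1 hz
    exact ⟨i, a, ha, h.symm⟩
  -- some element of `H` has exponent prime to `p`
  obtain ⟨i, a, ha, hmem, hpi⟩ : ∃ i : ℤ, ∃ a ∈ A, x ^ i * a ∈ H ∧ ¬ (p : ℤ) ∣ i := by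
    by_contra h
    push Not at h
    refine hH ⟨⟨fun u v => Subtype.ext ?_⟩⟩
    obtain ⟨i, a, ha, hu⟩ := hdec u
    obtain ⟨j, b, hb, hv⟩ := hdec v
    obtain ⟨i', rfl⟩ := h i a ha (hu ▸ u.2)
    obtain ⟨j', rfl⟩ := h j b hb (hv ▸ v.2)
    show (u : G) * v = v * u
    rw [hu, hv, zpow_mul, zpow_mul, zpow_natCast]
    have hz : ∀ (n : ℤ) (w : G), Commute ((x ^ p) ^ n) w := fun n w =>
      (Commute.zpow_left ((Subgroup.mem_center_iff.1 hxp w).symm : Commute (x ^ p) w) n)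
    exact (((hz i' _).mul_left ((hz j' a).symm.mul_right (comm_of_mem hA ha hb : Commute a b)))).eq
  obtain ⟨u, v, huv⟩ := ((Nat.prime_iff_prime_int.1 hp).coprime_iff_not_dvd.2 hpi).pow_left (m := k)
  have hxv : x = (x ^ i) ^ v := by
    have h1 : x ^ ((p : ℤ) ^ k) = 1 := by
      rw [← Nat.cast_pow, zpow_natCast, ← hk, pow_orderOf_eq_one]
    conv_lhs => rw [← zpow_one x, ← huv, zpow_add, mul_comm u, zpow_mul, h1, one_zpow, one_mul, mul_comm v, zpow_mul]
  have hyconj : ∀ c ∈ A, x ^ i * a * c * (x ^ i * a)⁻¹ = x ^ i * c * (x ^ i)⁻¹ := fun c hc => by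
    have h1 : a * c * a⁻¹ = c := by rw [comm_of_mem hA ha hc, mul_inv_cancel_right]
    calc x ^ i * a * c * (x ^ i * a)⁻¹ = x ^ i * (a * c * a⁻¹) * (x ^ i)⁻¹ := by group
      _ = _ := by rw [h1]
  haveI := hAn
  refine selfNormalizing_of_mem A hA (x ^ i * a) (fun c hc hcfix => ?_) (fun g => ?_) H hmem
  · rw [hyconj c hc] at hcfix
    by_contra hne
    refine hfix c hc hne ?_
    have h1 : Commute (x ^ i) c := mul_inv_eq_iff_eq_mul.1 hcfix
    have h2 : Commute ((x ^ i) ^ v) c := h1.zpow_left v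
    rw [← hxv] at h2
    rw [h2.eq, mul_inv_cancel_right]
  · obtain ⟨j, b, hb, rfl⟩ := hdec g
    let π := QuotientGroup.mk' A
    refine ⟨x ^ j * b * ((x ^ i * a) ^ (v * j))⁻¹, (QuotientGroup.eq_one_iff _).1 ?_, v * j, by group⟩
    show π (x ^ j * b * ((x ^ i * a) ^ (v * j))⁻¹) = 1
    rw [map_mul, map_mul, map_inv, map_zpow, map_zpow, map_mul, map_zpow,
      show π a = 1 from (QuotientGroup.eq_one_iff a).2 ha, show π b = 1 from (QuotientGroup.eq_one_iff b).2 hb,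
      mul_one, mul_one, zpow_mul (π x ^ i), ← map_zpow π x i, ← map_zpow π (x ^ i) v, ← hxv, mul_inv_cancel]

end CfsgLib.Orders.SelfNorm
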