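import Cfsg.Agent.Lib.SolvStruct.Primitive
import Cfsg.Agent.Lib.Components.Subnormal
import Mathlib

/-!
# Solvable groups in which elements of the same order are conjugate
-/

set_option autoImplicit false

open scoped commutatorElement

namespace CfsgLib.Orders

universe u

theorem card_carrier_eq_index {G : Type u} [Group G] [Finite G] (x : G) :
    Nat.card (ConjClasses.mk x).carrier = (Subgroup.centralizer ({x} : Set G)).index := by
  rw [← ConjAct.orbit_eq_carrier_conjClasses, Nat.card_coe_set_eq, ← MulAction.index_stabilizer,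
    ConjAct.stabilizer_eq_centralizer]
  refine (congrArg Subgroup.index ?_).trans (Subgroup.index_comap_of_surjective (f := (ConjAct.ofConjAct : ConjAct G ≃* G).toMonoidHom) _ (MulEquiv.surjective _))
  ext g
  simp [Subgroup.mem_centralizer_singleton_iff]
  exact Iff.rfl

theorem nonempty_perm_three_of_card_six {G : Type u} [Group G] [Finite G] (h6 : Nat.card G = 6)
    (hna : ¬ ∀ a b : G, a * b = b * a) : Nonempty (G ≃* Equiv.Perm (Fin 3)) := by
  classical
  haveI := Fact.mk Nat.prime_two
  obtain ⟨t, ht⟩ := exists_prime_orderOf_dvd_card' (G := G) 2 (by rw [h6]; norm_num)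
  set H := Subgroup.zpowers t
  have hH : Nat.card H = 2 := by rw [Nat.card_zpowers, ht]
  have hidx : H.index = 3 := by
    have := H.card_mul_index; rw [h6, hH] at this; omega
  haveI : Fintype (G ⧸ H) := Fintype.ofFinite _
  have hq : Fintype.card (G ⧸ H) = 3 := by
    rw [← Nat.card_eq_fintype_card, ← Subgroup.index, hidx]
  let e : G ⧸ H ≃ Fin 3 := (Fintype.equivFin _).trans (finCongr hq)
  let f : G →* Equiv.Perm (Fin 3) := e.permCongrHom.toMonoidHom.comp (MulAction.toPermHom G (G ⧸ H))
  have hker : f.ker = ⊥ := by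
    have h1 : f.ker = H.normalCore := by
      rw [Subgroup.normalCore_eq_ker]
      ext g
      simp [f, MonoidHom.mem_ker]
    rw [h1]
    rcases (H.normalCore).bot_or_nontrivial with h | h
    · exact h
    · exfalso
      have hle := Subgroup.card_le_of_le (Subgroup.normalCore_le H)
      have hgt : 1 < Nat.card H.normalCore := Finite.one_lt_card_iff_nontrivial.2 h
      have heq : H.normalCore = H := Subgroup.eq_of_le_of_card_ge (Subgroup.normalCore_le H) (by omega)
      have hn : H.Normal := heq ▸ Subgroup.normalCore_normal H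
      have hc : t ∈ Subgroup.center G := Subgroup.mem_center_iff.2 fun g => by
        have hm := hn.conj_mem t (Subgroup.mem_zpowers t) g
        obtain ⟨i, hi⟩ := Subgroup.mem_zpowers_iff.1 hm
        have ht2 : t ^ (2 : ℤ) = 1 := by
          rw [show (2 : ℤ) = ((2 : ℕ) : ℤ) from rfl, zpow_natCast, ← ht, pow_orderOf_eq_one]
        have hi' : t ^ i = t ^ (i % 2) := by
          conv_lhs => rw [← Int.emod_add_mul_ediv i 2, zpow_add, zpow_mul, ht2, one_zpow, mul_one]
        rcases Int.emod_two_eq i with h0 | h0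
        · rw [hi', h0, zpow_zero, eq_comm, mul_inv_eq_one, mul_eq_left] at hi
          exact absurd ht (by rw [hi, orderOf_one]; norm_num)
        · rw [hi', h0, zpow_one, eq_mul_inv_iff_mul_eq] at hi
          exact hi.symm
      haveI : IsCyclic (G ⧸ Subgroup.center G) := by
        have hdvd : (Subgroup.center G).index ∣ 3 := hidx ▸ Subgroup.index_dvd_of_le (Subgroup.zpowers_le.2 hc)
        rcases (Nat.dvd_prime Nat.prime_three).1 hdvd with h3 | h3
        · haveI : Subsingleton (G ⧸ Subgroup.center G) := by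
            rw [← Finite.card_le_one_iff_subsingleton]; exact le_of_eq h3
          infer_instance
        · haveI := Fact.mk Nat.prime_three
          exact isCyclic_of_prime_card (p := 3) h3
      exact hna fun a b => (commutative_of_cyclic_center_quotient (QuotientGroup.mk' (Subgroup.center G))
        (le_of_eq (QuotientGroup.ker_mk' _)) a b)
  have hinj : Function.Injective f := (MonoidHom.ker_eq_bot_iff f).1 hker
  exact ⟨MulEquiv.ofBijective f ((Nat.bijective_iff_injective_and_card f).2
    ⟨hinj, by rw [h6, Nat.card_perm, Nat.card_eq_fintype_card, Fintype.card_fin]; rfl⟩)⟩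

theorem perm_three_centralizer : ∀ t g : Equiv.Perm (Fin 3), t ≠ 1 → g * t = t * g →
    g = 1 ∨ g = t ∨ g = t * t := by decide

theorem exists_perm_three_commutator :
    ∃ a b : Equiv.Perm (Fin 3), a * b * a⁻¹ * b⁻¹ ≠ 1 := by decide

theorem perm_three_quotient : ∀ t : Equiv.Perm (Fin 3), t ≠ 1 → ∀ a b : Equiv.Perm (Fin 3),
    a * b * a⁻¹ * b⁻¹ = t → t * t * t = 1 := by decide

theorem of_conj_of_orderOf : ∀ (n : ℕ) (G : Type u) [Group G] [Finite G] [Group.IsSolvable G],
    Nat.card G = n → (∀ x y : G, orderOf x = orderOf y → IsConj x y) →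
    Nat.card G = 1 ∨ Nat.card G = 2 ∨ Nonempty (G ≃* Equiv.Perm (Fin 3)) := by
  intro n
  induction n using Nat.strong_induction_on with
  | _ n ih =>
  intro G _ _ _ hn h
  classical
  rcases subsingleton_or_nontrivial G with hs | hs
  · exact Or.inl (Nat.card_eq_one_iff_unique.2 ⟨hs, ⟨1⟩⟩)
  obtain ⟨N, hNn, hN0, hmin⟩ := CfsgLib.Components.exists_minimal_normal (G := G)
  haveI := hNn
  obtain ⟨p, hp, hpN, hab, hexp⟩ := CfsgLib.Core.isPGroup_of_minimal_normal N inferInstance hN0 hmin
  haveI := Fact.mk hp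
  obtain ⟨n₀, hn₀, hn₀1⟩ : ∃ x ∈ N, x ≠ (1 : G) := by
    by_contra hc; push Not at hc; exact hN0 ((Subgroup.eq_bot_iff_forall _).2 hc)
  have ho₀ : orderOf n₀ = p := orderOf_eq_prime (hexp n₀ hn₀) hn₀1
  have hallp : ∀ x : G, orderOf x = p → x ∈ N := fun x hx => by
    obtain ⟨c, rfl⟩ := isConj_iff.1 (h n₀ x (ho₀.trans hx.symm))
    exact hNn.conj_mem n₀ hn₀ c
  -- lifts of a prescribed order
  let π := QuotientGroup.mk' N
  have hlift : ∀ x : G, ∃ x' : G, π x' = π x ∧
      orderOf x' = if p ∣ orderOf (π x) then p * orderOf (π x) else orderOf (π x) := by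
    intro x
    set m := orderOf (π x)
    have hm0 : 0 < m := orderOf_pos _
    have hxm : x ^ m ∈ N := by
      rw [← QuotientGroup.eq_one_iff]
      show π (x ^ m) = 1
      rw [map_pow]; exact pow_orderOf_eq_one _
    have h1 : orderOf x ∣ p * m := orderOf_dvd_of_pow_eq_one (by rw [mul_comm, pow_mul]; exact hexp _ hxm)
    have h2 : m ∣ orderOf x := orderOf_map_dvd π x
    obtain ⟨k, hk⟩ := h2
    have hk' : k ∣ p := (Nat.mul_dvd_mul_iff_left hm0).1 (by rw [mul_comm m p, ← hk]; exact h1)
    by_cases hd : p ∣ m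
    · refine ⟨x, rfl, ?_⟩
      rw [if_pos hd, hk]
      rcases (Nat.dvd_prime hp).1 hk' with rfl | rfl
      · exfalso
        rw [mul_one] at hk
        obtain ⟨j, hj⟩ := hd
        have hj0 : 0 < j := Nat.pos_of_mul_pos_left (a := p) (hj ▸ hm0)
        have hord : orderOf (x ^ j) = p := by
          rw [orderOf_pow' x hj0.ne', hk, hj, Nat.gcd_mul_left_left, Nat.mul_div_cancel _ hj0]
        have hmem := hallp _ hord
        rw [← QuotientGroup.eq_one_iff] at hmem
        have hdvd : m ∣ j := orderOf_dvd_of_pow_eq_one (by rw [← map_pow]; exact hmem)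
        have := Nat.le_of_dvd hj0 hdvd
        nlinarith [hp.two_le]
      · rw [mul_comm]
    · obtain ⟨e, he1, he0⟩ := Nat.chineseRemainder ((hp.coprime_iff_not_dvd.2 hd).symm) 1 0
      refine ⟨x ^ e, ?_, ?_⟩
      · rw [map_pow]
        conv_rhs => rw [← pow_one (π x)]
        exact pow_eq_pow_iff_modEq.2 he1
      · rw [if_neg hd]
        refine Nat.dvd_antisymm (orderOf_dvd_of_pow_eq_one ?_) ?_
        · rw [← pow_mul]
          refine orderOf_dvd_iff_pow_eq_one.1 (h1.trans ?_)
          exact Nat.mul_dvd_mul (Nat.modEq_zero_iff_dvd.1 he0) dvd_rfl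
        · have h3 := orderOf_map_dvd π (x ^ e)
          have h4 : π (x ^ e) = π x := by
            rw [map_pow]; conv_rhs => rw [← pow_one (π x)]
            exact pow_eq_pow_iff_modEq.2 he1
          rwa [h4] at h3
  have hQ : ∀ a b : G ⧸ N, orderOf a = orderOf b → IsConj a b := by
    intro a b hab'
    obtain ⟨x, rfl⟩ := QuotientGroup.mk'_surjective N a
    obtain ⟨y, rfl⟩ := QuotientGroup.mk'_surjective N b
    obtain ⟨x', hx', hox⟩ := hlift x
    obtain ⟨y', hy', hoy⟩ := hlift y
    rw [← hx', ← hy']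
    refine π.map_isConj (h x' y' ?_)
    rw [hox, hoy]
    exact by rw [show orderOf (π x) = orderOf (π y) from hab']
  have hcardG : Nat.card G = Nat.card (G ⧸ N) * Nat.card N := Subgroup.card_eq_card_quotient_mul_card_subgroup N
  have hN1 : 1 < Nat.card N := N.one_lt_card_iff_ne_bot.2 hN0
  have hlt : Nat.card (G ⧸ N) < n := by
    rw [← hn, hcardG]
    exact lt_mul_of_one_lt_right Nat.card_pos hN1
  have hrec := ih _ hlt (G ⧸ N) rfl hQ
  -- the nontrivial elements of `N` form one class
  have hNle : N ≤ Subgroup.centralizer ({n₀} : Set G) := fun x hx => by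
    rw [Subgroup.mem_centralizer_singleton_iff]
    exact congrArg Subtype.val (hab.is_comm.comm ⟨x, hx⟩ ⟨n₀, hn₀⟩)
  have hclass : (Subgroup.centralizer ({n₀} : Set G)).index + 1 = Nat.card N := by
    rw [← card_carrier_eq_index]
    have hset : (ConjClasses.mk n₀).carrier = (N : Set G) \ {1} := by
      ext x
      rw [ConjClasses.mem_carrier_iff_mk_eq, ConjClasses.mk_eq_mk_iff_isConj]
      refine ⟨fun hx => ?_, fun ⟨hx, hx1⟩ => h x n₀ ((orderOf_eq_prime (hexp x hx) hx1).trans ho₀.symm)⟩
      obtain ⟨c, hc⟩ := isConj_iff.1 hx.symm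
      refine ⟨hc ▸ hNn.conj_mem n₀ hn₀ c, fun (hx1 : x = 1) => hn₀1 ?_⟩
      rw [hx1] at hc
      simpa using hc
    rw [hset, Nat.card_coe_set_eq, Set.ncard_diff_singleton_add_one N.one_mem (Set.toFinite _)]
    exact Nat.card_coe_set_eq (N : Set G)
  have hidxdvd : (Subgroup.centralizer ({n₀} : Set G)).index ∣ Nat.card (G ⧸ N) := Subgroup.index_dvd_of_le hNle
  by_cases hsmall : Nat.card (G ⧸ N) ≤ 2
  · have hN3 : Nat.card N ≤ 3 := by
      have := Nat.le_of_dvd Nat.card_pos hidxdvd; omega
    by_cases hcomm : ∀ a b : G, a * b = b * a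
    · right; left
      have hsq : ∀ x : G, x * x = 1 := fun x => by
        obtain ⟨c, hc⟩ := isConj_iff.1 (h x x⁻¹ (orderOf_inv x).symm)
        rw [hcomm c x, mul_inv_cancel_right] at hc
        calc x * x = x * x⁻¹ := by rw [← hc]
          _ = 1 := mul_inv_cancel x
      have htwo : ∀ a b : G, a ≠ 1 → b ≠ 1 → a = b := fun a b ha hb => by
        have ha2 : orderOf a = 2 := orderOf_eq_prime (by rw [pow_two]; exact hsq a) ha
        have hb2 : orderOf b = 2 := orderOf_eq_prime (by rw [pow_two]; exact hsq b) hb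
        obtain ⟨c, hc⟩ := isConj_iff.1 (h a b (ha2.trans hb2.symm))
        rwa [hcomm c a, mul_inv_cancel_right] at hc
      rw [Nat.card_eq_two_iff]
      obtain ⟨a, ha⟩ := exists_ne (1 : G)
      refine ⟨1, a, ha.symm, Set.eq_univ_of_forall fun b => ?_⟩
      rcases eq_or_ne b 1 with rfl | hb
      · exact Or.inl rfl
      · exact Or.inr (htwo b a hb ha)
    · right; right
      refine nonempty_perm_three_of_card_six ?_ hcomm
      have hq0 : 0 < Nat.card (G ⧸ N) := Nat.card_pos
      by_contra h6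
      apply hcomm
      have hsmallG : Nat.card G ≤ 4 ∨ Nat.card G = 6 := by
        rw [hcardG]
        interval_cases (Nat.card (G ⧸ N)) <;> interval_cases (Nat.card N) <;> simp
      rcases hsmallG with h4 | h4
      · intro a b
        haveI := Fact.mk Nat.prime_two
        interval_cases hc4 : (Nat.card G)
        · exact absurd hc4 Nat.card_pos.ne'
        · haveI : Subsingleton G := (Nat.card_eq_one_iff_unique.1 hc4).1
          exact Subsingleton.elim _ _
        · haveI := isCyclic_of_prime_card (p := 2) hc4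
          exact (IsCyclic.isMulCommutative).is_comm.comm a b
        · haveI := Fact.mk Nat.prime_three
          haveI := isCyclic_of_prime_card (p := 3) hc4
          exact (IsCyclic.isMulCommutative).is_comm.comm a b
        · exact (IsPGroup.isMulCommutative_of_card_eq_prime_sq (p := 2) (by rw [hc4]; norm_num)).is_comm.comm a b
      · exact absurd h4 h6
  -- the quotient is `S₃`
  obtain ⟨e⟩ := hrec.resolve_left (fun h1 => hsmall (by omega)) |>.resolve_left (fun h1 => hsmall (by omega))
  exfalso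
  have hq6 : Nat.card (G ⧸ N) = 6 := by
    rw [Nat.card_congr e.toEquiv, Nat.card_perm, Nat.card_eq_fintype_card, Fintype.card_fin]; rfl
  rw [hq6] at hidxdvd hcardG
  let φ : G →* Equiv.Perm (Fin 3) := e.toMonoidHom.comp π
  have hφs : Function.Surjective φ := e.surjective.comp (QuotientGroup.mk'_surjective N)
  have hφk : ∀ x, φ x = 1 ↔ x ∈ N := fun x => by
    show e (π x) = 1 ↔ _
    rw [MulEquiv.map_eq_one_iff]; exact QuotientGroup.eq_one_iff x
  -- a commutator outside `N`
  obtain ⟨a₀, b₀, hab₀⟩ := exists_perm_three_commutator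
  obtain ⟨u, rfl⟩ := hφs a₀
  obtain ⟨v, rfl⟩ := hφs b₀
  set c := ⁅u, v⁆
  have hcφ : φ c ≠ 1 := by
    simpa [c, commutatorElement_def] using hab₀
  -- not both primes
  have hcases : Nat.card N = 2 ∨ Nat.card N = 3 ∨ Nat.card N = 4 ∨ Nat.card N = 7 := by
    have h6 := Nat.le_of_dvd (by norm_num) hidxdvd
    have hpos : 0 < (Subgroup.centralizer ({n₀} : Set G)).index := by omega
    rcases hi : (Subgroup.centralizer ({n₀} : Set G)).index with _ | _ | _ | _ | _ | _ | _ | k <;>
      rw [hi] at hidxdvd h6 hclass <;> omega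
  have hcyc : (Nat.card N).Prime → c ∈ Subgroup.centralizer (N : Set G) := by
    intro hpr
    haveI := Fact.mk hpr
    haveI : IsCyclic N := isCyclic_of_prime_card rfl
    let ρ : G →* MulAut N := MulAut.conjNormal
    have hcomm2 : ∀ α β : MulAut N, α * β = β * α := fun α β => by
      apply MulEquiv.ext
      intro x
      obtain ⟨i, hi⟩ := MonoidHom.map_cyclic α.toMonoidHom
      obtain ⟨j, hj⟩ := MonoidHom.map_cyclic β.toMonoidHom
      have hi' : ∀ x, α x = x ^ i := hi
      have hj' : ∀ x, β x = x ^ j := hj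
      rw [MulAut.mul_apply, MulAut.mul_apply, hi', hj', hj', hi', ← zpow_mul, ← zpow_mul, mul_comm]
    have hρ : ρ c = 1 := by
      rw [map_commutatorElement, commutatorElement_eq_one_iff_mul_comm]; exact hcomm2 _ _
    intro x hx
    have := DFunLike.congr_fun hρ ⟨x, hx⟩
    have h2 : c * x * c⁻¹ = x := congrArg Subtype.val this
    rw [mul_inv_eq_iff_eq_mul] at h2
    exact h2.symm
  have hC : ∀ x ∈ Subgroup.centralizer (N : Set G), x ∈ Subgroup.centralizer ({n₀} : Set G) := fun x hx =>
    Subgroup.mem_centralizer_singleton_iff.2 (hx n₀ hn₀).symm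
  -- an element `y` whose image is nontrivial cannot be conjugate to another element of its coset
  have hnoconj : ∀ y : G, φ y ≠ 1 → ∀ k : ℕ, φ (y ^ k) = φ y → orderOf (y ^ k) = orderOf y →
      N ≤ Subgroup.zpowers y → y ^ k = y := by
    intro y hy k hk hko hNy
    obtain ⟨g, hg⟩ := isConj_iff.1 (h y (y ^ k) hko.symm)
    have hcomm : φ g * φ y = φ y * φ g := by
      have := congrArg φ hg
      rw [map_mul, map_mul, map_inv, hk, mul_inv_eq_iff_eq_mul] at this
      exact this
    have hg2 : g ∈ Subgroup.zpowers y := by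
      obtain ⟨j, hj⟩ : ∃ j : ℕ, φ g = φ (y ^ j) := by
        rcases perm_three_centralizer _ _ hy hcomm with h1 | h1 | h1
        · exact ⟨0, by rw [h1, pow_zero, map_one]⟩
        · exact ⟨1, by rw [h1, pow_one]⟩
        · exact ⟨2, by rw [h1, pow_two, map_mul]⟩
      have hmem : (y ^ j)⁻¹ * g ∈ N := by
        rw [← hφk, map_mul, map_inv, hj, inv_mul_cancel]
      have := mul_mem (pow_mem (Subgroup.mem_zpowers y) j) (hNy hmem)
      rwa [mul_inv_cancel_left] at this
    obtain ⟨j, rfl⟩ := Subgroup.mem_zpowers_iff.1 hg2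
    rw [← hg]; group
  rcases hcases with hc | hc | hc | hc
  · -- `|N| = 2`
    have hp2 : p = 2 := by
      have h1 : orderOf (⟨n₀, hn₀⟩ : N) ∣ 2 := hc ▸ orderOf_dvd_natCard _
      rw [Subgroup.orderOf_mk, ho₀] at h1
      exact (Nat.prime_dvd_prime_iff_eq hp Nat.prime_two).1 h1
    obtain ⟨t, ht⟩ : ∃ t : Equiv.Perm (Fin 3), orderOf t = 2 :=
      exists_prime_orderOf_dvd_card' (hp := ⟨Nat.prime_two⟩) 2 (by rw [Nat.card_perm, Nat.card_eq_fintype_card, Fintype.card_fin]; decide)
    obtain ⟨y₀, rfl⟩ := hφs t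
    obtain ⟨y, hy, hoy⟩ := hlift y₀
    have hm : orderOf (π y₀) = 2 := by rw [← ht]; exact (orderOf_injective e.toMonoidHom e.injective _).symm
    rw [hm, if_pos (hp2 ▸ dvd_rfl), hp2] at hoy
    have hy2 : y ^ 2 ∈ N := hallp _ (by rw [hp2, orderOf_pow' y two_ne_zero, hoy]; rfl)
    have hNy : N ≤ Subgroup.zpowers y := by
      have hle : Subgroup.zpowers (y ^ 2) ≤ N := Subgroup.zpowers_le.2 hy2
      rw [← Subgroup.eq_of_le_of_card_ge hle (by rw [hc, Nat.card_zpowers, orderOf_pow' y two_ne_zero, hoy]; rfl)]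
      exact Subgroup.zpowers_le.2 (pow_mem (Subgroup.mem_zpowers y) 2)
    have hyφ : φ y ≠ 1 := by
      show e (π y) ≠ 1
      rw [hy]
      show φ y₀ ≠ 1
      intro h1; rw [h1, orderOf_one] at ht; omega
    have h3 := hnoconj y hyφ 3 (by
      rw [pow_succ, map_mul, (hφk (y ^ 2)).2 hy2, one_mul]) (by rw [orderOf_pow' y (by norm_num), hoy]; rfl) hNy
    have : y ^ 2 = 1 := by
      rw [pow_succ, mul_eq_right] at h3; exact h3
    have := orderOf_dvd_of_pow_eq_one this
    rw [hoy] at this
    norm_num at this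
  · -- `|N| = 3`
    have hp3 : p = 3 := by
      have h1 : orderOf (⟨n₀, hn₀⟩ : N) ∣ 3 := hc ▸ orderOf_dvd_natCard _
      rw [Subgroup.orderOf_mk, ho₀] at h1
      exact (Nat.prime_dvd_prime_iff_eq hp Nat.prime_three).1 h1
    have hoc : orderOf (φ c) = 3 := by
      haveI := Fact.mk Nat.prime_three
      refine orderOf_eq_prime ?_ hcφ
      rw [pow_succ, pow_two]
      exact perm_three_quotient _ hcφ (φ u) (φ v) (by simp [c, commutatorElement_def])
    obtain ⟨y, hy, hoy⟩ := hlift c
    have hm : orderOf (π c) = 3 := by rw [← hoc]; exact (orderOf_injective e.toMonoidHom e.injective _).symm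
    rw [hm, if_pos (hp3 ▸ dvd_rfl), hp3] at hoy
    have hy3 : y ^ 3 ∈ N := hallp _ (by rw [hp3, orderOf_pow' y three_ne_zero, hoy]; rfl)
    have hNy : N ≤ Subgroup.zpowers y := by
      have hle : Subgroup.zpowers (y ^ 3) ≤ N := Subgroup.zpowers_le.2 hy3
      rw [← Subgroup.eq_of_le_of_card_ge hle (by rw [hc, Nat.card_zpowers, orderOf_pow' y three_ne_zero, hoy]; rfl)]
      exact Subgroup.zpowers_le.2 (pow_mem (Subgroup.mem_zpowers y) 3)
    have hyφ : φ y ≠ 1 := by
      show e (π y) ≠ 1
      rw [hy]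
      exact hcφ
    have h4 := hnoconj y hyφ 4 (by
      rw [pow_succ, map_mul, (hφk (y ^ 3)).2 hy3, one_mul]) (by rw [orderOf_pow' y (by norm_num), hoy]; rfl) hNy
    have : y ^ 3 = 1 := by
      rw [pow_succ, mul_eq_right] at h4; exact h4
    have := orderOf_dvd_of_pow_eq_one this
    rw [hoy] at this
    norm_num at this
  · -- `|N| = 4`
    haveI := Fact.mk Nat.prime_three
    obtain ⟨R⟩ : Nonempty (Sylow 3 G) := inferInstance
    have hR : Nat.card R = 3 := by
      rw [R.card_eq_multiplicity, hcardG, hc, show (6 * 4 : ℕ) = 3 ^ 1 * 8 by norm_num,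
        Nat.factorization_mul (by norm_num) (by norm_num), Nat.Prime.factorization_pow Nat.prime_three]
      simp [Nat.factorization_eq_zero_of_not_dvd (show ¬ 3 ∣ 8 by norm_num)]
    have hidx : (Subgroup.centralizer ({n₀} : Set G)).index = 3 := by omega
    have hC8 : Nat.card (Subgroup.centralizer ({n₀} : Set G)) = 8 := by
      have := (Subgroup.centralizer ({n₀} : Set G)).card_mul_index
      rw [hidx, hcardG, hc] at this; omega
    have hno : ∀ n ∈ N, n ≠ 1 → ∀ r : G, orderOf r = 3 → r * n ≠ n * r := by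
      intro m hm hm1 r hr hcomm
      obtain ⟨g, hg⟩ := isConj_iff.1 (h m n₀ ((orderOf_eq_prime (hexp m hm) hm1).trans ho₀.symm))
      have hgr : g * r * g⁻¹ ∈ Subgroup.centralizer ({n₀} : Set G) := by
        rw [Subgroup.mem_centralizer_singleton_iff, ← hg]
        calc g * r * g⁻¹ * (g * m * g⁻¹) = g * (r * m) * g⁻¹ := by group
          _ = g * (m * r) * g⁻¹ := by rw [hcomm]
          _ = _ := by group
      have h1 : orderOf (g * r * g⁻¹) = 3 := by
        rw [← hr]; exact orderOf_injective (MulAut.conj g).toMonoidHom (MulAut.conj g).injective r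
      have h2 := orderOf_dvd_natCard (⟨_, hgr⟩ : Subgroup.centralizer ({n₀} : Set G))
      rw [Subgroup.orderOf_mk, h1, hC8] at h2
      norm_num at h2
    set K := Subgroup.normalizer ((R : Subgroup G) : Set G)
    have hK : 2 ∣ Nat.card K := by
      have h1 : Nat.card (Sylow 3 G) = K.index := Sylow.card_eq_index_normalizer R
      have h2 : Nat.card (Sylow 3 G) ≡ 1 [MOD 3] := card_sylow_modEq_one 3 G
      have h3 : Nat.card (Sylow 3 G) ∣ 8 := by
        have h5 := R.card_dvd_index
        have h6 := (R : Subgroup G).card_mul_index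
        rw [show Nat.card (R : Subgroup G) = 3 from hR, hcardG, hc] at h6
        rwa [show (R : Subgroup G).index = 8 by omega] at h5
      have h4 := K.card_mul_index
      rw [hcardG, hc, ← h1] at h4
      have h5 := Nat.le_of_dvd (by norm_num) h3
      unfold Nat.ModEq at h2
      interval_cases hs : (Nat.card (Sylow 3 G)) <;> first | omega | (norm_num at h3)
    haveI := Fact.mk Nat.prime_two
    obtain ⟨⟨w, hwK⟩, hw⟩ := exists_prime_orderOf_dvd_card' 2 hK
    rw [Subgroup.orderOf_mk] at hw
    have hp2 : p = 2 := by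
      have h1 : orderOf (⟨n₀, hn₀⟩ : N) ∣ 2 ^ 2 := by
        rw [show (2 : ℕ) ^ 2 = Nat.card N by rw [hc]; rfl]; exact orderOf_dvd_natCard _
      rw [Subgroup.orderOf_mk, ho₀] at h1
      exact (Nat.prime_dvd_prime_iff_eq hp Nat.prime_two).1 (hp.dvd_of_dvd_pow h1)
    have hwN := hallp w (hw.trans hp2.symm)
    obtain ⟨⟨r, hrR⟩, hr⟩ := exists_prime_orderOf_dvd_card' (G := (R : Subgroup G)) 3 (by rw [show Nat.card (R : Subgroup G) = 3 from hR])
    rw [Subgroup.orderOf_mk] at hr
    refine hno w hwN (fun h1 => by rw [h1, orderOf_one] at hw; omega) r hr ?_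
    rw [← commutatorElement_eq_one_iff_mul_comm]
    have h1 : ⁅r, w⁆ ∈ N := mul_mem (hNn.conj_mem w hwN r) (inv_mem hwN)
    have h2 : ⁅r, w⁆ ∈ (R : Subgroup G) := by
      rw [commutatorElement_def, mul_assoc, mul_assoc]
      refine mul_mem hrR ?_
      rw [← mul_assoc]
      exact (Subgroup.mem_normalizer_iff.1 hwK r⁻¹).1 (inv_mem hrR)
    have h3 := orderOf_dvd_natCard (⟨_, h1⟩ : N)
    have h4 := orderOf_dvd_natCard (⟨_, h2⟩ : (R : Subgroup G))
    rw [Subgroup.orderOf_mk] at h3 h4
    rw [hc] at h3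
    rw [show Nat.card (R : Subgroup G) = 3 from hR] at h4
    have h7 := Nat.dvd_gcd h3 h4
    rw [show Nat.gcd 4 3 = 1 from rfl, Nat.dvd_one, orderOf_eq_one_iff] at h7
    exact h7
  · -- `|N| = 7`
    have h1 : (Subgroup.centralizer ({n₀} : Set G)) = N := by
      refine (Subgroup.eq_of_le_of_card_ge hNle ?_).symm
      have h2 := (Subgroup.centralizer ({n₀} : Set G)).card_mul_index
      have h3 : (Subgroup.centralizer ({n₀} : Set G)).index = 6 := by omega
      rw [h3, hcardG] at h2
      omega
    have h2 := hC c (hcyc (by rw [hc]; norm_num))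
    rw [h1, ← hφk] at h2
    exact hcφ h2

end CfsgLib.Orders
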