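import Cfsg.Agent.Lib.Orders.Elementary
import Cfsg.Agent.Lib.HallGen.Basic

/-!
# Prime-power parts of elements, automorphisms of cyclic p-groups
-/

set_option autoImplicit false

namespace CfsgLib.Orders

universe u

variable {G : Type u} [Group G] [Finite G]

/-- An element is the product of commuting powers of `p`-power order and of order prime to `p`. -/
theorem exists_split {p : ℕ} (hp : p.Prime) (z : G) :
    ∃ u v : G, u ∈ Subgroup.zpowers z ∧ v ∈ Subgroup.zpowers z ∧ z = u * v ∧ Commute u v ∧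
      (∃ a : ℕ, orderOf u = p ^ a) ∧ (orderOf v).Coprime p := by
  obtain ⟨k, m, hm, hkm⟩ := Nat.exists_eq_pow_mul_and_not_dvd (orderOf_pos z).ne' p hp.ne_one
  have hco : Nat.Coprime (p ^ k) m := (hp.coprime_iff_not_dvd.2 hm).pow_left k
  refine ⟨(z ^ m) ^ Nat.gcdB (p ^ k) m, (z ^ p ^ k) ^ Nat.gcdA (p ^ k) m,
    zpow_mem (pow_mem (Subgroup.mem_zpowers z) m) _, zpow_mem (pow_mem (Subgroup.mem_zpowers z) _) _,
    ?_, ((Commute.refl z).pow_pow m (p ^ k)).zpow_zpow _ _, ?_, ?_⟩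
  · rw [← zpow_natCast z m, ← zpow_natCast z (p ^ k), ← zpow_mul, ← zpow_mul, ← zpow_add, add_comm,
      ← Nat.gcd_eq_gcd_ab, hco.gcd_eq_one]
    simp
  · have h : ((z ^ m) ^ Nat.gcdB (p ^ k) m) ^ (p ^ k) = 1 := by
      rw [← zpow_natCast, ← zpow_mul, mul_comm, zpow_mul, zpow_natCast, ← pow_mul, mul_comm m, ← hkm,
        pow_orderOf_eq_one, one_zpow]
    obtain ⟨j, -, hj⟩ := (Nat.dvd_prime_pow hp).1 (orderOf_dvd_of_pow_eq_one h)
    exact ⟨j, hj⟩
  · have h : ((z ^ p ^ k) ^ Nat.gcdA (p ^ k) m) ^ m = 1 := by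
      rw [← zpow_natCast, ← zpow_mul, mul_comm, zpow_mul, zpow_natCast, ← pow_mul, ← hkm,
        pow_orderOf_eq_one, one_zpow]
    exact ((hp.coprime_iff_not_dvd.2 hm).symm).coprime_dvd_left (orderOf_dvd_of_pow_eq_one h)

omit [Finite G] in
theorem commute_of_pow_commute {g x : G} {n : ℕ} (hco : (orderOf g).Coprime n)
    (h : Commute (g ^ n) x) : Commute g x := by
  obtain ⟨j, hj⟩ := exists_pow_eq_self_of_coprime (x := g) hco.symm
  rw [← hj]
  exact h.pow_left j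

omit [Finite G] in
/-- An element inducing `x ↦ x ^ k` with `k ≡ 1 (mod p)` on a cyclic `p`-group has a `p`-power
power centralizing it. -/
theorem commute_pow_of_conj_eq_zpow {p a : ℕ} {g x : G} (hx : x ^ (p ^ a) = 1) {k : ℤ}
    (hg : g * x * g⁻¹ = x ^ k) (hk : (p : ℤ) ∣ k - 1) : Commute (g ^ (p ^ a)) x := by
  have hit : ∀ i : ℕ, g ^ i * x * (g ^ i)⁻¹ = x ^ (k ^ i) := by
    intro i
    induction i with
    | zero => simp
    | succ i ih =>
      calc g ^ (i + 1) * x * (g ^ (i + 1))⁻¹ = g ^ i * (g * x * g⁻¹) * (g ^ i)⁻¹ := by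
            rw [pow_succ]; group
        _ = (g ^ i * x * (g ^ i)⁻¹) ^ k := by rw [hg, conj_zpow]
        _ = x ^ (k ^ (i + 1)) := by rw [ih, ← zpow_mul, ← pow_succ]
  have hd := dvd_sub_pow_of_dvd_sub (R := ℤ) (p := p) (a := k) (b := 1) hk a
  rw [one_pow] at hd
  obtain ⟨c, hc⟩ := hd
  have hkk : k ^ p ^ a = 1 + (p : ℤ) ^ (a + 1) * c := by linear_combination hc
  have h1 : g ^ (p ^ a) * x * (g ^ (p ^ a))⁻¹ = x := by
    rw [hit, hkk, zpow_add, zpow_one, zpow_mul,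
      show (p : ℤ) ^ (a + 1) = ((p ^ a : ℕ) : ℤ) * p by push_cast; ring, zpow_mul, zpow_natCast, zpow_natCast,
      hx, one_pow, one_zpow, mul_one]
  exact mul_inv_eq_iff_eq_mul.1 h1

end CfsgLib.Orders
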