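import Cfsg.Agent.Lib.Orders.Elementary
import Cfsg.Agent.Lib.Orders.Parts
import Cfsg.Agent.Lib.Char.Burnside
import Cfsg.Agent.Lib.ClassSizes.Basic
import Cfsg.Agent.Lib.Core.Hall
import Cfsg.Agent.Lib.Components.FStar
import Cfsg.Agent.Lib.HallGen.Basic

/-!
# Classes of `p`-regular elements of `p`-power size
-/

set_option autoImplicit false

namespace CfsgLib.Orders

universe u

open scoped Pointwise

/-- Every class of `p`-regular elements has `p`-power size. -/
def RegPP (p : ℕ) (G : Type u) [Group G] : Prop :=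
  ∀ x : G, (orderOf x).Coprime p → ∃ k : ℕ, (Subgroup.centralizer ({x} : Set G)).index = p ^ k

/-- There is an abelian `p`-complement. -/
def HasAbComp (p : ℕ) (G : Type u) [Group G] : Prop :=
  ∃ H : Subgroup G, IsMulCommutative H ∧ ¬ p ∣ Nat.card H ∧ ∃ k : ℕ, H.index = p ^ k

theorem ncard_carrier_eq_index {G : Type u} [Group G] (x : G) :
    (ConjClasses.mk x).carrier.ncard = (Subgroup.centralizer ({x} : Set G)).index := by
  rw [← card_isConj, ← Nat.card_coe_set_eq]
  exact Nat.card_congr (Equiv.subtypeEquivRight fun h => by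
    rw [ConjClasses.mem_carrier_iff_mk_eq, eq_comm, ConjClasses.mk_eq_mk_iff_isConj])

theorem eq_pow_of_dvd_prime_pow {p a d : ℕ} (hp : p.Prime) (h : d ∣ p ^ a) : ∃ b, d = p ^ b :=
  let ⟨b, _, hb⟩ := (Nat.dvd_prime_pow hp).1 h; ⟨b, hb⟩

theorem regPP_subgroup {p : ℕ} (hp : p.Prime) {G : Type u} [Group G] [Finite G] (h : RegPP p G)
    (N : Subgroup G) [N.Normal] : RegPP p N := by
  intro x hx
  obtain ⟨k, hk⟩ := h (x : G) (by rwa [Subgroup.orderOf_coe])
  refine eq_pow_of_dvd_prime_pow hp (a := k) ?_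
  have he : Subgroup.centralizer ({x} : Set N) =
      (Subgroup.centralizer ({(x : G)} : Set G)).subgroupOf N := by
    ext y
    rw [Subgroup.mem_subgroupOf, Subgroup.mem_centralizer_singleton_iff,
      Subgroup.mem_centralizer_singleton_iff, Subtype.ext_iff, Subgroup.coe_mul, Subgroup.coe_mul]
  rw [he, ← hk]
  exact ClassSizes.relIndex_dvd_index_of_normal_right N _

theorem regPP_quotient {p : ℕ} (hp : p.Prime) {G : Type u} [Group G] [Finite G] (h : RegPP p G)
    (N : Subgroup G) [N.Normal] : RegPP p (G ⧸ N) := by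
  intro xb hx
  let π := QuotientGroup.mk' N
  obtain ⟨x, rfl⟩ := QuotientGroup.mk'_surjective N xb
  obtain ⟨u, v, -, -, rfl, hc, ⟨a, ha⟩, hv⟩ := exists_split hp x
  have hu : π u = 1 := by
    rw [map_mul] at hx
    have hvodd : (orderOf (π v)).Coprime p := hv.coprime_dvd_left (orderOf_map_dvd π v)
    have h1 : orderOf (π u) ∣ p ^ a := ha ▸ orderOf_map_dvd π u
    have h2 : (π u) ^ (orderOf (π u * π v) * orderOf (π v)) = 1 := by
      have hc' : Commute (π u * π v) (π v)⁻¹ :=
        ((hc.map π).mul_left (Commute.refl _)).inv_right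
      calc (π u) ^ (orderOf (π u * π v) * orderOf (π v))
          = (π u * π v * (π v)⁻¹) ^ (orderOf (π u * π v) * orderOf (π v)) := by
            rw [mul_inv_cancel_right]
        _ = 1 := by
            rw [hc'.mul_pow, pow_mul, pow_orderOf_eq_one, one_pow, one_mul,
              mul_comm (orderOf (π u * π v)), pow_mul, inv_pow, pow_orderOf_eq_one, inv_one, one_pow]
    have h3 : (orderOf (π u * π v) * orderOf (π v)).Coprime (p ^ a) :=
      (Nat.Coprime.mul_left hx hvodd).pow_right a
    exact orderOf_eq_one_iff.1 (Nat.eq_one_of_dvd_coprimes h3 (orderOf_dvd_of_pow_eq_one h2) h1)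
  have hπ : π (u * v) = π v := by rw [map_mul, hu, one_mul]
  obtain ⟨k, hk⟩ := h v hv
  refine eq_pow_of_dvd_prime_pow hp (a := k) ?_
  have hle : (Subgroup.centralizer ({v} : Set G)).map π ≤ Subgroup.centralizer {π (u * v)} := by
    rintro _ ⟨y, hy, rfl⟩
    rw [Subgroup.mem_centralizer_singleton_iff, hπ, ← map_mul, ← map_mul,
      Subgroup.mem_centralizer_singleton_iff.1 hy]
  rw [← hk]
  exact (Subgroup.index_dvd_of_le hle).trans (Subgroup.index_map_dvd _ (QuotientGroup.mk'_surjective N))

theorem hasAbComp_subgroup {p : ℕ} (hp : p.Prime) {G : Type u} [Group G] [Finite G]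
    (h : HasAbComp p G) (N : Subgroup G) [N.Normal] : HasAbComp p N := by
  obtain ⟨H, hab, hcard, k, hk⟩ := h
  refine ⟨H.subgroupOf N, ⟨⟨fun a b => Subtype.ext (Subtype.ext ?_)⟩⟩, fun hd => hcard (hd.trans ?_),
    eq_pow_of_dvd_prime_pow hp (a := k) (hk ▸ ClassSizes.relIndex_dvd_index_of_normal_right N H)⟩
  · simp only [Subgroup.coe_mul]
    exact congrArg Subtype.val (hab.is_comm.comm ⟨((a : N) : G), a.2⟩ ⟨((b : N) : G), b.2⟩)
  · rw [← Subgroup.card_map_of_injective (f := N.subtype) N.subtype_injective (K := H.subgroupOf N)]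
    exact Subgroup.card_dvd_of_le (Subgroup.map_comap_le _ _)

theorem hasAbComp_quotient {p : ℕ} (hp : p.Prime) {G : Type u} [Group G] [Finite G]
    (h : HasAbComp p G) (N : Subgroup G) [N.Normal] : HasAbComp p (G ⧸ N) := by
  obtain ⟨H, hab, hcard, k, hk⟩ := h
  refine ⟨H.map (QuotientGroup.mk' N), ⟨⟨?_⟩⟩, fun hd => hcard (hd.trans (Subgroup.card_map_dvd _ _)),
    eq_pow_of_dvd_prime_pow hp (a := k) (hk ▸ Subgroup.index_map_dvd _ (QuotientGroup.mk'_surjective N))⟩
  rintro ⟨_, a, ha, rfl⟩ ⟨_, b, hb, rfl⟩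
  refine Subtype.ext ?_
  simp only [Subgroup.coe_mul, ← map_mul]
  exact congrArg _ (congrArg Subtype.val (hab.is_comm.comm ⟨a, ha⟩ ⟨b, hb⟩))

/-- Solvability from a property inherited by normal subgroups and quotients. -/
theorem isSolvable_of_inherited (P : ∀ (G : Type u) [Group G] [Finite G], Prop)
    (hs : ∀ (G : Type u) [Group G] [Finite G] (N : Subgroup G) [N.Normal], P G → P N)
    (hq : ∀ (G : Type u) [Group G] [Finite G] (N : Subgroup G) [N.Normal], P G → P (G ⧸ N))
    (hsimple : ∀ (G : Type u) [Group G] [Finite G] [IsSimpleGroup G], P G → Group.IsSolvable G)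
    (G : Type u) [Group G] [Finite G] (h : P G) : Group.IsSolvable G := by
  induction hn : Nat.card G using Nat.strong_induction_on generalizing G with
  | _ n ih =>
    subst hn
    by_cases hsm : ∀ N : Subgroup G, N.Normal → N = ⊥ ∨ N = ⊤
    · cases subsingleton_or_nontrivial G
      · exact Group.isSolvable_of_comm fun a b => Subsingleton.elim _ _
      · have : IsSimpleGroup G := ⟨hsm⟩
        exact hsimple G h
    push Not at hsm
    obtain ⟨N, hN, h1, h2⟩ := hsm
    have := hN
    have hsN : Group.IsSolvable N := ih _ (Core.card_subgroup_lt N h2) N (hs G N h) rfl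
    have hsQ : Group.IsSolvable (G ⧸ N) := ih _ (Core.card_quotient_lt N h1) (G ⧸ N) (hq G N h) rfl
    exact Group.isSolvable_of_ker_le_range N.subtype (QuotientGroup.mk' N)
      (by rw [QuotientGroup.ker_mk', Subgroup.range_subtype])

theorem isSolvable_of_simple_class {p : ℕ} (hp : p.Prime) {G : Type u} [Group G] [Finite G]
    [IsSimpleGroup G] {x : G} (hx : x ≠ 1) {k : ℕ}
    (h : (Subgroup.centralizer ({x} : Set G)).index = p ^ k) : Group.IsSolvable G := by
  have := Fact.mk (Burnside.prime_card_of_prime_pow_class hp hx h)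
  have : IsCyclic G := isCyclic_of_prime_card rfl
  exact Group.isSolvable_of_comm fun a b => (IsCyclic.commutative (α := G)).is_comm.comm a b

theorem isSolvable_of_isPGroup {p : ℕ} (hp : p.Prime) {G : Type u} [Group G] [Finite G]
    (h : IsPGroup p G) : Group.IsSolvable G := by
  have := Fact.mk hp
  exact IsNilpotent.to_isSolvable (h := h.isNilpotent)

theorem isSolvable_of_regPP {p : ℕ} (hp : p.Prime) {G : Type u} [Group G] [Finite G]
    (h : RegPP p G) : Group.IsSolvable G := by
  refine isSolvable_of_inherited (fun G _ _ => RegPP p G) (fun G _ _ N _ hG => regPP_subgroup hp hG N)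
    (fun G _ _ N _ hG => regPP_quotient hp hG N) ?_ G h
  intro G _ _ _ hG
  by_cases hex : ∃ x : G, x ≠ 1 ∧ (orderOf x).Coprime p
  · obtain ⟨x, hx, hcop⟩ := hex
    obtain ⟨k, hk⟩ := hG x hcop
    exact isSolvable_of_simple_class hp hx hk
  · push Not at hex
    refine isSolvable_of_isPGroup hp fun x => ?_
    obtain ⟨u, v, -, -, rfl, -, ⟨a, ha⟩, hv⟩ := exists_split hp x
    have hv1 : v = 1 := by
      by_contra hne
      exact hex v hne hv
    exact ⟨a, by rw [hv1, mul_one, ← ha, pow_orderOf_eq_one]⟩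

theorem isSolvable_of_hasAbComp {p : ℕ} (hp : p.Prime) {G : Type u} [Group G] [Finite G]
    (h : HasAbComp p G) : Group.IsSolvable G := by
  refine isSolvable_of_inherited (fun G _ _ => HasAbComp p G)
    (fun G _ _ N _ hG => hasAbComp_subgroup hp hG N)
    (fun G _ _ N _ hG => hasAbComp_quotient hp hG N) ?_ G h
  rintro G _ _ _ ⟨H, hab, hcard, k, hk⟩
  by_cases hb : H = ⊥
  · refine isSolvable_of_isPGroup hp (IsPGroup.of_card (n := k) ?_)
    rw [← hk, hb, Subgroup.index_bot]
  · obtain ⟨x, hxH, hx⟩ := (Subgroup.bot_or_exists_ne_one H).resolve_left hb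
    have hle : H ≤ Subgroup.centralizer ({x} : Set G) := fun y hy =>
      Subgroup.mem_centralizer_singleton_iff.2 (congrArg Subtype.val (hab.is_comm.comm ⟨y, hy⟩ ⟨x, hxH⟩))
    obtain ⟨j, hj⟩ := eq_pow_of_dvd_prime_pow hp (hk ▸ Subgroup.index_dvd_of_le hle)
    exact isSolvable_of_simple_class hp hx hj

theorem isMulCommutative_of_regPP {p : ℕ} (hp : p.Prime) {G : Type u} [Group G] [Finite G]
    (h : RegPP p G) (H : Subgroup G) (hcard : ¬ p ∣ Nat.card H) (hidx : ∃ k, H.index = p ^ k) :
    IsMulCommutative H := by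
  induction hn : Nat.card G using Nat.strong_induction_on generalizing G with
  | _ n ih =>
    subst hn
    have := Fact.mk hp
    have hsol := isSolvable_of_regPP hp h
    obtain ⟨k, hk⟩ := hidx
    by_cases hcore : Cfsg.pCore p G = ⊥
    swap
    · set N := Cfsg.pCore p G
      have hNn : N.Normal := HallGen.pCore_normal' p
      obtain ⟨b, hb⟩ := IsPGroup.iff_card.1 (HallGen.isPGroup_pCore (G := G) p)
      let π := QuotientGroup.mk' N
      have hq := ih _ (Core.card_quotient_lt N hcore) (regPP_quotient hp h N) (H.map π)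
        (fun hd => hcard (hd.trans (Subgroup.card_map_dvd _ _)))
        (eq_pow_of_dvd_prime_pow hp (a := k) (hk ▸ Subgroup.index_map_dvd _ (QuotientGroup.mk'_surjective N)))
        rfl
      refine ⟨⟨fun a b' => ?_⟩⟩
      have hinj : ∀ c : H, π (c : G) = 1 → c = 1 := fun c hc => by
        rw [← orderOf_eq_one_iff]
        refine Nat.eq_one_of_dvd_coprimes ((hp.coprime_iff_not_dvd.2 hcard).symm.pow_right b)
          (orderOf_dvd_natCard c) ?_
        rw [← hb, ← Subgroup.orderOf_coe]
        exact Subgroup.orderOf_dvd_natCard _ ((QuotientGroup.eq_one_iff _).1 hc)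
      have h1 := congrArg Subtype.val
        (hq.is_comm.comm ⟨π a, Subgroup.mem_map_of_mem π a.2⟩ ⟨π b', Subgroup.mem_map_of_mem π b'.2⟩)
      refine mul_inv_eq_one.1 (hinj _ ?_)
      simp only [Subgroup.coe_mul, InvMemClass.coe_inv, map_mul, map_inv] at h1 ⊢
      rw [h1, mul_inv_cancel]
    set F := Cfsg.fittingSubgroup G
    have hFn : F.Normal := Components.fitting_normal
    have hFnil : Group.IsNilpotent F := Components.fitting_isNilpotent
    have hFcop : (Nat.card F).Coprime p := by
      refine (hp.coprime_iff_not_dvd.2 fun hd => ?_).symm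
      obtain ⟨y, hy⟩ := exists_prime_orderOf_dvd_card' (G := F) p hd
      have := HallGen.mem_pCore_of_mem_nilpotent_normal (k := 1) hFn hFnil y.2
        (by rw [Subgroup.orderOf_coe, hy, pow_one])
      rw [hcore, Subgroup.mem_bot] at this
      rw [← Subgroup.orderOf_coe, this, orderOf_one] at hy
      exact hp.one_lt.ne hy
    have hHcop : (Nat.card H).Coprime p := (hp.coprime_iff_not_dvd.2 hcard).symm
    have hG : Nat.card G = Nat.card H * p ^ k := by rw [← hk, Subgroup.card_mul_index]
    have hFK : ∀ K : Subgroup G, Nat.card K = Nat.card H → F ≤ K := by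
      intro K hK
      have hKF : K ⊔ F = K := by
        refine (Subgroup.eq_of_le_of_card_ge le_sup_left (Nat.le_of_dvd Nat.card_pos ?_)).symm
        have h1 := Core.card_sup_dvd K F (Core.le_normalizer_of_normal _ _)
        have h2 : (Nat.card (K ⊔ F : Subgroup G)).Coprime (p ^ k) :=
          ((Nat.Coprime.mul_left (hK ▸ hHcop) hFcop).coprime_dvd_left h1).pow_right k
        exact hK ▸ h2.dvd_of_dvd_mul_right (hG ▸ Subgroup.card_subgroup_dvd_card _)
      exact hKF ▸ le_sup_right
    have hFC : ∀ x ∈ H, F ≤ Subgroup.centralizer ({x} : Set G) := by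
      intro x hx y hy
      obtain ⟨j, hj⟩ := h x (hHcop.coprime_dvd_left (Subgroup.orderOf_dvd_natCard H hx))
      set C := Subgroup.centralizer ({x} : Set G)
      have hC : Nat.card C * p ^ j = Nat.card H * p ^ k := by rw [← hj, Subgroup.card_mul_index, hG]
      have hdvd : Nat.card H ∣ Nat.card C :=
        (hHcop.pow_right j).dvd_of_dvd_mul_right (hC ▸ Dvd.intro _ rfl)
      obtain ⟨m, hm⟩ := hdvd
      have hm' : (Nat.card H).Coprime m := by
        refine (hHcop.pow_right k).coprime_dvd_right ?_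
        exact Dvd.intro (p ^ j) (Nat.eq_of_mul_eq_mul_left Nat.card_pos (by rw [← mul_assoc, ← hm, hC]))
      obtain ⟨K, hK⟩ := Core.exists_subgroup_card_eq (G := C) hm hm'
      have hle := hFK (K.map C.subtype) ((Subgroup.card_map_of_injective C.subtype_injective).trans hK)
      obtain ⟨z, -, rfl⟩ := hle hy
      exact z.2
    have hHF : H ≤ F := fun x hx => by
      refine Components.centralizer_fitting_le_of_isSolvable ?_
      rw [Subgroup.mem_centralizer_iff]
      intro y hy
      exact Subgroup.mem_centralizer_singleton_iff.1 (hFC x hx hy)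
    refine ⟨⟨fun a b => Subtype.ext ?_⟩⟩
    exact (Subgroup.mem_centralizer_singleton_iff.1 (hFC (a : G) a.2 (hHF b.2))).symm

theorem regPP_iff_hasAbComp {p : ℕ} (hp : p.Prime) {G : Type u} [Group G] [Finite G] :
    RegPP p G ↔ HasAbComp p G := by
  have := Fact.mk hp
  constructor
  · intro h
    have hsol := isSolvable_of_regPP hp h
    obtain ⟨a, m, hm, ham⟩ := Nat.exists_eq_pow_mul_and_not_dvd (Nat.card_pos (α := G)).ne' p hp.ne_one
    rw [mul_comm] at ham
    have hcop : m.Coprime (p ^ a) := ((hp.coprime_iff_not_dvd.2 hm).symm).pow_right a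
    obtain ⟨H, hH⟩ := Core.exists_subgroup_card_eq ham hcop
    have hidx : H.index = p ^ a := by
      refine Nat.eq_of_mul_eq_mul_left (Nat.card_pos (α := H)) ?_
      rw [Subgroup.card_mul_index, hH, ham]
    exact ⟨H, isMulCommutative_of_regPP hp h H (hH ▸ hm) ⟨a, hidx⟩, hH ▸ hm, a, hidx⟩
  · intro h x hx
    have hsol := isSolvable_of_hasAbComp hp h
    obtain ⟨H, hab, hcard, k, hk⟩ := h
    have hG : Nat.card G = Nat.card H * p ^ k := by rw [← hk, Subgroup.card_mul_index]
    obtain ⟨g, hg⟩ := Core.exists_conj_le_of_coprime hG ((hp.coprime_iff_not_dvd.2 hcard).symm.pow_right k)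
      (H := H) (K := Subgroup.zpowers x) rfl (by rw [Nat.card_zpowers]; exact hx.pow_right k)
    have hgx : g * x * g⁻¹ ∈ H := hg (Core.mem_conj_smul_iff.2 (by
      simpa [mul_assoc] using Subgroup.mem_zpowers x))
    have hle : H ≤ Subgroup.centralizer ({g * x * g⁻¹} : Set G) := fun y hy =>
      Subgroup.mem_centralizer_singleton_iff.2 (congrArg Subtype.val (hab.is_comm.comm ⟨y, hy⟩ ⟨_, hgx⟩))
    have hconj : IsConj x (g * x * g⁻¹) := isConj_iff.2 ⟨g, rfl⟩
    rw [← ncard_carrier_eq_index, ConjClasses.mk_eq_mk_iff_isConj.2 hconj, ncard_carrier_eq_index]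
    exact eq_pow_of_dvd_prime_pow hp (hk ▸ Subgroup.index_dvd_of_le hle)

end CfsgLib.Orders
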