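import Mathlib
import Cfsg.Agent.Lib.Core.Basic
import Cfsg.Agent.Lib.Core.SchurZassenhaus

/-!
# Elementary facts on element orders and Sylow subgroups
-/

set_option autoImplicit false

namespace CfsgLib.Orders

universe u v

open scoped Pointwise

theorem exists_pp_of_not_isCyclic {G : Type u} [CommGroup G] [Finite G] (h : ¬ IsCyclic G) :
    ∃ p : ℕ, p.Prime ∧ ∃ H : Subgroup G, Nat.card H = p ^ 2 ∧ ∀ x : H, x ^ p = 1 := by
  obtain ⟨x, hx⟩ : ∃ x : G, orderOf x = Monoid.exponent G :=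
    Monoid.exists_orderOf_eq_exponent Monoid.ExponentExists.of_finite
  have hne : Subgroup.zpowers x ≠ ⊤ := fun he =>
    h ⟨x, fun y => Subgroup.mem_zpowers_iff.1 (he ▸ Subgroup.mem_top y)⟩
  let π := QuotientGroup.mk' (Subgroup.zpowers x)
  have : Nontrivial (G ⧸ Subgroup.zpowers x) := QuotientGroup.nontrivial_iff.2 hne
  have hp := Nat.minFac_prime (Finite.one_lt_card (α := G ⧸ Subgroup.zpowers x)).ne'
  have := Fact.mk hp
  obtain ⟨q, hq⟩ := exists_prime_orderOf_dvd_card' (G := G ⧸ Subgroup.zpowers x) _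
    (Nat.minFac_dvd _)
  set p := (Nat.card (G ⧸ Subgroup.zpowers x)).minFac
  obtain ⟨y, rfl⟩ := QuotientGroup.mk'_surjective _ q
  have hpow : y ^ p ∈ Subgroup.zpowers x := by
    rw [← QuotientGroup.eq_one_iff]
    show π (y ^ p) = 1
    rw [map_pow, ← hq, pow_orderOf_eq_one]
  obtain ⟨k, hk⟩ := Subgroup.mem_zpowers_iff.1 hpow
  have hdy : p ∣ orderOf y := hq ▸ orderOf_map_dvd π y
  have hdx : p ∣ orderOf x := hdy.trans (hx ▸ Monoid.order_dvd_exponent y)
  obtain ⟨m, hm⟩ := hdx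
  have hm0 : m ≠ 0 := fun h0 => by
    rw [h0, mul_zero] at hm; exact (orderOf_pos x).ne' hm
  have hdk : (p : ℤ) ∣ k := by
    have h1 : x ^ (k * m) = 1 := by
      rw [zpow_mul, hk, zpow_natCast, ← pow_mul, ← hm, hx]
      exact Monoid.pow_exponent_eq_one y
    have h2 := orderOf_dvd_iff_zpow_eq_one.2 h1
    rw [hm, Nat.cast_mul] at h2
    exact Int.dvd_of_mul_dvd_mul_right (Int.natCast_ne_zero.2 hm0) h2
  obtain ⟨j, rfl⟩ := hdk
  let z := y * (x ^ j)⁻¹
  have hz : z ^ p = 1 := by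
    rw [mul_pow, inv_pow, ← hk, ← zpow_natCast (x ^ j) p, ← zpow_mul, mul_comm j, mul_inv_cancel]
  have hzn : z ∉ Subgroup.zpowers x := fun hmem => by
    have : y ∈ Subgroup.zpowers x := by
      rw [show y = z * x ^ j by simp [z]]
      exact mul_mem hmem (zpow_mem (Subgroup.mem_zpowers x) j)
    have h1 : π y = 1 := (QuotientGroup.eq_one_iff _).2 this
    rw [h1, orderOf_one] at hq
    exact hp.ne_one hq.symm
  have hz' : orderOf z = p := orderOf_eq_prime hz (fun h1 => hzn (h1 ▸ one_mem _))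
  have hw : orderOf (x ^ m) = p := by
    rw [orderOf_pow_of_dvd hm0 ⟨p, by rw [hm, mul_comm]⟩, hm, Nat.mul_div_cancel _ (Nat.pos_of_ne_zero hm0)]
  refine ⟨p, hp, Subgroup.zpowers z ⊔ Subgroup.zpowers (x ^ m), ?_, fun ⟨a, ha⟩ => ?_⟩
  · rw [CfsgLib.Core.card_sup_of_disjoint _ _ (CfsgLib.Core.le_normalizer_of_normal _ _) ?_,
      Nat.card_zpowers, Nat.card_zpowers, hz', hw, sq]
    rw [Subgroup.eq_bot_iff_forall]
    rintro a ⟨ha1, ha2⟩
    by_contra hne'
    have : Subgroup.zpowers a = Subgroup.zpowers z := Subgroup.eq_of_le_of_card_ge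
      (Subgroup.zpowers_le.2 ha1) (by
        rw [Nat.card_zpowers, Nat.card_zpowers, hz']
        refine le_of_eq (orderOf_eq_prime ?_ hne').symm
        obtain ⟨i, rfl⟩ := Subgroup.mem_zpowers_iff.1 ha1
        rw [← zpow_natCast, ← zpow_mul, mul_comm, zpow_mul, zpow_natCast, hz, one_zpow])
    refine hzn (Subgroup.zpowers_le.2 ?_ (this.ge (Subgroup.mem_zpowers z)))
    exact Subgroup.zpowers_le.2 (pow_mem (Subgroup.mem_zpowers x) m) ha2
  · refine Subtype.ext ?_
    obtain ⟨a₁, h₁, a₂, h₂, rfl⟩ := Subgroup.mem_sup.1 ha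
    obtain ⟨i, rfl⟩ := Subgroup.mem_zpowers_iff.1 h₁
    obtain ⟨l, rfl⟩ := Subgroup.mem_zpowers_iff.1 h₂
    show (z ^ i * (x ^ m) ^ l) ^ p = 1
    have hw' : (x ^ m) ^ p = 1 := hw ▸ pow_orderOf_eq_one _
    rw [mul_pow, ← zpow_natCast, ← zpow_natCast, ← zpow_mul, ← zpow_mul, mul_comm i, mul_comm l,
      zpow_mul, zpow_mul, zpow_natCast, zpow_natCast, hz, hw', one_zpow, one_zpow, one_mul]

theorem card_isConj {G : Type u} [Group G] (g : G) :
    Nat.card {h : G // IsConj g h} = (Subgroup.centralizer ({g} : Set G)).index := by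
  have h := MulAction.index_stabilizer (ConjAct G) g
  rw [ConjAct.stabilizer_eq_centralizer] at h
  refine Eq.trans ?_ h.symm
  rw [← Nat.card_coe_set_eq]
  exact Nat.card_congr (Equiv.subtypeEquivRight fun a =>
    (isConj_comm.trans ConjAct.mem_orbit_conjAct.symm))

/-- In a group with a TI Sylow subgroup, two points of a Sylow subgroup joined by `g` force
`g` into the normalizer. -/
theorem mem_normalizer_of_ti {G : Type u} [Group G] [Finite G] {p : ℕ} [Fact p.Prime] (P : Sylow p G)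
    (hTI : ∀ g : G, g ∉ Subgroup.normalizer ((P : Subgroup G) : Set G) →
      (P : Subgroup G) ⊓ (MulAut.conj g • (P : Subgroup G)) = ⊥)
    (R : Sylow p G) {g x : G} (hx : x ∈ (R : Subgroup G)) (hgx : g * x * g⁻¹ ∈ (R : Subgroup G))
    (hne : x ≠ 1) : g ∈ Subgroup.normalizer ((R : Subgroup G) : Set G) := by
  obtain ⟨a, rfl⟩ := MulAction.exists_smul_eq G P R
  rw [Sylow.coe_subgroup_smul] at hx hgx ⊢
  by_contra hg
  have hg' : a⁻¹ * g * a ∉ Subgroup.normalizer ((P : Subgroup G) : Set G) := fun h => hg (by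
    rw [CfsgLib.Core.mem_normalizer_iff_conj_smul_eq] at h ⊢
    rw [CfsgLib.Core.conj_smul_conj_smul]
    conv_rhs => rw [← h]
    rw [CfsgLib.Core.conj_smul_conj_smul]
    group)
  have hmem : a⁻¹ * (g * x * g⁻¹) * a ∈
      (P : Subgroup G) ⊓ (MulAut.conj (a⁻¹ * g * a) • (P : Subgroup G)) := by
    rw [CfsgLib.Core.mem_conj_smul_iff] at hx hgx
    refine ⟨hgx, ?_⟩
    show _ ∈ MulAut.conj (a⁻¹ * g * a) • (P : Subgroup G)
    rw [CfsgLib.Core.mem_conj_smul_iff]
    convert hx using 1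
    group
  rw [hTI _ hg', Subgroup.mem_bot] at hmem
  apply hne
  calc x = g⁻¹ * (a * (a⁻¹ * (g * x * g⁻¹) * a) * a⁻¹) * g := by group
    _ = 1 := by rw [hmem]; group

/-- Every Sylow subgroup of a quotient is the image of one. -/
theorem exists_sylow_map_eq {G : Type u} [Group G] [Finite G] {p : ℕ} [Fact p.Prime]
    (N : Subgroup G) [N.Normal] (Q : Sylow p (G ⧸ N)) :
    ∃ R : Sylow p G, R.mapSurjective (QuotientGroup.mk'_surjective N) = Q :=
  Sylow.mapSurjective_surjective (QuotientGroup.mk'_surjective N) p Q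

theorem exists_conj_mem_sylow {G : Type u} [Group G] [Finite G] {p : ℕ} [Fact p.Prime]
    {N : Subgroup G} [N.Normal] (R : Sylow p G) {t : G} (ht : IsPGroup p (Subgroup.zpowers t))
    (htS : t ∈ (R : Subgroup G) ⊔ N) : ∃ n ∈ N, n * t * n⁻¹ ∈ (R : Subgroup G) := by
  obtain ⟨S, hS⟩ := (ht.comap_of_injective ((R : Subgroup G) ⊔ N).subtype
    (Subgroup.subtype_injective _)).exists_le_sylow
  obtain ⟨c, hc⟩ := MulAction.exists_smul_eq ↥((R : Subgroup G) ⊔ N) S (R.subtype (le_sup_left (b := N)))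
  have h1 : (⟨t, htS⟩ : ↥((R : Subgroup G) ⊔ N)) ∈ (S : Subgroup _) := hS (Subgroup.mem_comap.2 (Subgroup.mem_zpowers t))
  have h2 : c * ⟨t, htS⟩ * c⁻¹ ∈ (R.subtype (le_sup_left (b := N)) : Subgroup _) := by
    rw [← hc, Sylow.coe_subgroup_smul]
    exact Subgroup.smul_mem_pointwise_smul _ (MulAut.conj c) _ h1
  have h3 : (c : G) * t * (c : G)⁻¹ ∈ (R : Subgroup G) := h2
  have hcm := c.2
  rw [← SetLike.mem_coe, Subgroup.mul_normal] at hcm
  obtain ⟨r, hr, n, hn, hrn⟩ := Set.mem_mul.1 hcm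
  refine ⟨n, hn, ?_⟩
  have := mul_mem (mul_mem (inv_mem hr) h3) hr
  rw [← hrn] at this
  simpa [mul_assoc] using this

end CfsgLib.Orders
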