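import Cfsg.Agent.Lib.Core.UniqueOrderP
import Cfsg.Agent.Lib.PGroups.MaxAbelian
import Cfsg.Agent.Lib.Components.Subnormal
import Cfsg.Agent.Lib.Orders.Elementary

/-!
# `p`-groups with restricted isomorphism types of subgroups of a given order

* `pow_eq_one_or_unique`: no mixture of `C_{p²}` and `C_p × C_p`.
* `exists_abelian_cube`, `card_le_cube`: exponent `p`.
* `exists_not_isCyclic_of_quaternion`.
-/

set_option autoImplicit false
set_option linter.all false

namespace CfsgLib.Orders.ConjSub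

open Subgroup CfsgLib.Components

variable {P : Type*} [Group P] {p : ℕ}

theorem zpowers_normal_of_central {z : P} (hz : z ∈ center P) : (zpowers z).Normal := by
  refine ⟨fun n hn g => ?_⟩
  have h1 : n ∈ center P := (zpowers_le.2 hz) hn
  rwa [mem_center_iff.1 h1 g, mul_inv_cancel_right]

theorem pow_eq_one_or_unique [Finite P] [hp : Fact p.Prime] (hP : IsPGroup p P)
    (h : ∀ A B : Subgroup P, IsMulCommutative A → IsMulCommutative B → Nat.card A = p ^ 2 →
      Nat.card B = p ^ 2 → (∀ a ∈ A, a ^ p = 1) → ∀ b ∈ B, b ^ p = 1) :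
    (∀ x : P, x ^ p = 1) ∨ ∀ H K : Subgroup P, Nat.card H = p → Nat.card K = p → H = K := by
  classical
  by_contra hc
  push Not at hc
  obtain ⟨⟨x, hx⟩, H, K, hH, hK, hne⟩ := hc
  -- an element of order `p²`
  obtain ⟨i, hi⟩ := IsPGroup.iff_orderOf.1 hP x
  have hi2 : 2 ≤ i := by
    by_contra h'
    exact hx (orderOf_dvd_iff_pow_eq_one.1 (hi ▸ (pow_dvd_pow p (by omega : i ≤ 1)).trans (pow_one p).dvd))
  set y := x ^ p ^ (i - 2) with hy
  have hyo : orderOf y = p ^ 2 := by
    rw [hy, orderOf_pow_of_dvd (pow_ne_zero _ hp.out.ne_zero) (hi ▸ pow_dvd_pow p (by omega)), hi,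
      Nat.pow_div (by omega) hp.out.pos, show i - (i - 2) = 2 by omega]
  have hB : Nat.card (zpowers y) = p ^ 2 := by rw [Nat.card_zpowers, hyo]
  -- an elementary subgroup of order `p²`
  haveI : Nontrivial P := by
    by_contra h'
    rw [not_nontrivial_iff_subsingleton] at h'
    exact hx (Subsingleton.elim _ _)
  haveI : Nontrivial (center P) := hP.center_nontrivial
  obtain ⟨n, hn⟩ := IsPGroup.iff_card.1 (hP.to_subgroup (center P))
  have hpc : p ∣ Nat.card (center P) := by
    rcases n with _ | n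
    · exact absurd hn (by rw [pow_zero]; exact Finite.one_lt_card.ne')
    · exact hn ▸ dvd_pow_self p (Nat.succ_ne_zero n)
  obtain ⟨⟨z, hzc⟩, hzo⟩ := exists_prime_orderOf_dvd_card' p hpc
  rw [Subgroup.orderOf_mk] at hzo
  obtain ⟨L, hL, hLz⟩ : ∃ L : Subgroup P, Nat.card L = p ∧ L ≠ zpowers z := by
    by_cases h' : H = zpowers z
    · exact ⟨K, hK, fun hK' => hne (h'.trans hK'.symm)⟩
    · exact ⟨H, hH, h'⟩
  haveI := zpowers_normal_of_central hzc
  have hZ : Nat.card (zpowers z) = p := by rw [Nat.card_zpowers, hzo]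
  set A := zpowers z ⊔ L
  have hcomm : ∀ w ∈ zpowers z, ∀ g : P, Commute w g := fun w hw g =>
    (mem_center_iff.1 (zpowers_le.2 hzc hw) g).symm
  haveI : IsCyclic L := isCyclic_of_prime_card hL
  haveI : IsMulCommutative L := ⟨⟨fun a b => IsCyclic.commGroup.mul_comm a b⟩⟩
  have hAab : IsMulCommutative A := by
    refine ⟨⟨fun a b => Subtype.ext ?_⟩⟩
    obtain ⟨a₁, ha₁, a₂, ha₂, ha⟩ := mem_sup_of_normal_left.1 a.2
    obtain ⟨b₁, hb₁, b₂, hb₂, hb⟩ := mem_sup_of_normal_left.1 b.2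
    have h2 : Commute a₂ b₂ := congrArg Subtype.val (mul_comm' (⟨a₂, ha₂⟩ : L) ⟨b₂, hb₂⟩)
    show (a : P) * b = b * a
    rw [← ha, ← hb]
    exact Commute.mul_left (Commute.mul_right (hcomm a₁ ha₁ _) (hcomm a₁ ha₁ _))
      (Commute.mul_right (hcomm b₁ hb₁ _).symm h2)
  have hAcard : Nat.card A = p ^ 2 := by
    obtain ⟨j, hj⟩ := IsPGroup.iff_card.1 (hP.to_subgroup A)
    have h1 : Nat.card A ∣ p ^ 2 := by
      have := card_sup_dvd_mul (A := zpowers z) (B := L) (by rw [normalizer_eq_top]; exact le_top)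
      rwa [hZ, hL, ← sq] at this
    have h2 : p < Nat.card A := by
      have hle : Nat.card (zpowers z) ≤ Nat.card A := card_le_of_le le_sup_left
      refine lt_of_le_of_ne (hZ ▸ hle) fun h' => hLz ?_
      have hzA : zpowers z = A := eq_of_le_of_card_ge le_sup_left (le_of_eq (h'.symm.trans hZ.symm))
      exact eq_of_le_of_card_ge (le_sup_right.trans hzA.ge) (le_of_eq (hZ.trans hL.symm))
    rw [hj] at h1 h2 ⊢
    have h3 : j ≤ 2 := (Nat.pow_dvd_pow_iff_le_right hp.out.one_lt).1 h1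
    have h4 : 1 < j := (Nat.pow_lt_pow_iff_right hp.out.one_lt).1 (by rwa [pow_one])
    congr 1
    omega
  have hAexp : ∀ a ∈ A, a ^ p = 1 := by
    intro a ha
    obtain ⟨a₁, ha₁, a₂, ha₂, rfl⟩ := mem_sup_of_normal_left.1 ha
    rw [(hcomm a₁ ha₁ a₂).mul_pow]
    have e1 : a₁ ^ p = 1 := by
      have := pow_card_eq_one' (x := (⟨a₁, ha₁⟩ : zpowers z)); rw [hZ] at this
      exact congrArg Subtype.val this
    have e2 : a₂ ^ p = 1 := by
      have := pow_card_eq_one' (x := (⟨a₂, ha₂⟩ : L)); rw [hL] at this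
      exact congrArg Subtype.val this
    rw [e1, e2, one_mul]
  have h5 := h A (zpowers y) hAab inferInstance hAcard hB hAexp y (mem_zpowers y)
  have h6 := orderOf_dvd_of_pow_eq_one h5
  rw [hyo] at h6
  have := Nat.le_of_dvd hp.out.pos h6
  nlinarith [hp.out.two_le]

theorem exists_abelian_cube [Finite P] [hp : Fact p.Prime] (hP : IsPGroup p P) (h4 : p ^ 4 ≤ Nat.card P) :
    ∃ B : Subgroup P, IsMulCommutative B ∧ Nat.card B = p ^ 3 := by
  classical
  obtain ⟨A, hAn, hAc, hAC⟩ := CfsgLib.PGroups.exists_selfCentralizing' hP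
  obtain ⟨j, hj⟩ := IsPGroup.iff_card.1 (hP.to_subgroup A)
  rcases le_or_gt 3 j with h3 | h3
  · obtain ⟨K, hK⟩ := Sylow.exists_subgroup_card_pow_prime p (G := A) (hj ▸ pow_dvd_pow p h3)
    refine ⟨K.map A.subtype, ?_, ?_⟩
    · haveI := hAc
      refine ⟨⟨fun a b => Subtype.ext ?_⟩⟩
      obtain ⟨a', -, ha'⟩ := a.2
      obtain ⟨b', -, hb'⟩ := b.2
      show (a : P) * b = b * a
      rw [← ha', ← hb']
      exact congrArg Subtype.val (mul_comm' a' b')
    · rw [card_map_of_injective A.subtype_injective, hK]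
  · exfalso
    have hA2 : Nat.card A ≤ p ^ 2 := hj ▸ Nat.pow_le_pow_right hp.out.pos (by omega)
    have hlt : p ^ 2 < p ^ 4 := Nat.pow_lt_pow_right hp.out.one_lt (by omega)
    have hcA : center P ≤ A := fun z hz => hAC ▸ mem_centralizer_iff.2 fun a _ => mem_center_iff.1 hz a
    by_cases hAZ : A ≤ center P
    · have : A = ⊤ := top_le_iff.1 (fun g _ => hAC ▸ mem_centralizer_iff.2 fun a ha =>
        (mem_center_iff.1 (hAZ ha) g).symm)
      rw [this, card_top] at hA2
      omega
    obtain ⟨a, haA, haZ⟩ := SetLike.not_le_iff_exists.1 hAZ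
    haveI : Nontrivial P := ⟨⟨a, 1, fun h => haZ (h ▸ one_mem _)⟩⟩
    haveI : Nontrivial (center P) := hP.center_nontrivial
    have hA1 : p ≤ Nat.card (center P) := by
      obtain ⟨n, hn⟩ := IsPGroup.iff_card.1 (hP.to_subgroup (center P))
      rcases n with _ | n
      · exact absurd hn (by rw [pow_zero]; exact Finite.one_lt_card.ne')
      · exact hn ▸ Nat.le_of_dvd (pow_pos hp.out.pos _) (dvd_pow_self p (Nat.succ_ne_zero n))
    have hCa : centralizer ({a} : Set P) = A := by
      refine le_antisymm (fun y hy => ?_) fun y hy => ?_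
      · rw [← hAC, mem_centralizer_iff]
        have h1 : center P ⊔ zpowers a ≤ centralizer ({y} : Set P) := by
          refine sup_le (center_le_centralizer _) (zpowers_le.2 ?_)
          rw [mem_centralizer_singleton_iff] at hy ⊢
          exact hy.symm
        have h2 : center P < center P ⊔ zpowers a := lt_of_le_of_ne le_sup_left fun h => haZ (h ▸
          (mem_sup_right (mem_zpowers a) : a ∈ center P ⊔ zpowers a))
        have h2' : Nat.card (center P) < Nat.card ↥(center P ⊔ zpowers a) :=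
          lt_of_le_of_ne (card_le_of_le h2.le) fun h => h2.ne (eq_of_le_of_card_ge h2.le h.ge)
        have h3' : center P ⊔ zpowers a = A := by
          refine eq_of_le_of_card_ge (sup_le hcA (zpowers_le.2 haA)) ?_
          obtain ⟨n, hn⟩ := IsPGroup.iff_card.1 (hP.to_subgroup (center P ⊔ zpowers a))
          have hn1 : p < p ^ n := hn ▸ lt_of_le_of_lt hA1 h2'
          have hn2 : 1 < n := (Nat.pow_lt_pow_iff_right hp.out.one_lt).1 (by rwa [pow_one])
          exact hA2.trans (hn ▸ Nat.pow_le_pow_right hp.out.pos hn2)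
        intro b hb
        exact mem_centralizer_singleton_iff.1 (h1 (h3'.symm ▸ hb))
      · rw [mem_centralizer_singleton_iff]
        exact congrArg Subtype.val (mul_comm' (⟨y, hy⟩ : A) ⟨a, haA⟩)
    have h5 := CfsgLib.Orders.card_isConj a
    rw [hCa] at h5
    have h6 : Nat.card {h : P // IsConj a h} < Nat.card A := by
      haveI := Fintype.ofFinite A
      haveI := Fintype.ofFinite {h : P // IsConj a h}
      rw [Nat.card_eq_fintype_card, Nat.card_eq_fintype_card]
      refine Fintype.card_lt_of_injective_of_notMem (fun h => (⟨h.1, ?_⟩ : A))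
        (fun x y hxy => Subtype.ext (congrArg (fun t : A => (t : P)) hxy)) (b := 1) ?_
      · obtain ⟨g, hg⟩ := isConj_iff.1 h.2
        exact hg ▸ hAn.conj_mem a haA g
      · rintro ⟨⟨h, hh⟩, he⟩
        have h1 : h = 1 := congrArg (fun t : A => (t : P)) he
        obtain ⟨g, hg⟩ := isConj_iff.1 hh
        rw [h1, conj_eq_one_iff] at hg
        exact haZ (hg ▸ one_mem _)
    have h7 := card_mul_index A
    rw [h5] at h6
    nlinarith

theorem card_le_cube [Finite P] [hp : Fact p.Prime] (hP : IsPGroup p P) (hexp : ∀ x : P, x ^ p = 1)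
    (hnab : ¬ IsMulCommutative P)
    (h : ∀ A B : Subgroup P, IsMulCommutative A → Nat.card A = p ^ 3 → Nat.card B = p ^ 3 →
      IsMulCommutative B) :
    Nat.card P = p ^ 3 := by
  classical
  obtain ⟨m, hm⟩ := IsPGroup.iff_card.1 hP
  -- two non-commuting elements with central commutator
  obtain ⟨a, x, hne, hc⟩ : ∃ a x : P, a * x ≠ x * a ∧ a * x * a⁻¹ * x⁻¹ ∈ center P := by
    have hZ : center P ≠ ⊤ := fun h' => hnab ⟨⟨fun u v => mem_center_iff.1 (h' ▸ mem_top v) u⟩⟩
    haveI : Nontrivial (P ⧸ center P) := QuotientGroup.nontrivial_iff.2 hZ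
    haveI := (hP.to_quotient (center P)).center_nontrivial
    obtain ⟨⟨q, hq⟩, hq1⟩ := exists_ne (1 : center (P ⧸ center P))
    obtain ⟨a, rfl⟩ := QuotientGroup.mk_surjective q
    have haZ : a ∉ center P := fun h' => hq1 (Subtype.ext ((QuotientGroup.eq_one_iff a).2 h'))
    obtain ⟨x, hx⟩ : ∃ x, x * a ≠ a * x := by
      by_contra h'
      push Not at h'
      exact haZ (mem_center_iff.2 h')
    refine ⟨a, x, fun h' => hx h'.symm, (QuotientGroup.eq_one_iff _).1 ?_⟩
    have h' := mem_center_iff.1 hq (x : P ⧸ center P)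
    simp only [QuotientGroup.mk_mul, QuotientGroup.mk_inv]
    rw [← h', mul_inv_cancel_right, mul_inv_cancel]
  set c := a * x * a⁻¹ * x⁻¹ with hcdef
  haveI := zpowers_normal_of_central hc
  have hord : ∀ g : P, Nat.card (zpowers g) ∣ p := fun g => by
    rw [Nat.card_zpowers]; exact orderOf_dvd_of_pow_eq_one (hexp g)
  set E := zpowers c ⊔ zpowers x
  have hE : Nat.card E ∣ p ^ 2 := by
    refine (card_sup_dvd_mul (A := zpowers c) (B := zpowers x)
      (by rw [normalizer_eq_top]; exact le_top)).trans ?_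
    exact sq p ▸ mul_dvd_mul (hord c) (hord x)
  have haE : zpowers a ≤ normalizer (E : Set P) := by
    rw [zpowers_le]
    have hEle : E ≤ E.comap (MulAut.conj a).toMonoidHom := by
      refine sup_le (zpowers_le.2 ?_) (zpowers_le.2 ?_)
      · show a * c * a⁻¹ ∈ E
        rw [mem_center_iff.1 hc a, mul_inv_cancel_right]
        exact mem_sup_left (mem_zpowers c)
      · show a * x * a⁻¹ ∈ E
        rw [show a * x * a⁻¹ = c * x by rw [hcdef]; group]
        exact mul_mem (mem_sup_left (mem_zpowers c)) (mem_sup_right (mem_zpowers x))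
    have hmap : E.map (MulAut.conj a).toMonoidHom = E :=
      eq_of_le_of_card_ge (map_le_iff_le_comap.2 hEle)
        (card_map_of_injective (MulAut.conj a).injective).ge
    rw [mem_normalizer_iff]
    intro y
    refine ⟨fun hy => hmap ▸ mem_map_of_mem _ hy, fun hy => ?_⟩
    obtain ⟨w, hw, hwy⟩ := mem_map.1 (hmap.ge hy)
    exact (MulAut.conj a).injective hwy ▸ hw
  have hT : Nat.card ↥(E ⊔ zpowers a) ∣ p ^ 3 :=
    (card_sup_dvd_mul haE).trans (pow_succ p 2 ▸ mul_dvd_mul hE (hord a))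
  have hnotab : ∀ B : Subgroup P, E ⊔ zpowers a ≤ B → ¬ IsMulCommutative B := fun B hB hab => hne
    (congrArg Subtype.val (hab.1.1 (⟨a, hB (mem_sup_right (mem_zpowers a))⟩ : B)
      ⟨x, hB (mem_sup_left (mem_sup_right (mem_zpowers x)))⟩))
  obtain ⟨t, ht⟩ := IsPGroup.iff_card.1 (hP.to_subgroup (E ⊔ zpowers a))
  have ht3 : t ≤ 3 := (Nat.pow_dvd_pow_iff_le_right hp.out.one_lt).1 (ht ▸ hT)
  rcases lt_trichotomy m 3 with hm3 | hm3 | hm3
  · exfalso
    -- a group of order at most `p²` is abelian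
    refine hnab ?_
    rcases (show m = 0 ∨ m = 1 ∨ m = 2 by omega) with rfl | rfl | rfl
    · haveI : Subsingleton P := (Nat.card_eq_one_iff_unique.1 (by simpa using hm)).1
      exact ⟨⟨fun u v => Subsingleton.elim _ _⟩⟩
    · haveI : IsCyclic P := isCyclic_of_prime_card (by simpa using hm)
      exact ⟨⟨fun u v => IsCyclic.commGroup.mul_comm u v⟩⟩
    · exact IsPGroup.isMulCommutative_of_card_eq_prime_sq hm
  · rw [hm, hm3]
  · exfalso
    obtain ⟨A, hA, hAc⟩ := exists_abelian_cube hP (hm ▸ Nat.pow_le_pow_right hp.out.pos hm3)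
    obtain ⟨B, hB, hTB⟩ := Sylow.exists_subgroup_card_pow_prime_le p (hm ▸ pow_dvd_pow p hm3.le)
      (E ⊔ zpowers a) ht ht3
    exact hnotab B hTB (h A B hA hAc hB)

/-- `Q_{2^{k+2}}`, `k ≥ 2`, has a noncyclic and a cyclic subgroup of order 8 -/
theorem exists_not_isCyclic_of_quaternion [Finite P] {k : ℕ} (hk : 2 ≤ k)
    (e : P ≃* QuaternionGroup (2 ^ k)) :
    ∃ A B : Subgroup P, Nat.card A = 8 ∧ Nat.card B = 8 ∧ IsCyclic A ∧ ¬ IsCyclic B := by
  haveI : NeZero (2 ^ k) := ⟨pow_ne_zero _ two_ne_zero⟩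
  haveI : Fact (Nat.Prime 2) := ⟨Nat.prime_two⟩
  have hcard : Nat.card P = 2 ^ (k + 2) := by
    rw [Nat.card_congr e.toEquiv, Nat.card_eq_fintype_card, QuaternionGroup.card]; ring
  have ha : orderOf (e.symm (QuaternionGroup.a 1)) = 2 ^ (k + 1) := by
    rw [MulEquiv.orderOf_eq, QuaternionGroup.orderOf_a_one]; ring
  have hx : orderOf (e.symm (QuaternionGroup.xa 0)) = 4 := by
    rw [MulEquiv.orderOf_eq, QuaternionGroup.orderOf_xa]
  set a := e.symm (QuaternionGroup.a 1)
  set y := a ^ 2 ^ (k - 2)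
  have hy : orderOf y = 8 := by
    rw [orderOf_pow_of_dvd (pow_ne_zero _ two_ne_zero) (ha ▸ pow_dvd_pow 2 (by omega)), ha,
      Nat.pow_div (by omega) two_pos, show k + 1 - (k - 2) = 3 by omega]
    norm_num
  obtain ⟨B, hB, hxB⟩ := Sylow.exists_subgroup_card_pow_prime_le 2 (n := 2) (m := 3)
    (hcard ▸ pow_dvd_pow 2 (by omega : 3 ≤ k + 2)) (zpowers (e.symm (QuaternionGroup.xa 0)))
    (by rw [Nat.card_zpowers, hx]; norm_num) (by norm_num)
  refine ⟨zpowers y, B, by rw [Nat.card_zpowers, hy], by rw [hB]; norm_num, inferInstance, fun hc => ?_⟩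
  obtain ⟨⟨g, hgB⟩, hg⟩ := hc.exists_generator
  have hgo : orderOf g = 8 := by
    rw [← Subgroup.orderOf_mk g hgB, orderOf_eq_card_of_forall_mem_zpowers hg, hB]; norm_num
  obtain ⟨i, hi⟩ := Subgroup.mem_zpowers_iff.1 (hg ⟨_, hxB (mem_zpowers _)⟩)
  have hi' : g ^ i = e.symm (QuaternionGroup.xa 0) := congrArg Subtype.val hi
  have h2 : e g ^ i = QuaternionGroup.xa 0 := by rw [← map_zpow, hi', MulEquiv.apply_symm_apply]
  rcases hgq : e g with j | j
  · rw [hgq] at h2
    have : QuaternionGroup.a j ∈ zpowers (QuaternionGroup.a (1 : ZMod (2 * 2 ^ k))) :=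
      ⟨(j.val : ℤ), by
        show QuaternionGroup.a 1 ^ ((j.val : ℕ) : ℤ) = _
        rw [zpow_natCast, QuaternionGroup.a_one_pow, ZMod.natCast_zmod_val]⟩
    obtain ⟨l, hl⟩ := this
    simp only at hl
    rw [← hl, ← zpow_mul] at h2
    obtain ⟨r, hr⟩ : QuaternionGroup.xa (0 : ZMod (2 * 2 ^ k)) ∈ Submonoid.powers (QuaternionGroup.a 1) :=
      mem_powers_iff_mem_zpowers.2 ⟨l * i, h2⟩
    simp only [QuaternionGroup.a_one_pow] at hr
    cases hr
  · rw [← MulEquiv.orderOf_eq e, hgq, QuaternionGroup.orderOf_xa] at hgo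
    omega

end CfsgLib.Orders.ConjSub
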