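import Cfsg.Agent.Lib.Orders.Elementary
import Cfsg.Agent.Lib.HallGen.Basic
import Cfsg.Agent.Lib.HallGen.Counting

/-!
# When is a Sylow subgroup a direct factor?
-/

set_option autoImplicit false

namespace CfsgLib.Orders

universe u

open scoped Pointwise

variable {G : Type u} [Group G] [Finite G]

/-- `x` is a `p`-element and `y` a prime-power element for another prime. -/
def CrossCommute (p : ℕ) (G : Type u) [Group G] : Prop :=
  ∀ x y : G, (∃ a : ℕ, orderOf x = p ^ a) → (∃ q b : ℕ, q.Prime ∧ q ≠ p ∧ orderOf y = q ^ b) →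
    x * y = y * x

theorem mem_of_pelement {p : ℕ} [Fact p.Prime] (P : Sylow p G) [(P : Subgroup G).Normal] {x : G} {a : ℕ}
    (hx : orderOf x = p ^ a) : x ∈ (P : Subgroup G) := by
  obtain ⟨R, hR⟩ := (HallGen.isPGroup_zpowers hx).exists_le_sylow
  let := Sylow.unique_of_normal P ‹_›
  have : R = P := Subsingleton.elim R P
  exact this ▸ hR (Subgroup.mem_zpowers x)

theorem mem_of_coprime_of_sup {p : ℕ} [Fact p.Prime] (P : Sylow p G) {K : Subgroup G} [K.Normal]
    (hsup : (P : Subgroup G) ⊔ K = ⊤) {y : G} {q b : ℕ} (hq : q.Prime) (hqp : q ≠ p)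
    (hy : orderOf y = q ^ b) : y ∈ K := by
  obtain ⟨k, hk⟩ := P.isPGroup'.map (QuotientGroup.mk' K) |>.exists_card_eq
  have hmap : (P : Subgroup G).map (QuotientGroup.mk' K) = ⊤ := by
    have := congrArg (Subgroup.map (QuotientGroup.mk' K)) hsup
    rwa [Subgroup.map_sup, QuotientGroup.map_mk'_self, sup_bot_eq,
      Subgroup.map_top_of_surjective _ (QuotientGroup.mk'_surjective K)] at this
  rw [hmap, Subgroup.card_top] at hk
  have h1 : orderOf (QuotientGroup.mk' K y) ∣ q ^ b := hy ▸ orderOf_map_dvd _ y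
  have h2 : orderOf (QuotientGroup.mk' K y) ∣ p ^ k := hk ▸ orderOf_dvd_natCard _
  have h3 := Nat.eq_one_of_dvd_coprimes
    (Nat.coprime_pow_primes b k hq Fact.out hqp) h1 h2
  rw [← QuotientGroup.eq_one_iff]
  exact orderOf_eq_one_iff.1 h3

theorem crossCommute_of_directFactor {p : ℕ} [Fact p.Prime] (P : Sylow p G) (K : Subgroup G)
    (hP : (P : Subgroup G).Normal) (hK : K.Normal) (hinf : (P : Subgroup G) ⊓ K = ⊥)
    (hsup : (P : Subgroup G) ⊔ K = ⊤) : CrossCommute p G := by
  rintro x y ⟨a, ha⟩ ⟨q, b, hq, hqp, hy⟩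
  exact Subgroup.commute_of_normal_of_disjoint _ _ hP hK (disjoint_iff.2 hinf) x y
    (mem_of_pelement P ha) (mem_of_coprime_of_sup P hsup hq hqp hy)

theorem directFactor_of_crossCommute {p : ℕ} [Fact p.Prime] (h : CrossCommute p G) :
    ∃ (P : Sylow p G) (K : Subgroup G), (P : Subgroup G).Normal ∧ K.Normal ∧
      (P : Subgroup G) ⊓ K = ⊥ ∧ (P : Subgroup G) ⊔ K = ⊤ := by
  obtain ⟨P⟩ : Nonempty (Sylow p G) := inferInstance
  have hel : ∀ x ∈ (P : Subgroup G), ∃ a, orderOf x = p ^ a := fun x hx => by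
    obtain ⟨a, ha⟩ := IsPGroup.iff_orderOf.1 P.isPGroup' ⟨x, hx⟩
    exact ⟨a, by rwa [Subgroup.orderOf_mk] at ha⟩
  have hP : (P : Subgroup G).Normal := by
    rw [← Subgroup.normalizer_eq_top_iff]
    refine Core.eq_top_of_forall_exists_sylow_le _ fun q hq _ => ?_
    have := Fact.mk hq
    by_cases hqp : q = p
    · subst hqp
      exact ⟨P, Subgroup.le_normalizer⟩
    · obtain ⟨Q⟩ : Nonempty (Sylow q G) := inferInstance
      refine ⟨Q, fun y hy => Subgroup.centralizer_le_normalizer _ (Subgroup.mem_centralizer_iff.2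
        fun x hx => ?_)⟩
      obtain ⟨b, hb⟩ := IsPGroup.iff_orderOf.1 Q.isPGroup' ⟨y, hy⟩
      exact h x y (hel x hx) ⟨q, b, hq, hqp, by rwa [Subgroup.orderOf_mk] at hb⟩
  obtain ⟨K, hK⟩ := Subgroup.exists_right_complement'_of_coprime P.card_coprime_index
  have hdis : (P : Subgroup G) ⊓ K = ⊥ := hK.disjoint.eq_bot
  have hcK : Nat.Coprime p (Nat.card K) := by
    rw [← hK.symm.index_eq_card]
    exact (Fact.out : p.Prime).coprime_iff_not_dvd.2 P.not_dvd_index
  refine ⟨P, K, hP, ?_, hdis, hK.sup_eq_top⟩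
  rw [← Subgroup.normalizer_eq_top_iff, eq_top_iff, ← hK.sup_eq_top, sup_le_iff]
  refine ⟨le_trans ?_ (Subgroup.centralizer_le_normalizer _), Subgroup.le_normalizer⟩
  intro x hx
  rw [Subgroup.mem_centralizer_iff]
  intro y hy
  have hmem : y ∈ Subgroup.centralizer ({x} : Set G) := by
    refine HallGen.mem_of_primePow_parts _ y fun z hz q b hq hz' => ?_
    rw [Subgroup.mem_centralizer_singleton_iff]
    by_cases hb : b = 0
    · rw [hb, pow_zero, orderOf_eq_one_iff] at hz'
      simp [hz']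
    · refine (h x z (hel x hx) ⟨q, b, hq, fun hqp => ?_, hz'⟩).symm
      have h1 : q ∣ Nat.card K :=
        (hz' ▸ dvd_pow_self q hb : q ∣ orderOf z).trans
          (Subgroup.orderOf_dvd_natCard _ (Subgroup.zpowers_le.2 hy hz))
      rw [hqp] at h1
      exact (Fact.out : p.Prime).coprime_iff_not_dvd.1 hcK h1
  exact Subgroup.mem_centralizer_singleton_iff.1 hmem

theorem sylow_directFactor_iff (p : ℕ) [Fact p.Prime] :
    (∃ (P : Sylow p G) (K : Subgroup G), (P : Subgroup G).Normal ∧ K.Normal ∧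
      (P : Subgroup G) ⊓ K = ⊥ ∧ (P : Subgroup G) ⊔ K = ⊤) ↔ CrossCommute p G :=
  ⟨fun ⟨P, K, h1, h2, h3, h4⟩ => crossCommute_of_directFactor P K h1 h2 h3 h4,
    directFactor_of_crossCommute⟩

theorem sylow_directFactor_iff_classSize (p : ℕ) [Fact p.Prime] :
    (∃ (P : Sylow p G) (K : Subgroup G), (P : Subgroup G).Normal ∧ K.Normal ∧
      (P : Subgroup G) ⊓ K = ⊥ ∧ (P : Subgroup G) ⊔ K = ⊤) ↔
    ∀ x y : G, (∃ a : ℕ, orderOf x = p ^ a) → (∃ q b : ℕ, q.Prime ∧ q ≠ p ∧ orderOf y = q ^ b) →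
      (Subgroup.centralizer ({x * y} : Set G)).index =
        (Subgroup.centralizer ({x} : Set G)).index * (Subgroup.centralizer ({y} : Set G)).index := by
  have hp : p.Prime := Fact.out
  constructor
  · rintro ⟨P, K, hP, hK, hinf, hsup⟩ x y hx hy
    have hxy := crossCommute_of_directFactor P K hP hK hinf hsup x y hx hy
    have hc : Subgroup.centralizer ({x * y} : Set G) =
        Subgroup.centralizer ({x} : Set G) ⊓ Subgroup.centralizer ({y} : Set G) := by
      refine le_antisymm (fun c hc => ?_) fun c hc => ?_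
      · obtain ⟨a, ha⟩ := hx
        obtain ⟨q, b, hq, hqp, hb⟩ := hy
        rw [Subgroup.mem_centralizer_singleton_iff] at hc
        have hcom : Commute c (x * y) := hc
        have h1 := hcom.pow_right (q ^ b)
        rw [Commute.mul_pow hxy, ← hb, pow_orderOf_eq_one, mul_one] at h1
        have h2 : Commute c x := by
          obtain ⟨n, hn⟩ := exists_pow_eq_self_of_coprime (x := x) (n := q ^ b)
            (ha ▸ Nat.coprime_pow_primes b a hq hp hqp)
          rw [← hb] at hn
          exact hn ▸ h1.pow_right n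
        have h3 : Commute c y := by
          have := h2.inv_right.mul_right hcom
          rwa [inv_mul_cancel_left] at this
        exact ⟨Subgroup.mem_centralizer_singleton_iff.2 h2, Subgroup.mem_centralizer_singleton_iff.2 h3⟩
      · obtain ⟨h2, h3⟩ := hc
        rw [Subgroup.mem_centralizer_singleton_iff]
        exact (Commute.mul_right (Subgroup.mem_centralizer_singleton_iff.1 h2 : Commute c x)
          (Subgroup.mem_centralizer_singleton_iff.1 h3 : Commute c y))
    rw [hc]
    obtain ⟨a, ha⟩ := hx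
    obtain ⟨q, b, hq, hqp, hb⟩ := hy
    have hKle : K ≤ Subgroup.centralizer ({x} : Set G) := fun z hz =>
      Subgroup.mem_centralizer_singleton_iff.2 (Subgroup.commute_of_normal_of_disjoint _ _ hP hK
        (disjoint_iff.2 hinf) x z (mem_of_pelement P ha) hz).symm
    have hPle : (P : Subgroup G) ≤ Subgroup.centralizer ({y} : Set G) := fun z hz =>
      Subgroup.mem_centralizer_singleton_iff.2 (Subgroup.commute_of_normal_of_disjoint _ _ hP hK
        (disjoint_iff.2 hinf) z y hz (mem_of_coprime_of_sup P hsup hq hqp hb))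
    obtain ⟨n, hn⟩ := P.isPGroup'.exists_card_eq
    have hcomp : Subgroup.IsComplement' (P : Subgroup G) K :=
      Subgroup.isComplement'_of_disjoint_and_mul_eq_univ (disjoint_iff.2 hinf)
        (by rw [← Subgroup.mul_normal, hsup, Subgroup.coe_top])
    have h1 : (Subgroup.centralizer ({x} : Set G)).index ∣ p ^ n :=
      hn ▸ hcomp.index_eq_card ▸ Subgroup.index_dvd_of_le hKle
    have h2 : (Subgroup.centralizer ({y} : Set G)).index ∣ (P : Subgroup G).index :=
      Subgroup.index_dvd_of_le hPle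
    have hco := Nat.Coprime.of_dvd h1 h2 ((hp.coprime_iff_not_dvd.2 P.not_dvd_index).pow_left n)
    exact le_antisymm Subgroup.index_inf_le (Nat.le_of_dvd
      (Nat.pos_of_ne_zero Subgroup.FiniteIndex.index_ne_zero)
      (hco.mul_dvd_of_dvd_of_dvd (Subgroup.index_dvd_of_le inf_le_left)
        (Subgroup.index_dvd_of_le inf_le_right)))
  · intro h
    refine directFactor_of_crossCommute fun x y hx hy => ?_
    let f : {a : G // IsConj x a} × {b : G // IsConj y b} → G := fun t => t.1.1 * t.2.1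
    have hlift : ∀ c : {c : G // IsConj (x * y) c}, ∃ t, f t = c.1 := fun c => by
      obtain ⟨g, hg⟩ := isConj_iff.1 c.2
      exact ⟨(⟨g * x * g⁻¹, isConj_iff.2 ⟨g, rfl⟩⟩, ⟨g * y * g⁻¹, isConj_iff.2 ⟨g, rfl⟩⟩),
        by simp [f, ← hg, mul_assoc]⟩
    choose l hl using hlift
    have hl_inj : Function.Injective l := fun c d hcd => Subtype.ext (by rw [← hl, ← hl, hcd])
    have hl_bij : Function.Bijective l := (Nat.bijective_iff_injective_and_card l).2
      ⟨hl_inj, by rw [Nat.card_prod, card_isConj, card_isConj, card_isConj]; exact h x y hx hy⟩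
    have f_inj : Function.Injective f := fun s t hst => by
      obtain ⟨c, rfl⟩ := hl_bij.2 s
      obtain ⟨d, rfl⟩ := hl_bij.2 t
      rw [hl, hl] at hst
      rw [Subtype.ext hst]
    let w := x * y
    have := @f_inj (⟨w * x * w⁻¹, isConj_iff.2 ⟨w, rfl⟩⟩, ⟨w * y * w⁻¹, isConj_iff.2 ⟨w, rfl⟩⟩)
      (⟨x, IsConj.refl x⟩, ⟨y, IsConj.refl y⟩) (by simp [f, w, mul_assoc])
    have h1 : w * x * w⁻¹ = x := congrArg (fun t => t.1.1) this
    have h2 : w * x = x * w := by
      calc w * x = w * x * w⁻¹ * w := by group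
        _ = x * w := by rw [h1]
    have h3 : x * (y * x) = x * (x * y) := by simpa [w, mul_assoc] using h2
    exact (mul_left_cancel h3).symm

end CfsgLib.Orders
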