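import Cfsg.Agent.Lib.Core.FPF
import Cfsg.Agent.Lib.Char.Burnside
import Cfsg.Agent.Lib.Components.FStar
import Cfsg.Agent.Lib.Orders.Parts
import Cfsg.Agent.Lib.OddLocal.FittingHall
import Mathlib.GroupTheory.FixedPointFree

/-!
# Groups whose element orders are small
-/

set_option autoImplicit false

namespace CfsgLib.Orders

universe u

open scoped Pointwise

variable {G : Type u} [Group G] [Finite G]

theorem inverts_of_fpf_involution (F : Subgroup G) [F.Normal] {t : G} (ht : orderOf t = 2)
    (h : ∀ f ∈ F, Commute t f → f = 1) : ∀ f ∈ F, t * f * t⁻¹ = f⁻¹ := by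
  intro f hf
  have ht2 : t * t = 1 := by rw [← sq, ← ht, pow_orderOf_eq_one]
  let φ : F → F := fun x => ⟨t * x * t⁻¹, (inferInstance : F.Normal).conj_mem _ x.2 t⟩
  let φ' : F →* F :=
    { toFun := φ
      map_one' := Subtype.ext (by simp [φ])
      map_mul' := fun a b => Subtype.ext (by simp [φ, mul_assoc]) }
  have hfix : MonoidHom.FixedPointFree φ' := fun x hx => by
    have h1 : t * (x : G) * t⁻¹ = x := congrArg Subtype.val hx
    exact Subtype.ext (h x x.2 (mul_inv_eq_iff_eq_mul.1 h1))
  have hinv : Function.Involutive φ' := fun x => Subtype.ext (by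
    show t * (t * (x : G) * t⁻¹) * t⁻¹ = x
    calc t * (t * (x : G) * t⁻¹) * t⁻¹ = (t * t) * x * (t * t)⁻¹ := by group
      _ = x := by rw [ht2]; group)
  exact congrArg Subtype.val (congrFun (hfix.coe_eq_inv_of_involutive hinv) ⟨f, hf⟩)

/-- `C_F(t) = 1` for all involutions `t` and `C(F) ≤ F`, `|F|` odd: involutions lie in one coset. -/
theorem involution_coset (F : Subgroup G) [F.Normal] (hC : Subgroup.centralizer (F : Set G) ≤ F)
    (h : ∀ t : G, orderOf t = 2 → ∀ f ∈ F, Commute t f → f = 1) {s t : G} (hs : orderOf s = 2)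
    (ht : orderOf t = 2) : s⁻¹ * t ∈ F := by
  refine hC ?_
  rw [Subgroup.mem_centralizer_iff]
  intro f hf
  have h1 := inverts_of_fpf_involution F ht (h t ht) f hf
  have h2 := inverts_of_fpf_involution F hs (h s hs) _ (inv_mem hf)
  rw [inv_inv] at h2
  have h3 : s⁻¹ * f * s = f⁻¹ := by
    have h4 : s⁻¹ * (s * f⁻¹ * s⁻¹) * s = f⁻¹ := by group
    rwa [h2] at h4
  have h5 : (s⁻¹ * t) * f * (s⁻¹ * t)⁻¹ = f := by
    calc (s⁻¹ * t) * f * (s⁻¹ * t)⁻¹ = s⁻¹ * (t * f * t⁻¹) * s := by group
      _ = (s⁻¹ * f * s)⁻¹ := by rw [h1]; group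
      _ = f := by rw [h3, inv_inv]
  exact (mul_inv_eq_iff_eq_mul.1 h5).symm

theorem orders_one_to_three (h : Set.range (orderOf : G → ℕ) = {k : ℕ | 1 ≤ k ∧ k ≤ 3}) :
    (∃ N : Subgroup G, N.Normal ∧ Cfsg.IsElementaryAbelian 3 N ∧ N.index = 2) ∨
      (∃ N : Subgroup G, N.Normal ∧ Cfsg.IsElementaryAbelian 2 N ∧ N.index = 3) := by
  have : Fact (Nat.Prime 2) := ⟨Nat.prime_two⟩
  have : Fact (Nat.Prime 3) := ⟨Nat.prime_three⟩
  have hle : ∀ g : G, 1 ≤ orderOf g ∧ orderOf g ≤ 3 := fun g => by
    have : orderOf g ∈ Set.range (orderOf : G → ℕ) := ⟨g, rfl⟩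
    rwa [h] at this
  obtain ⟨t₀, ht₀⟩ : ∃ t : G, orderOf t = 2 := by
    have : (2 : ℕ) ∈ Set.range (orderOf : G → ℕ) := by rw [h]; exact ⟨by norm_num, by norm_num⟩
    exact this
  obtain ⟨y₀, hy₀⟩ : ∃ t : G, orderOf t = 3 := by
    have : (3 : ℕ) ∈ Set.range (orderOf : G → ℕ) := by rw [h]; exact ⟨by norm_num, by norm_num⟩
    exact this
  -- no commuting elements of orders 2 and 3
  have hno : ∀ a b : G, orderOf a = 2 → orderOf b = 3 → ¬ Commute a b := fun a b ha hb hc => by
    have h6 := hc.orderOf_mul_eq_mul_orderOf_of_coprime (by rw [ha, hb]; decide)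
    have := (hle (a * b)).2
    rw [h6, ha, hb] at this
    omega
  have hprimes : ∀ r : ℕ, r.Prime → r ∣ Nat.card G → r = 2 ∨ r = 3 := fun r hr hd => by
    have := Fact.mk hr
    obtain ⟨x, hx⟩ := exists_prime_orderOf_dvd_card' r hd
    have := hx ▸ (hle x).2
    have := hr.two_le
    omega
  have hsol : Group.IsSolvable G := by
    refine Burnside.isSolvable_of_card_eq Nat.prime_two Nat.prime_three
      (a := (Nat.card G).factorization 2) (b := (Nat.card G).factorization 3) ?_
    refine Nat.eq_of_factorization_eq Nat.card_pos.ne' (by positivity) fun r => ?_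
    rw [Nat.factorization_mul (by positivity) (by positivity), Nat.Prime.factorization_pow Nat.prime_two,
      Nat.Prime.factorization_pow Nat.prime_three, Finsupp.add_apply]
    by_cases hr : r.Prime ∧ r ∣ Nat.card G
    · rcases hprimes r hr.1 hr.2 with rfl | rfl <;> simp
    · have h0 : (Nat.card G).factorization r = 0 := by
        rw [not_and_or] at hr
        rcases hr with hr | hr
        · exact Nat.factorization_eq_zero_of_not_prime _ hr
        · exact Nat.factorization_eq_zero_of_not_dvd hr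
      have h2 : 2 ∣ Nat.card G := ht₀ ▸ orderOf_dvd_natCard t₀
      have h3 : 3 ∣ Nat.card G := hy₀ ▸ orderOf_dvd_natCard y₀
      have hr2 : r ≠ 2 := fun he => hr ⟨he ▸ Nat.prime_two, he ▸ h2⟩
      have hr3 : r ≠ 3 := fun he => hr ⟨he ▸ Nat.prime_three, he ▸ h3⟩
      rw [h0, Finsupp.single_eq_of_ne hr2, Finsupp.single_eq_of_ne hr3, add_zero]
  set F := Cfsg.fittingSubgroup G
  have hFn : F.Normal := Components.fitting_normal
  have hFnil : Group.IsNilpotent F := Components.fitting_isNilpotent
  have hC : Subgroup.centralizer (F : Set G) ≤ F := Components.centralizer_fitting_le_of_isSolvable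
  have hFne : F ≠ ⊥ := fun hb => by
    have h1 : (⊤ : Subgroup G) ≤ F := by
      refine le_trans ?_ hC
      intro x _
      rw [Subgroup.mem_centralizer_iff]
      intro y hy
      rw [SetLike.mem_coe, hb, Subgroup.mem_bot] at hy
      rw [hy, one_mul, mul_one]
    rw [hb] at h1
    rw [Subgroup.mem_bot.1 (h1 (Subgroup.mem_top t₀)), orderOf_one] at ht₀
    omega
  have hcomm : ∀ a ∈ F, ∀ b ∈ F, (orderOf a).Coprime (orderOf b) → Commute a b := fun a ha b hb hco =>
    congrArg Subtype.val (OddLocal.commute_of_coprime_orderOf hFnil (x := (⟨a, ha⟩ : F)) (y := ⟨b, hb⟩)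
      (by rwa [Subgroup.orderOf_mk, Subgroup.orderOf_mk])).eq
  -- the primes of `F`
  by_cases h3F : ∃ f ∈ F, orderOf f = 3
  · -- `F` has exponent `3`
    obtain ⟨f₀, hf₀, hf₀3⟩ := h3F
    have hF3 : ∀ f ∈ F, f ^ 3 = 1 := fun f hf => by
      have := hle f
      rcases (show orderOf f = 1 ∨ orderOf f = 2 ∨ orderOf f = 3 by omega) with h1 | h1 | h1
      · rw [orderOf_eq_one_iff.1 h1, one_pow]
      · exact absurd (hcomm f hf f₀ hf₀ (by rw [h1, hf₀3]; decide)) (hno f f₀ h1 hf₀3)
      · rw [← h1, pow_orderOf_eq_one]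
    have hfpf : ∀ t : G, orderOf t = 2 → ∀ f ∈ F, Commute t f → f = 1 := fun t ht f hf hc => by
      by_contra hf1
      exact hno t f ht (orderOf_eq_prime (hF3 f hf) hf1) hc
    have hinv := inverts_of_fpf_involution F ht₀ (hfpf t₀ ht₀)
    refine Or.inl ⟨F, hFn, ⟨⟨⟨fun a b => Subtype.ext ?_⟩⟩, hF3⟩, ?_⟩
    · have ha := hinv a a.2
      have hb := hinv b b.2
      have hab := hinv _ (mul_mem a.2 b.2)
      have h1 : t₀ * ((a : G) * b) * t₀⁻¹ = (t₀ * a * t₀⁻¹) * (t₀ * b * t₀⁻¹) := by group
      rw [ha, hb, hab, mul_inv_rev] at h1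
      show (a : G) * b = (b : G) * a
      have h2 := congrArg (·⁻¹) h1
      simp only [mul_inv_rev, inv_inv] at h2
      exact h2
    -- every element is in `F` or in `t₀F`
    have hall : ∀ g : G, g ∉ F → t₀⁻¹ * g ∈ F := by
      intro g hg
      have := hle g
      rcases (show orderOf g = 1 ∨ orderOf g = 2 ∨ orderOf g = 3 by omega) with h1 | h1 | h1
      · exact absurd ((orderOf_eq_one_iff.1 h1).symm ▸ one_mem F) hg
      · exact involution_coset F hC hfpf ht₀ h1
      · exfalso
        -- `g` normalises the coset `t₀F`; move it into the centraliser of `t₀`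
        have h2 : t₀⁻¹ * (g * t₀ * g⁻¹) ∈ F := involution_coset F hC hfpf ht₀ (by
          rw [show orderOf (g * t₀ * g⁻¹) = orderOf t₀ from
            orderOf_injective (MulAut.conj g).toMonoidHom (MulAut.conj g).injective t₀, ht₀])
        set f := t₀⁻¹ * (g * t₀ * g⁻¹) with hf
        -- a square root of `f`
        set a := f ^ 2 with ha
        have haF : a ∈ F := pow_mem h2 2
        have ha3 : a * a = f := by
          rw [ha, ← pow_add, show 2 + 2 = 3 + 1 by norm_num, pow_add, hF3 f h2, one_mul, pow_one]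
        have h3 : a * (g * t₀ * g⁻¹) * a⁻¹ = t₀ := by
          have hia := hinv a haF
          have hg' : g * t₀ * g⁻¹ = t₀ * f := by rw [hf, mul_inv_cancel_left]
          have h4 : a * t₀ = t₀ * a⁻¹ := by
            have ht2 : t₀ * t₀ = 1 := by rw [← sq, ← ht₀, pow_orderOf_eq_one]
            calc a * t₀ = (t₀ * t₀) * a * t₀ := by rw [ht2, one_mul]
              _ = t₀ * (t₀ * a * t₀⁻¹) := by rw [inv_eq_of_mul_eq_one_left ht2]; group
              _ = t₀ * a⁻¹ := by rw [hia]
          rw [hg', ← mul_assoc, h4, mul_assoc t₀, mul_assoc t₀, ← ha3]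
          group
        have hn : Commute t₀ (a * g) := by
          show t₀ * (a * g) = a * g * t₀
          conv_lhs => rw [← h3]
          group
        have hag : a * g ∉ F := fun hmem => hg (by simpa using mul_mem (inv_mem haF) hmem)
        have := hle (a * g)
        rcases (show orderOf (a * g) = 1 ∨ orderOf (a * g) = 2 ∨ orderOf (a * g) = 3 by omega) with h5 | h5 | h5
        · exact hag ((orderOf_eq_one_iff.1 h5).symm ▸ one_mem F)
        · -- then `g ∈ t₀ F`, impossible for an element of order three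
          have h6 := involution_coset F hC hfpf ht₀ h5
          have h7 : t₀⁻¹ * g ∈ F := by
            have h8 := mul_mem (hFn.conj_mem _ (inv_mem haF) t₀⁻¹) h6
            convert h8 using 1
            group
          have h8 : orderOf ((QuotientGroup.mk' F) g) ∣ 2 := by
            rw [orderOf_dvd_iff_pow_eq_one, show (QuotientGroup.mk' F) g = (QuotientGroup.mk' F) t₀ from
              (QuotientGroup.eq.2 h7).symm, ← map_pow, ← ht₀, pow_orderOf_eq_one, map_one]
          exact hg ((QuotientGroup.eq_one_iff g).1 (orderOf_eq_one_iff.1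
            (Nat.eq_one_of_dvd_coprimes (by decide : Nat.Coprime 2 3) h8 (h1 ▸ orderOf_map_dvd (QuotientGroup.mk' F) g))))
        · exact hno t₀ (a * g) ht₀ h5 hn
    have ht₀F : t₀ ∉ F := fun hm => by
      have h1 := orderOf_dvd_of_pow_eq_one (hF3 t₀ hm)
      rw [ht₀] at h1
      omega
    rw [Subgroup.index_eq_card, Nat.card_eq_two_iff' (1 : G ⧸ F)]
    refine ⟨(t₀ : G ⧸ F), fun he => ht₀F ((QuotientGroup.eq_one_iff t₀).1 he), fun y => ?_⟩
    induction y using QuotientGroup.induction_on with
    | H z => exact fun hz => (QuotientGroup.eq.2 (hall z fun hm => hz ((QuotientGroup.eq_one_iff z).2 hm))).symm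
  · -- `F` has exponent `2`
    push Not at h3F
    have hF2 : ∀ f ∈ F, f ^ 2 = 1 := fun f hf => by
      have := hle f
      rcases (show orderOf f = 1 ∨ orderOf f = 2 ∨ orderOf f = 3 by omega) with h1 | h1 | h1
      · rw [orderOf_eq_one_iff.1 h1, one_pow]
      · rw [← h1, pow_orderOf_eq_one]
      · exact absurd h1 (h3F f hf)
    have hfpf : ∀ a : G, orderOf a = 3 → ∀ f ∈ F, Commute a f → f = 1 := fun a ha f hf hc => by
      by_contra hf1
      exact hno f a (orderOf_eq_prime (hF2 f hf) hf1) ha hc.symm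
    have hFel : IsMulCommutative F := ⟨⟨fun a b => Subtype.ext (by
      have ha := hF2 _ a.2
      have hb := hF2 _ b.2
      have hab := hF2 _ (mul_mem a.2 b.2)
      rw [sq] at ha hb hab
      show (a : G) * b = b * a
      rw [← inv_eq_of_mul_eq_one_left hab, mul_inv_rev, inv_eq_of_mul_eq_one_left ha,
        inv_eq_of_mul_eq_one_left hb])⟩⟩
    have h2out : ∀ g : G, g ∉ F → orderOf g = 3 := by
      intro g hg
      have := hle g
      rcases (show orderOf g = 1 ∨ orderOf g = 2 ∨ orderOf g = 3 by omega) with h1 | h1 | h1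
      · exact absurd ((orderOf_eq_one_iff.1 h1).symm ▸ one_mem F) hg
      · exfalso
        refine hg (hC ?_)
        rw [Subgroup.mem_centralizer_iff]
        intro f hf
        have hfi : f⁻¹ = f := inv_eq_of_mul_eq_one_left (by rw [← sq]; exact hF2 f hf)
        have hgi : g⁻¹ = g := inv_eq_of_mul_eq_one_left (by rw [← sq, ← h1, pow_orderOf_eq_one])
        have h2 := hle (g * f)
        rcases (show orderOf (g * f) = 1 ∨ orderOf (g * f) = 2 ∨ orderOf (g * f) = 3 by omega) with h3 | h3 | h3
        · have : g = f⁻¹ := eq_inv_of_mul_eq_one_left (orderOf_eq_one_iff.1 h3)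
          rw [this, hfi]
        · have h4 : (g * f) * (g * f) = 1 := by rw [← sq, ← h3, pow_orderOf_eq_one]
          have h5 : (g * f)⁻¹ = g * f := inv_eq_of_mul_eq_one_left h4
          rw [mul_inv_rev, hfi, hgi] at h5
          exact h5
        · exfalso
          have h4 : orderOf ((QuotientGroup.mk' F) g) ∣ 3 := by
            rw [show (QuotientGroup.mk' F) g = (QuotientGroup.mk' F) (g * f) by
              rw [map_mul, show (QuotientGroup.mk' F) f = 1 from (QuotientGroup.eq_one_iff f).2 hf, mul_one]]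
            exact h3 ▸ orderOf_map_dvd (QuotientGroup.mk' F) _
          exact hg ((QuotientGroup.eq_one_iff g).1 (orderOf_eq_one_iff.1
            (Nat.eq_one_of_dvd_coprimes (by decide : Nat.Coprime 2 3) (h1 ▸ orderOf_map_dvd (QuotientGroup.mk' F) g) h4)))
      · exact h1
    refine Or.inr ⟨F, hFn, ⟨hFel, hF2⟩, ?_⟩
    obtain ⟨Q⟩ : Nonempty (Sylow 3 G) := inferInstance
    have hQfpf : ∀ a ∈ (Q : Subgroup G), a ≠ 1 → F ⊓ Subgroup.centralizer {a} = ⊥ := by
      intro a ha ha1
      have h3 : orderOf a = 3 := by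
        refine h2out a fun hm => ha1 (orderOf_eq_one_iff.1 ?_)
        obtain ⟨j, hj⟩ := Q.isPGroup'.exists_card_eq
        exact Nat.eq_one_of_dvd_coprimes ((by decide : Nat.Coprime 2 3).pow_right j)
          (orderOf_dvd_of_pow_eq_one (hF2 a hm)) (hj ▸ Subgroup.orderOf_dvd_natCard _ ha)
      rw [eq_bot_iff]
      rintro f ⟨hf, hfc⟩
      exact Subgroup.mem_bot.2 (hfpf a h3 f hf (Subgroup.mem_centralizer_singleton_iff.1 hfc).symm)
    have hidx : F.index = Nat.card (Q : Subgroup G) := by
      obtain ⟨i, hi⟩ := Q.isPGroup'.exists_card_eq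
      have hd1 : Nat.card (Q : Subgroup G) ∣ F.index := by
        have hcop : (Nat.card (Q : Subgroup G)).Coprime (Nat.card F) := by
          rw [hi]
          refine (Nat.prime_three.coprime_iff_not_dvd.2 fun hd => ?_).pow_left i
          obtain ⟨x, hx⟩ := exists_prime_orderOf_dvd_card' (G := F) 3 hd
          exact h3F x x.2 ((Subgroup.orderOf_coe x).trans hx)
        exact hcop.dvd_of_dvd_mul_left (F.card_mul_index ▸ Subgroup.card_subgroup_dvd_card _)
      have hpg : IsPGroup 3 (G ⧸ F) := fun z => by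
        induction z using QuotientGroup.induction_on with
        | H g =>
          by_cases hg : g ∈ F
          · exact ⟨0, by rw [pow_zero, pow_one, (QuotientGroup.eq_one_iff g).2 hg]⟩
          · exact ⟨1, by rw [pow_one, ← QuotientGroup.mk_pow, ← h2out g hg, pow_orderOf_eq_one, QuotientGroup.mk_one]⟩
      obtain ⟨j, hj⟩ := IsPGroup.iff_card.1 hpg
      rw [← Subgroup.index_eq_card] at hj
      refine Nat.dvd_antisymm ?_ hd1
      rw [hj, hi]
      refine pow_dvd_pow 3 ?_
      have hf : (Nat.card G).factorization 3 = i := by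
        have h1 := Q.card_eq_multiplicity
        rw [hi] at h1
        exact (Nat.pow_right_injective (le_refl 2 |>.trans (by norm_num)) h1).symm
      rw [← hf, ← Nat.prime_three.pow_dvd_iff_le_factorization Nat.card_pos.ne', ← hj]
      exact F.index_dvd_card
    rw [hidx]
    have hQA := Core.le_normalizer_of_normal (Q : Subgroup G) F
    obtain ⟨i, hi⟩ := Q.isPGroup'.exists_card_eq
    have hi1 : 1 ≤ i := by
      by_contra h0
      have h3 : 3 ∣ Nat.card (Q : Subgroup G) := Q.dvd_card_of_dvd_card (hy₀ ▸ orderOf_dvd_natCard y₀)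
      rw [hi, show i = 0 by omega] at h3
      omega
    by_contra hne
    have hi2 : 2 ≤ i := by
      by_contra h0
      exact hne (by rw [hi, show i = 1 by omega, pow_one])
    obtain ⟨E, hE, hEQ⟩ := Sylow.exists_subgroup_card_pow_prime_of_le_card Nat.prime_three Q.isPGroup'
      (n := 2) (hi ▸ Nat.pow_le_pow_right (by norm_num) hi2) |>.elim fun E hE =>
        (⟨E.map (Q : Subgroup G).subtype, by
          rw [Subgroup.card_map_of_injective (Q : Subgroup G).subtype_injective]; exact hE,
          Subgroup.map_subtype_le _⟩ : ∃ E : Subgroup G, Nat.card E = 3 ^ 2 ∧ E ≤ (Q : Subgroup G))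
    have hcyc := Core.FPF.isCyclic_of_card_prime_sq (K := F) hQA hQfpf hFne hEQ Nat.prime_three hE
    obtain ⟨g, hg⟩ := hcyc.exists_generator
    have hgo : orderOf (g : G) = 9 := by
      rw [Subgroup.orderOf_coe, orderOf_eq_card_of_forall_mem_zpowers hg, hE]; norm_num
    have := (hle (g : G)).2
    omega

end CfsgLib.Orders
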