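import Cfsg.Agent.Lib.Recog.SmallOrders.AlmostSimple
import Cfsg.Agent.Lib.Orders.SmallSpectrum
import Cfsg.Agent.Lib.Core.FPF
import Cfsg.Agent.Lib.Classical.PSLThreeFour
import Cfsg.Agent.Lib.CIT.SuzukiRecog.SmallOrder
import Cfsg.Agent.S1163

/-!
Owner: helper15. The primes of a group all of whose elements have prime power order: at most four, and with four
it is `PSL(3, 4)` or a 2-group extended by `Sz(8)` or `Sz(32)`.
-/

set_option autoImplicit false
set_option linter.all false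

namespace CfsgLib.Orders.EPPOPrimes

open Subgroup

universe u

variable {G : Type u} [Group G] [Finite G]

theorem eppo_quotient (hpp : ∀ g : G, g ≠ 1 → IsPrimePow (orderOf g)) (R : Subgroup G) [R.Normal] :
    ∀ z : G ⧸ R, z ≠ 1 → IsPrimePow (orderOf z) := by
  intro z hz
  obtain ⟨g, rfl⟩ := QuotientGroup.mk'_surjective R z
  have hg : g ≠ 1 := fun h => hz (by rw [h, map_one])
  obtain ⟨p, k, hp, hk, he⟩ := hpp g hg
  obtain ⟨j, -, hj⟩ := (Nat.dvd_prime_pow hp.nat_prime).1 (he.symm ▸ orderOf_map_dvd (QuotientGroup.mk' R) g)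
  exact ⟨p, j, hp, Nat.pos_of_ne_zero fun h0 => hz (orderOf_eq_one_iff.1 (by rw [hj, h0, pow_zero])), hj.symm⟩

theorem eppo_subgroup (hpp : ∀ g : G, g ≠ 1 → IsPrimePow (orderOf g)) (M : Subgroup G) :
    ∀ z : M, z ≠ 1 → IsPrimePow (orderOf z) := fun z hz => by
  rw [← Subgroup.orderOf_coe]
  exact hpp _ fun h => hz (Subtype.ext h)

/-- Abelian groups of this kind have prime power order. -/
theorem card_isPrimePow_of_comm {A : Type*} [Group A] [Finite A] (hc : ∀ a b : A, a * b = b * a)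
    (hpp : ∀ a : A, a ≠ 1 → IsPrimePow (orderOf a)) : (Nat.card A).primeFactors.card ≤ 1 := by
  rw [Finset.card_le_one]
  intro p hp q hq
  obtain ⟨hp1, hp2, -⟩ := Nat.mem_primeFactors.1 hp
  obtain ⟨hq1, hq2, -⟩ := Nat.mem_primeFactors.1 hq
  by_contra hne
  haveI := Fact.mk hp1
  haveI := Fact.mk hq1
  obtain ⟨a, ha⟩ := exists_prime_orderOf_dvd_card' p hp2
  obtain ⟨b, hb⟩ := exists_prime_orderOf_dvd_card' q hq2
  exact eppo_commute hpp hp1 hq1 hne (a := a) (i := 1) (fun h => hp1.ne_one (by rw [← ha, h, orderOf_one]))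
    (by rw [pow_one, ← ha, pow_orderOf_eq_one]) hb (hc a b)

/-- The local data at a prime dividing the order of a simple normal subgroup only once. -/
theorem index_data {X : Type u} [Group X] [Finite X] (hpp : ∀ g : X, g ≠ 1 → IsPrimePow (orderOf g))
    (M : Subgroup X) [M.Normal] [IsSimpleGroup M] {p m : ℕ} (hp : p.Prime) (hM : Nat.card M = p * m)
    (hm : ¬ p ∣ m) (hm1 : m ≠ 1) :
    ∃ k d j, k ∣ m ∧ m / k % p = 1 ∧ k ∣ d ∧ d ∣ p - 1 ∧ d.primeFactors.card ≤ 1 ∧ M.index * k = p ^ j * d := by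
  haveI := Fact.mk hp
  obtain ⟨P, a, n, -, hP, hPp, -, hN, han, hda, hn, -⟩ :=
    Recog.SmallOrders.exists_local M p (k := 1) (m := m) (by rw [hM, pow_one]) hm one_ne_zero hm1
  rw [pow_one] at hP han hda
  obtain ⟨k, rfl⟩ := hda
  have hkn : k * n = m := Nat.eq_of_mul_eq_mul_left hp.pos (by rw [← mul_assoc]; exact han)
  have hk0 : 0 < k := Nat.pos_of_ne_zero fun h => hm (by rw [← hkn, h, zero_mul]; exact dvd_zero p)
  haveI : IsCyclic P := isCyclic_of_prime_card hP
  -- the centraliser is a `p`-group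
  obtain ⟨y, hy⟩ := exists_prime_orderOf_dvd_card' (G := P) p (hP ▸ dvd_rfl)
  have hy' : orderOf (y : X) = p ^ 1 := by rw [Subgroup.orderOf_coe, hy, pow_one]
  have hy1 : (y : X) ≠ 1 := fun e => by rw [e, orderOf_one, pow_one] at hy'; exact hp.ne_one hy'.symm
  have hCp : IsPGroup p ↥((centralizer (P : Set X)).subgroupOf (normalizer (P : Set X))) :=
    ((CfsgLib.CIT.eppo_centralizer hpp hy1 hp hy').to_le
      (centralizer_le (Set.singleton_subset_iff.2 y.2))).comap_subtype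
  obtain ⟨c, hc⟩ := hCp.exists_card_eq
  set f := P.normalizerMonoidHom with hf
  have hrange : Nat.card f.range ∣ p - 1 := by
    have h1 := Subgroup.card_subgroup_dvd_card f.range
    rwa [IsCyclic.card_mulAut, hP, Nat.totient_prime hp] at h1
  have hrpp : ∀ z : f.range, z ≠ 1 → IsPrimePow (orderOf z) := by
    rintro ⟨_, g, rfl⟩ hz
    have hg : g ≠ 1 := fun h => hz (Subtype.ext (show f g = 1 by subst h; exact map_one f))
    obtain ⟨r, i, hr, hi, he⟩ := eppo_subgroup hpp _ g hg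
    have hdvd : orderOf (⟨f g, g, rfl⟩ : f.range) ∣ r ^ i := by
      rw [he]
      exact orderOf_map_dvd f.rangeRestrict g
    obtain ⟨l, -, hl⟩ := (Nat.dvd_prime_pow hr.nat_prime).1 hdvd
    exact ⟨r, l, hr, Nat.pos_of_ne_zero fun h0 => hz (orderOf_eq_one_iff.1 (by rw [hl, h0, pow_zero])), hl.symm⟩
  have hcomm : ∀ a b : f.range, a * b = b * a := fun a b => Subtype.ext
    ((IsCyclic.mulAutMulEquiv P).injective (by simp only [Subgroup.coe_mul, map_mul]; exact mul_comm _ _))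
  have hcard := Subgroup.card_mul_index f.ker
  rw [Subgroup.index_ker, Subgroup.normalizerMonoidHom_ker, hc, hN] at hcard
  have hP0 : P.subgroupOf (normalizer (P : Set X)) ≤
      (centralizer (P : Set X)).subgroupOf (normalizer (P : Set X)) := fun x hx =>
    mem_subgroupOf.2 (mem_centralizer_iff.2 fun z hz => congrArg Subtype.val
      (IsCyclic.commGroup (α := P).mul_comm ⟨z, hz⟩ ⟨(x : X), mem_subgroupOf.1 hx⟩))
  obtain ⟨c, rfl⟩ : ∃ c', c = c' + 1 := Nat.exists_eq_succ_of_ne_zero fun h0 => by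
    have h1 := Subgroup.card_le_of_le hP0
    rw [hc, h0, pow_zero, Nat.card_congr (subgroupOfEquivOfLe le_normalizer).toEquiv, hP] at h1
    exact absurd hp.one_lt (by omega)
  have hik : M.index * k = p ^ c * Nat.card f.range := Nat.eq_of_mul_eq_mul_left hp.pos (by
    rw [show p * (p ^ c * Nat.card f.range) = p ^ (c + 1) * Nat.card f.range by ring, hcard]
    ring)
  refine ⟨k, Nat.card f.range, c, Dvd.intro n hkn, ?_, ?_, hrange, card_isPrimePow_of_comm hcomm hrpp, hik⟩
  · rw [← hkn, Nat.mul_div_cancel_left _ hk0]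
    exact hn
  · have hcop : Nat.Coprime k (p ^ c) := Nat.Coprime.pow_right _
      ((hp.coprime_iff_not_dvd.2 fun h => hm (h.trans (Dvd.intro n hkn))).symm)
    exact hcop.dvd_of_dvd_mul_left (Dvd.intro_left _ hik)

/-- Primes of the index. -/
theorem index_primes {X : Type u} [Group X] [Finite X] (hpp : ∀ g : X, g ≠ 1 → IsPrimePow (orderOf g))
    (M : Subgroup X) [M.Normal] [IsSimpleGroup M] {p m : ℕ} (hp : p.Prime) (hM : Nat.card M = p * m)
    (hm : ¬ p ∣ m) (hm1 : m ≠ 1) {q : ℕ} (hq : q.Prime) (hqi : q ∣ M.index) : q = p ∨ q ∣ p - 1 := by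
  obtain ⟨k, d, j, -, -, -, hd, -, he⟩ := index_data hpp M hp hM hm hm1
  rcases (Nat.Prime.dvd_mul hq).1 (he ▸ Dvd.dvd.mul_right hqi k) with h | h
  · exact Or.inl ((Nat.prime_dvd_prime_iff_eq hq hp).1 (hq.dvd_of_dvd_pow h))
  · exact Or.inr (h.trans hd)

/-- A criterion for the simple normal subgroup to be everything. -/
theorem index_eq_one {X : Type u} [Group X] [Finite X] (hpp : ∀ g : X, g ≠ 1 → IsPrimePow (orderOf g))
    (M : Subgroup X) [M.Normal] [IsSimpleGroup M] {p m r l : ℕ} (hp : p.Prime) (hM : Nat.card M = p * m)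
    (hm : ¬ p ∣ m) (hm1 : m ≠ 1)
    (hkd : ∀ k ∈ (p - 1).divisors, ∀ d ∈ (p - 1).divisors,
      k ∣ d → d.primeFactors.card ≤ 1 → k ∣ m → m / k % p = 1 → d = k)
    (hr : r.Prime) (hM' : Nat.card M = r * l) (hl : ¬ r ∣ l) (hl1 : l ≠ 1) (hpr : p ≠ r) (hpr1 : ¬ p ∣ r - 1) :
    M.index = 1 := by
  obtain ⟨k, d, j, hkm, hn, hkd', hd, hdp, he⟩ := index_data hpp M hp hM hm hm1
  have hp1 : p - 1 ≠ 0 := by have := hp.two_le; omega
  obtain rfl : d = k := hkd k (Nat.mem_divisors.2 ⟨hkd'.trans hd, hp1⟩) d (Nat.mem_divisors.2 ⟨hd, hp1⟩)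
    hkd' hdp hkm hn
  have hd0 : 0 < d := Nat.pos_of_dvd_of_pos hd (by omega)
  have hi : M.index = p ^ j := Nat.eq_of_mul_eq_mul_right hd0 he
  by_contra hne
  rcases index_primes hpp M hr hM' hl hl1 hp (by
    rw [hi]; exact dvd_pow_self p fun h0 => hne (by rw [hi, h0, pow_zero])) with h | h
  · exact hpr h
  · exact hpr1 h

/-- A nonabelian simple group of even order has commuting involutions. -/
theorem exists_commuting_involutions {M : Type u} [Group M] [Finite M] [IsSimpleGroup M]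
    (hna : ¬ IsMulCommutative M) (h2 : 2 ∣ Nat.card M) :
    ∃ u v : M, orderOf u = 2 ∧ orderOf v = 2 ∧ u ≠ v ∧ u * v = v * u := by
  haveI : Fact (Nat.Prime 2) := ⟨Nat.prime_two⟩
  obtain ⟨S⟩ : Nonempty (Sylow 2 M) := inferInstance
  haveI : Nontrivial (S : Subgroup M) := (Subgroup.nontrivial_iff_ne_bot _).2 (S.ne_bot_of_dvd_card h2)
  haveI := S.isPGroup'.center_nontrivial
  obtain ⟨j, hj⟩ := (S.isPGroup'.to_subgroup (center (S : Subgroup M))).exists_card_eq
  obtain ⟨u0, hu0⟩ := exists_prime_orderOf_dvd_card' 2 (show 2 ∣ Nat.card (center (S : Subgroup M)) by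
    have h1 : 1 < Nat.card (center (S : Subgroup M)) := Finite.one_lt_card
    rw [hj] at h1 ⊢
    exact dvd_pow_self 2 fun h0 => by rw [h0] at h1; simp at h1)
  set u : M := ((u0 : (S : Subgroup M)) : M) with hu_def
  have hu : orderOf u = 2 := by rw [hu_def, orderOf_coe, orderOf_coe, hu0]
  by_cases hone : ∀ v ∈ (S : Subgroup M), orderOf v = 2 → v = u
  · exfalso
    obtain ⟨N, hN, hNodd, hNc⟩ := Cfsg.Agent.S0215.result S u hu (u0 : (S : Subgroup M)).2
      (fun g hg => hone _ hg (((CfsgLib.Signalizer.orderOf_conj g u)).trans hu))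
    rcases hN.eq_bot_or_eq_top with hNb | hNt
    · have huZ : u ∈ center M := mem_center_iff.2 fun g => by
        have h1 := mem_bot.1 (hNb ▸ hNc g)
        calc g * u = (u * g * u⁻¹ * g⁻¹)⁻¹ * u * g := by group
          _ = u * g := by rw [h1, inv_one, one_mul]
      rw [CfsgLib.CIT.simple_center_eq_bot hna] at huZ
      exact Signalizer.involution_ne_one hu (mem_bot.1 huZ)
    · rw [hNt, card_top] at hNodd
      exact hNodd.not_two_dvd_nat h2
  push Not at hone
  obtain ⟨v, hv, hv2, hvu⟩ := hone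
  exact ⟨u, v, hu, hv2, Ne.symm hvu,
    (congrArg Subtype.val (mem_center_iff.1 u0.2 ⟨v, hv⟩)).symm⟩

/-- A normal `p`-subgroup with a four-group above it is a 2-group. -/
theorem isPGroup_two_of_four (hpp : ∀ g : G, g ≠ 1 → IsPrimePow (orderOf g)) (R : Subgroup G) [R.Normal]
    {p : ℕ} (hp : p.Prime) (hR : IsPGroup p R) {u v : G ⧸ R} (hu : orderOf u = 2) (hv : orderOf v = 2)
    (huv : u ≠ v) (hc : u * v = v * u) : IsPGroup 2 R := by
  by_cases hp2 : p = 2
  · exact hp2 ▸ hR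
  haveI : Fact (Nat.Prime 2) := ⟨Nat.prime_two⟩
  have hpow : ∀ (g : G), g ∈ R → ∀ a : ℕ, orderOf g = 2 ^ a → g = 1 := by
    intro g hg a ha
    obtain ⟨i, hi⟩ := hR ⟨g, hg⟩
    have hi' : g ^ p ^ i = 1 := congrArg Subtype.val hi
    have h1 := Nat.dvd_gcd (dvd_of_eq ha) (orderOf_dvd_of_pow_eq_one hi')
    rw [((Nat.coprime_primes Nat.prime_two hp).2 (Ne.symm hp2)).pow a i] at h1
    exact orderOf_eq_one_iff.1 (Nat.dvd_one.1 h1)
  have lift : ∀ w : G ⧸ R, orderOf w = 2 → ∃ g : G, (g : G ⧸ R) = w ∧ orderOf g = 2 := by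
    intro w hw
    obtain ⟨g, rfl⟩ := QuotientGroup.mk_surjective w
    have hg : g ≠ 1 := fun h => by rw [h, QuotientGroup.mk_one, orderOf_one] at hw; omega
    obtain ⟨r, a, hr, ha, he⟩ := hpp g hg
    have h2 : 2 ∣ orderOf g := hw ▸ orderOf_map_dvd (QuotientGroup.mk' R) g
    obtain rfl : r = 2 := ((Nat.prime_dvd_prime_iff_eq Nat.prime_two hr.nat_prime).1
      (Nat.prime_two.dvd_of_dvd_pow (he ▸ h2))).symm
    refine ⟨g, rfl, orderOf_eq_prime ?_ hg⟩
    have hmem : g ^ 2 ∈ R := (QuotientGroup.eq_one_iff _).1 (by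
      rw [QuotientGroup.mk_pow, ← hw, pow_orderOf_eq_one])
    obtain ⟨b, -, hb⟩ := (Nat.dvd_prime_pow Nat.prime_two).1 (he.symm ▸ orderOf_pow_dvd (x := g) 2)
    exact hpow _ hmem b hb
  obtain ⟨s, rfl, hs⟩ := lift u hu
  obtain ⟨t, rfl, ht⟩ := lift v hv
  suffices hR1 : R = ⊥ by rw [hR1]; exact IsPGroup.of_bot
  rw [Subgroup.eq_bot_iff_forall]
  have hfpf : ∀ w : G, orderOf w = 2 → ∀ f ∈ R, Commute w f → f = 1 := by
    intro w hw f hf hcf
    by_contra hf1
    obtain ⟨i, hi⟩ := hR ⟨f, hf⟩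
    exact eppo_commute hpp hp Nat.prime_two hp2 (a := f) (i := i) hf1 (congrArg Subtype.val hi) hw hcf.symm
  have his := inverts_of_fpf_involution R hs (hfpf s hs)
  have hit := inverts_of_fpf_involution R ht (hfpf t ht)
  -- a power of `s t` of order two centralises `R`
  have hw2 : orderOf ((s * t : G) : G ⧸ R) = 2 := by
    refine orderOf_eq_prime ?_ ?_
    · have h1 : ((s : G ⧸ R) * t) ^ 2 = 1 := by
        rw [(show Commute (s : G ⧸ R) t from hc).mul_pow]
        have e1 : (s : G ⧸ R) ^ 2 = 1 := orderOf_dvd_iff_pow_eq_one.1 (dvd_of_eq hu)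
        have e2 : (t : G ⧸ R) ^ 2 = 1 := orderOf_dvd_iff_pow_eq_one.1 (dvd_of_eq hv)
        rw [e1, e2, one_mul]
      simpa using h1
    · intro h
      rw [QuotientGroup.mk_mul, mul_eq_one_iff_eq_inv] at h
      refine huv (h.trans (inv_eq_of_mul_eq_one_right ?_))
      rw [← pow_two]
      exact orderOf_dvd_iff_pow_eq_one.1 (dvd_of_eq hv)
  have hst : s * t ≠ 1 := fun h => by rw [h, QuotientGroup.mk_one, orderOf_one] at hw2; omega
  obtain ⟨r, a, hr, ha, he⟩ := hpp _ hst
  obtain rfl : r = 2 := ((Nat.prime_dvd_prime_iff_eq Nat.prime_two hr.nat_prime).1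
    (Nat.prime_two.dvd_of_dvd_pow (he ▸ hw2 ▸ orderOf_map_dvd (QuotientGroup.mk' R) (s * t)))).symm
  intro f hf
  by_contra hf1
  have hcf : Commute (s * t) f := by
    have h1 : s * t * f * (s * t)⁻¹ = f := by
      calc s * t * f * (s * t)⁻¹ = s * (t * f * t⁻¹) * s⁻¹ := by group
        _ = f := by rw [hit f hf, his _ (inv_mem hf), inv_inv]
    exact mul_inv_eq_iff_eq_mul.1 h1
  obtain ⟨i, hi⟩ := hR ⟨f, hf⟩
  obtain ⟨b, rfl⟩ : ∃ b, a = b + 1 := Nat.exists_eq_succ_of_ne_zero ha.ne'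
  have h2 : orderOf ((s * t) ^ 2 ^ b) = 2 := by
    rw [orderOf_pow_of_dvd (pow_ne_zero _ two_ne_zero) (he ▸ pow_dvd_pow 2 b.le_succ), ← he,
      Nat.pow_div b.le_succ two_pos, Nat.succ_sub le_rfl, Nat.sub_self, pow_one]
  exact eppo_commute hpp hp Nat.prime_two hp2 hf1 (congrArg Subtype.val hi) h2 (hcf.pow_left _).symm

theorem orderOf_ne_nine {F : Type} [Field F] [Fintype F] (hF : Fintype.card F = 4)
    (g : Matrix.ProjectiveSpecialLinearGroup (Fin 3) F) : orderOf g ≠ 9 := by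
  obtain ⟨x, rfl⟩ := QuotientGroup.mk_surjective g
  obtain ⟨n, hn, c, hc⟩ := Classical.PSLThreeFour.exists_pow_scalar hF x
  intro h
  have h1 : (QuotientGroup.mk x : Matrix.ProjectiveSpecialLinearGroup (Fin 3) F) ^ n = 1 := by
    rw [← QuotientGroup.mk_pow, QuotientGroup.eq_one_iff, Matrix.SpecialLinearGroup.mem_center_iff]
    refine ⟨c, ?_, ?_⟩
    · have hd := congrArg Matrix.det hc
      rw [Matrix.det_pow, x.2, one_pow, Matrix.det_smul, Matrix.det_one, mul_one] at hd
      exact hd.symm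
    · rw [Matrix.SpecialLinearGroup.coe_pow, hc, Matrix.scalar_apply, Matrix.smul_one_eq_diagonal]
  have h2 := orderOf_dvd_of_pow_eq_one h1
  rw [h] at h2
  simp only [List.mem_cons, List.not_mem_nil, or_false] at hn
  rcases hn with rfl | rfl | rfl | rfl <;> norm_num at h2

/-- Over `PSL(3, 4)` the radical is trivial. -/
theorem eq_bot_of_psl_three_four (hpp : ∀ g : G, g ≠ 1 → IsPrimePow (orderOf g)) (R : Subgroup G) [R.Normal]
    (hR : IsPGroup 2 R) {F : Type} [Field F] [Fintype F] (hF : Fintype.card F = 4)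
    (e : G ⧸ R ≃* Matrix.ProjectiveSpecialLinearGroup (Fin 3) F) : R = ⊥ := by
  haveI : Fact (Nat.Prime 3) := ⟨Nat.prime_three⟩
  by_contra hR1
  have hcard : Nat.card G = 20160 * Nat.card R := by
    rw [R.card_eq_card_quotient_mul_card_subgroup, Nat.card_congr e.toEquiv,
      CfsgLib.CIT.SuzukiRecog.card_psl_three_four hF]
  obtain ⟨A, hA⟩ := Sylow.exists_subgroup_card_pow_prime 3 (n := 2)
    (hcard ▸ Dvd.dvd.mul_right (by norm_num) _ : 3 ^ 2 ∣ Nat.card G)
  have hfpf : ∀ a ∈ A, a ≠ 1 → R ⊓ centralizer {a} = ⊥ := by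
    intro a ha ha1
    rw [Subgroup.eq_bot_iff_forall]
    rintro f ⟨hf, hfc⟩
    by_contra hf1
    obtain ⟨i, hi⟩ := hR ⟨f, hf⟩
    have hoa : orderOf a ∣ 3 ^ 2 := hA ▸ A.orderOf_dvd_natCard ha
    obtain ⟨j, -, hj⟩ := (Nat.dvd_prime_pow Nat.prime_three).1 hoa
    obtain ⟨j, rfl⟩ := Nat.exists_eq_succ_of_ne_zero fun h0 : j = 0 =>
      ha1 (orderOf_eq_one_iff.1 (by rw [hj, h0, pow_zero]))
    have h3 : orderOf (a ^ 3 ^ j) = 3 := by
      rw [orderOf_pow_of_dvd (pow_ne_zero _ three_ne_zero) (hj ▸ pow_dvd_pow 3 j.le_succ), hj,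
        Nat.pow_div j.le_succ three_pos, Nat.succ_sub le_rfl, Nat.sub_self, pow_one]
    exact eppo_commute hpp Nat.prime_two Nat.prime_three (by norm_num) hf1 (congrArg Subtype.val hi) h3
      ((show Commute f a from mem_centralizer_singleton_iff.1 hfc).pow_right _)
  have hcyc : IsCyclic A :=
    Core.FPF.isCyclic_of_card_prime_sq le_normalizer_of_normal hfpf hR1 le_rfl Nat.prime_three hA
  obtain ⟨a, ha⟩ := hcyc.exists_ofOrder_eq_natCard
  rw [hA, ← Subgroup.orderOf_coe] at ha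
  refine orderOf_ne_nine hF (e ((a : G) : G ⧸ R)) ?_
  rw [e.orderOf_eq]
  refine Nat.dvd_antisymm (by have h9 := orderOf_map_dvd (QuotientGroup.mk' R) (a : G); rw [ha] at h9; exact h9) ?_
  have h1 : (a : G) ^ orderOf ((a : G) : G ⧸ R) ∈ R := (QuotientGroup.eq_one_iff _).1 (by
    rw [QuotientGroup.mk_pow, pow_orderOf_eq_one])
  obtain ⟨i, hi⟩ := hR ⟨_, h1⟩
  have h2 : orderOf (a : G) ∣ orderOf ((a : G) : G ⧸ R) * 2 ^ i :=
    orderOf_dvd_of_pow_eq_one (by rw [pow_mul]; exact congrArg Subtype.val hi)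
  rw [ha] at h2
  exact (Nat.Coprime.pow_right _ (by norm_num)).dvd_of_dvd_mul_right h2

theorem mem_of_dvd_prod_pow {s : Finset ℕ} (hs : ∀ x ∈ s, x.Prime) {q k : ℕ} (hq : q.Prime)
    (h : q ∣ (∏ x ∈ s, x) ^ k) : q ∈ s := by
  obtain ⟨x, hx, hqx⟩ := ((Nat.prime_iff.1 hq).dvd_finsetProd_iff _).1 (hq.dvd_of_dvd_pow h)
  rwa [(Nat.prime_dvd_prime_iff_eq hq (hs x hx)).1 hqx]

/-- The primes are bounded by those of the socle. -/
theorem primeFactors_card_le (R : Subgroup G) [R.Normal] (hpp : ∀ g : G ⧸ R, g ≠ 1 → IsPrimePow (orderOf g))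
    (hR : IsPGroup 2 R) (M : Subgroup (G ⧸ R)) [M.Normal] [IsSimpleGroup M] {p m : ℕ} (hp : p.Prime)
    (hM : Nat.card M = p * m) (hm : ¬ p ∣ m) (hm1 : m ≠ 1) (s : Finset ℕ) (hs : ∀ x ∈ s, x.Prime) {k : ℕ}
    (hdvd : p * m * (p - 1) * 2 ∣ (∏ x ∈ s, x) ^ k) : (Nat.card G).primeFactors.card ≤ s.card := by
  refine Finset.card_le_card fun q hq => ?_
  obtain ⟨hq1, hq2, -⟩ := Nat.mem_primeFactors.1 hq
  have key : ∀ n, n ∣ p * m * (p - 1) * 2 → q ∣ n → q ∈ s := fun n hn hqn =>
    mem_of_dvd_prod_pow hs hq1 (hqn.trans (hn.trans hdvd))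
  rw [R.card_eq_card_quotient_mul_card_subgroup, ← M.index_mul_card, hM] at hq2
  rcases hq1.dvd_mul.1 hq2 with h | h
  · rcases hq1.dvd_mul.1 h with h | h
    · rcases index_primes hpp M hp hM hm hm1 hq1 h with e | e
      · exact key p (Dvd.dvd.mul_right (Dvd.dvd.mul_right (dvd_mul_right p m) _) _) (dvd_of_eq e)
      · exact key (p - 1) (Dvd.dvd.mul_right (dvd_mul_left _ _) _) e
    · exact key (p * m) (Dvd.dvd.mul_right (dvd_mul_right _ _) _) h
  · obtain ⟨j, hj⟩ := hR.exists_card_eq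
    rw [hj] at h
    exact key 2 (dvd_mul_left _ _) (hq1.dvd_of_dvd_pow h)

/-- The statement. -/
theorem eppo_primes (hpp : ∀ g : G, g ≠ 1 → IsPrimePow (orderOf g)) :
    (Nat.card G).primeFactors.card ≤ 4 ∧
    ((Nat.card G).primeFactors.card = 4 →
      (∃ (F : Type) (_ : Field F) (_ : Fintype F), Fintype.card F = 4 ∧
        Nonempty (G ≃* Matrix.ProjectiveSpecialLinearGroup (Fin 3) F)) ∨
      (∃ (N : Subgroup G) (_ : N.Normal), IsPGroup 2 ↥N ∧
        ∃ (F : Type) (_ : Field F) (_ : Fintype F),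
          (Fintype.card F = 8 ∧ Nonempty (G ⧸ N ≃* ↥(Cfsg.Lie.Sz F 4))) ∨
          (Fintype.card F = 32 ∧ Nonempty (G ⧸ N ≃* ↥(Cfsg.Lie.Sz F 8))))) := by
  by_cases hs : Group.IsSolvable G
  · have hT : Group.IsSolvable (⊤ : Subgroup G) := inferInstance
    have h2 := eppo_solvable_primes hpp (⊤ : Subgroup G) hT
    rw [card_top] at h2
    exact ⟨by omega, fun h4 => by omega⟩
  set R := Components.solRadical G with hRdef
  haveI : R.Characteristic := Components.solRadical_characteristic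
  haveI : R.Normal := inferInstance
  obtain ⟨⟨p0, hp0, hRp⟩, M, hMn, hMs, hMna, -⟩ := eppo_structure hs hpp R Components.solRadical_isSolvable
    (fun N hN hNs => Components.le_solRadical hN hNs)
  haveI := hMn
  haveI := hMs
  have hppQ := eppo_quotient hpp R
  have hppM := eppo_subgroup hppQ M
  obtain ⟨u, v, hu, hv, huv, huvc⟩ := exists_commuting_involutions hMna
    (CfsgLib.CIT.cn_simple hMna (CfsgLib.CIT.eppo_cn hppM)).2
  have hR2 : IsPGroup 2 R := isPGroup_two_of_four hpp R hp0 hRp (u := (u : G ⧸ R)) (v := (v : G ⧸ R))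
    (by rw [orderOf_coe, hu]) (by rw [orderOf_coe, hv]) (fun e => huv (Subtype.ext e)) (congrArg Subtype.val huvc)
  have key : ∀ (p m : ℕ) (s : Finset ℕ) (k : ℕ), p.Prime → Nat.card M = p * m → ¬ p ∣ m → m ≠ 1 →
      (∀ x ∈ s, x.Prime) → p * m * (p - 1) * 2 ∣ (∏ x ∈ s, x) ^ k → (Nat.card G).primeFactors.card ≤ s.card :=
    fun p m s k hp hM hm hm1 hs' hd => primeFactors_card_le R hppQ hR2 M hp hM hm hm1 s hs' hd
  have htop : M.index = 1 → Nonempty (G ⧸ R ≃* M) := fun h =>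
    ⟨Subgroup.topEquiv.symm.trans (MulEquiv.subgroupCongr (Subgroup.index_eq_one.1 h).symm)⟩
  have three : (Nat.card G).primeFactors.card ≤ 3 →
      (Nat.card G).primeFactors.card ≤ 4 ∧
      ((Nat.card G).primeFactors.card = 4 →
        (∃ (F : Type) (_ : Field F) (_ : Fintype F), Fintype.card F = 4 ∧
          Nonempty (G ≃* Matrix.ProjectiveSpecialLinearGroup (Fin 3) F)) ∨
        (∃ (N : Subgroup G) (_ : N.Normal), IsPGroup 2 ↥N ∧
          ∃ (F : Type) (_ : Field F) (_ : Fintype F),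
            (Fintype.card F = 8 ∧ Nonempty (G ⧸ N ≃* ↥(Cfsg.Lie.Sz F 4))) ∨
            (Fintype.card F = 32 ∧ Nonempty (G ⧸ N ≃* ↥(Cfsg.Lie.Sz F 8))))) :=
    fun h => ⟨by omega, fun h4 => by omega⟩
  have p2 := Nat.prime_two
  have p3 := Nat.prime_three
  have p5 : Nat.Prime 5 := by norm_num
  have p7 : Nat.Prime 7 := by norm_num
  have p13 : Nat.Prime 13 := by norm_num
  have p17 : Nat.Prime 17 := by norm_num
  have p31 : Nat.Prime 31 := by norm_num
  have p41 : Nat.Prime 41 := by norm_num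
  rcases CfsgLib.CIT.SuzukiRecog.eppo_simple_list hMna hppM with
    h6 | ⟨F, _, _, hF, ⟨e⟩⟩ | ⟨F, _, _, hF, ⟨e⟩⟩ | ⟨F, _, _, ⟨hF, ⟨e⟩⟩ | ⟨hF, ⟨e⟩⟩⟩
  · obtain ⟨e⟩ := h6
    have hc : Nat.card M = 360 := (Nat.card_congr e.toEquiv).trans (by
      rw [nat_card_alternatingGroup, Nat.card_fin]; rfl)
    exact three (key 5 72 {2, 3, 5} 6 p5 (by omega) (by norm_num) (by norm_num)
      (by intro x hx; simp only [Finset.mem_insert, Finset.mem_singleton] at hx; rcases hx with rfl | rfl | rfl <;> assumption)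
      (by decide +kernel))
  · simp only [Finset.mem_insert, Finset.mem_singleton] at hF
    rcases hF with hF | hF | hF | hF <;>
      have hc := Classical.Dickson.gcd_mul_card_psl (F := F) hF <;>
      rw [← Nat.card_congr e.toEquiv] at hc <;> norm_num at hc
    · exact three (key 5 12 {2, 3, 5} 6 p5 (by omega) (by norm_num) (by norm_num)
        (by intro x hx; simp only [Finset.mem_insert, Finset.mem_singleton] at hx; rcases hx with rfl | rfl | rfl <;> assumption)
        (by decide +kernel))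
    · exact three (key 7 24 {2, 3, 7} 6 p7 (by omega) (by norm_num) (by norm_num)
        (by intro x hx; simp only [Finset.mem_insert, Finset.mem_singleton] at hx; rcases hx with rfl | rfl | rfl <;> assumption)
        (by decide +kernel))
    · exact three (key 7 72 {2, 3, 7} 6 p7 (by omega) (by norm_num) (by norm_num)
        (by intro x hx; simp only [Finset.mem_insert, Finset.mem_singleton] at hx; rcases hx with rfl | rfl | rfl <;> assumption)
        (by decide +kernel))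
    · exact three (key 17 144 {2, 3, 17} 9 p17 (by omega) (by norm_num) (by norm_num)
        (by intro x hx; simp only [Finset.mem_insert, Finset.mem_singleton] at hx; rcases hx with rfl | rfl | rfl <;> assumption)
        (by decide +kernel))
  · have hc : Nat.card M = 20160 :=
      (Nat.card_congr e.toEquiv).trans (CfsgLib.CIT.SuzukiRecog.card_psl_three_four hF)
    refine ⟨key 7 2880 {2, 3, 5, 7} 9 p7 (by omega) (by norm_num) (by norm_num)
      (by intro x hx; simp only [Finset.mem_insert, Finset.mem_singleton] at hx; rcases hx with rfl | rfl | rfl | rfl <;> assumption)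
      (by decide +kernel), fun _ => Or.inl ⟨F, inferInstance, inferInstance, hF, ?_⟩⟩
    obtain ⟨e'⟩ := htop (index_eq_one hppQ M (p := 7) (m := 2880) (r := 5) (l := 4032) p7 (by omega) (by norm_num)
      (by norm_num) (by decide +kernel) p5 (by omega) (by norm_num) (by norm_num) (by norm_num) (by norm_num))
    have hR0 := eq_bot_of_psl_three_four hpp R hR2 hF (e'.trans e)
    exact ⟨((QuotientGroup.quotientBot (G := G)).symm.trans (QuotientGroup.quotientMulEquivOfEq hR0.symm)).trans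
      (e'.trans e)⟩
  · have hc : Nat.card M = 29120 := (Nat.card_congr e.toEquiv).trans
      ((Cfsg.Agent.S1163.result (F := F) (m := 1) le_rfl hF).1.trans (by norm_num))
    refine ⟨key 5 5824 {2, 5, 7, 13} 12 p5 (by omega) (by norm_num) (by norm_num)
      (by intro x hx; simp only [Finset.mem_insert, Finset.mem_singleton] at hx; rcases hx with rfl | rfl | rfl | rfl <;> assumption)
      (by decide +kernel), fun _ => Or.inr ⟨R, inferInstance, hR2, F, inferInstance, inferInstance, Or.inl ⟨hF, ?_⟩⟩⟩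
    obtain ⟨e'⟩ := htop (index_eq_one hppQ M (p := 7) (m := 4160) (r := 13) (l := 2240) p7 (by omega) (by norm_num)
      (by norm_num) (by decide +kernel) p13 (by omega) (by norm_num) (by norm_num) (by norm_num) (by norm_num))
    exact ⟨e'.trans e⟩
  · have hc : Nat.card M = 32537600 := (Nat.card_congr e.toEquiv).trans
      ((Cfsg.Agent.S1163.result (F := F) (m := 2) one_le_two hF).1.trans (by norm_num))
    refine ⟨key 41 793600 {2, 5, 31, 41} 14 p41 (by omega) (by norm_num) (by norm_num)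
      (by intro x hx; simp only [Finset.mem_insert, Finset.mem_singleton] at hx; rcases hx with rfl | rfl | rfl | rfl <;> assumption)
      (by decide +kernel), fun _ => Or.inr ⟨R, inferInstance, hR2, F, inferInstance, inferInstance, Or.inr ⟨hF, ?_⟩⟩⟩
    obtain ⟨e'⟩ := htop (index_eq_one hppQ M (p := 31) (m := 1049600) (r := 41) (l := 793600) p31 (by omega)
      (by norm_num) (by norm_num) (by decide +kernel) p41 (by omega) (by norm_num) (by norm_num) (by norm_num)
      (by norm_num))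
    exact ⟨e'.trans e⟩

end CfsgLib.Orders.EPPOPrimes
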