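import Cfsg.Agent.Lib.Core.Zipper
import Cfsg.Agent.Lib.Components.Radicals

/-!
# Engel elements lie in the Fitting subgroup (Baer)
-/

set_option autoImplicit false

namespace CfsgLib.Orders

universe u

open scoped Pointwise commutatorElement

variable {G : Type u} [Group G]

/-- iterated commutator `[x, g, ..., g]`. -/
def engelIter (g : G) (n : ℕ) (x : G) : G := (fun a : G => ⁅a, g⁆)^[n] x

theorem engelIter_eq_foldl (g : G) (n : ℕ) (x : G) :
    (List.replicate n g).foldl (fun a b => a * b * a⁻¹ * b⁻¹) x = engelIter g n x := by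
  induction n generalizing x with
  | zero => rfl
  | succ n ih =>
    rw [List.replicate_succ, List.foldl_cons, ih, engelIter, engelIter,
      Function.iterate_succ_apply, commutatorElement_def]

theorem engelIter_one (g : G) (n : ℕ) : engelIter g n (1 : G) = 1 := by
  induction n with
  | zero => rfl
  | succ n ih => rw [engelIter, Function.iterate_succ_apply, commutatorElement_one_left]; exact ih

theorem map_engelIter {H : Type u} [Group H] (f : G →* H) (g : G) (n : ℕ) (x : G) :
    f (engelIter g n x) = engelIter (f g) n (f x) := by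
  induction n generalizing x with
  | zero => rfl
  | succ n ih =>
    rw [engelIter, engelIter, Function.iterate_succ_apply, Function.iterate_succ_apply]
    exact (ih _).trans (by rw [map_commutatorElement]; rfl)

/-- A left Engel element of a finite group lies in the Fitting subgroup. -/
theorem mem_fitting_of_engel [Finite G] {g : G} (h : ∀ x : G, ∃ n, engelIter g n x = 1) :
    g ∈ Cfsg.fittingSubgroup G := by
  induction hn : Nat.card G using Nat.strong_induction_on generalizing G with
  | _ m ih =>
    subst hn
    suffices hsn : (Subgroup.zpowers g).IsSubnormal from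
      Components.subnormal_nilpotent_le_fitting hsn
        (by haveI : IsMulCommutative (Subgroup.zpowers g) := inferInstance; open scoped IsMulCommutative in infer_instance) (Subgroup.mem_zpowers g)
    by_contra hsn
    have hM : ∀ M : Subgroup G, ∀ hg : g ∈ M, M ≠ ⊤ →
        ∃ F : Subgroup M, F.Normal ∧ Group.IsNilpotent F ∧ (⟨g, hg⟩ : M) ∈ F := by
      intro M hg hne
      refine ⟨Cfsg.fittingSubgroup M, Components.fitting_normal, Components.fitting_isNilpotent,
        ih _ (Core.card_subgroup_lt M hne) (fun x => ?_) rfl⟩
      obtain ⟨n, hn⟩ := h x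
      exact ⟨n, M.subtype_injective (by rw [map_engelIter, map_one]; exact hn)⟩
    have hsub : ∀ H : Subgroup G, Subgroup.zpowers g ≤ H → H ≠ ⊤ →
        ((Subgroup.zpowers g).subgroupOf H).IsSubnormal := by
      intro H hH hne
      obtain ⟨F, hF, hFn, hgF⟩ := hM H (hH (Subgroup.mem_zpowers g)) hne
      have hle : (Subgroup.zpowers g).subgroupOf H ≤ F := fun y hy => by
        obtain ⟨i, hi⟩ := Subgroup.mem_zpowers_iff.1 (Subgroup.mem_subgroupOf.1 hy)
        have : (⟨g, hH (Subgroup.mem_zpowers g)⟩ : H) ^ i = y := Subtype.ext (by simpa using hi)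
        exact this ▸ zpow_mem hgF i
      exact Subgroup.IsSubnormal.trans hle (Core.isSubnormal_of_isNilpotent _) hF.isSubnormal
    obtain ⟨M, hcoat, huniq⟩ := Core.zipper hsub hsn
    have htop : (⊤ : Subgroup G) ≠ Subgroup.zpowers g := fun he => hsn (he ▸ Subgroup.IsSubnormal.top)
    obtain ⟨X, hX, hgX⟩ := (eq_top_or_exists_le_coatom (Subgroup.zpowers g)).resolve_left htop.symm
    have hgM : Subgroup.zpowers g ≤ M := huniq X hX hgX ▸ hgX
    -- `M` is self-normalizing
    have hMn : ∀ x : G, MulAut.conj x • M = M → x ∈ M := by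
      intro x hx
      by_contra hxM
      have hnorm : Subgroup.normalizer (M : Set G) = ⊤ := by
        refine hcoat.2 _ (lt_of_le_of_ne Subgroup.le_normalizer fun he => hxM ?_)
        rw [he]; exact Core.mem_normalizer_iff_conj_smul_eq.2 hx
      have hMN : M.Normal := Subgroup.normalizer_eq_top_iff.1 hnorm
      exact hsn (Subgroup.IsSubnormal.trans hgM (hsub M hgM hcoat.1) hMN.isSubnormal)
    apply hcoat.1
    rw [eq_top_iff]
    intro x _
    obtain ⟨n, hn⟩ := h x
    induction n generalizing x with
    | zero => exact (show x = 1 from hn) ▸ one_mem M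
    | succ n ihn =>
      rw [engelIter, Function.iterate_succ_apply] at hn
      have h1 := mul_mem (ihn (Subgroup.mem_top ⁅x, g⁆) hn) (hgM (Subgroup.mem_zpowers g))
      refine hMn x ?_
      have h2 : g ∈ MulAut.conj x⁻¹ • M := by
        rw [Core.mem_conj_smul_iff]
        convert h1 using 1
        rw [commutatorElement_def]; group
      have hX' : IsCoatom (MulAut.conj x⁻¹ • M) := by
        rw [Core.conj_smul_eq_map]
        exact (MulAut.conj x⁻¹).mapSubgroup.isCoatom_iff M |>.2 hcoat
      have h3 := huniq _ hX' (Subgroup.zpowers_le.2 h2)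
      conv_lhs => rw [← h3]
      rw [Core.conj_smul_conj_smul, mul_inv_cancel, Core.conj_one_smul]

/-- Elements of the Fitting subgroup are Engel. -/
theorem engel_of_mem_fitting [Finite G] {g : G} (hg : g ∈ Cfsg.fittingSubgroup G) (x : G) :
    ∃ n, engelIter g n x = 1 := by
  set F := Cfsg.fittingSubgroup G
  have hFn : F.Normal := Components.fitting_normal
  have hx : ⁅x, g⁆ ∈ F := by
    rw [commutatorElement_def]
    exact mul_mem (hFn.conj_mem g hg x) (inv_mem hg)
  have : Group.IsNilpotent F := Components.fitting_isNilpotent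
  obtain ⟨c, hc⟩ := Subgroup.nilpotent_iff_lowerCentralSeries.1 this
  have key : ∀ (k : ℕ) (a : F), engelIter (⟨g, hg⟩ : F) k a ∈ (⊤ : Subgroup F).lowerCentralSeries k := by
    intro k
    induction k with
    | zero => intro a; exact Subgroup.mem_top a
    | succ k ih =>
      intro a
      rw [engelIter, Function.iterate_succ_apply', Subgroup.lowerCentralSeries_succ]
      exact Subgroup.commutator_mem_commutator (ih a) (Subgroup.mem_top _)
  refine ⟨c + 1, ?_⟩
  rw [engelIter, Function.iterate_succ_apply]
  have h1 := key c ⟨_, hx⟩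
  rw [hc, Subgroup.mem_bot] at h1
  have h2 := congrArg F.subtype h1
  rw [map_engelIter, map_one] at h2
  exact h2

end CfsgLib.Orders
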