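import Cfsg.Prelude.Def_CaseTheorems
import Cfsg.Agent.Lib.Core.Cores
import Cfsg.Agent.Lib.Core.MinNormal
import Cfsg.Agent.Lib.Core.UniqueOrderP
import Cfsg.Agent.Lib.Components.Subnormal
import Mathlib

/-!
# Solvable groups with all elements real and one class of involutions
-/

set_option autoImplicit false

open scoped commutatorElement

namespace CfsgLib.Orders

universe u v

theorem eq_bot_of_odd_of_real {G : Type u} [Group G] [Finite G] (hamb : ∀ x : G, IsConj x x⁻¹)
    (hodd : Odd (Nat.card G)) : ∀ x : G, x = 1 := by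
  intro x
  obtain ⟨g, hg⟩ := isConj_iff.1 (hamb x)
  obtain ⟨k, hk⟩ := hodd
  have hconj : ∀ j : ℕ, g ^ (2 * j) * x * (g ^ (2 * j))⁻¹ = x := by
    intro j
    induction j with
    | zero => simp
    | succ j ih =>
      calc g ^ (2 * (j + 1)) * x * (g ^ (2 * (j + 1)))⁻¹
          = g * (g * (g ^ (2 * j) * x * (g ^ (2 * j))⁻¹) * g⁻¹) * g⁻¹ := by
            rw [show 2 * (j + 1) = 1 + (1 + 2 * j) by omega, pow_add, pow_add, pow_one]; group
        _ = _ := by
          rw [ih, hg]
          have := congrArg Inv.inv hg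
          rw [inv_inv, mul_inv_rev, mul_inv_rev, inv_inv, ← mul_assoc] at this
          exact this
  have h1 : g ^ (2 * k + 1) = 1 := by rw [← hk]; exact pow_card_eq_one'
  have h2 : g = (g ^ (2 * k))⁻¹ := by
    rw [pow_succ, ← inv_eq_iff_mul_eq_one] at h1; exact h1.symm
  have h3 : x = x⁻¹ := by
    rw [← hg, h2, inv_inv]
    have := hconj k
    calc x = (g ^ (2 * k))⁻¹ * (g ^ (2 * k) * x * (g ^ (2 * k))⁻¹) * g ^ (2 * k) := by group
      _ = _ := by rw [this]
  have h4 : x ^ 2 = 1 := by
    rw [pow_two]; nth_rw 2 [h3]; exact mul_inv_cancel x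
  have h5 : x ^ (2 * k + 1) = 1 := by rw [← hk]; exact pow_card_eq_one'
  rwa [pow_succ, pow_mul, h4, one_pow, one_mul] at h5

theorem real_of_surjective {G : Type u} {H : Type v} [Group G] [Group H] (f : G →* H) (hf : Function.Surjective f)
    (hamb : ∀ x : G, IsConj x x⁻¹) (y : H) : IsConj y y⁻¹ := by
  obtain ⟨x, rfl⟩ := hf y
  rw [← map_inv]; exact f.map_isConj (hamb x)

theorem unique_involution_of_odd_core_bot {G : Type u} [Group G] [Finite G] [Group.IsSolvable G]
    (hamb : ∀ x : G, IsConj x x⁻¹) (hone : ∀ s t : G, orderOf s = 2 → orderOf t = 2 → IsConj s t)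
    (hO : ∀ N : Subgroup G, N.Normal → Odd (Nat.card N) → N = ⊥) (s t : G) (hs : orderOf s = 2)
    (ht : orderOf t = 2) : s = t := by
  classical
  haveI : Nontrivial G := ⟨⟨s, 1, fun h => by rw [h, orderOf_one] at hs; omega⟩⟩
  obtain ⟨N, hNn, hN0, hmin⟩ := CfsgLib.Components.exists_minimal_normal (G := G)
  haveI := hNn
  obtain ⟨p, hp, hpN, hab, hexp⟩ := CfsgLib.Core.isPGroup_of_minimal_normal N inferInstance hN0 hmin
  haveI := Fact.mk hp
  have hp2 : p = 2 := by
    by_contra h
    refine hN0 (hO N hNn ?_)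
    obtain ⟨k, hk⟩ := IsPGroup.iff_card.1 hpN
    rw [hk]; exact (hp.odd_of_ne_two h).pow
  subst hp2
  obtain ⟨n₀, hn₀, hn₀1⟩ : ∃ x ∈ N, x ≠ (1 : G) := by
    by_contra hc; push Not at hc; exact hN0 ((Subgroup.eq_bot_iff_forall _).2 hc)
  have ho₀ : orderOf n₀ = 2 := orderOf_eq_prime (hexp n₀ hn₀) hn₀1
  have hinv : ∀ x : G, orderOf x = 2 → x ∈ N := fun x hx => by
    obtain ⟨c, rfl⟩ := isConj_iff.1 (hone n₀ x ho₀ hx)
    exact hNn.conj_mem n₀ hn₀ c
  set C := Subgroup.centralizer (N : Set G) with hC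
  haveI hCn : C.Normal := inferInstance
  by_cases htop : C = ⊤
  · have hcen : ∀ x ∈ N, x ∈ Subgroup.center G := fun x hx => Subgroup.mem_center_iff.2 fun g => by
      have hg : g ∈ C := htop ▸ Subgroup.mem_top g
      exact (hg x hx).symm
    obtain ⟨c, hc⟩ := isConj_iff.1 (hone s t hs ht)
    rw [Subgroup.mem_center_iff.1 (hcen s (hinv s hs)) c, mul_inv_cancel_right] at hc
    exact hc
  exfalso
  let π := QuotientGroup.mk' C
  haveI : Nontrivial (G ⧸ C) := QuotientGroup.nontrivial_iff.2 htop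
  obtain ⟨M, hMn, hM0, hMmin⟩ := CfsgLib.Components.exists_minimal_normal (G := G ⧸ C)
  haveI := hMn
  obtain ⟨q, hq, hqM, -, -⟩ := CfsgLib.Core.isPGroup_of_minimal_normal M inferInstance hM0 hMmin
  haveI := Fact.mk hq
  set K := M.comap π
  haveI hKn : K.Normal := hMn.comap π
  have hKC : ¬ K ≤ C := by
    intro hle
    refine hM0 ((Subgroup.eq_bot_iff_forall _).2 fun y hy => ?_)
    obtain ⟨x, rfl⟩ := QuotientGroup.mk'_surjective C y
    exact (QuotientGroup.eq_one_iff x).2 (hle hy)
  -- a normal subgroup centralizing a nontrivial element of `N` modulo `C` lies in `C`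
  have hfix : ∀ m ∈ N, m ≠ 1 → ¬ (∀ k ∈ K, k * m = m * k) := by
    intro m hm hm1 hk
    have hmem : m ∈ N ⊓ Subgroup.centralizer (K : Set G) := ⟨hm, fun k hk' => hk k hk'⟩
    have hne : N ⊓ Subgroup.centralizer (K : Set G) ≠ ⊥ := fun h => hm1 (by
      rw [h, Subgroup.mem_bot] at hmem; exact hmem)
    haveI : (Subgroup.centralizer (K : Set G)).Normal := inferInstance
    rcases hmin (N ⊓ Subgroup.centralizer (K : Set G)) inferInstance inf_le_left with h | h
    · exact hne h
    · refine hKC fun k hk' x hx => ?_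
      have hx' := (h.ge hx).2
      exact (hx' k hk').symm
  obtain ⟨R⟩ : Nonempty (Sylow q K) := inferInstance
  set X : Subgroup G := (R : Subgroup K).map K.subtype
  have hKX : ∀ k ∈ K, ∃ x ∈ X, ∃ c ∈ C, k = x * c := by
    let π' : K →* M := (π.comp K.subtype).codRestrict M fun k => k.2
    have hπ' : Function.Surjective π' := fun y => by
      obtain ⟨x, hx⟩ := QuotientGroup.mk'_surjective C (y : G ⧸ C)
      exact ⟨⟨x, show π x ∈ M by rw [hx]; exact y.2⟩, Subtype.ext hx⟩
    have hmap : (R.mapSurjective hπ' : Subgroup M) = ⊤ := by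
      rw [← Sylow.is_maximal' (R.mapSurjective hπ') (hqM.of_surjective (Subgroup.topEquiv (G := M)).symm.toMonoidHom
        (Subgroup.topEquiv (G := M)).symm.surjective) le_top]
    intro k hk
    have h1 : π' ⟨k, hk⟩ ∈ (R : Subgroup K).map π' := by
      rw [← Sylow.coe_mapSurjective hπ' R, hmap]; trivial
    obtain ⟨x, hx, hxk⟩ := h1
    refine ⟨x, ⟨x, hx, rfl⟩, (x : G)⁻¹ * k, ?_, (mul_inv_cancel_left _ _).symm⟩
    rw [← QuotientGroup.eq]
    exact congrArg Subtype.val hxk
  have hq2 : q ≠ 2 := by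
    intro h2
    subst h2
    -- the fixed points of a 2-group on `N`
    have hXp : IsPGroup 2 X := R.isPGroup'.map _
    let act : X →* MulAut N := (MulAut.conjNormal : G →* MulAut N).comp X.subtype
    letI : MulAction X N := MulAction.compHom N act
    have hfixed := hXp.exists_fixed_point_of_prime_dvd_card_of_fixed_point (α := N)
      (by
        obtain ⟨k, hk⟩ := IsPGroup.iff_card.1 hpN
        rw [hk]
        refine dvd_pow_self 2 ?_
        rintro rfl
        rw [pow_zero] at hk
        exact hN0 (Subgroup.eq_bot_of_card_eq N hk))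
      (a := (1 : N)) (fun x => map_one (act x))
    obtain ⟨m, hm, hm1⟩ := hfixed
    refine hfix m m.2 (fun h => hm1 (Subtype.ext h.symm)) fun k hk => ?_
    obtain ⟨x, hx, c, hc, rfl⟩ := hKX k hk
    have h1 : x * (m : G) * x⁻¹ = m := congrArg Subtype.val (hm ⟨x, hx⟩)
    rw [mul_inv_eq_iff_eq_mul] at h1
    rw [mul_assoc, (hc m m.2).symm, ← mul_assoc, h1, mul_assoc]
  have hfrat : Subgroup.normalizer (X : Set G) ⊔ K = ⊤ := Sylow.normalizer_sup_eq_top R
  have hodd : Odd (Nat.card (Subgroup.normalizer (X : Set G))) := by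
    rw [← Nat.not_even_iff_odd, even_iff_two_dvd]
    intro hdvd
    obtain ⟨⟨w, hwX⟩, hw⟩ := exists_prime_orderOf_dvd_card' 2 hdvd
    rw [Subgroup.orderOf_mk] at hw
    have hwN := hinv w hw
    have hXcomm : ∀ x ∈ X, x * w = w * x := by
      intro x hx
      have h1 : ⁅x, w⁆ ∈ N := mul_mem (hNn.conj_mem w hwN x) (inv_mem hwN)
      have h2 : ⁅x, w⁆ ∈ X := by
        rw [commutatorElement_def, mul_assoc, mul_assoc]
        refine mul_mem hx ?_
        rw [← mul_assoc]
        exact (Subgroup.mem_normalizer_iff.1 hwX x⁻¹).1 (inv_mem hx)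
      rw [← commutatorElement_eq_one_iff_mul_comm]
      obtain ⟨k, hk⟩ := IsPGroup.iff_card.1 (R.isPGroup'.map K.subtype : IsPGroup q X)
      have h4 := orderOf_dvd_natCard (⟨_, h2⟩ : X)
      rw [Subgroup.orderOf_mk, hk] at h4
      have h3 : orderOf ⁅x, w⁆ ∣ 2 := orderOf_dvd_of_pow_eq_one (hexp _ h1)
      have h5 := Nat.dvd_gcd h3 h4
      rw [show Nat.gcd 2 (q ^ k) = 1 from Nat.Coprime.pow_right _ ((Nat.coprime_primes Nat.prime_two hq).2 (Ne.symm hq2)),
        Nat.dvd_one, orderOf_eq_one_iff] at h5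
      exact h5
    refine hfix w hwN (fun h => by rw [h, orderOf_one] at hw; omega) fun k hk => ?_
    obtain ⟨x, hx, c, hc, rfl⟩ := hKX k hk
    rw [mul_assoc, (hc w hwN).symm, ← mul_assoc, hXcomm x hx, mul_assoc]
  have hsurj : Function.Surjective (π.comp (Subgroup.normalizer (X : Set G)).subtype) := by
    intro y
    obtain ⟨g, rfl⟩ := QuotientGroup.mk'_surjective C y
    have hg : g ∈ Subgroup.normalizer (X : Set G) ⊔ K := hfrat ▸ Subgroup.mem_top g
    obtain ⟨a, ha, k, hk, rfl⟩ := Subgroup.mem_sup_of_normal_right.1 hg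
    obtain ⟨x, hx, c, hc, rfl⟩ := hKX k hk
    refine ⟨⟨a * x, mul_mem ha (Subgroup.le_normalizer hx)⟩, ?_⟩
    show π (a * x) = π (a * (x * c))
    rw [← mul_assoc, map_mul π (a * x) c, show π c = 1 from (QuotientGroup.eq_one_iff c).2 hc, mul_one]
  have hQodd : Odd (Nat.card (G ⧸ C)) :=
    hodd.of_dvd_nat (Subgroup.card_dvd_of_surjective _ hsurj)
  obtain ⟨y, hy⟩ := exists_ne (1 : G ⧸ C)
  exact hy (eq_bot_of_odd_of_real (real_of_surjective π (QuotientGroup.mk'_surjective C) hamb) hQodd y)

theorem unique_involution_of_sylow {G : Type u} [Group G] [Finite G] [Group.IsSolvable G]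
    (hamb : ∀ x : G, IsConj x x⁻¹) (hone : ∀ s t : G, orderOf s = 2 → orderOf t = 2 → IsConj s t)
    (S : Sylow 2 G) (s t : G) (hs : s ∈ S) (ht : t ∈ S) (hso : orderOf s = 2) (hto : orderOf t = 2) : s = t := by
  classical
  set O := Cfsg.oddCore G
  haveI : O.Normal := inferInstance
  have hOodd : (Nat.card O).Coprime 2 := CfsgLib.Core.coprime_card_pPrimeCore 2 G
  let π := QuotientGroup.mk' O
  have hone' : ∀ a b : G ⧸ O, orderOf a = 2 → orderOf b = 2 → IsConj a b := by
    have hlift : ∀ a : G ⧸ O, orderOf a = 2 → ∃ x, π x = a ∧ orderOf x = 2 := by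
      intro a ha
      obtain ⟨x, rfl⟩ := QuotientGroup.mk'_surjective O a
      obtain ⟨j, hj⟩ := Nat.coprime_two_right.1 hOodd
      refine ⟨x ^ Nat.card O, ?_, ?_⟩
      · rw [map_pow, hj, pow_succ, pow_mul, show (π x) ^ 2 = 1 by rw [← ha]; exact pow_orderOf_eq_one _, one_pow, one_mul]
      · refine orderOf_eq_prime ?_ fun h => ?_
        · rw [← pow_mul, mul_comm, pow_mul]
          have hx2 : x ^ 2 ∈ O := by
            rw [← QuotientGroup.eq_one_iff]
            show π (x ^ 2) = 1
            rw [map_pow, ← ha]; exact pow_orderOf_eq_one _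
          exact orderOf_dvd_iff_pow_eq_one.1 ((Subgroup.orderOf_mk (x ^ 2) hx2) ▸ orderOf_dvd_natCard (⟨x ^ 2, hx2⟩ : O))
        · have h1 := congrArg π h
          rw [map_pow, hj, pow_succ, pow_mul, show (π x) ^ 2 = 1 by rw [← ha]; exact pow_orderOf_eq_one _, one_pow,
            one_mul, map_one] at h1
          rw [h1, orderOf_one] at ha
          omega
    intro a b ha hb
    obtain ⟨x, rfl, hx⟩ := hlift a ha
    obtain ⟨y, rfl, hy⟩ := hlift b hb
    exact π.map_isConj (hone x y hx hy)
  have hO' : ∀ N : Subgroup (G ⧸ O), N.Normal → Odd (Nat.card N) → N = ⊥ := by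
    intro N hN hodd
    haveI := hN
    have h := CfsgLib.Core.le_pPrimeCore (p := 2) (Nat.coprime_two_right.2 hodd)
    rw [CfsgLib.Core.pPrimeCore_quotient_pPrimeCore] at h
    exact le_bot_iff.1 h
  have hinj : ∀ x ∈ S, π x = 1 → x = 1 := by
    intro x hx h
    have hxO : x ∈ O := (QuotientGroup.eq_one_iff x).1 h
    obtain ⟨k, hk⟩ := IsPGroup.iff_card.1 S.isPGroup'
    have h1 := orderOf_dvd_natCard (⟨x, hxO⟩ : O)
    have h2 := orderOf_dvd_natCard (⟨x, hx⟩ : (S : Subgroup G))
    rw [Subgroup.orderOf_mk] at h1 h2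
    rw [hk] at h2
    have h3 := Nat.dvd_gcd h1 h2
    rw [Nat.Coprime.pow_right _ hOodd, Nat.dvd_one, orderOf_eq_one_iff] at h3
    exact h3
  have himg : ∀ x ∈ S, orderOf x = 2 → orderOf (π x) = 2 := fun x hx ho => by
    refine orderOf_eq_prime (by rw [← map_pow, ← ho, pow_orderOf_eq_one, map_one]) fun h => ?_
    rw [hinj x hx h, orderOf_one] at ho
    omega
  have heq := unique_involution_of_odd_core_bot (real_of_surjective π (QuotientGroup.mk'_surjective O) hamb)
    hone' hO' (π s) (π t) (himg s hs hso) (himg t ht hto)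
  refine inv_mul_eq_one.1 (hinj _ (mul_mem (inv_mem hs) ht) ?_)
  rw [map_mul, map_inv, heq, inv_mul_cancel]

theorem sylow_two_structure {G : Type u} [Group G] [Finite G] [Group.IsSolvable G]
    (hamb : ∀ x : G, IsConj x x⁻¹) (heven : 2 ∣ Nat.card G)
    (hone : ∀ s t : G, orderOf s = 2 → orderOf t = 2 → IsConj s t) (S : Sylow 2 G) :
    (Nat.card S = 2 ∨ ∃ n : ℕ, Nonempty ((S : Subgroup G) ≃* QuaternionGroup (2 ^ (n + 1)))) ∧
    (Nat.card S = 2 → (S : Subgroup G).IsComplement' (Cfsg.oddCore G) ∧ Cfsg.oddCore G = commutator G ∧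
        ∀ t : G, t ∈ S → t ≠ 1 → ∀ x : G, x ∈ Cfsg.oddCore G → t * x * t⁻¹ = x⁻¹) := by
  classical
  haveI := Fact.mk Nat.prime_two
  have hmin : (Nat.card G).minFac = 2 := (Nat.minFac_eq_two_iff _).2 heven
  have hcyc2 : IsCyclic S → Nat.card S = 2 := by
    intro hc
    have hcomp := hc.isComplement' hmin
    set τ := MonoidHom.transferSylow S (hc.normalizer_le_centralizer hmin)
    have hreal : ∀ y : (S : Subgroup G), IsConj y y⁻¹ := by
      intro y
      have hsurj : Function.Surjective τ := by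
        rw [← MonoidHom.range_eq_top]
        refine Subgroup.eq_top_of_card_eq _ ?_
        rw [← Subgroup.index_ker, hcomp.symm.index_eq_card]
      exact real_of_surjective τ hsurj hamb y
    have hsq : ∀ y : (S : Subgroup G), y ^ 2 = 1 := by
      intro y
      obtain ⟨c, hc'⟩ := isConj_iff.1 (hreal y)
      haveI := hc
      rw [(IsCyclic.isMulCommutative (α := (S : Subgroup G))).is_comm.comm c y, mul_inv_cancel_right] at hc'
      rw [pow_two]; nth_rw 2 [hc']; exact mul_inv_cancel y
    obtain ⟨g, hg⟩ := hc.exists_generator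
    have h1 : Nat.card S ∣ 2 := by
      rw [← orderOf_eq_card_of_forall_mem_zpowers hg]
      exact orderOf_dvd_of_pow_eq_one (hsq g)
    rcases (Nat.dvd_prime Nat.prime_two).1 h1 with h | h
    · have h' := S.dvd_card_of_dvd_card heven
      rw [h] at h'; norm_num at h'
    · exact h
  refine ⟨?_, fun h2 => ?_⟩
  · rcases CfsgLib.Core.UniqueOrderP.isCyclic_or_quaternion_of_unique S.isPGroup' (fun H K hH hK => by
      obtain ⟨⟨a, ha⟩, ha2⟩ := exists_prime_orderOf_dvd_card' (G := H) 2 (by rw [hH])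
      obtain ⟨⟨b, hb⟩, hb2⟩ := exists_prime_orderOf_dvd_card' (G := K) 2 (by rw [hK])
      rw [Subgroup.orderOf_mk] at ha2 hb2
      have he : a = b := Subtype.ext (unique_involution_of_sylow hamb hone S a b a.2 b.2
        (by rw [Subgroup.orderOf_coe]; exact ha2) (by rw [Subgroup.orderOf_coe]; exact hb2))
      have e1 : Subgroup.zpowers a = H := Subgroup.eq_of_le_of_card_ge (Subgroup.zpowers_le.2 ha)
        (by rw [hH, Nat.card_zpowers, ha2])
      have e2 : Subgroup.zpowers b = K := Subgroup.eq_of_le_of_card_ge (Subgroup.zpowers_le.2 hb)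
        (by rw [hK, Nat.card_zpowers, hb2])
      rw [← e1, ← e2, he]) with h | ⟨-, n, ⟨e⟩⟩
    · exact Or.inl (hcyc2 h)
    · cases n with
      | zero =>
        haveI : IsCyclic (QuaternionGroup (2 ^ 0)) := QuaternionGroup.quaternionGroup_one_isCyclic
        exact Or.inl (hcyc2 (isCyclic_of_injective e.toMonoidHom e.injective))
      | succ n => exact Or.inr ⟨n, ⟨e⟩⟩
  · have hc : IsCyclic S := isCyclic_of_prime_card (p := 2) h2
    have hcomp := hc.isComplement' hmin
    set K := (MonoidHom.transferSylow S (hc.normalizer_le_centralizer hmin)).ker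
    have hKodd : (Nat.card K).Coprime 2 := (Nat.prime_two.coprime_iff_not_dvd.2
      (MonoidHom.not_dvd_card_ker_transferSylow S _)).symm
    set O := Cfsg.oddCore G
    haveI : O.Normal := inferInstance
    have hKO : K ≤ O := CfsgLib.Core.le_pPrimeCore (p := 2) hKodd
    have hOK : O = K := by
      refine (Subgroup.eq_of_le_of_card_ge hKO ?_).symm
      refine Nat.le_of_dvd Nat.card_pos ?_
      have h1 : Nat.card O ∣ Nat.card K * 2 := by
        rw [← h2, hcomp.card_mul]; exact Subgroup.card_subgroup_dvd_card O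
      exact (CfsgLib.Core.coprime_card_pPrimeCore 2 G : (Nat.card O).Coprime 2).dvd_of_dvd_mul_right h1
    have hsymm : (S : Subgroup G).IsComplement' O := hOK ▸ hcomp.symm
    have hdecomp : ∀ g : G, ∃ k ∈ O, ∃ s ∈ (S : Subgroup G), g = k * s := fun g => by
      obtain ⟨⟨k, s⟩, hks⟩ := hcomp.2 g
      exact ⟨k, hKO k.2, s, s.2, hks.symm⟩
    have hS2 : ∀ s ∈ (S : Subgroup G), s * s = 1 := fun s hs => by
      have h := orderOf_dvd_natCard (⟨s, hs⟩ : (S : Subgroup G))
      rw [Subgroup.orderOf_mk, h2] at h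
      rw [← pow_two]; exact orderOf_dvd_iff_pow_eq_one.1 h
    refine ⟨hsymm, le_antisymm ?_ ?_, ?_⟩
    · intro x hx
      have hab : ∀ y : G ⧸ commutator G, y ^ 2 = 1 := by
        intro y
        obtain ⟨g, rfl⟩ := QuotientGroup.mk'_surjective (commutator G) y
        obtain ⟨c, hc'⟩ := isConj_iff.1 ((QuotientGroup.mk' (commutator G)).map_isConj (hamb g))
        rw [show c * QuotientGroup.mk' (commutator G) g = QuotientGroup.mk' (commutator G) g * c from
          Subgroup.Normal.quotient_commutative_iff_commutator_le.2 le_rfl |>.is_comm.comm c _, mul_inv_cancel_right, map_inv] at hc'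
        rw [pow_two]; nth_rw 2 [hc']; exact mul_inv_cancel _
      obtain ⟨j, hj⟩ := Nat.coprime_two_right.1 (CfsgLib.Core.coprime_card_pPrimeCore 2 G : (Nat.card O).Coprime 2)
      have h1 : x ^ Nat.card O = 1 :=
        orderOf_dvd_iff_pow_eq_one.1 ((Subgroup.orderOf_mk x hx) ▸ orderOf_dvd_natCard (⟨x, hx⟩ : O))
      rw [← QuotientGroup.eq_one_iff]
      have h3 := congrArg (QuotientGroup.mk' (commutator G)) h1
      rw [map_pow, hj, pow_succ, pow_mul, hab, one_pow, one_mul, map_one] at h3
      exact h3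
    · rw [commutator_def, Subgroup.commutator_le]
      intro a _ b _
      obtain ⟨k, hk, s, hs, rfl⟩ := hdecomp a
      obtain ⟨k', hk', s', hs', rfl⟩ := hdecomp b
      rw [← QuotientGroup.eq_one_iff]
      show QuotientGroup.mk' O ⁅k * s, k' * s'⁆ = 1
      rw [map_commutatorElement, map_mul, map_mul, show QuotientGroup.mk' O k = 1 from (QuotientGroup.eq_one_iff k).2 hk,
        show QuotientGroup.mk' O k' = 1 from (QuotientGroup.eq_one_iff k').2 hk', one_mul, one_mul, ← map_commutatorElement]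
      haveI := hc
      have : (⟨s, hs⟩ : (S : Subgroup G)) * ⟨s', hs'⟩ = ⟨s', hs'⟩ * ⟨s, hs⟩ :=
        (IsCyclic.isMulCommutative).is_comm.comm _ _
      rw [commutatorElement_eq_one_iff_mul_comm.2 (congrArg Subtype.val this), map_one]
    · intro t ht ht1
      have hSt : ∀ s ∈ (S : Subgroup G), s = 1 ∨ s = t := by
        intro s hs
        obtain ⟨a, b, hab, huniv⟩ := Nat.card_eq_two_iff.1 h2
        have hmem : ∀ z : (S : Subgroup G), z = a ∨ z = b := fun z => by
          have := huniv ▸ Set.mem_univ z; exact this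
        rcases hmem ⟨s, hs⟩, hmem ⟨t, ht⟩, hmem 1 with ⟨h | h, h' | h', h'' | h''⟩ <;>
          first
          | exact Or.inr (congrArg Subtype.val (h.trans h'.symm))
          | exact Or.inl (congrArg Subtype.val (h.trans h''.symm))
          | exact absurd (congrArg Subtype.val (h'.trans h''.symm)) ht1
      obtain ⟨j, hj⟩ := Nat.coprime_two_right.1 (CfsgLib.Core.coprime_card_pPrimeCore 2 G : (Nat.card O).Coprime 2)
      have hpowO : ∀ x ∈ O, x ^ Nat.card O = 1 := fun x hx =>
        orderOf_dvd_iff_pow_eq_one.1 ((Subgroup.orderOf_mk x hx) ▸ orderOf_dvd_natCard (⟨x, hx⟩ : O))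
      have ht2 : t ^ 2 = 1 := by rw [pow_two]; exact hS2 t ht
      have hfpf : ∀ c ∈ O, Commute t c → c = 1 := by
        intro c hc hcomm
        obtain ⟨g, hg⟩ := isConj_iff.1 (hamb (t * c))
        have e1 : (t * c) ^ Nat.card O = t := by
          rw [hcomm.mul_pow, hpowO c hc, mul_one, hj, pow_succ, pow_mul, ht2, one_pow, one_mul]
        have hgt : g * t * g⁻¹ = t := by
          have h := congrArg (· ^ Nat.card O) hg
          simp only [conj_pow, inv_pow] at h
          rw [e1, inv_eq_of_mul_eq_one_right (hS2 t ht)] at h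
          exact h
        have hgc : g * c * g⁻¹ = c⁻¹ := by
          have h : (g * t * g⁻¹) * (g * c * g⁻¹) = (t * c)⁻¹ := by rw [← hg]; group
          rw [hgt, hcomm.eq, mul_inv_rev, inv_eq_of_mul_eq_one_right (hS2 t ht)] at h
          exact mul_left_cancel h
        obtain ⟨k, hk, s, hs, rfl⟩ := hdecomp g
        have hsc : s * c * s⁻¹ = c := by
          rcases hSt s hs with rfl | rfl
          · group
          · rw [hcomm.eq, mul_inv_cancel_right]
        have hkc : k * c * k⁻¹ = c⁻¹ := by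
          rw [← hgc]
          calc k * c * k⁻¹ = k * (s * c * s⁻¹) * k⁻¹ := by rw [hsc]
            _ = _ := by group
        have hpow : ∀ i : ℕ, k ^ i * c * (k ^ i)⁻¹ = if Even i then c else c⁻¹ := by
          intro i
          induction i with
          | zero => simp
          | succ i ih =>
            calc k ^ (i + 1) * c * (k ^ (i + 1))⁻¹ = k * (k ^ i * c * (k ^ i)⁻¹) * k⁻¹ := by rw [pow_succ']; group
              _ = _ := by
                rw [ih]
                by_cases he : Even i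
                · rw [if_pos he, if_neg (by rw [Nat.even_add_one]; exact not_not_intro he), hkc]
                · rw [if_neg he, if_pos (Nat.even_add_one.2 he)]
                  have hi := congrArg Inv.inv hkc
                  rw [inv_inv, mul_inv_rev, mul_inv_rev, inv_inv, ← mul_assoc] at hi
                  exact hi
        have h := hpow (Nat.card O)
        rw [hpowO k hk, if_neg (by rw [hj]; simp), one_mul, inv_one, mul_one] at h
        have hc2 : c ^ 2 = 1 := by
          rw [pow_two]; nth_rw 2 [h]; exact mul_inv_cancel c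
        have h' := hpowO c hc
        rwa [hj, pow_succ, pow_mul, hc2, one_pow, one_mul] at h'
      let δ : O → O := fun x => ⟨(x : G)⁻¹ * (t * x * t⁻¹), mul_mem (inv_mem x.2) (Subgroup.Normal.conj_mem inferInstance _ x.2 t)⟩
      have hδ : Function.Injective δ := by
        intro x y hxy
        have h : (x : G)⁻¹ * (t * x * t⁻¹) = (y : G)⁻¹ * (t * y * t⁻¹) := congrArg Subtype.val hxy
        have h' : (y : G) * (x : G)⁻¹ = t * ((y : G) * (x : G)⁻¹) * t⁻¹ := by
          calc (y : G) * (x : G)⁻¹ = y * ((x : G)⁻¹ * (t * x * t⁻¹)) * (t * x * t⁻¹)⁻¹ := by group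
            _ = y * ((y : G)⁻¹ * (t * y * t⁻¹)) * (t * x * t⁻¹)⁻¹ := by rw [h]
            _ = _ := by group
        have h1 := hfpf _ (mul_mem y.2 (inv_mem x.2)) (by
          show t * _ = _ * t
          exact (eq_mul_inv_iff_mul_eq.1 h').symm)
        exact Subtype.ext (mul_inv_eq_one.1 h1).symm
      intro x hx
      obtain ⟨⟨y, hy⟩, hxy⟩ := (Finite.injective_iff_surjective.1 hδ) ⟨x, hx⟩
      have h : y⁻¹ * (t * y * t⁻¹) = x := congrArg Subtype.val hxy
      rw [← h]
      have hti : t⁻¹ = t := inv_eq_of_mul_eq_one_right (hS2 t ht)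
      simp only [mul_inv_rev, inv_inv, hti]
      calc t * (y⁻¹ * (t * y * t)) * t = t * y⁻¹ * t * y * (t * t) := by group
        _ = _ := by rw [hS2 t ht, mul_one]; group

end CfsgLib.Orders
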