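import Cfsg.Agent.Lib.PGroups.ClassTwo
import Mathlib

/-!
# The number of automorphism orbits of a nonabelian finite group

If `p` is the least prime dividing the order of a nonabelian group `G`, then `Aut G` has at most `|G|/p` orbits.
-/

set_option autoImplicit false
set_option linter.all false

namespace CfsgLib.Orders.AutOrbits

open scoped commutatorElement
open CfsgLib.PGroups

universe u

variable {G : Type u} [Group G] [Finite G]

theorem index_le_orbit (x : G) :
    (Subgroup.centralizer ({x} : Set G)).index ≤ (MulAction.orbit (MulAut G) x).ncard := by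
  have h1 : Subgroup.centralizer ({x} : Set G) = MulAction.stabilizer (ConjAct G) x :=
    (ConjAct.stabilizer_eq_centralizer x).symm
  have h2 := MulAction.index_stabilizer (ConjAct G) x
  rw [← h1] at h2
  refine le_trans (le_of_eq h2) (Set.ncard_le_ncard ?_ (Set.toFinite _))
  rintro _ ⟨g, rfl⟩
  exact ⟨MulAut.conj (ConjAct.ofConjAct g), rfl⟩

theorem orbit_bound (p q : ℕ) (hp : 0 < p) (hpq : p < q) (T : Set G) (hT : ∀ t ∈ T, t ∉ Subgroup.center G)
    (h1 : ∀ x : G, x ∉ Subgroup.center G → p ≤ (MulAction.orbit (MulAut G) x).ncard)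
    (h2 : ∀ x ∈ T, q ≤ (MulAction.orbit (MulAut G) x).ncard)
    (hineq : Nat.card (Subgroup.center G) * ((p - 1) * q) ≤ T.ncard * (q - p)) :
    p * Nat.card (MulAction.orbitRel.Quotient (MulAut G) G) ≤ Nat.card G := by
  classical
  haveI := Fintype.ofFinite G
  haveI : Fintype (MulAction.orbitRel.Quotient (MulAut G) G) := Fintype.ofFinite _
  let w : G → ℚ := fun x => 1 / ((MulAction.orbit (MulAut G) x).ncard : ℚ)
  have hsum : (Nat.card (MulAction.orbitRel.Quotient (MulAut G) G) : ℚ) = ∑ x : G, w x := by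
    rw [← Fintype.sum_fiberwise (fun x : G => (⟦x⟧ : MulAction.orbitRel.Quotient (MulAut G) G)) w,
      Nat.card_eq_fintype_card, Fintype.card_eq_sum_ones, Nat.cast_sum, Nat.cast_one]
    refine Finset.sum_congr rfl fun c _ => ?_
    induction c using Quotient.inductionOn with
    | h x =>
      have hw : ∀ y : {y : G // (⟦y⟧ : MulAction.orbitRel.Quotient (MulAut G) G) = ⟦x⟧}, w y = w x := fun y => by
        have h : (y : G) ∈ MulAction.orbit (MulAut G) x := MulAction.orbitRel_apply.1 (Quotient.exact y.2)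
        show (1 : ℚ) / _ = 1 / _
        rw [MulAction.orbit_eq_iff.2 h]
      have hcard : Nat.card {y : G // (⟦y⟧ : MulAction.orbitRel.Quotient (MulAut G) G) = ⟦x⟧} =
          (MulAction.orbit (MulAut G) x).ncard := by
        rw [← Nat.card_coe_set_eq]
        exact Nat.card_congr (Equiv.subtypeEquivRight fun y =>
          ⟨fun h => MulAction.orbitRel_apply.1 (Quotient.exact h), fun h => Quotient.sound h⟩)
      rw [Finset.sum_congr rfl fun y _ => hw y, Finset.sum_const, Finset.card_univ, ← Nat.card_eq_fintype_card,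
        hcard, nsmul_eq_mul, mul_one_div, div_self]
      exact Nat.cast_ne_zero.2 (Set.ncard_pos (Set.toFinite _) |>.2 ⟨x, MulAction.mem_orbit_self x⟩).ne'
  have hp' : (0 : ℚ) < p := Nat.cast_pos.2 hp
  have hq' : (0 : ℚ) < q := Nat.cast_pos.2 (hp.trans hpq)
  have hle : ∀ x : G, w x ≤ 1 / (p : ℚ) + (if x ∈ Subgroup.center G then 1 - 1 / (p : ℚ) else 0) +
      (if x ∈ T then 1 / (q : ℚ) - 1 / p else 0) := by
    intro x
    by_cases hxZ : x ∈ Subgroup.center G
    · rw [if_pos hxZ, if_neg fun h => hT x h hxZ]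
      have h0 : (1 : ℚ) ≤ ((MulAction.orbit (MulAut G) x).ncard : ℚ) :=
        Nat.one_le_cast.2 ((Set.ncard_pos (Set.toFinite _)).2 ⟨x, MulAction.mem_orbit_self x⟩)
      have : w x ≤ 1 := by
        show 1 / _ ≤ (1 : ℚ)
        rw [div_le_one (lt_of_lt_of_le one_pos h0)]; exact h0
      linarith
    · rw [if_neg hxZ]
      by_cases hxT : x ∈ T
      · rw [if_pos hxT]
        have : w x ≤ 1 / (q : ℚ) := one_div_le_one_div_of_le hq' (Nat.cast_le.2 (h2 x hxT))
        linarith
      · rw [if_neg hxT]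
        have : w x ≤ 1 / (p : ℚ) := one_div_le_one_div_of_le hp' (Nat.cast_le.2 (h1 x hxZ))
        linarith
  have hsum' := Finset.sum_le_sum (s := Finset.univ) fun x _ => hle x
  rw [← hsum, Finset.sum_add_distrib, Finset.sum_add_distrib, ← Finset.sum_filter, ← Finset.sum_filter,
    Finset.sum_const, Finset.sum_const, Finset.sum_const, nsmul_eq_mul, nsmul_eq_mul, nsmul_eq_mul,
    Finset.card_univ, ← Nat.card_eq_fintype_card] at hsum'
  have hZc : (Finset.univ.filter fun x : G => x ∈ Subgroup.center G).card = Nat.card (Subgroup.center G) := by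
    rw [← Fintype.card_subtype, ← Nat.card_eq_fintype_card]
  have hTc : (Finset.univ.filter fun x : G => x ∈ T).card = T.ncard := by
    rw [← Fintype.card_subtype, ← Nat.card_eq_fintype_card]; exact Nat.card_coe_set_eq T
  rw [hZc, hTc] at hsum'
  have hineq' : (Nat.card (Subgroup.center G) : ℚ) * (((p : ℚ) - 1) * q) ≤ (T.ncard : ℚ) * ((q : ℚ) - p) := by
    rw [← Nat.cast_one (R := ℚ), ← Nat.cast_sub hp, ← Nat.cast_sub hpq.le]
    exact_mod_cast hineq
  have hfin : (p : ℚ) * (Nat.card (MulAction.orbitRel.Quotient (MulAut G) G) : ℚ) ≤ (Nat.card G : ℚ) := by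
    refine le_trans (mul_le_mul_of_nonneg_left hsum' hp'.le) ?_
    have e : (p : ℚ) * ((Nat.card G : ℚ) * (1 / p) + (Nat.card (Subgroup.center G) : ℚ) * (1 - 1 / p) +
        (T.ncard : ℚ) * (1 / q - 1 / p)) = (Nat.card G : ℚ) +
          ((Nat.card (Subgroup.center G) : ℚ) * (((p : ℚ) - 1) * q) - (T.ncard : ℚ) * ((q : ℚ) - p)) / q := by
      field_simp
      ring
    rw [e]
    have := div_nonpos_of_nonpos_of_nonneg (sub_nonpos.2 hineq') hq'.le
    linarith
  exact_mod_cast hfin

section setup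

variable (p : ℕ) (hpG : p = (Nat.card G).minFac) (hna : ¬ IsMulCommutative G)

include hpG hna

theorem prime_p : p.Prime := by
  rw [hpG]
  refine Nat.minFac_prime fun h => hna ?_
  haveI := (Nat.card_eq_one_iff_unique.1 h).1
  exact ⟨⟨fun a b => Subsingleton.elim _ _⟩⟩

theorem le_of_dvd_card {d : ℕ} (hd : d ∣ Nat.card G) (h1 : d ≠ 1) : p ≤ d := by
  have h2 : 2 ≤ d := by
    have := Nat.pos_of_dvd_of_pos hd Nat.card_pos
    omega
  rw [hpG]
  exact Nat.minFac_le_of_dvd h2 hd

theorem le_index {x : G} (hx : x ∉ Subgroup.center G) : p ≤ (Subgroup.centralizer ({x} : Set G)).index :=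
  le_of_dvd_card p hpG hna (Subgroup.index_dvd_card _) fun h => hx (Subgroup.mem_center_iff.2 fun g =>
    Subgroup.mem_centralizer_singleton_iff.1 ((Subgroup.index_eq_one.1 h).ge (Subgroup.mem_top g)))

theorem sq_le_index_center : p ^ 2 ≤ (Subgroup.center G).index := by
  set m := (Subgroup.center G).index
  have hm1 : m ≠ 1 := fun h => hna ⟨⟨fun a b =>
    Subgroup.mem_center_iff.1 ((Subgroup.index_eq_one.1 h).ge (Subgroup.mem_top b)) a⟩⟩
  have hmp : ¬ m.Prime := fun h => hna (by
    haveI := Fact.mk h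
    haveI : IsCyclic (G ⧸ Subgroup.center G) := isCyclic_of_prime_card (p := m) rfl
    exact (QuotientGroup.mk' (Subgroup.center G)).isMulCommutative_of_isCyclic_of_ker_le_center
      (le_of_eq (QuotientGroup.ker_mk' _)))
  have h1 := Nat.minFac_sq_le_self (Nat.pos_of_ne_zero Subgroup.index_ne_zero_of_finite) hmp
  refine le_trans (Nat.pow_le_pow_left ?_ 2) h1
  exact le_of_dvd_card p hpG hna ((Nat.minFac_dvd m).trans (Subgroup.index_dvd_card _)) (Nat.minFac_prime hm1).one_lt.ne'

theorem index_le_of_index_center_eq (hm : (Subgroup.center G).index = p ^ 2) (x : G) :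
    (Subgroup.centralizer ({x} : Set G)).index ≤ p := by
  have hp := prime_p p hpG hna
  by_cases hx : x ∈ Subgroup.center G
  · have : Subgroup.centralizer ({x} : Set G) = ⊤ := (Subgroup.eq_top_iff' _).2 fun g =>
      Subgroup.mem_centralizer_singleton_iff.2 (Subgroup.mem_center_iff.1 hx g)
    rw [this, Subgroup.index_top]
    exact hp.one_lt.le
  · have hle : Subgroup.center G ≤ Subgroup.centralizer ({x} : Set G) := fun z hz =>
      Subgroup.mem_centralizer_singleton_iff.2 (Subgroup.mem_center_iff.1 hz x).symm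
    obtain ⟨j, hj, hj'⟩ := (Nat.dvd_prime_pow hp).1 (hm ▸ Subgroup.index_dvd_of_le hle)
    have hj2 : j ≠ 2 := fun h => hx (by
      have h1 := Subgroup.card_mul_index (Subgroup.center G)
      have h2 := Subgroup.card_mul_index (Subgroup.centralizer ({x} : Set G))
      rw [hm] at h1
      rw [hj', h, ← h1] at h2
      exact (Subgroup.eq_of_le_of_card_ge hle (Nat.eq_of_mul_eq_mul_right (pow_pos hp.pos 2) h2).le).ge
        (Subgroup.mem_centralizer_singleton_iff.2 rfl))
    rw [hj']
    calc p ^ j ≤ p ^ 1 := Nat.pow_le_pow_right hp.pos (by omega)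
      _ = p := pow_one p

theorem class_two (hK : Subgroup.closure {x : G | (Subgroup.centralizer ({x} : Set G)).index ≤ p} = ⊤) :
    (∀ x y : G, ⁅x, y⁆ ∈ Subgroup.center G) ∧ (∀ x y : G, ⁅x, y⁆ ^ p = 1) := by
  have hp := prime_p p hpG hna
  haveI := Fact.mk hp
  have hc : ∀ x y : G, ⁅x, y⁆ ∈ Subgroup.center G := by
    have hsmall : ∀ s ∈ {x : G | (Subgroup.centralizer ({x} : Set G)).index ≤ p},
        commutator G ≤ Subgroup.centralizer ({s} : Set G) := by
      intro s hs
      by_cases hsZ : s ∈ Subgroup.center G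
      · exact fun g _ => Subgroup.mem_centralizer_singleton_iff.2 (Subgroup.mem_center_iff.1 hsZ g)
      have hi : (Subgroup.centralizer ({s} : Set G)).index = p := le_antisymm hs (le_index p hpG hna hsZ)
      haveI : (Subgroup.centralizer ({s} : Set G)).Normal := Subgroup.normal_of_index_eq_minFac_card (hi.trans hpG)
      haveI : IsCyclic (G ⧸ Subgroup.centralizer ({s} : Set G)) := isCyclic_of_prime_card (p := p) hi
      rw [commutator_def, Subgroup.commutator_le]
      intro a _ b _
      refine (QuotientGroup.eq_one_iff _).1 ?_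
      show QuotientGroup.mk' _ ⁅a, b⁆ = 1
      rw [map_commutatorElement, commutatorElement_eq_one_iff_mul_comm]
      letI := IsCyclic.commGroup (α := G ⧸ Subgroup.centralizer ({s} : Set G))
      exact mul_comm _ _
    intro x y
    rw [Subgroup.mem_center_iff]
    intro g
    have hg : g ∈ Subgroup.centralizer ({⁅x, y⁆} : Set G) := by
      have : Subgroup.closure {x : G | (Subgroup.centralizer ({x} : Set G)).index ≤ p} ≤
          Subgroup.centralizer ({⁅x, y⁆} : Set G) := (Subgroup.closure_le _).2 fun s hs =>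
        Subgroup.mem_centralizer_singleton_iff.2 (Subgroup.mem_centralizer_singleton_iff.1
          (hsmall s hs (Subgroup.commutator_mem_commutator (Subgroup.mem_top x) (Subgroup.mem_top y)))).symm
      exact this (hK.ge (Subgroup.mem_top g))
    exact Subgroup.mem_centralizer_singleton_iff.1 hg
  refine ⟨hc, fun x y => ?_⟩
  let R : Subgroup G :=
    { carrier := {y | ∀ x : G, ⁅x, y⁆ ^ p = 1}
      one_mem' := fun x => by rw [commutatorElement_one_right, one_pow]
      mul_mem' := fun {a b} ha hb x => by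
        rw [comm_mul_right_of_central (hc x b), Commute.mul_pow ((Subgroup.mem_center_iff.1 (hc x b) _ : _)),
          ha x, hb x, one_mul]
      inv_mem' := fun {a} ha x => by
        rw [comm_inv_right_of_central (hc x a), inv_pow, ha x, inv_one] }
  have hR : Subgroup.closure {x : G | (Subgroup.centralizer ({x} : Set G)).index ≤ p} ≤ R := by
    refine (Subgroup.closure_le _).2 fun s hs x => ?_
    by_cases hsZ : s ∈ Subgroup.center G
    · rw [commutatorElement_eq_one_iff_mul_comm.2 (Subgroup.mem_center_iff.1 hsZ x), one_pow]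
    have hi : (Subgroup.centralizer ({s} : Set G)).index = p := le_antisymm hs (le_index p hpG hna hsZ)
    haveI : (Subgroup.centralizer ({s} : Set G)).Normal := Subgroup.normal_of_index_eq_minFac_card (hi.trans hpG)
    rw [← comm_pow_left_of_central (hc x s), commutatorElement_eq_one_iff_mul_comm]
    exact Subgroup.mem_centralizer_singleton_iff.1 (hi ▸ Subgroup.pow_index_mem _ x)
  exact hR (hK.ge (Subgroup.mem_top y)) x

/-- an element with class of size at most `p` has all commutators in one cyclic group -/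
theorem small_span (hc : ∀ x y : G, ⁅x, y⁆ ∈ Subgroup.center G) (he : ∀ x y : G, ⁅x, y⁆ ^ p = 1)
    {x g : G} (hx : (Subgroup.centralizer ({x} : Set G)).index ≤ p) (hg : ⁅g, x⁆ ≠ 1) :
    (Subgroup.zpowers ⁅g, x⁆ = Subgroup.closure (Set.range fun h : G => ⁅h, x⁆)) ∧
      ∀ h : G, ⁅h, x⁆ ∈ Subgroup.zpowers ⁅g, x⁆ := by
  haveI := Fact.mk (prime_p p hpG hna)
  let φ : G →* G := MonoidHom.mk' (fun h => ⁅h, x⁆) fun a b => comm_mul_left_of_central (hc b x)
  have hker : φ.ker = Subgroup.centralizer ({x} : Set G) := by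
    ext y
    rw [Subgroup.mem_centralizer_singleton_iff, MonoidHom.mem_ker]
    exact commutatorElement_eq_one_iff_mul_comm
  have hcard : Nat.card φ.range ≤ p := by rw [← Subgroup.index_ker, hker]; exact hx
  have heq : Subgroup.zpowers ⁅g, x⁆ = φ.range := Subgroup.eq_of_le_of_card_ge
    (Subgroup.zpowers_le.2 ⟨g, rfl⟩) (by rw [Nat.card_zpowers, orderOf_eq_prime (he g x) hg]; exact hcard)
  refine ⟨?_, fun h => heq.ge ⟨h, rfl⟩⟩
  rw [heq]
  exact le_antisymm (fun y ⟨h, hy⟩ => Subgroup.subset_closure ⟨h, hy⟩) ((Subgroup.closure_le _).2 fun y ⟨h, hy⟩ => ⟨h, hy⟩)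

/-- enough elements with large classes -/
theorem large_classes (hc : ∀ x y : G, ⁅x, y⁆ ∈ Subgroup.center G) (he : ∀ x y : G, ⁅x, y⁆ ^ p = 1)
    {y : G} (hy : p < (Subgroup.centralizer ({y} : Set G)).index) :
    Nat.card (Subgroup.center G) * p ≤ {x : G | p < (Subgroup.centralizer ({x} : Set G)).index}.ncard := by
  have hp := prime_p p hpG hna
  haveI := Fact.mk hp
  have hkey : ∀ {x g h : G}, (Subgroup.centralizer ({x} : Set G)).index ≤ p → ⁅g, x⁆ ≠ 1 →
      ⁅h, x⁆ ∈ Subgroup.zpowers ⁅g, x⁆ := fun hx hg => (small_span p hpG hna hc he hx hg).2 _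
  obtain ⟨g, hg⟩ : ∃ g, ⁅g, y⁆ ≠ 1 := by
    by_contra h
    push Not at h
    have : Subgroup.centralizer ({y} : Set G) = ⊤ := (Subgroup.eq_top_iff' _).2 fun g =>
      Subgroup.mem_centralizer_singleton_iff.2 (commutatorElement_eq_one_iff_mul_comm.1 (h g))
    rw [this, Subgroup.index_top] at hy
    have := hp.one_lt
    omega
  obtain ⟨h, hh⟩ : ∃ h, ⁅h, y⁆ ∉ Subgroup.zpowers ⁅g, y⁆ := by
    by_contra h
    push Not at h
    let φ : G →* G := MonoidHom.mk' (fun h => ⁅h, y⁆) fun a b => comm_mul_left_of_central (hc b y)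
    have hker : φ.ker = Subgroup.centralizer ({y} : Set G) := by
      ext z
      rw [Subgroup.mem_centralizer_singleton_iff, MonoidHom.mem_ker]
      exact commutatorElement_eq_one_iff_mul_comm
    rw [← hker, Subgroup.index_ker] at hy
    have h1 : Nat.card φ.range ≤ Nat.card (Subgroup.zpowers ⁅g, y⁆) :=
      Subgroup.card_le_of_le (by rintro _ ⟨z, rfl⟩; exact h z)
    rw [Nat.card_zpowers, orderOf_eq_prime (he g y) hg] at h1
    omega
  have hh1 : ⁅h, y⁆ ≠ 1 := fun e => hh (e ▸ one_mem _)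
  obtain ⟨w, hw, hwy⟩ : ∃ w, p < (Subgroup.centralizer ({w} : Set G)).index ∧ ⁅w, y⁆ ≠ 1 := by
    by_contra hno
    push Not at hno
    have hgs : (Subgroup.centralizer ({g} : Set G)).index ≤ p := not_lt.1 fun e => hg (hno g e)
    have hhs : (Subgroup.centralizer ({h} : Set G)).index ≤ p := not_lt.1 fun e => hh1 (hno h e)
    have hyg : ⁅y, g⁆ ≠ 1 := fun e => hg (by rw [← commutatorElement_inv y g, e, inv_one])
    have hyh : ⁅y, h⁆ ≠ 1 := fun e => hh1 (by rw [← commutatorElement_inv y h, e, inv_one])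
    have h1 : ⁅h, g⁆ ∈ Subgroup.zpowers ⁅g, y⁆ := by
      have := hkey (h := h) hgs hyg
      rwa [← commutatorElement_inv g y, Subgroup.zpowers_inv] at this
    have h2 : ⁅h, g⁆ ∈ Subgroup.zpowers ⁅h, y⁆ := by
      have := hkey (h := g) hhs hyh
      rw [← commutatorElement_inv h y, Subgroup.zpowers_inv] at this
      rw [← commutatorElement_inv g h]
      exact inv_mem this
    have hgh : ⁅h, g⁆ = 1 := by
      by_contra hne
      have e1 : Subgroup.zpowers ⁅h, g⁆ = Subgroup.zpowers ⁅g, y⁆ := Subgroup.eq_of_le_of_card_ge (Subgroup.zpowers_le.2 h1)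
        (by rw [Nat.card_zpowers, Nat.card_zpowers, orderOf_eq_prime (he h g) hne, orderOf_eq_prime (he g y) hg])
      have e2 : Subgroup.zpowers ⁅h, g⁆ = Subgroup.zpowers ⁅h, y⁆ := Subgroup.eq_of_le_of_card_ge (Subgroup.zpowers_le.2 h2)
        (by rw [Nat.card_zpowers, Nat.card_zpowers, orderOf_eq_prime (he h g) hne, orderOf_eq_prime (he h y) hh1])
      exact hh (by rw [← e1, e2]; exact Subgroup.mem_zpowers _)
    have hu : ⁅g, y * g⁆ = ⁅g, y⁆ := by
      rw [comm_mul_right_of_central (hc g g), commutatorElement_self, mul_one]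
    have hv : ⁅h, y * g⁆ = ⁅h, y⁆ := by rw [comm_mul_right_of_central (hc h g), hgh, mul_one]
    have hwy : ⁅y * g, y⁆ ≠ 1 := by
      rw [comm_mul_left_of_central (hc g y), commutatorElement_self, one_mul]; exact hg
    have := hkey (h := h) (not_lt.1 fun e => hwy (hno _ e)) (hu ▸ hg)
    rw [hu, hv] at this
    exact hh this
  let b : Fin 2 → G := ![y, w]
  have hb : ∀ i, p < (Subgroup.centralizer ({b i} : Set G)).index := by
    intro i; fin_cases i
    · exact hy
    · exact hw
  have hcomm : ∀ (k a : G) (i : ℕ) (z : G), z ∈ Subgroup.center G → ⁅k, a ^ i * z⁆ = ⁅k, a⁆ ^ i := by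
    intro k a i z hz
    have hkz : ⁅k, z⁆ = 1 := commutatorElement_eq_one_iff_mul_comm.2 (Subgroup.mem_center_iff.1 hz k)
    rw [comm_mul_right_of_central (hkz ▸ one_mem _), hkz, mul_one, comm_pow_right_of_central (hc k a)]
  have hlt : ∀ i : Fin (p - 1), i.val + 1 < p := fun i => by have := i.2; omega
  have hinj0 : ∀ (e : G) (i : Fin (p - 1)), e ^ p = 1 → e ^ (i.val + 1) = 1 → e = 1 := by
    intro e i h1 h2
    by_contra hne
    have h3 := orderOf_dvd_of_pow_eq_one h2
    rw [orderOf_eq_prime h1 hne] at h3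
    exact absurd (Nat.le_of_dvd (Nat.succ_pos _) h3) (not_le.2 (hlt i))
  let f : Fin 2 × Fin (p - 1) × Subgroup.center G → {x : G | p < (Subgroup.centralizer ({x} : Set G)).index} :=
    fun t => ⟨b t.1 ^ (t.2.1.val + 1) * (t.2.2 : G), by
      have hC : Subgroup.centralizer ({b t.1 ^ (t.2.1.val + 1) * (t.2.2 : G)} : Set G) =
          Subgroup.centralizer ({b t.1} : Set G) := by
        ext k
        rw [Subgroup.mem_centralizer_singleton_iff, Subgroup.mem_centralizer_singleton_iff,
          ← commutatorElement_eq_one_iff_mul_comm, ← commutatorElement_eq_one_iff_mul_comm, hcomm k _ _ _ t.2.2.2]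
        exact ⟨hinj0 _ t.2.1 (he k _), fun e => by rw [e, one_pow]⟩
      show p < _
      rw [hC]
      exact hb _⟩
  have hf : Function.Injective f := by
    rintro ⟨i, j, z⟩ ⟨i', j', z'⟩ hff
    have h0 : b i ^ (j.val + 1) * (z : G) = b i' ^ (j'.val + 1) * (z' : G) := congrArg Subtype.val hff
    have hk : ∀ k, ⁅k, b i⁆ ^ (j.val + 1) = ⁅k, b i'⁆ ^ (j'.val + 1) := fun k => by
      rw [← hcomm k _ _ _ z.2, ← hcomm k _ _ _ z'.2, h0]
    have hii : i = i' := by
      by_contra hne
      have hyw : ⁅y, w⁆ ≠ 1 := fun e => hwy (by rw [← commutatorElement_inv y w, e, inv_one])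
      have h1 := hk y
      fin_cases i <;> fin_cases i'
      · exact hne rfl
      · simp only [b] at h1
        simp at h1
        first | exact hyw (hinj0 _ j' (he y w) h1) | exact hyw (hinj0 _ j' (he y w) h1.symm)
      · simp only [b] at h1
        simp at h1
        first | exact hyw (hinj0 _ j (he y w) h1) | exact hyw (hinj0 _ j (he y w) h1.symm)
      · exact hne rfl
    subst hii
    obtain ⟨k, hk1⟩ : ∃ k, ⁅k, b i⁆ ≠ 1 := by
      fin_cases i
      · exact ⟨g, hg⟩
      · exact ⟨y, fun e => hwy (by rw [← commutatorElement_inv y w, show ⁅y, w⁆ = 1 from e, inv_one])⟩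
    have hjj : j = j' := by
      have h1 := pow_eq_pow_iff_modEq.1 (hk k)
      rw [orderOf_eq_prime (he k _) hk1] at h1
      exact Fin.ext (Nat.succ_injective (h1.eq_of_lt_of_lt (hlt j) (hlt j')))
    subst hjj
    rw [Prod.mk.injEq, Prod.mk.injEq]
    exact ⟨rfl, rfl, Subtype.ext (mul_left_cancel h0)⟩
  have h1 := Nat.card_le_card_of_injective f hf
  rw [Nat.card_coe_set_eq, Nat.card_prod, Nat.card_prod, Nat.card_fin, Nat.card_fin] at h1
  refine le_trans ?_ h1
  have h2 := hp.two_le
  rw [← mul_assoc, mul_comm (Nat.card (Subgroup.center G))]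
  exact Nat.mul_le_mul_right _ (by omega)

/-- the data for an automorphism merging classes, when all commutators lie in a group of order `p` -/
theorem exists_merge_data (hc : ∀ x y : G, ⁅x, y⁆ ∈ Subgroup.center G) (he : ∀ x y : G, ⁅x, y⁆ ^ p = 1)
    (hsmall : ∀ x : G, (Subgroup.centralizer ({x} : Set G)).index ≤ p)
    (u : G) (hu : u ≠ 1) (hup : u ^ p = 1) (huZ : u ∈ Subgroup.center G)
    (hall : ∀ g h : G, ⁅g, h⁆ ∈ Subgroup.zpowers u) :
    ∃ (A : Subgroup G) (a f : G), A.Normal ∧ A.index = p ∧ Subgroup.center G ≤ A ∧ a ∉ A ∧ f ∈ A ∧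
      (∀ m ∈ A, Commute f m) ∧ f ∉ Subgroup.zpowers u ∧ f ^ p ∈ Subgroup.zpowers u ∧ (a * f) ^ p = a ^ p := by
  have hp := prime_p p hpG hna
  haveI := Fact.mk hp
  have hC : ∀ b : G, b ∉ Subgroup.center G → (Subgroup.centralizer ({b} : Set G)).Normal ∧
      (Subgroup.centralizer ({b} : Set G)).index = p ∧ Subgroup.center G ≤ Subgroup.centralizer ({b} : Set G) ∧
      ∃ a, a ∉ Subgroup.centralizer ({b} : Set G) ∧ ⁅a, b⁆ = u := by
    intro b hb
    have hi : (Subgroup.centralizer ({b} : Set G)).index = p := le_antisymm (hsmall b) (le_index p hpG hna hb)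
    refine ⟨Subgroup.normal_of_index_eq_minFac_card (hi.trans hpG), hi, fun z hz =>
      Subgroup.mem_centralizer_singleton_iff.2 (Subgroup.mem_center_iff.1 hz b).symm, ?_⟩
    obtain ⟨g, hg⟩ : ∃ g, ⁅g, b⁆ ≠ 1 := by
      by_contra h
      push Not at h
      exact hb (Subgroup.mem_center_iff.2 fun g => commutatorElement_eq_one_iff_mul_comm.1 (h g))
    have h1 : u ∈ Subgroup.zpowers ⁅g, b⁆ := by
      have e : Subgroup.zpowers ⁅g, b⁆ = Subgroup.zpowers u := Subgroup.eq_of_le_of_card_ge
        (Subgroup.zpowers_le.2 (hall g b))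
        (by rw [Nat.card_zpowers, Nat.card_zpowers, orderOf_eq_prime (he g b) hg, orderOf_eq_prime hup hu])
      exact e.ge (Subgroup.mem_zpowers u)
    obtain ⟨i, hi'⟩ := Subgroup.mem_zpowers_iff.1 h1
    let φ : G →* G := MonoidHom.mk' (fun h => ⁅h, b⁆) fun a c => comm_mul_left_of_central (hc c b)
    refine ⟨g ^ i, fun hmem => hu ?_, ?_⟩
    · rw [← hi', show ⁅g, b⁆ ^ i = ⁅g ^ i, b⁆ from (map_zpow φ g i).symm]
      exact commutatorElement_eq_one_iff_mul_comm.2 (Subgroup.mem_centralizer_singleton_iff.1 hmem)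
    · rw [show ⁅g ^ i, b⁆ = ⁅g, b⁆ ^ i from map_zpow φ g i, hi']
  by_cases hA : ∃ z ∈ Subgroup.center G, z ^ p = 1 ∧ z ∉ Subgroup.zpowers u
  · obtain ⟨z, hz, hzp, hzu⟩ := hA
    obtain ⟨b, hb⟩ : ∃ b, b ∉ Subgroup.center G := by
      by_contra h
      push Not at h
      exact hna ⟨⟨fun a c => Subgroup.mem_center_iff.1 (h c) a⟩⟩
    obtain ⟨hn, hi, hZ, a, ha, -⟩ := hC b hb
    exact ⟨_, a, z, hn, hi, hZ, ha, hZ hz, fun m _ => (Subgroup.mem_center_iff.1 hz m).symm, hzu,
      hzp ▸ one_mem _, by rw [Commute.mul_pow (Subgroup.mem_center_iff.1 hz a), hzp, mul_one]⟩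
  push Not at hA
  suffices hf : ∃ f, f ∉ Subgroup.center G ∧ f ^ p ∈ Subgroup.zpowers u ∧
      ∀ a, ⁅a, f⁆ = u → (a * f) ^ p = a ^ p by
    obtain ⟨f, hf, hfp, hfa⟩ := hf
    obtain ⟨hn, hi, hZ, a, ha, hau⟩ := hC f hf
    refine ⟨_, a, f, hn, hi, hZ, ha, Subgroup.mem_centralizer_singleton_iff.2 rfl,
      fun m hm => (Subgroup.mem_centralizer_singleton_iff.1 hm).symm, fun h => hf ?_, hfp, hfa a hau⟩
    exact (Subgroup.zpowers_le.2 huZ) h
  have hucard : Nat.card (Subgroup.zpowers u) = p := by rw [Nat.card_zpowers, orderOf_eq_prime hup hu]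
  have hpowZ : ∀ x : G, x ^ p ∈ Subgroup.center G := fun x => Subgroup.mem_center_iff.2 fun g =>
    commutatorElement_eq_one_iff_mul_comm.1 (by rw [comm_pow_right_of_central (hc g x)]; exact he g x)
  have hm := sq_le_index_center p hpG hna
  have hGZ := Subgroup.card_mul_index (Subgroup.center G)
  rcases hp.eq_two_or_odd' with h2 | hodd
  · subst h2
    haveI : (Subgroup.zpowers u).Normal := ⟨fun x hx g => by
      rw [Subgroup.mem_center_iff.1 ((Subgroup.zpowers_le.2 huZ) hx) g, mul_inv_cancel_right]; exact hx⟩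
    let ρ := QuotientGroup.mk' (Subgroup.zpowers u)
    let ψ : G →* G ⧸ Subgroup.zpowers u := MonoidHom.mk' (fun x => ((x ^ 2 : G) : G ⧸ Subgroup.zpowers u))
      fun x y => by
        show ((x * y) ^ 2 : G) = (((x ^ 2 : G)) : G ⧸ Subgroup.zpowers u) * ((y ^ 2 : G) : G ⧸ Subgroup.zpowers u)
        rw [sq_mul_of_central (hc y x), QuotientGroup.mk_mul, QuotientGroup.mk_mul,
          (QuotientGroup.eq_one_iff ⁅y, x⁆).2 (hall y x), mul_one]
    have hψ : ∀ x, x ∈ ψ.ker ↔ x ^ 2 ∈ Subgroup.zpowers u := fun x => by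
      rw [MonoidHom.mem_ker]; exact QuotientGroup.eq_one_iff _
    have hu2 : ∀ x ∈ Subgroup.zpowers u, x = 1 ∨ x = u := by
      intro x hx
      obtain ⟨i, rfl⟩ := Subgroup.mem_zpowers_iff.1 hx
      rcases Int.even_or_odd i with ⟨j, rfl⟩ | ⟨j, rfl⟩
      · left; rw [← two_mul, zpow_mul, show u ^ (2 : ℤ) = 1 by rw [← hup]; norm_cast, one_zpow]
      · right; rw [zpow_add, zpow_mul, show u ^ (2 : ℤ) = 1 by rw [← hup]; norm_cast, one_zpow, one_mul, zpow_one]
    have hfin : ∀ f, f ∉ Subgroup.center G → f ^ 2 = u → ∃ f, f ∉ Subgroup.center G ∧ f ^ 2 ∈ Subgroup.zpowers u ∧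
        ∀ a, ⁅a, f⁆ = u → (a * f) ^ 2 = a ^ 2 := fun f hf hf2 => ⟨f, hf, hf2 ▸ Subgroup.mem_zpowers u, fun a ha => by
      rw [sq_mul_of_central (hc f a), hf2, ← commutatorElement_inv a f, ha, mul_inv_cancel_right]⟩
    by_cases hsq : ∃ z ∈ Subgroup.center G, z ^ 2 = u
    · obtain ⟨z, hz, hz2⟩ := hsq
      obtain ⟨k, hk, hkU⟩ : ∃ k, k ∉ Subgroup.center G ∧ k ^ 2 ∈ Subgroup.zpowers u := by
        by_contra h
        push Not at h
        have hk : ψ.ker ≤ Subgroup.center G := fun x hx => by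
          by_contra hx'; exact h x hx' ((hψ x).1 hx)
        have hr : ψ.range ≤ (Subgroup.center G).map ρ := by
          rintro _ ⟨x, rfl⟩; exact ⟨x ^ 2, hpowZ x, rfl⟩
        have hcr : 2 * Nat.card ((Subgroup.center G).map ρ) = Nat.card (Subgroup.center G) := by
          have h1 := Subgroup.card_mul_index ((Subgroup.center G).subgroupOf (Subgroup.center G) ⊓ (ρ.comp (Subgroup.center G).subtype).ker)
          rw [Subgroup.subgroupOf_self, top_inf_eq, Subgroup.index_ker, MonoidHom.range_comp, Subgroup.range_subtype] at h1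
          have e : Nat.card (ρ.comp (Subgroup.center G).subtype).ker = 2 := by
            rw [← MonoidHom.comap_ker, QuotientGroup.ker_mk', ← hucard]
            exact Nat.card_congr (Subgroup.subgroupOfEquivOfLe (Subgroup.zpowers_le.2 huZ)).toEquiv
          rw [e] at h1
          exact h1
        have hk4 : Nat.card ψ.ker ≤ 4 := by
          let s : ψ.ker →* G := MonoidHom.mk' (fun x => (x : G) ^ 2) fun x y => by
            show ((x : G) * y) ^ 2 = (x : G) ^ 2 * (y : G) ^ 2
            exact Commute.mul_pow (Subgroup.mem_center_iff.1 (hk y.2) (x : G)) 2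
          have h1 := Subgroup.card_mul_index s.ker
          rw [Subgroup.index_ker] at h1
          have h2 : Nat.card s.range ≤ 2 := hucard ▸ Subgroup.card_le_of_le (by
            rintro _ ⟨x, rfl⟩; exact (hψ x).1 x.2)
          have h3 : Nat.card s.ker ≤ 2 := by
            rw [← hucard]
            exact Nat.card_le_card_of_injective (fun x => (⟨((x : ψ.ker) : G), hA _ (hk x.1.2) x.2⟩ : Subgroup.zpowers u))
              fun x y hxy => Subtype.ext (Subtype.ext (congrArg Subtype.val hxy :))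
          rw [← h1]
          exact Nat.mul_le_mul h3 h2
        have h1 := Subgroup.card_mul_index ψ.ker
        rw [Subgroup.index_ker] at h1
        have h2 : Nat.card G ≤ 4 * Nat.card ((Subgroup.center G).map ρ) :=
          h1 ▸ Nat.mul_le_mul hk4 (Subgroup.card_le_of_le hr)
        have h3 := Nat.mul_le_mul_left (Nat.card (Subgroup.center G)) hm
        have h4 := Nat.card_pos (α := Subgroup.center G)
        omega
      rcases hu2 _ hkU with h1 | h1
      · refine hfin (k * z) (fun h => hk ?_) ?_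
        · have := mul_mem h (inv_mem hz); rwa [mul_inv_cancel_right] at this
        · rw [Commute.mul_pow (Subgroup.mem_center_iff.1 hz k), h1, hz2, one_mul]
      · exact hfin k hk h1
    push Not at hsq
    by_contra hno
    have hno' : ∀ f, f ∉ Subgroup.center G → f ^ 2 ≠ u := fun f hf h => hno (hfin f hf h)
    have hker : ∀ x ∈ ψ.ker, x ^ 2 = 1 := fun x hx => (hu2 _ ((hψ x).1 hx)).resolve_right fun h => by
      by_cases hxZ : x ∈ Subgroup.center G
      · exact hsq x hxZ h
      · exact hno' x hxZ h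
    have hab : ∀ x ∈ ψ.ker, ∀ y ∈ ψ.ker, ⁅y, x⁆ = 1 := fun x hx y hy => by
      have h := sq_mul_of_central (hc y x)
      rw [hker _ (mul_mem hx hy), hker x hx, hker y hy, one_mul, one_mul] at h
      exact h.symm
    have hZker : ψ.ker.comap (Subgroup.center G).subtype = (Subgroup.zpowers u).comap (Subgroup.center G).subtype := by
      ext ⟨x, hx⟩
      show x ∈ ψ.ker ↔ x ∈ Subgroup.zpowers u
      exact ⟨fun h => hA x hx (hker x h), fun h => (hψ x).2 (pow_mem h 2)⟩
    have hr : (Subgroup.center G).map ψ = (Subgroup.center G).map ρ := by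
      refine Subgroup.eq_of_le_of_card_ge ?_ ?_
      · rintro _ ⟨x, -, rfl⟩; exact ⟨x ^ 2, hpowZ x, rfl⟩
      · have e1 := Subgroup.index_ker (ψ.comp (Subgroup.center G).subtype)
        have e2 := Subgroup.index_ker (ρ.comp (Subgroup.center G).subtype)
        rw [← MonoidHom.comap_ker, MonoidHom.range_comp, Subgroup.range_subtype] at e1 e2
        rw [← e1, ← e2, hZker, QuotientGroup.ker_mk']
    have hdec : ∀ x : G, ∃ z ∈ Subgroup.center G, x * z⁻¹ ∈ ψ.ker := fun x => by
      obtain ⟨z, hz, hzx⟩ := hr.ge (⟨x ^ 2, hpowZ x, rfl⟩ : ψ x ∈ (Subgroup.center G).map ρ)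
      exact ⟨z, hz, by rw [MonoidHom.mem_ker, map_mul, map_inv, hzx, mul_inv_cancel]⟩
    refine hna ⟨⟨fun x y => commutatorElement_eq_one_iff_mul_comm.1 ?_⟩⟩
    obtain ⟨z, hz, hxz⟩ := hdec x
    obtain ⟨z', hz', hyz⟩ := hdec y
    have h1 := hab _ hyz _ hxz
    have hl : ∀ g w, w ∈ Subgroup.center G → ⁅g * w, y * z'⁻¹⁆ = ⁅g, y * z'⁻¹⁆ := fun g w hw => by
      have e : ⁅w, y * z'⁻¹⁆ = 1 := commutatorElement_eq_one_iff_mul_comm.2 (Subgroup.mem_center_iff.1 hw _).symm
      rw [comm_mul_left_of_central (e ▸ one_mem _), e, mul_one]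
    rw [hl x _ (inv_mem hz)] at h1
    have e : ⁅x, z'⁻¹⁆ = 1 := commutatorElement_eq_one_iff_mul_comm.2 (Subgroup.mem_center_iff.1 (inv_mem hz') _)
    rw [comm_mul_right_of_central (e ▸ one_mem _), e, mul_one] at h1
    exact h1
  · let P : G →* G := MonoidHom.mk' (fun x => x ^ p) fun x y => mul_pow_of_central_odd (hc y x) hodd (he y x)
    obtain ⟨f, hf, hfp⟩ : ∃ f, f ∉ Subgroup.center G ∧ f ^ p = 1 := by
      by_contra h
      push Not at h
      have hk : P.ker ≤ Subgroup.zpowers u := fun x hx => by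
        have hxZ : x ∈ Subgroup.center G := by by_contra hx'; exact h x hx' hx
        exact hA x hxZ hx
      have hr : P.range ≤ Subgroup.center G := by rintro _ ⟨x, rfl⟩; exact hpowZ x
      have h1 := Subgroup.card_mul_index P.ker
      rw [Subgroup.index_ker] at h1
      have h2 : Nat.card G ≤ p * Nat.card (Subgroup.center G) :=
        h1 ▸ Nat.mul_le_mul (hucard ▸ Subgroup.card_le_of_le hk) (Subgroup.card_le_of_le hr)
      rw [← hGZ, mul_comm p] at h2
      have h3 := Nat.le_of_mul_le_mul_left h2 Nat.card_pos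
      have h4 : p * 2 ≤ p ^ 2 := by rw [sq]; exact Nat.mul_le_mul_left p hp.two_le
      have := hp.pos
      omega
    refine ⟨f, hf, hfp ▸ one_mem _, fun a _ => ?_⟩
    rw [mul_pow_of_central_odd (hc f a) hodd (he f a), hfp, mul_one]

/-- orbits outside the subgroup of merge data have size at least `p ^ 2` -/
theorem orbit_large (hc : ∀ x y : G, ⁅x, y⁆ ∈ Subgroup.center G) (he : ∀ x y : G, ⁅x, y⁆ ^ p = 1)
    (hsmall : ∀ x : G, (Subgroup.centralizer ({x} : Set G)).index ≤ p)
    (u : G) (hu : u ≠ 1) (hup : u ^ p = 1) (huZ : u ∈ Subgroup.center G)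
    (hall : ∀ g h : G, ⁅g, h⁆ ∈ Subgroup.zpowers u)
    (A : Subgroup G) (a f : G) (hAn : A.Normal) (hAi : A.index = p) (hZA : Subgroup.center G ≤ A) (ha : a ∉ A)
    (hfA : f ∈ A) (hfc : ∀ m ∈ A, Commute f m) (hfu : f ∉ Subgroup.zpowers u)
    (hfp : f ^ p ∈ Subgroup.zpowers u) (haf : (a * f) ^ p = a ^ p) :
    ∀ x : G, x ∉ A → p ^ 2 ≤ (MulAction.orbit (MulAut G) x).ncard := by
  classical
  have hp := prime_p p hpG hna
  haveI := Fact.mk hp
  haveI := hAn
  haveI hUn : (Subgroup.zpowers u).Normal := ⟨fun x hx g => by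
    rw [Subgroup.mem_center_iff.1 ((Subgroup.zpowers_le.2 huZ) hx) g, mul_inv_cancel_right]; exact hx⟩
  let π := QuotientGroup.mk' A
  let ρ := QuotientGroup.mk' (Subgroup.zpowers u)
  have hπa : orderOf (π a) = p := orderOf_eq_prime
    (by rw [← map_pow]; exact (QuotientGroup.eq_one_iff _).2 (hAi ▸ Subgroup.pow_index_mem A a))
    fun e => ha ((QuotientGroup.eq_one_iff a).1 e)
  have hgen : ∀ x : G, ∃ i : ℤ, π x = π a ^ i := fun x => by
    obtain ⟨i, hi⟩ := Subgroup.mem_zpowers_iff.1 (mem_zpowers_of_prime_card (g := π a) (g' := π x) (hAi : Nat.card (G ⧸ A) = p)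
      fun e => ha ((QuotientGroup.eq_one_iff a).1 e))
    exact ⟨i, hi.symm⟩
  choose n hn using hgen
  let c : ℤ → G := fun i => (a * f) ^ i * (a ^ i)⁻¹
  have hper : ∀ i j : ℤ, π a ^ i = π a ^ j → c i = c j := by
    intro i j hij
    rw [← orderOf_dvd_sub_iff_zpow_eq_zpow, hπa] at hij
    obtain ⟨t, ht⟩ := hij
    have hi : i = j + (p : ℤ) * t := by omega
    show (a * f) ^ i * (a ^ i)⁻¹ = (a * f) ^ j * (a ^ j)⁻¹
    rw [hi, zpow_add, zpow_add, zpow_mul, zpow_mul, zpow_natCast, zpow_natCast, haf]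
    group
  have hcA : ∀ i m, m ∈ A → Commute (c i) m := by
    intro i
    have hmem : c i ∈ Subgroup.centralizer (A : Set G) := by
      haveI : (Subgroup.centralizer (A : Set G)).Normal := inferInstance
      refine (QuotientGroup.eq_one_iff _).1 ?_
      show QuotientGroup.mk' (Subgroup.centralizer (A : Set G)) ((a * f) ^ i * (a ^ i)⁻¹) = 1
      rw [map_mul, map_inv, map_zpow, map_zpow, map_mul,
        show QuotientGroup.mk' (Subgroup.centralizer (A : Set G)) f = 1 from (QuotientGroup.eq_one_iff f).2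
          (Subgroup.mem_centralizer_iff.2 fun m hm => (hfc m hm).eq.symm), mul_one, mul_inv_cancel]
    exact fun m hm => (Subgroup.mem_centralizer_iff.1 hmem m hm).symm
  have hπc : ∀ i, π (c i) = 1 := fun i => by
    show π ((a * f) ^ i * (a ^ i)⁻¹) = 1
    rw [map_mul, map_inv, map_zpow, map_zpow, map_mul, show π f = 1 from (QuotientGroup.eq_one_iff f).2 hfA,
      mul_one, mul_inv_cancel]
  let θ : G → G := fun x => c (n x) * x
  have hθ : ∀ x y, θ (x * y) = θ x * θ y := by
    intro x y
    have h1 : c (n (x * y)) = c (n x + n y) := hper _ _ (by rw [← hn, map_mul, hn x, hn y, zpow_add])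
    have hm : (a ^ n x)⁻¹ * x ∈ A := (QuotientGroup.eq_one_iff _).1 (by
      show π ((a ^ n x)⁻¹ * x) = 1
      rw [map_mul, map_inv, map_zpow, hn x, inv_mul_cancel])
    have h2 : x * c (n y) * x⁻¹ = a ^ n x * c (n y) * (a ^ n x)⁻¹ := by
      have e := (hcA (n y) _ hm).eq
      calc x * c (n y) * x⁻¹ = a ^ n x * ((a ^ n x)⁻¹ * x * c (n y)) * x⁻¹ := by group
        _ = a ^ n x * (c (n y) * ((a ^ n x)⁻¹ * x)) * x⁻¹ := by rw [e]
        _ = a ^ n x * c (n y) * (a ^ n x)⁻¹ := by group
    show c (n (x * y)) * (x * y) = c (n x) * x * (c (n y) * y)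
    rw [h1]
    calc c (n x + n y) * (x * y) = c (n x) * (a ^ n x * c (n y) * (a ^ n x)⁻¹) * (x * y) := by
          simp only [c, zpow_add]; group
      _ = c (n x) * (x * c (n y) * x⁻¹) * (x * y) := by rw [h2]
      _ = c (n x) * x * (c (n y) * y) := by group
  let θh : G →* G := MonoidHom.mk' θ hθ
  have hinj : Function.Injective θh := by
    rw [injective_iff_map_eq_one]
    intro x hx
    have hx' : c (n x) * x = 1 := hx
    have h1 := congrArg π hx'
    rw [map_mul, hπc, one_mul, map_one] at h1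
    have h2 : c (n x) = c 0 := hper _ _ (by rw [← hn, h1, zpow_zero])
    rw [h2] at hx'
    simpa [c] using hx'
  let Θ : MulAut G := MulEquiv.ofBijective θh (Finite.injective_iff_bijective.1 hinj)
  have hρc : ∀ i, ρ (c i) = ρ f ^ i := by
    intro i
    have hcomm : Commute (ρ a) (ρ f) := commutatorElement_eq_one_iff_mul_comm.1 (by
      rw [← map_commutatorElement]; exact (QuotientGroup.eq_one_iff _).2 (hall a f))
    show ρ ((a * f) ^ i * (a ^ i)⁻¹) = ρ f ^ i
    rw [map_mul, map_inv, map_zpow, map_zpow, map_mul, hcomm.mul_zpow,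
      ((hcomm.zpow_zpow i i).eq), mul_inv_cancel_right]
  have hρf : orderOf (ρ f) = p := orderOf_eq_prime (by rw [← map_pow]; exact (QuotientGroup.eq_one_iff _).2 hfp)
    fun e => hfu ((QuotientGroup.eq_one_iff f).1 e)
  intro x hx
  have hxn : ¬ (p : ℤ) ∣ n x := fun h => hx ((QuotientGroup.eq_one_iff x).1 (by
    show π x = 1
    rw [hn x]
    exact orderOf_dvd_iff_zpow_eq_one.1 (by rw [hπa]; exact h)))
  have hstep : ∀ j : ℕ, π ((Θ ^ j) x) = π x ∧ ρ ((Θ ^ j) x) = ρ f ^ ((j : ℤ) * n x) * ρ x := by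
    intro j
    induction j with
    | zero => simp
    | succ j ih =>
      have he : (Θ ^ (j + 1)) x = c (n ((Θ ^ j) x)) * (Θ ^ j) x := by rw [pow_succ']; rfl
      constructor
      · rw [he, map_mul, hπc, one_mul, ih.1]
      · rw [he, map_mul, hρc, ih.2, ← mul_assoc]
        rw [Nat.cast_succ, add_mul, one_mul, add_comm, zpow_add]
        congr 2
        rw [← orderOf_dvd_sub_iff_zpow_eq_zpow, hρf, ← hπa, orderOf_dvd_sub_iff_zpow_eq_zpow, ← hn, ← hn, ih.1]
  have hmemorb : ∀ j l : Fin p, u ^ l.val * (Θ ^ j.val) x ∈ MulAction.orbit (MulAut G) x := by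
    intro j l
    set y := (Θ ^ j.val) x
    have hy : y ∉ Subgroup.center G := fun h => hx ((QuotientGroup.eq_one_iff x).1 (by
      show π x = 1
      rw [← (hstep j.val).1]; exact (QuotientGroup.eq_one_iff _).2 (hZA h)))
    obtain ⟨g, hg⟩ : ∃ g, ⁅g, y⁆ = u ^ l.val := by
      obtain ⟨g, hg⟩ : ∃ g, ⁅g, y⁆ ≠ 1 := by
        by_contra h
        push Not at h
        exact hy (Subgroup.mem_center_iff.2 fun g => commutatorElement_eq_one_iff_mul_comm.1 (h g))
      have e : Subgroup.zpowers ⁅g, y⁆ = Subgroup.zpowers u := Subgroup.eq_of_le_of_card_ge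
        (Subgroup.zpowers_le.2 (hall g y))
        (by rw [Nat.card_zpowers, Nat.card_zpowers, orderOf_eq_prime (he g y) hg, orderOf_eq_prime hup hu])
      obtain ⟨i, hi⟩ := Subgroup.mem_zpowers_iff.1 (e.ge (pow_mem (Subgroup.mem_zpowers u) l.val))
      let φ : G →* G := MonoidHom.mk' (fun h => ⁅h, y⁆) fun a c => comm_mul_left_of_central (hc c y)
      exact ⟨g ^ i, (map_zpow φ g i).trans hi⟩
    refine ⟨MulAut.conj g * Θ ^ j.val, ?_⟩
    show g * y * g⁻¹ = u ^ l.val * y
    rw [comm_conj_left, hg]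
  let F : Fin p × Fin p → MulAction.orbit (MulAut G) x := fun jl => ⟨_, hmemorb jl.1 jl.2⟩
  have hF : Function.Injective F := by
    rintro ⟨j, l⟩ ⟨j', l'⟩ h
    have h0 : u ^ l.val * (Θ ^ j.val) x = u ^ l'.val * (Θ ^ j'.val) x := congrArg Subtype.val h
    have h1 := congrArg ρ h0
    rw [map_mul, map_mul, map_pow, map_pow, show ρ u = 1 from (QuotientGroup.eq_one_iff u).2 (Subgroup.mem_zpowers u),
      one_pow, one_pow, one_mul, one_mul, (hstep _).2, (hstep _).2] at h1
    have h2 := mul_right_cancel h1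
    rw [← orderOf_dvd_sub_iff_zpow_eq_zpow, hρf, ← sub_mul] at h2
    have h3 : (p : ℤ) ∣ (j.val : ℤ) - j'.val := ((Nat.prime_iff_prime_int.1 hp).dvd_or_dvd h2).resolve_right hxn
    have hjj : j = j' := by
      refine Fin.ext (Nat.ModEq.eq_of_lt_of_lt ?_ j.2 j'.2)
      rw [Nat.modEq_iff_dvd]
      rw [← Int.dvd_neg, neg_sub]
      exact h3
    subst hjj
    have h4 := mul_right_cancel h0
    rw [pow_eq_pow_iff_modEq, orderOf_eq_prime hup hu] at h4
    rw [Fin.ext (h4.eq_of_lt_of_lt l.2 l'.2)]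
  have := Nat.card_le_card_of_injective F hF
  rw [Nat.card_prod, Nat.card_fin, Nat.card_coe_set_eq] at this
  rwa [sq]

theorem mul_card_quotient_le :
    p * Nat.card (MulAction.orbitRel.Quotient (MulAut G) G) ≤ Nat.card G := by
  classical
  have hp := prime_p p hpG hna
  haveI := Fact.mk hp
  have h1 : ∀ x : G, x ∉ Subgroup.center G → p ≤ (MulAction.orbit (MulAut G) x).ncard := fun x hx =>
    (le_index p hpG hna hx).trans (index_le_orbit x)
  have hm := sq_le_index_center p hpG hna
  have hGZ := Subgroup.card_mul_index (Subgroup.center G)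
  have hcentral : ∀ t ∈ Subgroup.center G, (Subgroup.centralizer ({t} : Set G)).index ≤ p := fun t ht => by
    rw [(Subgroup.eq_top_iff' _).2 fun g => Subgroup.mem_centralizer_singleton_iff.2 (Subgroup.mem_center_iff.1 ht g),
      Subgroup.index_top]
    exact hp.one_lt.le
  set K := Subgroup.closure {x : G | (Subgroup.centralizer ({x} : Set G)).index ≤ p} with hKdef
  by_cases hK : K = ⊤
  swap
  · have hbig : ∀ x : G, x ∉ K → p + 1 ≤ (Subgroup.centralizer ({x} : Set G)).index := fun x hx =>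
      Nat.succ_le_iff.2 (not_le.1 fun h => hx (Subgroup.subset_closure h))
    obtain ⟨x₀, hx₀⟩ : ∃ x, x ∉ K := by
      by_contra h
      push Not at h
      exact hK ((Subgroup.eq_top_iff' K).2 h)
    refine orbit_bound p (p + 1) hp.pos (Nat.lt_succ_self p) (K : Set G)ᶜ
      (fun t ht hZ => ht (Subgroup.subset_closure (hcentral t hZ))) h1
      (fun x hx => (hbig x hx).trans (index_le_orbit x)) ?_
    have hm' : p * (p + 1) ≤ (Subgroup.center G).index := by
      set m := (Subgroup.center G).index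
      have hne : m ≠ p ^ 2 := fun e => by
        have := index_le_of_index_center_eq p hpG hna e x₀
        have := hbig x₀ hx₀
        omega
      by_contra hlt
      have hm1 : m ≠ 1 := fun h => by rw [h] at hm; have := Nat.pow_le_pow_left hp.two_le 2; omega
      obtain ⟨t, ht⟩ := Nat.minFac_dvd m
      have hr := le_of_dvd_card p hpG hna ((Nat.minFac_dvd m).trans (Subgroup.index_dvd_card _))
        (Nat.minFac_prime hm1).one_lt.ne'
      have htne : t ≠ 1 := fun e => by
        have hmp : m.Prime := by rw [ht, e, mul_one]; exact Nat.minFac_prime hm1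
        have := (Nat.minFac_le_of_dvd hp.two_le (dvd_refl p))
        have h' : p ^ 2 ≤ m := hm
        have hmm : m.minFac = m := hmp.minFac_eq
        have hq := sq_le_index_center p hpG hna
        exact hna (by
          haveI := Fact.mk hmp
          haveI : IsCyclic (G ⧸ Subgroup.center G) := isCyclic_of_prime_card (p := m) rfl
          exact (QuotientGroup.mk' (Subgroup.center G)).isMulCommutative_of_isCyclic_of_ker_le_center
            (le_of_eq (QuotientGroup.ker_mk' _)))
      have htr : m.minFac ≤ t := Nat.minFac_le_of_dvd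
        (by
          rcases Nat.eq_zero_or_pos t with rfl | h
          · rw [mul_zero] at ht; rw [ht] at hm; have := Nat.pow_le_pow_left hp.two_le 2; omega
          · omega) (Dvd.intro_left _ ht.symm)
      rcases eq_or_lt_of_le hr with h | h
      · rcases eq_or_lt_of_le (h.le.trans htr) with h' | h'
        · exact hne (by rw [ht, ← h, ← h', sq])
        · exact hlt (by rw [ht, ← h]; exact Nat.mul_le_mul_left p h')
      · exact hlt (by rw [ht]; exact Nat.mul_le_mul hr (lt_of_lt_of_le h htr))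
    have hKi : p ≤ K.index := le_of_dvd_card p hpG hna (Subgroup.index_dvd_card _)
      fun h => hK (Subgroup.index_eq_one.1 h)
    have hGK := Subgroup.card_mul_index K
    rw [Set.ncard_compl (K : Set G) (Set.toFinite _), ← Nat.card_coe_set_eq,
      show p + 1 - p = 1 by omega, mul_one]
    refine Nat.le_sub_of_add_le ?_
    have e1 : Nat.card (Subgroup.center G) * (p * (p + 1)) ≤ Nat.card G :=
      hGZ ▸ Nat.mul_le_mul_left _ hm'
    have e2 : p * Nat.card K ≤ Nat.card G := by rw [mul_comm]; exact hGK ▸ Nat.mul_le_mul_left _ hKi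
    refine Nat.le_of_mul_le_mul_left ?_ hp.pos
    calc p * (Nat.card (Subgroup.center G) * ((p - 1) * (p + 1)) + Nat.card ((K : Set G) : Set G))
        = (p - 1) * (Nat.card (Subgroup.center G) * (p * (p + 1))) + p * Nat.card K := by
          rw [show Nat.card ((K : Set G) : Set G) = Nat.card K from rfl]; ring
      _ ≤ (p - 1) * Nat.card G + Nat.card G := Nat.add_le_add (Nat.mul_le_mul_left _ e1) e2
      _ = p * Nat.card G := by
          rw [← Nat.succ_mul, show (p - 1).succ = p by have := hp.pos; omega]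
  obtain ⟨hc, he⟩ := class_two p hpG hna hK
  have hpq : p < p ^ 2 := by rw [sq]; exact lt_mul_of_one_lt_right hp.pos hp.one_lt
  have hsub : p ^ 2 - p = p * (p - 1) := by rw [sq, Nat.mul_sub, mul_one]
  by_cases hT : ∃ y : G, p < (Subgroup.centralizer ({y} : Set G)).index
  · obtain ⟨y, hy⟩ := hT
    have hPq : IsPGroup p (G ⧸ Subgroup.center G) := fun g => by
      obtain ⟨g, rfl⟩ := QuotientGroup.mk'_surjective _ g
      refine ⟨1, ?_⟩
      rw [pow_one, ← map_pow]
      refine (QuotientGroup.eq_one_iff _).2 (Subgroup.mem_center_iff.2 fun h => ?_)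
      exact commutatorElement_eq_one_iff_mul_comm.1 (by rw [comm_pow_right_of_central (hc h g)]; exact he h g)
    refine orbit_bound p (p ^ 2) hp.pos hpq {x : G | p < (Subgroup.centralizer ({x} : Set G)).index}
      (fun t ht hZ => absurd (hcentral t hZ) (not_le.2 ht)) h1 (fun x hx => le_trans ?_ (index_le_orbit x)) ?_
    · obtain ⟨k, hk⟩ := IsPGroup.iff_card.1 hPq
      have hle : Subgroup.center G ≤ Subgroup.centralizer ({x} : Set G) := fun z hz =>
        Subgroup.mem_centralizer_singleton_iff.2 (Subgroup.mem_center_iff.1 hz x).symm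
      obtain ⟨j, -, hj⟩ := (Nat.dvd_prime_pow hp).1
        ((Subgroup.index_dvd_of_le hle).trans (dvd_of_eq (hk : (Subgroup.center G).index = p ^ k)))
      have hx' : p < (Subgroup.centralizer ({x} : Set G)).index := hx
      rw [hj] at hx' ⊢
      refine Nat.pow_le_pow_right hp.pos ?_
      by_contra h
      have : p ^ j ≤ p ^ 1 := Nat.pow_le_pow_right hp.pos (by omega)
      rw [pow_one] at this
      omega
    · rw [hsub]
      calc Nat.card (Subgroup.center G) * ((p - 1) * p ^ 2) = (Nat.card (Subgroup.center G) * p) * (p * (p - 1)) := by ring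
        _ ≤ _ := Nat.mul_le_mul_right _ (large_classes p hpG hna hc he hy)
  · push Not at hT
    obtain ⟨a, b, hab⟩ : ∃ a b : G, ⁅a, b⁆ ≠ 1 := by
      by_contra h
      push Not at h
      exact hna ⟨⟨fun a b => commutatorElement_eq_one_iff_mul_comm.1 (h a b)⟩⟩
    have hspan : ∀ {x g h : G}, ⁅g, x⁆ ≠ 1 → ⁅h, x⁆ ∈ Subgroup.zpowers ⁅g, x⁆ :=
      fun {x g h} hg => (small_span p hpG hna hc he (hT x) hg).2 h
    have hall : ∀ g h : G, ⁅g, h⁆ ∈ Subgroup.zpowers ⁅a, b⁆ := by
      have hba : ⁅b, a⁆ ≠ 1 := fun e => hab (by rw [← commutatorElement_inv b a, e, inv_one])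
      have h1 : ∀ h, ⁅h, b⁆ ∈ Subgroup.zpowers ⁅a, b⁆ := fun h => hspan hab
      have h2 : ∀ h, ⁅h, a⁆ ∈ Subgroup.zpowers ⁅a, b⁆ := fun h => by
        have := hspan (h := h) hba
        rwa [← commutatorElement_inv a b, Subgroup.zpowers_inv] at this
      intro g x
      by_cases hbx : ⁅b, x⁆ = 1
      · have e : ⁅b, x * a⁆ = ⁅b, a⁆ := by rw [comm_mul_right_of_central (hc b a), hbx, one_mul]
        have h3 := hspan (h := g) (e ▸ hba : ⁅b, x * a⁆ ≠ 1)
        rw [e, ← commutatorElement_inv a b, Subgroup.zpowers_inv, comm_mul_right_of_central (hc g a)] at h3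
        have := mul_mem h3 (inv_mem (h2 g))
        rwa [mul_inv_cancel_right] at this
      · refine Subgroup.zpowers_le.2 ?_ (hspan (h := g) hbx)
        rw [← commutatorElement_inv x b]
        exact inv_mem (h1 x)
    obtain ⟨A, a', f, hAn, hAi, hZA, ha, hfA, hfc, hfu, hfp, haf⟩ :=
      exists_merge_data p hpG hna hc he hT _ hab (he a b) (hc a b) hall
    refine orbit_bound p (p ^ 2) hp.pos hpq (A : Set G)ᶜ (fun t ht hZ => ht (hZA hZ)) h1
      (orbit_large p hpG hna hc he hT _ hab (he a b) (hc a b) hall A a' f hAn hAi hZA ha hfA hfc hfu hfp haf) ?_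
    rw [Set.ncard_compl (A : Set G) (Set.toFinite _), ← Nat.card_coe_set_eq, hsub,
      show Nat.card ((A : Set G) : Set G) = Nat.card A from rfl]
    have hGA := Subgroup.card_mul_index A
    rw [hAi] at hGA
    have e1 : Nat.card (Subgroup.center G) * p ≤ Nat.card A := by
      refine Nat.le_of_mul_le_mul_right ?_ hp.pos
      rw [mul_assoc, ← sq, hGA]
      exact hGZ ▸ Nat.mul_le_mul_left _ hm
    rw [← hGA, ← Nat.mul_sub_one]
    calc Nat.card (Subgroup.center G) * ((p - 1) * p ^ 2)
        = (Nat.card (Subgroup.center G) * p) * (p * (p - 1)) := by ring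
      _ ≤ Nat.card A * (p * (p - 1)) := Nat.mul_le_mul_right _ e1
      _ ≤ Nat.card A * (p - 1) * (p * (p - 1)) :=
          Nat.mul_le_mul_right _ (Nat.le_mul_of_pos_right _ (by have := hp.two_le; omega))

end setup

theorem card_quotient_le (hna : ¬ IsMulCommutative G) :
    Nat.card (MulAction.orbitRel.Quotient (MulAut G) G) ≤ Nat.card G / (Nat.card G).minFac := by
  rw [Nat.le_div_iff_mul_le (Nat.minFac_pos _), mul_comm]
  exact mul_card_quotient_le _ rfl hna

end CfsgLib.Orders.AutOrbits
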