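import Cfsg.Agent.Lib.Core.FrobeniusConj
import Cfsg.Agent.Lib.Core.FPFAutomorphism
import Cfsg.Agent.Lib.Core.FPFComplement
import Cfsg.Agent.Lib.PLocal.NormalPComplementThms
import Cfsg.Agent.Lib.OddLocal.FittingHall
import Cfsg.Agent.Lib.Char.Exceptional.Quaternion
import Mathlib

/-!
# The structure of 2-Frobenius groups
-/

set_option autoImplicit false
set_option linter.all false

namespace CfsgLib.Orders.TwoFrobenius

open Subgroup
open scoped Pointwise commutatorElement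

universe u

/-- the kernel data of a Frobenius group, for a given normal kernel -/
theorem frobenius_data {X : Type u} [Group X] [Finite X] (C N : Subgroup X)
    (hC : Cfsg.IsFrobeniusComplement C) (hN : Cfsg.frobeniusKernel C = (N : Set X)) :
    N.Normal ∧ IsComplement' N C ∧ N ≠ ⊥ ∧ Group.IsNilpotent N ∧
      (∀ c ∈ C, c ≠ 1 → N ⊓ centralizer {c} = ⊥) ∧
      ∀ x, x ∉ N → ∀ n ∈ N, x * n = n * x → n = 1 := by
  obtain ⟨N', hN', hn, hcompl, hne, hfpf⟩ := CfsgLib.Core.FrobeniusConj.exists_kernel hC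
  obtain rfl : N' = N := SetLike.ext' (hN'.trans hN)
  obtain ⟨N'', hN'', -, hnil⟩ := CfsgLib.Core.FPFAut.frobeniusKernel_nilpotent
    (fun K _ _ p _ hp P h => CfsgLib.PLocal.hasNormalPComplement_glauberman hp P h) hC
  obtain rfl : N'' = N' := SetLike.ext' (hN''.trans hN)
  refine ⟨hn, hcompl, hne, hnil, hfpf, fun x hx n hnN hcomm => ?_⟩
  have hx1 : x ≠ 1 := fun e => hx (e ▸ one_mem _)
  obtain ⟨g, hg⟩ : ∃ g : X, x ∈ MulAut.conj g • C := by
    by_contra hno
    push Not at hno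
    exact hx (show x ∈ (N'' : Set X) from hN ▸ Or.inr hno)
  rw [CfsgLib.Core.mem_conj_smul_iff] at hg
  have h1 := CfsgLib.Core.FPF.eq_one_of_fixed hfpf hg
    (fun e => hx1 (by rw [show x = g * (g⁻¹ * x * g) * g⁻¹ by group, e, mul_one, mul_inv_cancel]))
    (hn.conj_mem' n hnN g) (by
      calc g⁻¹ * x * g * (g⁻¹ * n * g) = g⁻¹ * (x * n) * g := by group
        _ = g⁻¹ * (n * x) * g := by rw [hcomm]
        _ = g⁻¹ * n * g * (g⁻¹ * x * g) := by group)
  rw [show n = g * (g⁻¹ * n * g) * g⁻¹ by group, h1, mul_one, mul_inv_cancel]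

theorem orderOf_map_dvd_gcd {X Y : Type u} [Group X] [Group Y] [Finite Y] (f : X →* Y) {x : X} {S : Subgroup Y}
    (hx : f x ∈ S) {m : ℕ} (hm : orderOf x ∣ m) (hco : m.Coprime (Nat.card S)) : f x = 1 :=
  orderOf_eq_one_iff.1 (Nat.eq_one_of_dvd_coprimes hco ((orderOf_map_dvd f x).trans hm) (S.orderOf_dvd_natCard hx))

variable {G : Type u} [Group G] [Finite G]

/-- some nontrivial element of a `q`-element's centralizer -/
theorem exists_commute_of_pq {P C₁ : Subgroup G} [P.Normal] (hP : P ≠ ⊥) {r q : ℕ} (hr : r.Prime) (hq : q.Prime)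
    (hrq : r ≠ q) (hC₁ : Nat.card C₁ = r) {y : G} (hy : orderOf y = q) (hyC : y ∈ normalizer (C₁ : Set G))
    (hfpf : ∀ c ∈ C₁, c ≠ 1 → P ⊓ centralizer {c} = ⊥) (hny : ∃ c ∈ C₁, y * c ≠ c * y) :
    ∃ k ∈ P, k ≠ 1 ∧ Commute y k := by
  classical
  by_contra hno
  push Not at hno
  haveI := Fact.mk hq
  haveI := Fact.mk hr
  set Z := zpowers y
  have hZc : Nat.card Z = q := by rw [Nat.card_zpowers, hy]
  have hd : Z ⊓ C₁ = ⊥ := by
    have hco : (Nat.card Z).Coprime (Nat.card C₁) := by rw [hZc, hC₁]; exact (Nat.coprime_primes hq hr).2 hrq.symm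
    exact disjoint_iff.1 (Subgroup.disjoint_of_coprime_natCard hco)
  have hcard : Nat.card (Z ⊔ C₁ : Subgroup G) = q * r := by
    rw [CfsgLib.Core.card_sup_of_disjoint Z C₁ (zpowers_le.2 hyC) hd, hZc, hC₁]
  set A := Z ⊔ C₁
  have hAP : A ≤ normalizer (P : Set G) := by rw [normalizer_eq_top_iff.2 ‹P.Normal›]; exact le_top
  have hC₁A : C₁ ≤ A := le_sup_right
  have hCn : A ≤ normalizer (C₁ : Set G) := sup_le (zpowers_le.2 hyC) le_normalizer
  have hfA : ∀ a ∈ A, a ≠ 1 → P ⊓ centralizer {a} = ⊥ := by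
    intro a ha ha1
    rw [eq_bot_iff]
    rintro k ⟨hk, hka⟩
    rw [mem_bot]
    have hka' : Commute a k := (mem_centralizer_singleton_iff.1 hka).symm
    have hod : orderOf a ∣ q * r := hcard ▸ A.orderOf_dvd_natCard ha
    by_cases hra : r ∣ orderOf a
    · set c := a ^ (orderOf a / r)
      have hc : orderOf c = r := orderOf_pow_orderOf_div (orderOf_pos a).ne' hra
      have hcA : c ∈ A := pow_mem ha _
      have hcC : c ∈ C₁ := by
        have h1 : (C₁.subgroupOf A).Normal := normal_subgroupOf_of_le_normalizer hCn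
        haveI := h1
        have hidx : (C₁.subgroupOf A).index = q := by
          have h2 := card_mul_index (C₁.subgroupOf A)
          rw [Nat.card_congr (subgroupOfEquivOfLe hC₁A).toEquiv, hC₁, hcard, mul_comm q r] at h2
          exact Nat.eq_of_mul_eq_mul_left hr.pos h2
        have h3 : ((⟨c, hcA⟩ : A) : A ⧸ C₁.subgroupOf A) = 1 := by
          rw [← orderOf_eq_one_iff]
          refine Nat.eq_one_of_dvd_coprimes ((Nat.coprime_primes hr hq).2 hrq) ?_ (hidx ▸ orderOf_dvd_natCard _)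
          refine (orderOf_map_dvd (QuotientGroup.mk' _) _).trans ?_
          rw [orderOf_mk, hc]
        exact mem_subgroupOf.1 ((QuotientGroup.eq_one_iff _).1 h3)
      have hc1 : c ≠ 1 := fun e => hr.ne_one (by rw [← hc, e, orderOf_one])
      exact CfsgLib.Core.FPF.eq_one_of_fixed hfpf hcC hc1 hk (hka'.pow_left _).eq
    · have hoq : orderOf a = q := ((Nat.dvd_prime hq).1 (((Nat.Prime.coprime_iff_not_dvd hr).2 hra).symm.dvd_of_dvd_mul_right hod)).resolve_left
        fun e => ha1 (orderOf_eq_one_iff.1 e)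
      have hfac : (Nat.card A).factorization q = 1 := by
        rw [hcard, Nat.factorization_mul hq.ne_zero hr.ne_zero, Finsupp.add_apply, hq.factorization_self,
          Nat.factorization_eq_zero_of_not_dvd fun e => hrq ((Nat.prime_dvd_prime_iff_eq hq hr).1 e).symm]
      have hyA : y ∈ A := (le_sup_left : Z ≤ A) (mem_zpowers y)
      let S₁ : Sylow q A := Sylow.ofCard (zpowers (⟨a, ha⟩ : A))
        (by rw [Nat.card_zpowers, orderOf_mk, hoq, hfac, pow_one])
      let S₂ : Sylow q A := Sylow.ofCard (zpowers (⟨y, hyA⟩ : A))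
        (by rw [Nat.card_zpowers, orderOf_mk, hy, hfac, pow_one])
      obtain ⟨g, hg⟩ := MulAction.exists_smul_eq A S₂ S₁
      have hmem : (g * ⟨y, hyA⟩ * g⁻¹ : A) ∈ (S₁ : Subgroup A) := by
        rw [← hg, Sylow.coe_subgroup_smul, CfsgLib.Core.mem_conj_smul_iff]
        show g⁻¹ * (g * ⟨y, hyA⟩ * g⁻¹) * g ∈ zpowers (⟨y, hyA⟩ : A)
        rw [show g⁻¹ * (g * ⟨y, hyA⟩ * g⁻¹) * g = (⟨y, hyA⟩ : A) by group]
        exact mem_zpowers _
      obtain ⟨i, hi⟩ := mem_zpowers_iff.1 (hmem : (g * ⟨y, hyA⟩ * g⁻¹ : A) ∈ zpowers (⟨a, ha⟩ : A))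
      have hi' : a ^ i = (g : G) * y * (g : G)⁻¹ := congrArg Subtype.val hi
      have hcomm : Commute ((g : G) * y * (g : G)⁻¹) k := hi' ▸ hka'.zpow_left i
      by_contra hk1
      refine hno ((g : G)⁻¹ * k * g) (‹P.Normal›.conj_mem' k hk _) (fun e => hk1 ?_) ?_
      · rw [show k = (g : G) * ((g : G)⁻¹ * k * g) * (g : G)⁻¹ by group, e, mul_one, mul_inv_cancel]
      · show y * ((g : G)⁻¹ * k * g) = (g : G)⁻¹ * k * g * y
        calc y * ((g : G)⁻¹ * k * g) = (g : G)⁻¹ * ((g : G) * y * (g : G)⁻¹ * k) * g := by group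
          _ = (g : G)⁻¹ * (k * ((g : G) * y * (g : G)⁻¹)) * g := by rw [hcomm.eq]
          _ = _ := by group
  haveI := CfsgLib.Core.FPF.isCyclic_of_card_mul hAP hfA hP (B := A) le_rfl hq hr hcard
  letI := IsCyclic.commGroup (α := A)
  obtain ⟨c, hc, hyc⟩ := hny
  exact hyc (congrArg Subtype.val (mul_comm (⟨y, (le_sup_left : Z ≤ A) (mem_zpowers y)⟩ : A) ⟨c, hC₁A hc⟩) :)

theorem structure_thm (H K : Subgroup G) [H.Normal] [K.Normal] (hlt : H < K)
    (hK : ∃ C : Subgroup ↥K, Cfsg.IsFrobeniusComplement C ∧ Cfsg.frobeniusKernel C = (H.subgroupOf K : Set ↥K))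
    (hGH : ∃ C : Subgroup (G ⧸ H), Cfsg.IsFrobeniusComplement C ∧ Cfsg.frobeniusKernel C = (K.map (QuotientGroup.mk' H) : Set (G ⧸ H))) :
    Group.IsSolvable G ∧ Odd (Nat.card (↥K ⧸ H.subgroupOf K)) ∧
      Nat.Coprime (Nat.card (↥K ⧸ H.subgroupOf K)) (Nat.card ↥H * Nat.card (G ⧸ K)) ∧ IsCyclic (G ⧸ K) ∧
      ∀ p q : ℕ, p.Prime → q.Prime → p ≠ q → p ∣ Nat.card G → q ∣ Nat.card G →
        ((∃ g : G, orderOf g = p * q) ↔ (p ∣ Nat.card (↥K ⧸ H.subgroupOf K) ↔ q ∣ Nat.card (↥K ⧸ H.subgroupOf K))) := by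
  classical
  obtain ⟨C, hC, hCker⟩ := hK
  obtain ⟨D, hD, hDker⟩ := hGH
  set N := H.subgroupOf K
  set π := QuotientGroup.mk' H
  set Kb := K.map π with hKb
  obtain ⟨-, hNC, hNne, hNnil, hCfpf, hKfpf⟩ := frobenius_data C N hC hCker
  obtain ⟨hKbn, hKD, hKbne, hKbnil, hDfpf, hGfpf⟩ := frobenius_data D Kb hD hDker
  haveI := hKbn
  haveI := hNnil
  haveI hHnil : Group.IsNilpotent H := Group.nilpotent_of_mulEquiv (subgroupOfEquivOfLe hlt.le)
  have hHne : H ≠ ⊥ := fun e => hNne (by simp [N, e])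
  have hHcard : Nat.card N = Nat.card H := Nat.card_congr (subgroupOfEquivOfLe hlt.le).toEquiv
  set c := Nat.card (↥K ⧸ N) with hcdef
  have hcC : Nat.card C = c := hNC.symm.index_eq_card.symm
  have hNnorm : C ≤ normalizer (N : Set K) := by rw [normalizer_eq_top_iff.2 inferInstance]; exact le_top
  have hcopCN : c.Coprime (Nat.card H) := by
    rw [← hHcard, ← hcC]; exact CfsgLib.Core.FPF.coprime_card hNnorm hCfpf
  have hDnorm : D ≤ normalizer (Kb : Set (G ⧸ H)) := by rw [normalizer_eq_top_iff.2 inferInstance]; exact le_top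
  -- `C` maps isomorphically onto the kernel of `G ⧸ H`
  let φ : C →* Kb := MonoidHom.mk' (fun x => ⟨π ((x : K) : G), mem_map_of_mem π (x : K).2⟩)
    fun a b => Subtype.ext (map_mul π _ _)
  have hφ : Function.Bijective φ := by
    constructor
    · rw [injective_iff_map_eq_one]
      intro x hx
      have h1 : ((x : K) : G) ∈ H := (QuotientGroup.eq_one_iff _).1 (congrArg Subtype.val hx)
      exact Subtype.ext (disjoint_def.1 hNC.disjoint (mem_subgroupOf.2 h1) x.2)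
    · rintro ⟨_, k, hk, rfl⟩
      obtain ⟨⟨⟨n, hn⟩, x⟩, hnx⟩ := hNC.2 ⟨k, hk⟩
      refine ⟨x, Subtype.ext ?_⟩
      show π ((x : K) : G) = π k
      have : k = (n : G) * ((x : K) : G) := (congrArg Subtype.val hnx).symm
      rw [this, map_mul, show π (n : G) = 1 from (QuotientGroup.eq_one_iff _).2 (mem_subgroupOf.1 hn), one_mul]
  let e : C ≃* Kb := MulEquiv.ofBijective φ hφ
  have hKbc : Nat.card Kb = c := by rw [← Nat.card_congr e.toEquiv, hcC]
  let f : G ⧸ H →* G ⧸ K := QuotientGroup.map H K (MonoidHom.id G) hlt.le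
  have hfπ : ∀ g : G, f (π g) = QuotientGroup.mk' K g := fun g => rfl
  have hfker : ∀ x, f x = 1 → x ∈ Kb := by
    intro x hx
    obtain ⟨g, rfl⟩ := QuotientGroup.mk'_surjective H x
    exact mem_map_of_mem π ((QuotientGroup.eq_one_iff g).1 (show QuotientGroup.mk' K g = 1 from (hfπ g).symm.trans hx))
  have hKbf : ∀ x ∈ Kb, f x = 1 := by
    rintro _ ⟨k, hk, rfl⟩
    rw [hfπ]; exact (QuotientGroup.eq_one_iff k).2 hk
  have hfD : Function.Bijective (f.comp D.subtype) := by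
    constructor
    · rw [injective_iff_map_eq_one]
      intro d hd
      exact Subtype.ext (disjoint_def.1 hKD.disjoint (hfker _ hd) d.2)
    · intro z
      obtain ⟨g, rfl⟩ := QuotientGroup.mk'_surjective K z
      obtain ⟨⟨⟨k, hk⟩, d⟩, hkd⟩ := hKD.2 (π g)
      refine ⟨d, ?_⟩
      show f (d : G ⧸ H) = _
      rw [← hfπ g, ← hkd]
      show f (d : G ⧸ H) = f (k * (d : G ⧸ H))
      rw [map_mul, hKbf k hk, one_mul]
  let e' : D ≃* G ⧸ K := MulEquiv.ofBijective _ hfD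
  have hcopD : c.Coprime (Nat.card (G ⧸ K)) := by
    rw [← hKbc, ← Nat.card_congr e'.toEquiv]
    exact (CfsgLib.Core.FPF.coprime_card hDnorm hDfpf).symm
  have hcop : c.Coprime (Nat.card H * Nat.card (G ⧸ K)) := Nat.Coprime.mul_right hcopCN hcopD
  have hC1 : c ≠ 1 := fun e1 => hC.1 (card_eq_one.1 (hcC.trans e1))
  -- `C` has odd order
  have hodd : ¬ 2 ∣ c := by
    intro h2
    haveI := Fact.mk Nat.prime_two
    obtain ⟨⟨s, hsC, hs2, huniq, -⟩, -⟩ := CfsgLib.Core.FPF.exists_unique_involution hNnorm hCfpf hNne (hcC.symm ▸ h2)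
    set sb := e ⟨s, hsC⟩ with hsbdef
    have hsb : orderOf sb = 2 := by
      rw [show orderOf sb = orderOf (⟨s, hsC⟩ : C) from orderOf_injective e.toMonoidHom e.injective _, orderOf_mk, hs2]
    obtain ⟨d, hd, hd1⟩ : ∃ d ∈ D, d ≠ 1 := by
      by_contra hno; push Not at hno; exact hD.1 ((eq_bot_iff_forall D).2 hno)
    let w : Kb := ⟨d * (sb : G ⧸ H) * d⁻¹, hKbn.conj_mem _ sb.2 d⟩
    have hw : orderOf w = 2 := by
      rw [← Subgroup.orderOf_coe, show orderOf ((w : Kb) : G ⧸ H) = orderOf (sb : G ⧸ H) from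
        orderOf_injective (MulAut.conj d).toMonoidHom (MulAut.conj d).injective _, Subgroup.orderOf_coe, hsb]
    have h1 : orderOf (((e.symm w : C) : K)) = 2 := by
      rw [Subgroup.orderOf_coe, show orderOf (e.symm w) = orderOf w from
        orderOf_injective e.symm.toMonoidHom e.symm.injective _, hw]
    have h3 : e.symm w = ⟨s, hsC⟩ := Subtype.ext (huniq _ (e.symm w).2 h1)
    have h4 : w = sb := by rw [hsbdef, ← h3, MulEquiv.apply_symm_apply]
    have h5 : d * (sb : G ⧸ H) * d⁻¹ = sb := congrArg Subtype.val h4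
    have h6 := CfsgLib.Core.FPF.eq_one_of_fixed hDfpf hd hd1 sb.2 (mul_inv_eq_iff_eq_mul.1 h5)
    rw [← Subgroup.orderOf_coe, h6, orderOf_one] at hsb
    norm_num at hsb
  haveI : IsZGroup C := CfsgLib.Core.FPF.isZGroup_of_odd hNnorm hCfpf hNne (by rw [hcC]; exact hodd)
  haveI := hKbnil
  haveI : Group.IsNilpotent C := Group.nilpotent_of_mulEquiv e.symm
  haveI hCcyc : IsCyclic C := inferInstance
  haveI hKbcyc : IsCyclic Kb := e.isCyclic.1 hCcyc
  obtain ⟨⟨k₀, hk₀⟩, hk₀gen⟩ := hKbcyc.exists_generator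
  haveI hDcomm : IsMulCommutative D := by
    refine ⟨⟨fun a b => ?_⟩⟩
    have hconj : ∀ d : G ⧸ H, ∃ i : ℤ, d * k₀ * d⁻¹ = k₀ ^ i := fun d => by
      obtain ⟨i, hi⟩ := mem_zpowers_iff.1 (hk₀gen ⟨d * k₀ * d⁻¹, hKbn.conj_mem k₀ hk₀ d⟩)
      exact ⟨i, (congrArg Subtype.val hi).symm⟩
    obtain ⟨i, hi⟩ := hconj a
    obtain ⟨j, hj⟩ := hconj b
    have hk0 : k₀ ≠ 1 := fun h0 => hKbne ((eq_bot_iff_forall Kb).2 fun x hx => by
      obtain ⟨t, ht⟩ := mem_zpowers_iff.1 (hk₀gen ⟨x, hx⟩)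
      have : k₀ ^ t = x := congrArg Subtype.val ht
      rw [← this, h0, one_zpow])
    have hconjeq : ((a : G ⧸ H) * b) * k₀ * ((a : G ⧸ H) * b)⁻¹ = ((b : G ⧸ H) * a) * k₀ * ((b : G ⧸ H) * a)⁻¹ := by
      calc ((a : G ⧸ H) * b) * k₀ * ((a : G ⧸ H) * b)⁻¹ = a * ((b : G ⧸ H) * k₀ * (b : G ⧸ H)⁻¹) * (a : G ⧸ H)⁻¹ := by group
        _ = k₀ ^ (i * j) := by rw [hj, ← conj_zpow, hi, zpow_mul]
        _ = k₀ ^ (j * i) := by rw [mul_comm]
        _ = b * ((a : G ⧸ H) * k₀ * (a : G ⧸ H)⁻¹) * (b : G ⧸ H)⁻¹ := by rw [hi, ← conj_zpow, hj, zpow_mul]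
        _ = _ := by group
    by_contra hne
    have hne' : ((b : G ⧸ H) * a)⁻¹ * ((a : G ⧸ H) * b) ≠ 1 := fun h1 => hne (Subtype.ext (inv_mul_eq_one.1 h1).symm)
    refine hk0 (CfsgLib.Core.FPF.eq_one_of_fixed hDfpf (mul_mem (inv_mem (mul_mem b.2 a.2)) (mul_mem a.2 b.2)) hne' hk₀ ?_)
    apply mul_inv_eq_iff_eq_mul.1
    calc ((b : G ⧸ H) * a)⁻¹ * ((a : G ⧸ H) * b) * k₀ * (((b : G ⧸ H) * a)⁻¹ * ((a : G ⧸ H) * b))⁻¹
        = ((b : G ⧸ H) * a)⁻¹ * (((a : G ⧸ H) * b) * k₀ * ((a : G ⧸ H) * b)⁻¹) * ((b : G ⧸ H) * a) := by group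
      _ = k₀ := by rw [hconjeq]; group
  haveI hDcyc : IsCyclic D := CfsgLib.Core.FPF.isCyclic_of_isMulCommutative hDnorm hDfpf hKbne le_rfl
  haveI hGKcyc : IsCyclic (G ⧸ K) := e'.isCyclic.1 hDcyc
  haveI hsol : Group.IsSolvable G := by
    haveI : Group.IsSolvable H := inferInstance
    haveI : Group.IsSolvable Kb := by letI := IsCyclic.commGroup (α := Kb); infer_instance
    haveI : Group.IsSolvable (G ⧸ K) := by letI := IsCyclic.commGroup (α := G ⧸ K); infer_instance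
    haveI : Group.IsSolvable (G ⧸ H) := Group.isSolvable_of_ker_le_range Kb.subtype f
      (fun x hx => by rw [range_subtype]; exact hfker x hx)
    exact Group.isSolvable_of_ker_le_range H.subtype π (by rw [QuotientGroup.ker_mk', range_subtype])
  have hcardG : Nat.card G = Nat.card H * c * Nat.card (G ⧸ K) := by
    rw [card_eq_card_quotient_mul_card_subgroup K, ← hHcard, ← hcC,
      show Nat.card K = Nat.card N * Nat.card C from hNC.card_mul_card.symm]
    ring
  refine ⟨hsol, Nat.odd_iff.2 (by omega), hcop, hGKcyc, ?_⟩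
  have hcH : ∀ p, p.Prime → p ∣ c → ¬ p ∣ Nat.card H ∧ ¬ p ∣ Nat.card (G ⧸ K) := fun p hp hpc =>
    ⟨fun h => hp.ne_one (Nat.eq_one_of_dvd_coprimes hcopCN hpc h), fun h => hp.ne_one (Nat.eq_one_of_dvd_coprimes hcopD hpc h)⟩
  -- no element of mixed order
  have hmix : ∀ p q : ℕ, p.Prime → q.Prime → p ≠ q → p ∣ c → ¬ q ∣ c → ∀ g : G, orderOf g ≠ p * q := by
    intro p q hp hq hpq hpc hqc g hg
    set x := g ^ q with hxdef
    set y := g ^ p with hydef
    have hgf : IsOfFinOrder g := isOfFinOrder_of_finite g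
    have hx : orderOf x = p := by
      rw [hxdef, hgf.orderOf_pow, hg, Nat.gcd_eq_right (dvd_mul_left q p), Nat.mul_div_cancel _ hq.pos]
    have hy : orderOf y = q := by
      rw [hydef, hgf.orderOf_pow, hg, Nat.gcd_eq_right (dvd_mul_right p q), Nat.mul_div_cancel_left _ hp.pos]
    have hxy : Commute x y := Commute.pow_pow (Commute.refl g) q p
    have hxK : x ∈ K := (QuotientGroup.eq_one_iff x).1 (orderOf_map_dvd_gcd (QuotientGroup.mk' K) (S := ⊤) (mem_top _) hx.dvd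
      (by rw [card_top]; exact hp.coprime_iff_not_dvd.2 (hcH p hp hpc).2))
    have hxH : x ∉ H := fun h => (hcH p hp hpc).1 (hx ▸ H.orderOf_dvd_natCard h)
    by_cases hyK : y ∈ K
    · have hyH : y ∈ H := (QuotientGroup.eq_one_iff y).1 (orderOf_map_dvd_gcd π (mem_map_of_mem π hyK : π y ∈ Kb) hy.dvd
        (by rw [hKbc]; exact hq.coprime_iff_not_dvd.2 hqc))
      have := hKfpf ⟨x, hxK⟩ (fun h => hxH (mem_subgroupOf.1 h)) ⟨y, hyK⟩ (mem_subgroupOf.2 hyH) (Subtype.ext hxy.eq)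
      rw [show y = 1 from congrArg Subtype.val this, orderOf_one] at hy
      exact hq.one_lt.ne hy
    · have h1 : π y ∉ Kb := fun h => hyK ((QuotientGroup.eq_one_iff y).1 (by
        show QuotientGroup.mk' K y = 1
        rw [← hfπ]; exact hKbf _ h))
      exact hxH ((QuotientGroup.eq_one_iff x).1 (hGfpf (π y) h1 (π x) (mem_map_of_mem π hxK) (hxy.symm.map π).eq))
  intro p q hp hq hpq hpG hqG
  constructor
  · rintro ⟨g, hg⟩
    constructor
    · intro hpc
      by_contra hqc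
      exact hmix p q hp hq hpq hpc hqc g hg
    · intro hqc
      by_contra hpc
      exact hmix q p hq hp hpq.symm hqc hpc g (hg.trans (mul_comm p q))
  intro hiff
  have hcoppq : p.Coprime q := (Nat.coprime_primes hp hq).2 hpq
  by_cases hpc : p ∣ c
  · have hd : p * q ∣ c := hcoppq.mul_dvd_of_dvd_of_dvd hpc (hiff.1 hpc)
    obtain ⟨gC, hgC⟩ := hCcyc.exists_generator
    have ho := orderOf_eq_card_of_forall_mem_zpowers hgC
    rw [hcC, ← Subgroup.orderOf_coe, ← Subgroup.orderOf_coe] at ho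
    exact ⟨_, orderOf_pow_orderOf_div (x := ((gC : K) : G)) (orderOf_pos _).ne' (ho.symm ▸ hd)⟩
  have hqc : ¬ q ∣ c := fun h => hpc (hiff.2 h)
  have hpi : ∀ p, p.Prime → p ∣ Nat.card G → ¬ p ∣ c → p ∣ Nat.card H ∨ p ∣ Nat.card (G ⧸ K) := by
    intro p hp hpG hpc
    rw [hcardG] at hpG
    rcases hp.dvd_mul.1 hpG with h | h
    · exact Or.inl ((hp.dvd_mul.1 h).resolve_right hpc)
    · exact Or.inr h
  -- `p` dividing `|H|` and `q` dividing `|G / K|` but not `|H|`
  have hkey : ∀ p q, p.Prime → q.Prime → p ≠ q → p ∣ Nat.card H → q ∣ Nat.card (G ⧸ K) → ¬ q ∣ Nat.card H →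
      ¬ q ∣ c → ∃ g : G, orderOf g = p * q := by
    intro p q hp hq hpq hpH hqK hqH hqc
    haveI := Fact.mk hp
    haveI := Fact.mk hq
    obtain ⟨r, hr, hrc⟩ := Nat.exists_prime_and_dvd hC1
    haveI := Fact.mk hr
    have hcardK : Nat.card K = Nat.card H * c := by rw [← hHcard, ← hcC]; exact hNC.card_mul_card.symm
    obtain ⟨R⟩ : Nonempty (Sylow r K) := inferInstance
    set R' := (R : Subgroup K).map K.subtype
    have hRtop : normalizer (R' : Set G) ⊔ K = ⊤ := Sylow.normalizer_sup_eq_top R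
    have hR'p : IsPGroup r R' := R.isPGroup'.map _
    obtain ⟨y, hyN, hy⟩ : ∃ y ∈ normalizer (R' : Set G), orderOf y = q := by
      let ψ := (QuotientGroup.mk' K).comp (normalizer (R' : Set G)).subtype
      have hs : Function.Surjective ψ := fun z => by
        obtain ⟨g, rfl⟩ := QuotientGroup.mk'_surjective K z
        obtain ⟨a, ha, b, hb, rfl⟩ := mem_sup_of_normal_right.1 (hRtop.ge (mem_top g))
        refine ⟨⟨a, ha⟩, ?_⟩
        show QuotientGroup.mk' K a = QuotientGroup.mk' K (a * b)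
        rw [map_mul, show QuotientGroup.mk' K b = 1 from (QuotientGroup.eq_one_iff b).2 hb, mul_one]
      obtain ⟨⟨y, hyN⟩, hy⟩ := exists_prime_orderOf_dvd_card' q (hqK.trans (Subgroup.card_dvd_of_surjective ψ hs))
      exact ⟨y, hyN, by rwa [orderOf_mk] at hy⟩
    obtain ⟨z, hz⟩ := exists_prime_orderOf_dvd_card' (G := (R : Subgroup K)) r (R.dvd_card_of_dvd_card (hcardK ▸ Dvd.dvd.mul_left hrc _))
    set z0 : G := ((z : K) : G) with hz0
    have hz0r : orderOf z0 = r := by rw [hz0, Subgroup.orderOf_coe, Subgroup.orderOf_coe, hz]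
    have hz0R : z0 ∈ R' := mem_map_of_mem _ z.2
    have hrH : ¬ r ∣ Nat.card H := (hcH r hr hrc).1
    have hz0H : z0 ∉ H := fun h => hrH (hz0r ▸ H.orderOf_dvd_natCard h)
    have hR'H : R' ⊓ H = ⊥ := disjoint_iff.1 (disjoint_of_coprime_natCard (by
      obtain ⟨i, hi⟩ := IsPGroup.iff_card.1 hR'p
      rw [hi]; exact ((hr.coprime_iff_not_dvd).2 hrH).pow_left i))
    have hπR : ∀ a ∈ R', π a = 1 → a = 1 := fun a ha h1 =>
      mem_bot.1 (hR'H ▸ ⟨ha, (QuotientGroup.eq_one_iff a).1 h1⟩)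
    -- `y` normalises the subgroup of order `r`
    have hmemKb : ∀ a ∈ R', π a ∈ Kb := by rintro _ ⟨k, -, rfl⟩; exact mem_map_of_mem π k.2
    have hconj : ∀ a ∈ R', orderOf a = r → a ∈ zpowers z0 := by
      intro a ha har
      have hu : ∀ b (hb : b ∈ R'), orderOf b = r → orderOf (⟨π b, hmemKb b hb⟩ : Kb) = r := fun b hb hbr => by
        rw [orderOf_mk]
        refine orderOf_eq_prime (by rw [← map_pow, ← hbr, pow_orderOf_eq_one, map_one]) fun h1 => ?_
        rw [hπR b hb h1, orderOf_one] at hbr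
        exact hr.one_lt.ne hbr
      have h1 := hu a ha har
      have h2 := hu z0 hz0R hz0r
      have h3 : (⟨π a, hmemKb a ha⟩ : Kb) ∈ zpowers (⟨π z0, hmemKb z0 hz0R⟩ : Kb) := by
        haveI : IsCyclic (⊤ : Subgroup Kb) := Subgroup.topEquiv.symm.isCyclic.1 hKbcyc
        exact CfsgLib.Char.Exceptional.mem_of_pow_card_eq_one (A := ⊤) le_top (mem_top _)
          (by rw [Nat.card_zpowers, h2, ← h1, pow_orderOf_eq_one])
      obtain ⟨i, hi⟩ := mem_zpowers_iff.1 h3
      have hi' : π z0 ^ i = π a := congrArg Subtype.val hi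
      have h4 := hπR ((z0 ^ i)⁻¹ * a) (mul_mem (inv_mem (zpow_mem hz0R i)) ha)
        (by rw [map_mul, map_inv, map_zpow, hi', inv_mul_cancel])
      exact inv_mul_eq_one.1 h4 ▸ zpow_mem (mem_zpowers z0) i
    set C₁ := zpowers z0
    have hyC : y ∈ normalizer (C₁ : Set G) := by
      have hz' : y * z0 * y⁻¹ ∈ C₁ := hconj _ ((mem_normalizer_iff.1 hyN z0).1 hz0R)
        (by rw [show orderOf (y * z0 * y⁻¹) = orderOf z0 from orderOf_injective (MulAut.conj y).toMonoidHom (MulAut.conj y).injective z0, hz0r])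
      rw [CfsgLib.Core.mem_normalizer_iff_conj_smul_eq]
      refine eq_of_le_of_card_ge ?_ (CfsgLib.Core.card_conj_smul _ _).ge
      intro a ha
      rw [CfsgLib.Core.mem_conj_smul_iff] at ha
      obtain ⟨i, hi⟩ := mem_zpowers_iff.1 ha
      rw [show a = y * (y⁻¹ * a * y) * y⁻¹ by group, ← hi, ← conj_zpow]
      exact zpow_mem hz' i
    obtain ⟨P⟩ : Nonempty (Sylow p H) := inferInstance
    haveI : (P : Subgroup H).Normal :=
      P.normal_of_normalizerCondition Group.normalizerCondition_of_isNilpotent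
    haveI : (P : Subgroup H).Characteristic := P.characteristic_of_normal inferInstance
    set P' := (P : Subgroup H).map H.subtype
    haveI : P'.Normal := inferInstance
    have hP'ne : P' ≠ ⊥ := fun h => P.ne_bot_of_dvd_card hpH ((map_eq_bot_iff_of_injective _ H.subtype_injective).1 h)
    have hyK : π y ∉ Kb := fun h => by
      have hyK : y ∈ K := (QuotientGroup.eq_one_iff y).1 (by
        show QuotientGroup.mk' K y = 1
        rw [← hfπ]; exact hKbf _ h)
      have := K.orderOf_dvd_natCard hyK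
      rw [hy, hcardK] at this
      exact (hq.dvd_mul.1 this).elim hqH hqc
    have hfpf1 : ∀ a ∈ C₁, a ≠ 1 → P' ⊓ centralizer {a} = ⊥ := by
      intro a ha ha1
      rw [eq_bot_iff]
      rintro k ⟨hk, hka⟩
      rw [mem_bot]
      have haR : a ∈ R' := (zpowers_le.2 hz0R) ha
      obtain ⟨a', -, rfl⟩ := haR
      have hkH : k ∈ H := map_subtype_le _ hk
      have := hKfpf a' (fun h => ha1 (hπR _ ((zpowers_le.2 hz0R) ha) ((QuotientGroup.eq_one_iff _).2 (mem_subgroupOf.1 h))))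
        ⟨k, hlt.le hkH⟩ (mem_subgroupOf.2 hkH) (Subtype.ext (mem_centralizer_singleton_iff.1 hka).symm)
      exact congrArg Subtype.val this
    obtain ⟨k, hk, hk1, hyk⟩ := exists_commute_of_pq (P := P') hP'ne hr hq (fun h => hqc (h ▸ hrc))
      (by rw [Nat.card_zpowers, hz0r]) hy hyC hfpf1
      ⟨z0, mem_zpowers z0, fun hcm => hz0H ((QuotientGroup.eq_one_iff z0).1
        (hGfpf (π y) hyK (π z0) (hmemKb z0 hz0R) ((show Commute y z0 from hcm).map π).eq))⟩
    obtain ⟨i, hi⟩ := IsPGroup.iff_orderOf.1 (P.isPGroup'.map H.subtype) ⟨k, hk⟩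
    rw [orderOf_mk] at hi
    have hi0 : i ≠ 0 := fun h => hk1 (orderOf_eq_one_iff.1 (by rw [hi, h, pow_zero]))
    have hk' := orderOf_pow_orderOf_div (x := k) (orderOf_pos k).ne' (hi ▸ dvd_pow_self p hi0 : p ∣ orderOf k)
    refine ⟨k ^ (orderOf k / p) * y, ?_⟩
    rw [(hyk.symm.pow_left _).orderOf_mul_eq_mul_orderOf_of_coprime (by rw [hk', hy]; exact (Nat.coprime_primes hp hq).2 hpq),
      hk', hy]
  by_cases hpH : p ∣ Nat.card H <;> by_cases hqH : q ∣ Nat.card H
  · haveI := Fact.mk hp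
    haveI := Fact.mk hq
    obtain ⟨a, ha⟩ := exists_prime_orderOf_dvd_card' p hpH
    obtain ⟨b, hb⟩ := exists_prime_orderOf_dvd_card' q hqH
    have hab := CfsgLib.OddLocal.commute_of_coprime_orderOf (G := H) hHnil (x := a) (y := b) (by rw [ha, hb]; exact hcoppq)
    exact ⟨((a * b : H) : G), by rw [Subgroup.orderOf_coe, hab.orderOf_mul_eq_mul_orderOf_of_coprime (by rw [ha, hb]; exact hcoppq), ha, hb]⟩
  · exact hkey p q hp hq hpq hpH ((hpi q hq hqG hqc).resolve_left hqH) hqH hqc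
  · obtain ⟨g, hg⟩ := hkey q p hq hp hpq.symm hqH ((hpi p hp hpG hpc).resolve_left hpH) hpH hpc
    exact ⟨g, hg.trans (mul_comm q p)⟩
  · obtain ⟨z, hz⟩ := hGKcyc.exists_generator
    obtain ⟨g, rfl⟩ := QuotientGroup.mk'_surjective K z
    have ho := orderOf_eq_card_of_forall_mem_zpowers hz
    have hd : p * q ∣ orderOf g := (hcoppq.mul_dvd_of_dvd_of_dvd ((hpi p hp hpG hpc).resolve_left hpH)
      ((hpi q hq hqG hqc).resolve_left hqH)).trans (ho ▸ orderOf_map_dvd _ g)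
    exact ⟨_, orderOf_pow_orderOf_div (orderOf_pos g).ne' hd⟩

end CfsgLib.Orders.TwoFrobenius
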