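import Cfsg.Agent.Lib.Core.FrobeniusConj
import Cfsg.Agent.Lib.Core.FPFComplement
import Cfsg.Agent.Lib.Core.Coprime
import Cfsg.Agent.Lib.Core.Cores
import Cfsg.Agent.Lib.Components.FStar
import Cfsg.Agent.Lib.ClassSizes.CyclicSylow
import Cfsg.Agent.Lib.Char.Burnside
import Cfsg.Agent.Lib.Orders.TwoFrobenius
import Mathlib

/-!
# Solvability of Frobenius complements and groups read off from element counts
-/

set_option autoImplicit false
set_option linter.all false

namespace CfsgLib.Orders.ComplementSolvable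

open Subgroup
open scoped Pointwise commutatorElement

universe u

variable {G : Type u} [Group G] [Finite G] {A K : Subgroup G}
  (hAK : A ≤ normalizer (K : Set G))
  (hfpf : ∀ a ∈ A, a ≠ 1 → K ⊓ centralizer {a} = ⊥) (hK : K ≠ ⊥)

include hAK hfpf hK

theorem cyclic_or_quaternion {q : ℕ} [Fact q.Prime] {Q : Subgroup G} (hQA : Q ≤ A) (hQ : IsPGroup q Q) :
    IsCyclic Q ∨ (q = 2 ∧ ∃ n : ℕ, Nonempty (Q ≃* QuaternionGroup (2 ^ n))) := by
  refine CfsgLib.Core.UniqueOrderP.isCyclic_or_quaternion_of_unique hQ fun X Y hX hY => ?_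
  apply map_injective Q.subtype_injective
  refine CfsgLib.Core.FPF.subgroup_order_prime_unique hAK hfpf hK hQA Fact.out hQ
    (map_subtype_le X) (map_subtype_le Y) ?_ ?_
  · rw [← Nat.card_congr (X.equivMapOfInjective _ Q.subtype_injective).toEquiv, hX]
  · rw [← Nat.card_congr (Y.equivMapOfInjective _ Q.subtype_injective).toEquiv, hY]

/-- an element of prime order `p ≥ 5` centralises the `p'`-primary subgroups it normalises -/
theorem centralizes_primary {p q : ℕ} (hp : p.Prime) (hp5 : 5 ≤ p) [Fact q.Prime] (hne : q ≠ p) {Q : Subgroup G}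
    (hQA : Q ≤ A) (hQ : IsPGroup q Q) {a : G} (ha : a ∈ A) (hap : orderOf a = p)
    (hn : a ∈ normalizer (Q : Set G)) : ∀ s ∈ Q, Commute a s := by
  classical
  haveI := Fact.mk hp
  rcases cyclic_or_quaternion hAK hfpf hK hQA hQ with hcyc | ⟨hq2, n, ⟨e⟩⟩
  · refine CfsgLib.ClassSizes.CyclicSylow.commute_of_fix hQ hn (by rw [hap]; exact (Nat.coprime_primes hp Fact.out).2 hne.symm) ?_
    intro w hw hwq
    refine CfsgLib.Core.FPF.commute_of_prime_orders hAK hfpf hK ha (hQA hw) (hap ▸ hp) (hwq ▸ Fact.out) ?_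
    have hw' : a * w * a⁻¹ ∈ Q := (mem_normalizer_iff.1 hn w).1 hw
    have heq : zpowers (a * w * a⁻¹) = zpowers w :=
      CfsgLib.Core.FPF.subgroup_order_prime_unique hAK hfpf hK hQA Fact.out hQ (zpowers_le.2 hw') (zpowers_le.2 hw)
        (by rw [Nat.card_zpowers, ← hwq]; exact (MulAut.conj a).orderOf_eq w) (by rw [Nat.card_zpowers, hwq])
    refine Subgroup.mem_normalizer_iff.2 fun x => ?_
    have hmap : (zpowers w).map (MulAut.conj a).toMonoidHom = zpowers w :=
      (MonoidHom.map_zpowers _ w).trans heq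
    constructor
    · intro hx
      exact hmap ▸ mem_map_of_mem _ hx
    · intro hx
      rw [← hmap] at hx
      obtain ⟨y, hy, hyx⟩ := mem_map.1 hx
      exact (MulAut.conj a).injective hyx ▸ hy
  · subst hq2
    haveI : NeZero (2 ^ n) := ⟨(Nat.two_pow_pos n).ne'⟩
    -- two generators, so at most four cosets of the Frattini subgroup
    set x1 := e.symm (QuaternionGroup.a 1)
    set x2 := e.symm (QuaternionGroup.xa 0)
    have hgen : closure ((({x1, x2} : Finset Q)) : Set Q) = ⊤ := by
      rw [eq_top_iff]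
      intro x _
      have h1 : x1 ∈ closure ((({x1, x2} : Finset Q)) : Set Q) := subset_closure (by simp)
      have h2 : x2 ∈ closure ((({x1, x2} : Finset Q)) : Set Q) := subset_closure (by simp)
      obtain ⟨y, rfl⟩ := e.symm.surjective x
      rcases y with i | i
      · rw [show (QuaternionGroup.a i : QuaternionGroup (2 ^ n)) = QuaternionGroup.a 1 ^ i.val by
          rw [QuaternionGroup.a_one_pow, ZMod.natCast_zmod_val], map_pow]
        exact pow_mem h1 _
      · rw [show (QuaternionGroup.xa i : QuaternionGroup (2 ^ n)) = QuaternionGroup.xa 0 * QuaternionGroup.a 1 ^ i.val by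
          rw [QuaternionGroup.a_one_pow, ZMod.natCast_zmod_val, QuaternionGroup.xa_mul_a, zero_add], map_mul, map_pow]
        exact mul_mem h2 (pow_mem h1 _)
    obtain ⟨d, hd⟩ := (hQ.index (frattini Q))
    have hd2 : d ≤ 2 := ((CfsgLib.Core.burnside_basis hQ hd).2 _ hgen).trans Finset.card_le_two
    let Φ := frattini Q
    have hcard : Nat.card (Q ⧸ Φ) ≤ 4 := by
      rw [← index_eq_card, hd]
      exact (Nat.pow_le_pow_right two_pos hd2).trans (by norm_num)
    set β : MulAut Q := Subgroup.normalizerMonoidHom Q ⟨a, hn⟩ with hβdef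
    have hβ : ∀ k : Q, ((β k : Q) : G) = a * k * a⁻¹ := fun k => rfl
    have hβp : ∀ k : Q, (β ^ p) k = k := fun k => by
      have : β ^ p = 1 := by
        rw [hβdef, ← map_pow, show (⟨a, hn⟩ : normalizer (Q : Set G)) ^ p = 1 from
          Subtype.ext (by rw [SubmonoidClass.coe_pow, ← hap, pow_orderOf_eq_one]; rfl), map_one]
      rw [this]; rfl
    have hΦ : Φ.map β.toMonoidHom = Φ :=
      Subgroup.characteristic_iff_map_eq.1 inferInstance β
    set σ : Equiv.Perm (Q ⧸ Φ) := (QuotientGroup.congr Φ Φ β hΦ).toEquiv with hσdef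
    have hσ : ∀ (j : ℕ) (k : Q), (σ ^ j) (k : Q ⧸ Φ) = (((β ^ j) k : Q) : Q ⧸ Φ) := by
      intro j
      induction j with
      | zero => exact fun k => rfl
      | succ j ih =>
        intro k
        rw [pow_succ', Equiv.Perm.mul_apply, ih, pow_succ', MulAut.mul_apply]
        rfl
    have hσp : σ ^ p = 1 := by
      refine Equiv.ext fun x => ?_
      obtain ⟨k, rfl⟩ := QuotientGroup.mk_surjective x
      rw [hσ, hβp]; rfl
    have hσ1 : σ = 1 := by
      have h1 : orderOf σ ∣ p := orderOf_dvd_of_pow_eq_one hσp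
      have h2 : orderOf σ ∣ (Nat.card (Q ⧸ Φ)).factorial := (orderOf_dvd_natCard σ).trans (by rw [Nat.card_perm])
      have h3 : ¬ p ∣ (Nat.card (Q ⧸ Φ)).factorial := fun h => by
        have := hp.dvd_factorial.1 h
        omega
      refine orderOf_eq_one_iff.1 (((Nat.dvd_prime hp).1 h1).resolve_right fun h => h3 (h ▸ h2))
    have hcent := CfsgLib.Core.centralizes_of_centralizes_frattini_quotient (A := zpowers a) (K := Q)
      (zpowers_le.2 hn) ?_ ?_
    · intro s hs
      exact (mem_centralizer_iff.1 (hcent (mem_zpowers a)) s hs).symm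
    · obtain ⟨m, hm⟩ := IsPGroup.iff_card.1 (hQ.to_subgroup (frattini Q))
      rw [Nat.card_zpowers, hap, hm]
      exact ((Nat.coprime_primes hp Nat.prime_two).2 hne.symm).pow_right m
    · intro b hb k hk
      obtain ⟨j, rfl⟩ := (isOfFinOrder_of_finite a).mem_powers_iff_mem_zpowers.2 hb
      have h1 := hσ j ⟨k, hk⟩
      rw [hσ1, one_pow, Equiv.Perm.one_apply] at h1
      have h2 : ((β ^ j) ⟨k, hk⟩) * (⟨k, hk⟩ : Q)⁻¹ ∈ Φ := by
        rw [← QuotientGroup.eq_one_iff, QuotientGroup.mk_mul, QuotientGroup.mk_inv, ← h1, mul_inv_cancel]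
      refine ⟨_, h2, ?_⟩
      have hj : ∀ j : ℕ, (((β ^ j) ⟨k, hk⟩ : Q) : G) = a ^ j * k * (a ^ j)⁻¹ := by
        intro j
        induction j with
        | zero => simp
        | succ j ih => rw [pow_succ', MulAut.mul_apply, hβ, ih, pow_succ' a]; group
      show (((β ^ j) ⟨k, hk⟩ : Q) : G) * k⁻¹ = a ^ j * k * (a ^ j)⁻¹ * k⁻¹
      rw [hj]

/-- in a solvable complement all elements of a prime order `p ≥ 5` generate one subgroup -/
theorem mem_zpowers_of_solvable (hs : Group.IsSolvable A) {p : ℕ} (hp : p.Prime) (hp5 : 5 ≤ p) {a b : G}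
    (ha : a ∈ A) (hb : b ∈ A) (hap : orderOf a = p) (hbp : orderOf b = p) : b ∈ zpowers a := by
  classical
  haveI := Fact.mk hp
  haveI := hs
  have hF : ∀ (x : G) (hx : x ∈ A), orderOf x = p → (⟨x, hx⟩ : A) ∈ Cfsg.fittingSubgroup A := by
    intro x hx hxp
    refine CfsgLib.Components.centralizer_fitting_le_of_isSolvable ?_
    refine (le_centralizer_iff.1 ?_) (mem_zpowers (⟨x, hx⟩ : A))
    rw [CfsgLib.Core.fittingSubgroup_eq_iSup_pCore]
    refine iSup_le fun q => ?_
    haveI : Fact (q : ℕ).Prime := ⟨q.2⟩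
    intro s hs'
    rw [mem_centralizer_iff]
    rintro _ ⟨i, rfl⟩
    have hx' : Commute (⟨x, hx⟩ : A) s := by
      apply Subtype.ext
      show x * (s : G) = s * x
      set Q := (Cfsg.pCore (q : ℕ) A).map A.subtype
      have hQA : Q ≤ A := map_subtype_le _
      have hQp : IsPGroup (q : ℕ) Q := (CfsgLib.Core.isPGroup_pCore (q : ℕ) A).map _
      have hn : x ∈ normalizer (Q : Set G) := by
        have h := le_normalizer_map (H := Cfsg.pCore (q : ℕ) A) A.subtype
          (mem_map_of_mem _ ((normalizer_eq_top (H := Cfsg.pCore (q : ℕ) A)).symm ▸ mem_top (⟨x, hx⟩ : A)))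
        exact h
      have hsQ : (s : G) ∈ Q := mem_map_of_mem _ hs'
      by_cases hqp : (q : ℕ) = p
      · have hxP : IsPGroup p (zpowers x) := IsPGroup.of_card (n := 1) (by rw [Nat.card_zpowers, hxp, pow_one])
        have hsup : IsPGroup p (zpowers x ⊔ Q : Subgroup G) :=
          IsPGroup.to_sup_of_normal_right' hxP (hqp ▸ hQp) (zpowers_le.2 hn)
        rcases cyclic_or_quaternion hAK hfpf hK (sup_le (zpowers_le.2 hx) hQA) hsup with hc | ⟨h2, -⟩
        · haveI := hc
          letI := IsCyclic.commGroup (α := (zpowers x ⊔ Q : Subgroup G))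
          exact congrArg Subtype.val (mul_comm (⟨x, mem_sup_left (mem_zpowers x)⟩ : (zpowers x ⊔ Q : Subgroup G))
            ⟨s, mem_sup_right hsQ⟩)
        · omega
      · exact centralizes_primary hAK hfpf hK hp hp5 hqp hQA hQp hx hxp hn s hsQ
    exact hx'.zpow_left i
  obtain ⟨P⟩ := (inferInstance : Nonempty (Sylow p (Cfsg.fittingSubgroup A)))
  haveI : Group.IsNilpotent (Cfsg.fittingSubgroup A) := CfsgLib.Core.isNilpotent_fittingSubgroup A
  haveI hPn : (P : Subgroup (Cfsg.fittingSubgroup A)).Normal :=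
    ((Group.isNilpotent_of_finite_tfae (G := Cfsg.fittingSubgroup A)).out 0 3 rfl rfl).1 inferInstance p (Fact.mk hp) P
  set f := A.subtype.comp (Cfsg.fittingSubgroup A).subtype
  have hmem : ∀ (x : G) (hx : x ∈ A), orderOf x = p → x ∈ (P : Subgroup (Cfsg.fittingSubgroup A)).map f := by
    intro x hx hxp
    refine ⟨⟨⟨x, hx⟩, hF x hx hxp⟩, ?_, rfl⟩
    have hpz : IsPGroup p (zpowers (⟨⟨x, hx⟩, hF x hx hxp⟩ : Cfsg.fittingSubgroup A)) :=
      IsPGroup.of_card (n := 1) (by rw [Nat.card_zpowers, Subgroup.orderOf_mk, Subgroup.orderOf_mk, hxp, pow_one])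
    obtain ⟨Q, hQ⟩ := hpz.exists_le_sylow
    haveI := Sylow.unique_of_normal P hPn
    exact Subsingleton.elim Q P ▸ hQ (mem_zpowers _)
  have heq := CfsgLib.Core.FPF.subgroup_order_prime_unique hAK hfpf hK
    (P := (P : Subgroup (Cfsg.fittingSubgroup A)).map f) (by rintro _ ⟨y, -, rfl⟩; exact (y : A).2) hp
    (P.2.map f) (zpowers_le.2 (hmem a ha hap)) (zpowers_le.2 (hmem b hb hbp))
    (by rw [Nat.card_zpowers, hap]) (by rw [Nat.card_zpowers, hbp])
  exact heq.ge (mem_zpowers b)

/-- conversely, uniqueness of these subgroups forces solvability -/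
theorem isSolvable_of_unique
    (h : ∀ p : ℕ, p.Prime → 5 ≤ p → ∀ a ∈ A, ∀ b ∈ A, orderOf a = p → orderOf b = p → b ∈ zpowers a) :
    ∀ B : Subgroup G, B ≤ A → Group.IsSolvable B := by
  classical
  intro B
  induction B using WellFoundedLT.induction with
  | ind B ih =>
  intro hBA
  by_cases hperf : ⁅B, B⁆ = B
  swap
  · have hlt : ⁅B, B⁆ < B := lt_of_le_of_ne (commutator_le_self B) hperf
    haveI := ih _ hlt (hlt.le.trans hBA)
    haveI hn : (commutator B).Normal := inferInstance
    haveI : Group.IsSolvable (commutator B) := by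
      refine Group.isSolvable_of_isSolvable_injective
        (f := ((B.subtype.comp (commutator B).subtype).codRestrict ⁅B, B⁆ fun x => ?_)) ?_
      · rw [← map_subtype_commutator]; exact mem_map_of_mem _ x.2
      · intro x y hxy
        exact Subtype.ext (Subtype.ext (congrArg Subtype.val hxy :))
    refine (Group.isSolvable_iff_subgroup_quotient (commutator B)).2 ⟨inferInstance, ?_⟩
    exact Group.isSolvable_of_comm fun (x y : Abelianization B) => mul_comm x y
  -- `B` perfect
  have hperf' : commutator B = ⊤ := by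
    apply map_injective B.subtype_injective
    rw [map_subtype_commutator, ← MonoidHom.range_eq_map, B.range_subtype, hperf]
  have hdvd : ∀ p : ℕ, p.Prime → p ∣ Nat.card B → p < 5 := by
    intro p hp hpB
    by_contra hp5
    push Not at hp5
    haveI := Fact.mk hp
    obtain ⟨a, ha⟩ := exists_prime_orderOf_dvd_card' (G := B) p hpB
    have hnorm : ∀ g : B, ∃ i : ℤ, g * a * g⁻¹ = a ^ i := by
      intro g
      have h1 := h p hp hp5 (a : G) (hBA a.2) ((g * a * g⁻¹ : B) : G) (hBA (g * a * g⁻¹).2)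
        (by rw [Subgroup.orderOf_coe, ha]) (by rw [Subgroup.orderOf_coe, ← ha]; exact (MulAut.conj g).orderOf_eq a)
      obtain ⟨i, hi⟩ := mem_zpowers_iff.1 h1
      exact ⟨i, Subtype.ext (by rw [← hi]; rfl)⟩
    have hcen : ∀ g : B, g * a = a * g := by
      have hle : commutator B ≤ centralizer {a} := by
        rw [_root_.commutator_def, commutator_le]
        intro g _ k _
        rw [mem_centralizer_singleton_iff]
        obtain ⟨m, hm⟩ := hnorm (k * g)⁻¹
        obtain ⟨i, hi⟩ := hnorm g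
        obtain ⟨j, hj⟩ := hnorm k
        have h1 : ∀ (x : B) (l s : ℤ), x * a * x⁻¹ = a ^ l → x * a ^ s * x⁻¹ = a ^ (l * s) := fun x l s hx => by
          rw [← conj_zpow, hx, zpow_mul]
        have hgk : g * k * a ^ m * (g * k)⁻¹ = a ^ (i * (j * m)) := by
          calc g * k * a ^ m * (g * k)⁻¹ = g * (k * a ^ m * k⁻¹) * g⁻¹ := by group
            _ = _ := by rw [h1 k j m hj, h1 g i _ hi]
        have hkg : k * g * a ^ m * (k * g)⁻¹ = a ^ (i * (j * m)) := by
          calc k * g * a ^ m * (k * g)⁻¹ = k * (g * a ^ m * g⁻¹) * k⁻¹ := by group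
            _ = a ^ (j * (i * m)) := by rw [h1 g i m hi, h1 k j _ hj]
            _ = _ := by rw [mul_left_comm]
        have hm' : k * g * a ^ m * (k * g)⁻¹ = a := by rw [← hm]; group
        apply mul_inv_eq_iff_eq_mul.1
        calc ⁅g, k⁆ * a * ⁅g, k⁆⁻¹ = g * k * ((k * g)⁻¹ * a * (k * g)⁻¹⁻¹) * (g * k)⁻¹ := by
              simp only [commutatorElement_def]; group
          _ = a := by rw [hm, hgk, ← hkg, hm']
      intro g
      exact mem_centralizer_singleton_iff.1 (hle (hperf' ▸ mem_top g))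
    -- Burnside transfer
    obtain ⟨P⟩ := (inferInstance : Nonempty (Sylow p B))
    haveI hPcyc : IsCyclic (P : Subgroup B) := by
      rcases CfsgLib.Core.FPF.sylow_cyclic_or_quaternion (hBA.trans hAK)
        (CfsgLib.Core.FPF.fpf_mono hfpf hBA le_rfl) hK P with hc | ⟨h2, -⟩
      · exact hc
      · omega
    letI := IsCyclic.commGroup (α := (P : Subgroup B))
    have hPP : (P : Subgroup B) ≤ centralizer ((P : Subgroup B) : Set B) := fun x hx =>
      mem_centralizer_iff.2 fun y hy => congrArg Subtype.val (mul_comm (⟨y, hy⟩ : (P : Subgroup B)) ⟨x, hx⟩)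
    have hle : normalizer ((P : Subgroup B) : Set B) ≤ centralizer ((P : Subgroup B) : Set B) := by
      intro g hg
      obtain ⟨k, m, hpm, hgm⟩ := Nat.exists_eq_pow_mul_and_not_dvd (orderOf_pos g).ne' p hp.ne_one
      have h1 : g ^ p ^ k ∈ centralizer ((P : Subgroup B) : Set B) := by
        refine mem_centralizer_iff.2 fun s hs => ?_
        refine (CfsgLib.ClassSizes.CyclicSylow.commute_of_fix P.2 (pow_mem hg _) ?_ ?_ s hs).eq.symm
        · refine Nat.Coprime.coprime_dvd_left (orderOf_dvd_of_pow_eq_one ?_)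
            (((Nat.Prime.coprime_iff_not_dvd hp).2 hpm).symm)
          rw [← pow_mul, ← hgm, pow_orderOf_eq_one]
        · intro w hw hwp
          have hwm : w ∈ zpowers a := by
            have := h p hp hp5 (a : G) (hBA a.2) (w : G) (hBA w.2) (by rw [Subgroup.orderOf_coe, ha])
              (by rw [Subgroup.orderOf_coe, hwp])
            obtain ⟨i, hi⟩ := mem_zpowers_iff.1 this
            exact ⟨i, Subtype.ext (by rw [← hi]; rfl)⟩
          obtain ⟨i, rfl⟩ := hwm
          exact Commute.zpow_right (hcen _) i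
      have h2 : g ^ m ∈ (P : Subgroup B) := by
        have hpg : IsPGroup p (zpowers (g ^ m)) := by
          obtain ⟨l, -, hl⟩ := (Nat.dvd_prime_pow hp).1 (orderOf_dvd_of_pow_eq_one
            (show (g ^ m) ^ p ^ k = 1 by rw [← pow_mul, Nat.mul_comm, ← hgm, pow_orderOf_eq_one]))
          exact IsPGroup.of_card (n := l) (by rw [Nat.card_zpowers, hl])
        have hsup := P.is_maximal' (IsPGroup.to_sup_of_normal_right' hpg P.2 (zpowers_le.2 (pow_mem hg m))) le_sup_right
        exact hsup ▸ mem_sup_left (mem_zpowers _)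
      have hbez := Nat.gcd_eq_gcd_ab (p ^ k) m
      rw [(((Nat.Prime.coprime_iff_not_dvd hp).2 hpm).pow_left k).gcd_eq_one] at hbez
      have hg1 : g = (g ^ p ^ k) ^ (Nat.gcdA (p ^ k) m) * (g ^ m) ^ (Nat.gcdB (p ^ k) m) := by
        rw [← zpow_natCast g (p ^ k), ← zpow_natCast g m, ← zpow_mul, ← zpow_mul, ← zpow_add, ← hbez,
          Nat.cast_one, zpow_one]
      rw [hg1]
      exact mul_mem (zpow_mem h1 _) (zpow_mem (hPP h2) _)
    have hc := MonoidHom.ker_transferSylow_isComplement' P hle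
    have hker : (MonoidHom.transferSylow P hle).ker = ⊤ := by
      rw [← top_le_iff, ← hperf']
      exact Abelianization.commutator_subset_ker (G := B) (A := (P : Subgroup B)) _
    rw [hker, isComplement'_top_left] at hc
    exact P.ne_bot_of_dvd_card hpB hc
  have hcard : Nat.card B = 2 ^ (Nat.card B).factorization 2 * 3 ^ (Nat.card B).factorization 3 := by
    refine Nat.eq_of_factorization_eq Nat.card_pos.ne' (by positivity) fun r => ?_
    rw [Nat.factorization_mul (by positivity) (by positivity), Nat.prime_two.factorization_pow,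
      Nat.prime_three.factorization_pow, Finsupp.add_apply, Finsupp.single_apply, Finsupp.single_apply]
    rcases eq_or_ne r 2 with rfl | h2
    · simp
    rcases eq_or_ne r 3 with rfl | h3
    · simp
    rw [if_neg h2.symm, if_neg h3.symm, add_zero]
    by_contra hne
    have hmem : r ∈ (Nat.card B).primeFactors := by
      rw [← Nat.support_factorization]; exact Finsupp.mem_support_iff.2 hne
    obtain ⟨hr, hrB, -⟩ := Nat.mem_primeFactors.1 hmem
    have := hdvd r hr hrB
    interval_cases r <;> first | omega | exact absurd hr (by decide)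
  exact CfsgLib.Burnside.isSolvable_of_card_eq Nat.prime_two Nat.prime_three hcard

theorem isSolvable_iff_count :
    Group.IsSolvable A ↔
      ∀ p : ℕ, p.Prime → 5 ≤ p → Nat.card {a : A // orderOf a = p} ≤ p - 1 := by
  classical
  constructor
  · intro hs p hp hp5
    haveI := Fact.mk hp
    rcases isEmpty_or_nonempty {a : A // orderOf a = p} with he | ⟨⟨a, ha⟩⟩
    · rw [Nat.card_of_isEmpty]; exact Nat.zero_le _
    · have hc : Nat.card {x : zpowers a // x ≠ 1} = p - 1 := by
        haveI := Fintype.ofFinite (zpowers a)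
        rw [Nat.card_eq_fintype_card, Fintype.card_subtype_compl, Fintype.card_subtype_eq,
          ← Nat.card_eq_fintype_card, Nat.card_zpowers, ha]
      rw [← hc]
      have hmem : ∀ b : {a : A // orderOf a = p}, b.1 ∈ zpowers a := fun b => by
        obtain ⟨i, hi⟩ := mem_zpowers_iff.1 (mem_zpowers_of_solvable hAK hfpf hK hs hp hp5 a.2 b.1.2
          (by rw [Subgroup.orderOf_coe, ha]) (by rw [Subgroup.orderOf_coe, b.2]))
        exact ⟨i, Subtype.ext hi⟩
      refine Nat.card_le_card_of_injective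
        (fun b => (⟨⟨b.1, hmem b⟩, fun e => hp.ne_one (by
          rw [← b.2, show b.1 = 1 from congrArg Subtype.val e, orderOf_one])⟩ : {x : zpowers a // x ≠ 1})) ?_
      intro b c hbc
      exact Subtype.ext (congrArg (fun x : {x : zpowers a // x ≠ 1} => ((x.1 : zpowers a) : A)) hbc)
  · intro h
    refine isSolvable_of_unique hAK hfpf hK (fun p hp hp5 a ha b hb hap hbp => ?_) A le_rfl
    haveI := Fact.mk hp
    by_contra hno
    have hinj : Nat.card (Option {x : zpowers (⟨a, ha⟩ : A) // x ≠ 1}) ≤ Nat.card {a : A // orderOf a = p} := by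
      refine Nat.card_le_card_of_injective (fun o => o.elim (⟨⟨b, hb⟩, by rw [Subgroup.orderOf_mk, hbp]⟩)
        (fun x => ⟨x.1.1, ?_⟩)) ?_
      · have h1 : orderOf ((x.1 : zpowers (⟨a, ha⟩ : A)) : A) ∣ p := by
          refine ((zpowers (⟨a, ha⟩ : A)).orderOf_dvd_natCard x.1.2).trans ?_
          rw [Nat.card_zpowers, Subgroup.orderOf_mk, hap]
        exact ((Nat.dvd_prime hp).1 h1).resolve_left fun e => x.2 (Subtype.ext (orderOf_eq_one_iff.1 e))
      · have hbm : ∀ x : zpowers (⟨a, ha⟩ : A), (⟨b, hb⟩ : A) ≠ x.1 := fun x e => hno (by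
          obtain ⟨i, hi⟩ := mem_zpowers_iff.1 x.2
          exact ⟨i, (congrArg Subtype.val (hi.trans e.symm) :)⟩)
        rintro (_ | x) (_ | y) hxy
        · rfl
        · exact absurd (congrArg Subtype.val hxy) (hbm y.1)
        · exact absurd (congrArg Subtype.val hxy).symm (hbm x.1)
        · exact congrArg some (Subtype.ext (Subtype.ext (congrArg Subtype.val hxy :)))
    rw [Finite.card_option] at hinj
    have hc : Nat.card {x : zpowers (⟨a, ha⟩ : A) // x ≠ 1} = p - 1 := by
      haveI := Fintype.ofFinite (zpowers (⟨a, ha⟩ : A))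
      rw [Nat.card_eq_fintype_card, Fintype.card_subtype_compl, Fintype.card_subtype_eq,
        ← Nat.card_eq_fintype_card, Nat.card_zpowers, Subgroup.orderOf_mk, hap]
    have := h p hp hp5
    omega

omit hAK hfpf hK

/-- counting elements of prime order outside the kernel -/
theorem card_orderOf_eq {X : Type u} [Group X] [Finite X] {C N : Subgroup X} [N.Normal]
    (hc : Subgroup.IsComplement' N C) (hfpf : ∀ c ∈ C, c ≠ 1 → N ⊓ centralizer {c} = ⊥)
    {p : ℕ} (hp : p.Prime) (hpN : ¬ p ∣ Nat.card N) :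
    Nat.card {x : X // orderOf x = p} = Nat.card N * Nat.card {c : C // orderOf c = p} := by
  classical
  have hne : ∀ c : C, orderOf c = p → (c : X) ≠ 1 := fun c hc' h => hp.ne_one (by
    rw [← hc', ← Subgroup.orderOf_coe, h, orderOf_one])
  let F : N × {c : C // c ≠ 1} → {x : X // x ∉ N} := fun q => ⟨(q.1 : X) * (q.2.1 : X) * (q.1 : X)⁻¹, fun h => q.2.2
    (Subtype.ext (Subgroup.mem_bot.1 (hc.disjoint.le_bot (x := (q.2.1 : X)) ⟨by
      have h1 := ‹N.Normal›.conj_mem' _ h (q.1 : X)
      rwa [show (q.1 : X)⁻¹ * ((q.1 : X) * (q.2.1 : X) * (q.1 : X)⁻¹) * (q.1 : X) = (q.2.1 : X) by group] at h1,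
      q.2.1.2⟩)))⟩
  have hinj : Function.Injective F := by
    rintro ⟨k, c⟩ ⟨k', c'⟩ h
    have h' : (k : X) * (c.1 : X) * (k : X)⁻¹ = (k' : X) * (c'.1 : X) * (k' : X)⁻¹ := congrArg Subtype.val h
    have hcc : (c.1 : X) = c'.1 := by
      have h1 : (QuotientGroup.mk' N) (c.1 : X) = (QuotientGroup.mk' N) (c'.1 : X) := by
        have := congrArg (QuotientGroup.mk' N) h'
        simpa [(QuotientGroup.eq_one_iff _).2 k.2, (QuotientGroup.eq_one_iff _).2 k'.2] using this
      have h2 : (c.1 : X)⁻¹ * c'.1 ∈ N := QuotientGroup.eq.1 h1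
      exact inv_mul_eq_one.1 (mem_bot.1 (hc.disjoint.le_bot ⟨h2, C.mul_mem (C.inv_mem c.1.2) c'.1.2⟩))
    have hkk : (k : X) = k' := by
      refine (inv_mul_eq_one.1 ?_).symm
      refine CfsgLib.Core.FPF.eq_one_of_fixed hfpf c.1.2 (fun e => c.2 (Subtype.ext e))
        (mul_mem (inv_mem k'.2) k.2) ?_
      calc (c.1 : X) * ((k' : X)⁻¹ * k) = (k' : X)⁻¹ * ((k' : X) * (c'.1 : X) * (k' : X)⁻¹) * k := by rw [hcc]; group
        _ = (k' : X)⁻¹ * k * c.1 := by rw [← h']; group
    exact Prod.ext (Subtype.ext hkk) (Subtype.ext (Subtype.ext hcc))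
  have hsurj : Function.Surjective F := by
    refine (Nat.bijective_iff_injective_and_card F).2 ⟨hinj, ?_⟩ |>.2
    haveI := Fintype.ofFinite X
    haveI := Fintype.ofFinite C
    rw [Nat.card_prod, Nat.card_eq_fintype_card (α := {c : C // c ≠ 1}), Fintype.card_subtype_compl,
      Fintype.card_subtype_eq, Nat.card_eq_fintype_card (α := {x : X // x ∉ N}), Fintype.card_subtype_compl,
      ← Nat.card_eq_fintype_card (α := X), ← Nat.card_eq_fintype_card (α := {x : X // x ∈ N}),
      ← Nat.card_eq_fintype_card (α := C), Nat.mul_sub, mul_one, hc.card_mul]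
  rw [← Nat.card_prod]
  refine Nat.card_congr (Equiv.ofBijective (fun q : N × {c : C // orderOf c = p} =>
    (⟨(q.1 : X) * (q.2.1 : X) * (q.1 : X)⁻¹, ((MulAut.conj (q.1 : X)).orderOf_eq _).trans (by
      rw [Subgroup.orderOf_coe, q.2.2])⟩ : {x : X // orderOf x = p})) ⟨?_, ?_⟩).symm
  · rintro ⟨k, c⟩ ⟨k', c'⟩ h
    have h1 : F (k, ⟨c.1, fun e => hne c.1 c.2 (by rw [e]; rfl)⟩) = F (k', ⟨c'.1, fun e => hne c'.1 c'.2 (by rw [e]; rfl)⟩) :=
      Subtype.ext (congrArg Subtype.val h :)
    have h2 := hinj h1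
    exact Prod.ext (congrArg Prod.fst h2 :) (Subtype.ext (congrArg (fun t => t.2.1) h2 :))
  · rintro ⟨x, hx⟩
    have hxN : x ∉ N := fun h => hpN (hx ▸ N.orderOf_dvd_natCard h)
    obtain ⟨⟨k, c⟩, hq⟩ := hsurj ⟨x, hxN⟩
    have hq' : (k : X) * (c.1 : X) * (k : X)⁻¹ = x := congrArg Subtype.val hq
    refine ⟨(k, ⟨c.1, ?_⟩), Subtype.ext hq'⟩
    rw [← Subgroup.orderOf_coe, ← hx, ← hq']
    exact ((MulAut.conj (k : X)).orderOf_eq _).symm

/-- solvability of a Frobenius group from its element counts -/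
theorem isSolvable_frobenius_iff {X : Type u} [Group X] [Finite X] {C : Subgroup X}
    (hC : Cfsg.IsFrobeniusComplement C) :
    Group.IsSolvable X ↔ ∀ p : ℕ, p.Prime → 5 ≤ p → p.Coprime C.index →
      Nat.card {x : X // orderOf x = p} ≤ C.index * (p - 1) := by
  classical
  obtain ⟨N, hN, hn, hc, hne, hfpf⟩ := CfsgLib.Core.FrobeniusConj.exists_kernel hC
  obtain ⟨-, -, -, hnil, -, -⟩ := CfsgLib.Orders.TwoFrobenius.frobenius_data C N hC hN.symm
  have hidx : C.index = Nat.card N := by
    have h1 := C.card_mul_index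
    rw [← hc.card_mul, mul_comm (Nat.card N)] at h1
    exact Nat.eq_of_mul_eq_mul_left Nat.card_pos h1
  have hAK : C ≤ normalizer (N : Set X) := by rw [normalizer_eq_top_iff.2 hn]; exact le_top
  have hco := CfsgLib.Core.FPF.coprime_card hAK hfpf
  haveI := hnil
  have e : Group.IsSolvable X ↔ Group.IsSolvable C := by
    rw [Group.isSolvable_iff_subgroup_quotient N]
    constructor
    · rintro ⟨-, hq⟩
      exact Group.isSolvable_of_surjective (f := (hc.symm.QuotientMulEquiv).toMonoidHom) (hc.symm.QuotientMulEquiv).surjective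
    · intro hs
      exact ⟨inferInstance, Group.isSolvable_of_surjective (f := (hc.symm.QuotientMulEquiv).symm.toMonoidHom)
        (hc.symm.QuotientMulEquiv).symm.surjective⟩
  rw [e, isSolvable_iff_count hAK hfpf hne]
  constructor
  · intro h p hp hp5 hpc
    rw [hidx] at hpc ⊢
    rw [card_orderOf_eq hc hfpf hp ((Nat.Prime.coprime_iff_not_dvd hp).1 hpc)]
    exact Nat.mul_le_mul_left _ (h p hp hp5)
  · intro h p hp hp5
    by_cases hpN : p ∣ Nat.card N
    · haveI : IsEmpty {a : C // orderOf a = p} := ⟨fun a => hp.ne_one (Nat.eq_one_of_dvd_coprimes hco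
        (a.2 ▸ orderOf_dvd_natCard a.1) hpN)⟩
      rw [Nat.card_of_isEmpty]; exact Nat.zero_le _
    · have h1 := h p hp hp5 (hidx ▸ (Nat.Prime.coprime_iff_not_dvd hp).2 hpN)
      rw [card_orderOf_eq hc hfpf hp hpN, hidx] at h1
      exact Nat.le_of_mul_le_mul_left h1 Nat.card_pos

end CfsgLib.Orders.ComplementSolvable
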