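import Cfsg.Agent.Lib.Orders.ConjugateSubgroups
import Cfsg.Agent.Lib.Core.SchurZassenhaus
import Cfsg.Agent.Lib.Core.MinNormal

/-!
# Subgroups of the same order in solvable groups with almost all Sylow subgroups cyclic

* `conj_of_cyclic`: same order subgroups are conjugate if all relevant Sylow subgroups are cyclic.
* `conj_all`: if moreover `p`-subgroups of the same order are conjugate, all same order subgroups are.
-/

set_option autoImplicit false
set_option linter.all false

namespace CfsgLib.Orders.ConjAll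

open Subgroup
open scoped Pointwise

universe u

variable {G : Type u} [Group G] [Finite G]

theorem conj_smul_eq_map (g : G) (H : Subgroup G) :
    MulAut.conj g • H = H.map (MulAut.conj g).toMonoidHom := rfl

theorem card_map_mk_of_le {V H : Subgroup G} [V.Normal] (h : V ≤ H) :
    Nat.card (H.map (QuotientGroup.mk' V)) * Nat.card V = Nat.card H := by
  have h0 : Nat.card (H.map (QuotientGroup.mk' V)) = V.relIndex H := by
    rw [← Subgroup.relIndex_ker, QuotientGroup.ker_mk']
  rw [h0, mul_comm, Subgroup.relIndex, ← Nat.card_congr (subgroupOfEquivOfLe h).toEquiv, card_mul_index]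

theorem card_map_mk_of_coprime {V H : Subgroup G} [V.Normal] (h : (Nat.card H).Coprime (Nat.card V)) :
    Nat.card (H.map (QuotientGroup.mk' V)) = Nat.card H := by
  have hd : H ⊓ V = ⊥ := inf_eq_bot_of_coprime h
  exact CfsgLib.Core.card_map_complement (le_refl V) hd

/-- conjugacy of images gives conjugacy -/
theorem conj_of_quotient (V : Subgroup G) [V.Normal] {H K : Subgroup G}
    (hsolv : Group.IsSolvable V) (hcard : Nat.card H = Nat.card K)
    (hcase : (V ≤ H ∧ V ≤ K) ∨ (Nat.card H).Coprime (Nat.card V))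
    (hq : ∃ g : G ⧸ V, K.map (QuotientGroup.mk' V) = (H.map (QuotientGroup.mk' V)).map (MulAut.conj g).toMonoidHom) :
    ∃ g : G, K = H.map (MulAut.conj g).toMonoidHom := by
  obtain ⟨q, hq⟩ := hq
  obtain ⟨g, rfl⟩ := QuotientGroup.mk'_surjective V q
  set H' := H.map (MulAut.conj g).toMonoidHom with hH'
  have himg : H'.map (QuotientGroup.mk' V) = K.map (QuotientGroup.mk' V) := by
    rw [hq, hH', Subgroup.map_map, Subgroup.map_map]
    congr 1
  have hcard' : Nat.card H' = Nat.card H := card_map_of_injective (MulAut.conj g).injective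
  have hsup : H' ⊔ V = K ⊔ V := by
    have := congrArg (Subgroup.comap (QuotientGroup.mk' V)) himg
    rwa [comap_map_eq, comap_map_eq, QuotientGroup.ker_mk'] at this
  rcases hcase with ⟨h1, h2⟩ | hcop
  · refine ⟨g, ?_⟩
    have h1' : V ≤ H' := by
      intro v hv
      exact ⟨g⁻¹ * v * g, h1 ((inferInstance : V.Normal).conj_mem' v hv g), by simp [mul_assoc]⟩
    rw [sup_eq_left.2 h1', sup_eq_left.2 h2] at hsup
    exact hsup.symm
  · obtain ⟨n, -, hn⟩ := CfsgLib.Core.exists_conj_eq_of_coprime (N := V) (H := H') (K := K)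
      (by rw [normalizer_eq_top]; exact le_top) (le_sup_left.trans hsup.ge) (hcard' ▸ hcard.symm)
      (hcard' ▸ hcop) (Or.inl hsolv)
    refine ⟨n * g, ?_⟩
    rw [← hn, conj_smul_eq_map, hH', Subgroup.map_map]
    congr 1
    ext x; simp [mul_assoc]

theorem isCyclic_sylow_quotient {p : ℕ} [Fact p.Prime] (V : Subgroup G) [V.Normal]
    (h : ∀ P : Sylow p G, IsCyclic P) (Q : Sylow p (G ⧸ V)) : IsCyclic Q := by
  obtain ⟨P, rfl⟩ := Sylow.mapSurjective_surjective (QuotientGroup.mk'_surjective V) p Q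
  haveI := h P
  exact isCyclic_of_surjective ((QuotientGroup.mk' V).subgroupMap (P : Subgroup G))
    ((QuotientGroup.mk' V).subgroupMap_surjective _)

theorem isCyclic_sylow_subgroup {p : ℕ} [Fact p.Prime] (N : Subgroup G)
    (h : ∀ P : Sylow p G, IsCyclic P) (Q : Sylow p N) : IsCyclic Q := by
  obtain ⟨P, hP⟩ := (Q.isPGroup'.map N.subtype).exists_le_sylow
  haveI := h P
  haveI : IsCyclic ((Q : Subgroup N).map N.subtype) :=
    isCyclic_of_injective (inclusion hP) (inclusion_injective hP)
  exact isCyclic_of_injective ((Q : Subgroup N).equivMapOfInjective N.subtype N.subtype_injective).toMonoidHom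
    ((Q : Subgroup N).equivMapOfInjective N.subtype N.subtype_injective).injective

/-- a minimal normal `p`-subgroup lies in every subgroup of order divisible by `p` if the subgroup
of order `p` in each Sylow subgroup is unique -/
theorem le_of_unique {p : ℕ} [hp : Fact p.Prime] (V : Subgroup G) [V.Normal] (hV : IsPGroup p V)
    (hVexp : ∀ v ∈ V, v ^ p = 1) (hVne : V ≠ ⊥)
    (huniq : ∀ P : Sylow p G, ∀ A B : Subgroup ↥(P : Subgroup G), Nat.card A = p → Nat.card B = p → A = B)
    {H : Subgroup G} (hH : p ∣ Nat.card H) : V ≤ H := by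
  obtain ⟨⟨h, hh⟩, hho⟩ := exists_prime_orderOf_dvd_card' p hH
  rw [Subgroup.orderOf_mk] at hho
  have hz : IsPGroup p (zpowers h) := IsPGroup.of_card (n := 1) (by rw [Nat.card_zpowers, hho, pow_one])
  obtain ⟨P, hP⟩ := hz.exists_le_sylow
  have hVP : V ≤ (P : Subgroup G) := by
    have h1 : IsPGroup p ↥((P : Subgroup G) ⊔ V) := P.isPGroup'.to_sup_of_normal_right hV
    exact le_sup_right.trans (P.is_maximal' h1 le_sup_left).le
  intro v hv
  by_cases hv1 : v = 1
  · exact hv1 ▸ one_mem H
  have hvo : orderOf v = p := orderOf_eq_prime (hVexp v hv) hv1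
  have := huniq P (zpowers (⟨v, hVP hv⟩ : (P : Subgroup G))) (zpowers ⟨h, hP (mem_zpowers h)⟩)
    (by rw [Nat.card_zpowers, Subgroup.orderOf_mk, hvo]) (by rw [Nat.card_zpowers, Subgroup.orderOf_mk, hho])
  obtain ⟨i, hi⟩ := mem_zpowers_iff.1 (this ▸ mem_zpowers (⟨v, hVP hv⟩ : (P : Subgroup G)))
  have hi' : h ^ i = v := congrArg Subtype.val hi
  exact hi' ▸ H.zpow_mem hh i

theorem unique_of_cyclic {p : ℕ} [hp : Fact p.Prime] (P : Sylow p G) (hc : IsCyclic P)
    (A B : Subgroup ↥(P : Subgroup G)) (hA : Nat.card A = p) (hB : Nat.card B = p) : A = B := by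
  classical
  haveI := hc
  haveI := Fintype.ofFinite ↥(P : Subgroup G)
  have h : ∀ C : Subgroup ↥(P : Subgroup G), Nat.card C = p →
      Finset.univ.filter (fun x => x ∈ C) = Finset.univ.filter (fun x => x ^ p = 1) := by
    intro C hC
    refine Finset.eq_of_subset_of_card_le (fun x hx => ?_) ((IsCyclic.card_pow_eq_one_le hp.out.pos).trans ?_)
    · simp only [Finset.mem_filter, Finset.mem_univ, true_and] at hx ⊢
      have := pow_card_eq_one' (x := (⟨x, hx⟩ : C))
      rw [hC] at this
      exact (congrArg Subtype.val this :)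
    · rw [← Fintype.card_subtype, ← Nat.card_eq_fintype_card]
      exact hC.ge
  ext x
  have h1 := congrArg (fun S => x ∈ S) ((h A hA).trans (h B hB).symm)
  simpa using h1

/-- same order subgroups are conjugate if the relevant Sylow subgroups are cyclic -/
theorem conj_of_cyclic [Group.IsSolvable G] (H K : Subgroup G) (hcard : Nat.card H = Nat.card K)
    (hcyc : ∀ (p : ℕ) [Fact p.Prime], p ∣ Nat.card H → ∀ P : Sylow p G, IsCyclic P) :
    ∃ g : G, K = H.map (MulAut.conj g).toMonoidHom := by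
  suffices key : ∀ n, ∀ (G : Type u) [Group G] [Finite G] [Group.IsSolvable G], Nat.card G = n →
      ∀ H K : Subgroup G, Nat.card H = Nat.card K →
        (∀ (p : ℕ) [Fact p.Prime], p ∣ Nat.card H → ∀ P : Sylow p G, IsCyclic P) →
        ∃ g : G, K = H.map (MulAut.conj g).toMonoidHom from key _ G rfl H K hcard hcyc
  intro n
  induction n using Nat.strong_induction_on with
  | _ n ih =>
  intro G _ _ _ hn H K hcard hcyc
  rcases subsingleton_or_nontrivial G with hs | hs
  · exact ⟨1, Subsingleton.elim _ _⟩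
  obtain ⟨V, hVn, hVne, hVmin⟩ := CfsgLib.Components.exists_minimal_normal (G := G)
  haveI := hVn
  have hVs : Group.IsSolvable V := inferInstance
  obtain ⟨p, hp, hVp, -, hexp⟩ := CfsgLib.Core.isPGroup_of_minimal_normal V hVs hVne
    (fun K hK hKV => (hVmin K hK hKV))
  haveI := Fact.mk hp
  haveI hqs : Group.IsSolvable (G ⧸ V) := Group.isSolvable_of_surjective (QuotientGroup.mk'_surjective V)
  have hlt : Nat.card (G ⧸ V) < n := hn ▸ CfsgLib.Components.card_quotient_lt hVne
  have hcase : (V ≤ H ∧ V ≤ K) ∨ (Nat.card H).Coprime (Nat.card V) := by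
    by_cases hd : p ∣ Nat.card H
    · refine Or.inl ⟨?_, ?_⟩
      · exact le_of_unique V hVp hexp hVne (fun P => unique_of_cyclic P (hcyc p hd P)) hd
      · exact le_of_unique V hVp hexp hVne (fun P => unique_of_cyclic P (hcyc p hd P)) (hcard ▸ hd)
    · obtain ⟨i, hi⟩ := IsPGroup.iff_card.1 hVp
      exact Or.inr (hi ▸ ((hp.coprime_iff_not_dvd.2 hd).symm.pow_right i))
  have hc : Nat.card (H.map (QuotientGroup.mk' V)) = Nat.card (K.map (QuotientGroup.mk' V)) := by
    rcases hcase with ⟨h1, h2⟩ | h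
    · refine Nat.eq_of_mul_eq_mul_right (Nat.card_pos (α := V)) ?_
      rw [card_map_mk_of_le h1, card_map_mk_of_le h2, hcard]
    · rw [card_map_mk_of_coprime h, card_map_mk_of_coprime (hcard ▸ h), hcard]
  have hcyc' : ∀ (s : ℕ) [Fact s.Prime], s ∣ Nat.card (H.map (QuotientGroup.mk' V)) →
      ∀ P : Sylow s (G ⧸ V), IsCyclic P := by
    intro s _ hs
    exact isCyclic_sylow_quotient V (hcyc s (hs.trans (H.card_map_dvd _)))
  have hq := ih (Nat.card (G ⧸ V)) hlt (G ⧸ V) rfl (H.map (QuotientGroup.mk' V)) (K.map (QuotientGroup.mk' V)) hc hcyc'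
  exact conj_of_quotient V hVs hcard hcase hq

theorem conj_all [Group.IsSolvable G]
    (hD : ∀ p : ℕ, p.Prime → ∀ H K : Subgroup G, IsPGroup p H → IsPGroup p K → Nat.card H = Nat.card K →
      ∃ g : G, K = H.map (MulAut.conj g).toMonoidHom)
    (r : ℕ) (hcyc : ∀ p : ℕ, p.Prime → p ≠ r → ∀ P : Sylow p G, IsCyclic P) :
    ∀ H K : Subgroup G, Nat.card H = Nat.card K → ∃ g : G, K = H.map (MulAut.conj g).toMonoidHom := by
  suffices key : ∀ n, ∀ (G : Type u) [Group G] [Finite G] [Group.IsSolvable G], Nat.card G = n →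
      (∀ p : ℕ, p.Prime → ∀ H K : Subgroup G, IsPGroup p H → IsPGroup p K → Nat.card H = Nat.card K →
        ∃ g : G, K = H.map (MulAut.conj g).toMonoidHom) →
      (∀ p : ℕ, p.Prime → p ≠ r → ∀ P : Sylow p G, IsCyclic P) →
      ∀ H K : Subgroup G, Nat.card H = Nat.card K → ∃ g : G, K = H.map (MulAut.conj g).toMonoidHom from
    key _ G rfl hD hcyc
  intro n
  induction n using Nat.strong_induction_on with
  | _ n ih =>
  intro G _ _ _ hn hD hcyc H K hcard
  classical
  rcases subsingleton_or_nontrivial G with hs | hs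
  · exact ⟨1, Subsingleton.elim _ _⟩
  obtain ⟨V, hVn, hVne, hVmin⟩ := CfsgLib.Components.exists_minimal_normal (G := G)
  haveI := hVn
  have hVs : Group.IsSolvable V := inferInstance
  obtain ⟨p, hp, hVp, -, hexp⟩ := CfsgLib.Core.isPGroup_of_minimal_normal V hVs hVne
    (fun K hK hKV => (hVmin K hK hKV))
  haveI := Fact.mk hp
  haveI hqs : Group.IsSolvable (G ⧸ V) := Group.isSolvable_of_surjective (QuotientGroup.mk'_surjective V)
  obtain ⟨i, hVi⟩ := IsPGroup.iff_card.1 hVp
  have hlt : Nat.card (G ⧸ V) < n := hn ▸ CfsgLib.Components.card_quotient_lt hVne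
  -- the hypotheses pass to the quotient
  have hDq : ∀ s : ℕ, s.Prime → ∀ A B : Subgroup (G ⧸ V), IsPGroup s A → IsPGroup s B →
      Nat.card A = Nat.card B → ∃ g : G ⧸ V, B = A.map (MulAut.conj g).toMonoidHom := by
    intro s hs A B hA hB hAB
    haveI := Fact.mk hs
    set π := QuotientGroup.mk' V
    have hsur : Function.Surjective π := QuotientGroup.mk'_surjective V
    have hlift : ∀ A : Subgroup (G ⧸ V), IsPGroup s A → ∃ A₀ : Subgroup G, IsPGroup s A₀ ∧
        A₀.map π = A ∧ Nat.card A₀ = Nat.card A * (if s = p then Nat.card V else 1) := by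
      intro A hA
      have hAc : Nat.card A * Nat.card V = Nat.card (A.comap π) := by
        rw [← card_map_mk_of_le (V := V) (H := A.comap π) (QuotientGroup.le_comap_mk' V A),
          map_comap_eq_self_of_surjective hsur]
      by_cases hsp : s = p
      · subst hsp
        refine ⟨A.comap π, ?_, map_comap_eq_self_of_surjective hsur A, by rw [if_pos rfl, hAc]⟩
        obtain ⟨a, ha⟩ := IsPGroup.iff_card.1 hA
        exact IsPGroup.of_card (n := a + i) (by rw [← hAc, ha, hVi, pow_add])
      · obtain ⟨S⟩ := (Sylow.nonempty : Nonempty (Sylow s ↥(A.comap π)))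
        set A₀ := (S : Subgroup ↥(A.comap π)).map (A.comap π).subtype
        have hA₀ : IsPGroup s A₀ := S.isPGroup'.map _
        obtain ⟨a, ha⟩ := IsPGroup.iff_card.1 hA
        have hcardS : Nat.card A₀ = Nat.card A := by
          rw [card_map_of_injective (subtype_injective _), S.card_eq_multiplicity, ← hAc, ha, hVi,
            Nat.factorization_mul (pow_ne_zero _ hs.ne_zero) (pow_ne_zero _ hp.ne_zero), Finsupp.add_apply,
            Nat.factorization_pow, Nat.factorization_pow, Finsupp.smul_apply, Finsupp.smul_apply,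
            hs.factorization_self, Nat.factorization_eq_zero_of_not_dvd
              (fun h => hsp ((Nat.prime_dvd_prime_iff_eq hs hp).1 h))]
          simp
        have hcop : (Nat.card A₀).Coprime (Nat.card V) := by
          rw [hcardS, ha, hVi]
          exact Nat.Coprime.pow a i ((Nat.coprime_primes hs hp).2 hsp)
        refine ⟨A₀, hA₀, ?_, by rw [if_neg hsp, mul_one, hcardS]⟩
        refine eq_of_le_of_card_ge ?_ ?_
        · rw [map_le_iff_le_comap]; exact map_subtype_le _
        · rw [card_map_mk_of_coprime hcop, hcardS]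
    obtain ⟨A₀, hA₀, hA₀m, hA₀c⟩ := hlift A hA
    obtain ⟨B₀, hB₀, hB₀m, hB₀c⟩ := hlift B hB
    obtain ⟨g, hg⟩ := hD s hs A₀ B₀ hA₀ hB₀ (by rw [hA₀c, hB₀c, hAB])
    refine ⟨π g, ?_⟩
    rw [← hB₀m, ← hA₀m, hg, Subgroup.map_map, Subgroup.map_map]
    congr 1
  have hcycq : ∀ s : ℕ, s.Prime → s ≠ r → ∀ P : Sylow s (G ⧸ V), IsCyclic P := fun s hs hsr => by
    haveI := Fact.mk hs
    exact isCyclic_sylow_quotient V (hcyc s hs hsr)
  have hquot : (V ≤ H ∧ V ≤ K) ∨ (Nat.card H).Coprime (Nat.card V) →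
      ∃ g : G, K = H.map (MulAut.conj g).toMonoidHom := by
    intro hcase
    refine conj_of_quotient V hVs hcard hcase (ih _ hlt (G ⧸ V) rfl hDq hcycq _ _ ?_)
    rcases hcase with ⟨h1, h2⟩ | h
    · refine Nat.eq_of_mul_eq_mul_right (Nat.card_pos (α := V)) ?_
      rw [card_map_mk_of_le h1, card_map_mk_of_le h2, hcard]
    · rw [card_map_mk_of_coprime h, card_map_mk_of_coprime (hcard ▸ h), hcard]
  by_cases hd : p ∣ Nat.card H
  swap
  · exact hquot (Or.inr (hVi ▸ ((hp.coprime_iff_not_dvd.2 hd).symm.pow_right i)))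
  by_cases huniq : ∀ P : Sylow p G, ∀ A B : Subgroup ↥(P : Subgroup G),
      Nat.card A = p → Nat.card B = p → A = B
  · exact hquot (Or.inl ⟨le_of_unique V hVp hexp hVne huniq hd, le_of_unique V hVp hexp hVne huniq (hcard ▸ hd)⟩)
  -- now `V` is a Sylow `p`-subgroup
  push Not at huniq
  obtain ⟨P, A, B, hA, hB, hAB⟩ := huniq
  have hpr : p = r := by
    by_contra h
    exact hAB (unique_of_cyclic P (hcyc p hp h P) A B hA hB)
  have hPexp : ∀ x : ↥(P : Subgroup G), x ^ p = 1 := by
    refine (ConjSub.pow_eq_one_or_unique P.isPGroup' fun A' B' _ _ h1 h2 he b hb => ?_).resolve_right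
      fun h => hAB (h A B hA hB)
    obtain ⟨g, hg⟩ := hD p hp (A'.map (P : Subgroup G).subtype) (B'.map (P : Subgroup G).subtype)
      ((P.isPGroup'.to_subgroup A').map _) ((P.isPGroup'.to_subgroup B').map _)
      (by rw [card_map_of_injective (subtype_injective _), card_map_of_injective (subtype_injective _), h1, h2])
    obtain ⟨_, ⟨a, ha, rfl⟩, hab⟩ : (b : G) ∈ (A'.map (P : Subgroup G).subtype).map (MulAut.conj g).toMonoidHom :=
      hg ▸ mem_map_of_mem _ hb
    refine Subtype.ext ?_
    rw [Subgroup.coe_pow, ← hab, ← map_pow, ← map_pow, he a ha, map_one, map_one]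
    rfl
  obtain ⟨v, hv, hv1⟩ : ∃ v ∈ V, v ≠ 1 := by
    by_contra h
    push Not at h
    exact hVne ((eq_bot_iff_forall V).2 h)
  have hvo : orderOf v = p := orderOf_eq_prime (hexp v hv) hv1
  have hPV : (P : Subgroup G) ≤ V := by
    intro x hx
    by_cases hx1 : x = 1
    · exact hx1 ▸ one_mem _
    have hxo : orderOf x = p := orderOf_eq_prime (congrArg Subtype.val (hPexp ⟨x, hx⟩)) hx1
    obtain ⟨g, hg⟩ := hD p hp (zpowers v) (zpowers x) (IsPGroup.of_card (n := 1) (by rw [Nat.card_zpowers, hvo, pow_one]))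
      (IsPGroup.of_card (n := 1) (by rw [Nat.card_zpowers, hxo, pow_one])) (by rw [Nat.card_zpowers, Nat.card_zpowers, hvo, hxo])
    obtain ⟨y, hy, hyx⟩ : x ∈ (zpowers v).map (MulAut.conj g).toMonoidHom := hg ▸ mem_zpowers x
    rw [← hyx]
    exact hVn.conj_mem y (zpowers_le.2 hv hy) g
  have hVidx : ¬ p ∣ V.index := fun h => P.not_dvd_index (h.trans (index_dvd_of_le hPV))
  have hWcard : ∀ X : Subgroup G, Nat.card ↥(X ⊓ V) = p ^ (Nat.card X).factorization p := by
    intro X
    obtain ⟨j, hj⟩ := IsPGroup.iff_card.1 (hVp.to_le inf_le_right : IsPGroup p ↥(X ⊓ V))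
    rw [hj]
    congr 1
    have h1 := ((X ⊓ V).subgroupOf X).card_mul_index
    rw [Nat.card_congr (subgroupOfEquivOfLe inf_le_left).toEquiv, hj,
      ← Subgroup.relIndex, inf_comm, inf_relIndex_right] at h1
    have h2 : ¬ p ∣ V.relIndex X := fun h => hVidx (h.trans (relIndex_dvd_index_of_normal V X))
    rw [← h1, Nat.factorization_mul (pow_ne_zero _ hp.ne_zero) (fun h => h2 (by rw [h]; exact dvd_zero p)),
      Finsupp.add_apply, Nat.factorization_pow, Finsupp.smul_apply, hp.factorization_self,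
      Nat.factorization_eq_zero_of_not_dvd h2]
    simp
  obtain ⟨g, hg⟩ := hD p hp (H ⊓ V) (K ⊓ V) (hVp.to_le inf_le_right) (hVp.to_le inf_le_right)
    (by rw [hWcard, hWcard, hcard])
  set H' := H.map (MulAut.conj g).toMonoidHom with hH'
  have hH'card : Nat.card H' = Nat.card K := by rw [hH', card_map_of_injective (MulAut.conj g).injective, hcard]
  have hW : H' ⊓ V = K ⊓ V := by
    rw [hg, hH', Subgroup.map_inf _ _ _ (MulAut.conj g).injective]
    congr 1
    refine (eq_of_le_of_card_ge ?_ (card_map_of_injective (MulAut.conj g).injective).ge).symm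
    rintro _ ⟨y, hy, rfl⟩
    exact hVn.conj_mem y hy g
  set W := K ⊓ V
  set N := normalizer (W : Set G)
  have hXN : ∀ X : Subgroup G, X ⊓ V = W → X ≤ N := by
    intro X hX x hx
    rw [mem_normalizer_iff]
    intro y
    rw [← hX]
    refine ⟨fun hy => ⟨X.mul_mem (X.mul_mem hx hy.1) (X.inv_mem hx), hVn.conj_mem y hy.2 x⟩, fun hy => ?_⟩
    have h1 := X.mul_mem (X.mul_mem (X.inv_mem hx) hy.1) hx
    have h2 := hVn.conj_mem' _ hy.2 x
    simpa [mul_assoc] using And.intro h1 h2
  haveI : (W.subgroupOf N).Normal := normal_subgroupOf_of_le_normalizer le_rfl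
  have hWN : W ≤ N := le_normalizer
  set A' := H'.subgroupOf N
  set B' := K.subgroupOf N
  have hWA : W.subgroupOf N ≤ A' := fun x hx => ((hW ▸ hx : (x : G) ∈ H' ⊓ V)).1
  have hWB : W.subgroupOf N ≤ B' := fun x hx => hx.1
  have hA'c : Nat.card A' = Nat.card K :=
    (Nat.card_congr (subgroupOfEquivOfLe (hXN H' hW)).toEquiv).trans hH'card
  have hB'c : Nat.card B' = Nat.card K := Nat.card_congr (subgroupOfEquivOfLe (hXN K rfl)).toEquiv
  have hWc : Nat.card (W.subgroupOf N) = p ^ (Nat.card K).factorization p :=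
    (Nat.card_congr (subgroupOfEquivOfLe hWN).toEquiv).trans (hWcard K)
  have hqcard : Nat.card (A'.map (QuotientGroup.mk' (W.subgroupOf N))) =
      Nat.card (B'.map (QuotientGroup.mk' (W.subgroupOf N))) := by
    refine Nat.eq_of_mul_eq_mul_right (Nat.card_pos (α := W.subgroupOf N)) ?_
    rw [card_map_mk_of_le hWA, card_map_mk_of_le hWB, hA'c, hB'c]
  have hsolvN : Group.IsSolvable N := inferInstance
  haveI := hsolvN
  haveI : Group.IsSolvable (↥N ⧸ W.subgroupOf N) :=
    Group.isSolvable_of_surjective (QuotientGroup.mk'_surjective (W.subgroupOf N))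
  have hnd : ¬ p ∣ Nat.card (A'.map (QuotientGroup.mk' (W.subgroupOf N))) := by
    intro h
    have h1 := card_map_mk_of_le hWA
    rw [hA'c, hWc] at h1
    have h2 : p ^ ((Nat.card K).factorization p + 1) ∣ Nat.card K := by
      refine (pow_succ' p _).symm ▸ ?_
      conv_rhs => rw [← h1]
      exact mul_dvd_mul_right h _
    exact Nat.pow_succ_factorization_not_dvd Nat.card_pos.ne' hp h2
  obtain ⟨n', hn'⟩ := conj_of_quotient (W.subgroupOf N) inferInstance (hA'c.trans hB'c.symm) (Or.inl ⟨hWA, hWB⟩)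
    (conj_of_cyclic _ _ hqcard fun s hs hsd => by
      have hsp : s ≠ p := fun h => hnd (h ▸ hsd)
      exact isCyclic_sylow_quotient _ (isCyclic_sylow_subgroup N (hcyc s hs.out (hpr ▸ hsp))))
  refine ⟨(n' : G) * g, ?_⟩
  have h1 := congrArg (Subgroup.map N.subtype) hn'
  rw [map_subgroupOf_eq_of_le (hXN K rfl), Subgroup.map_map] at h1
  rw [h1, show N.subtype.comp (MulAut.conj n').toMonoidHom = (MulAut.conj (n' : G)).toMonoidHom.comp N.subtype
    from by ext x; simp, ← Subgroup.map_map, map_subgroupOf_eq_of_le (hXN H' hW), hH', Subgroup.map_map]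
  congr 1
  ext x; simp [mul_assoc]

end CfsgLib.Orders.ConjAll
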