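import Mathlib

/-!
# Subgroups of dihedral groups: the subgroups `{r j, sr j : j ∈ A}`
-/

set_option autoImplicit false

namespace CfsgLib.Orders

open DihedralGroup

variable {n : ℕ}

/-- `{r j, sr j : j ∈ A}`. -/
def dihedralSub (A : AddSubgroup (ZMod n)) : Subgroup (DihedralGroup n) where
  carrier := {g | match g with | r j => j ∈ A | sr j => j ∈ A}
  one_mem' := by rw [one_def]; exact A.zero_mem
  mul_mem' := by
    rintro (i | i) (j | j) hi hj
    · rw [r_mul_r]; exact A.add_mem hi hj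
    · rw [r_mul_sr]; exact A.sub_mem hj hi
    · rw [sr_mul_r]; exact A.add_mem hi hj
    · rw [sr_mul_sr]; exact A.sub_mem hj hi
  inv_mem' := by
    rintro (i | i) hi
    · rw [inv_r]; exact A.neg_mem hi
    · rw [inv_sr]; exact hi

theorem r_mem_dihedralSub {A : AddSubgroup (ZMod n)} {j : ZMod n} :
    r j ∈ dihedralSub A ↔ j ∈ A := Iff.rfl

theorem sr_mem_dihedralSub {A : AddSubgroup (ZMod n)} {j : ZMod n} :
    sr j ∈ dihedralSub A ↔ j ∈ A := Iff.rfl

theorem r_mem_of_mem {H : Subgroup (DihedralGroup n)} {d : ZMod n} (h : r d ∈ H) (k : ℤ) :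
    r (d * (k : ZMod n)) ∈ H := r_zpow d k ▸ zpow_mem h k

/-- A non-cyclic subgroup contains a reflection and a nontrivial rotation. -/
theorem exists_sr_r_mem {H : Subgroup (DihedralGroup n)} (h : ¬ IsCyclic H) :
    (∃ i, sr i ∈ H) ∧ ∃ d, d ≠ 0 ∧ r d ∈ H := by
  have hcyc : IsCyclic (Subgroup.zpowers (r 1 : DihedralGroup n)) := inferInstance
  refine ⟨?_, ?_⟩
  · by_contra hc
    push Not at hc
    refine h (Subgroup.isCyclic_of_le (H' := Subgroup.zpowers (r 1 : DihedralGroup n)) ?_)
    rintro (i | i) hi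
    · obtain ⟨k, rfl⟩ := ZMod.intCast_surjective i
      exact ⟨k, r_one_zpow k⟩
    · exact absurd hi (hc i)
  · by_contra hc
    push Not at hc
    refine h ?_
    have hr : ∀ j, r j ∈ H → j = 0 := fun j hj => by
      by_contra h0; exact hc j h0 hj
    by_cases hs : ∃ i, sr i ∈ H
    · obtain ⟨i, hi⟩ := hs
      refine Subgroup.isCyclic_of_le (H' := Subgroup.zpowers (sr i : DihedralGroup n)) ?_
      rintro (j | j) hj
      · rw [hr j hj, r_zero]; exact one_mem _
      · have := hr _ (sr_mul_sr i j ▸ mul_mem hi hj)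
        rw [sub_eq_zero.1 this]; exact Subgroup.mem_zpowers _
    · refine Subgroup.isCyclic_of_le (H' := (⊥ : Subgroup (DihedralGroup n))) ?_
      rintro (j | j) hj
      · rw [hr j hj, r_zero]; exact one_mem _
      · exact absurd ⟨j, hj⟩ hs

theorem commute_r_r (i j : ZMod n) : r i * r j = r j * r i := by
  rw [r_mul_r, r_mul_r, add_comm]

theorem commute_r_sr_iff {i j : ZMod n} : r i * sr j = sr j * r i ↔ i + i = 0 := by
  rw [r_mul_sr, sr_mul_r, DihedralGroup.sr.injEq]
  constructor <;> intro h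
  · linear_combination -h
  · linear_combination -h

theorem commute_sr_sr_iff {i j : ZMod n} : sr i * sr j = sr j * sr i ↔ (j - i) + (j - i) = 0 := by
  rw [sr_mul_sr, sr_mul_sr, DihedralGroup.r.injEq]
  constructor <;> intro h
  · linear_combination h
  · linear_combination h

theorem eq_zero_of_add_self (hn : Odd n) {j : ZMod n} (h : j + j = 0) : j = 0 := by
  have h2 : IsUnit ((2 : ℕ) : ZMod n) := (ZMod.isUnit_iff_coprime 2 n).2 (Nat.coprime_two_left.2 hn)
  rw [← two_mul] at h
  push_cast at h2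
  exact (h2.mul_right_eq_zero).1 h

/-- A non-abelian subgroup has a reflection and a rotation of order `> 2`. -/
theorem exists_of_noncomm {H : Subgroup (DihedralGroup n)} (h : ¬ IsMulCommutative H) :
    (∃ i, sr i ∈ H) ∧ ∃ d, d + d ≠ 0 ∧ r d ∈ H := by
  refine ⟨?_, ?_⟩
  · by_contra hc
    push Not at hc
    refine h ⟨⟨?_⟩⟩
    rintro ⟨a | a, ha⟩ ⟨b | b, hb⟩
    · exact Subtype.ext (commute_r_r a b)
    · exact absurd hb (hc b)
    · exact absurd ha (hc a)
    · exact absurd ha (hc a)
  · by_contra hc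
    push Not at hc
    refine h ⟨⟨?_⟩⟩
    have hr : ∀ j, r j ∈ H → j + j = 0 := fun j hj => by
      by_contra h0; exact hc j h0 hj
    rintro ⟨a | a, ha⟩ ⟨b | b, hb⟩
    · exact Subtype.ext (commute_r_r a b)
    · exact Subtype.ext (commute_r_sr_iff.2 (hr a ha))
    · exact Subtype.ext (commute_r_sr_iff.2 (hr b hb)).symm
    · exact Subtype.ext (commute_sr_sr_iff.2 (hr _ (sr_mul_sr a b ▸ mul_mem ha hb)))

end CfsgLib.Orders
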