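import Cfsg.Agent.Lib.Core.FPF
import Cfsg.Agent.Lib.Components.Char
import Cfsg.Agent.Lib.Recog.ThreePrimes

/-!
# Groups in which every element has prime power order; spectra `{1, …, n}`
-/

set_option autoImplicit false

namespace CfsgLib.Orders

universe u

open scoped Pointwise

variable {G : Type u} [Group G] [Finite G]

theorem not_isPrimePow_mul {p q : ℕ} (hp : p.Prime) (hq : q.Prime) (hpq : p ≠ q) :
    ¬ IsPrimePow (p * q) := by
  rintro ⟨r, k, hr, -, he⟩
  have hr' := hr.nat_prime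
  have h1 : p ∣ r ^ k := he ▸ dvd_mul_right p q
  have h2 : q ∣ r ^ k := he ▸ dvd_mul_left q p
  exact hpq (((Nat.prime_dvd_prime_iff_eq hp hr').1 (hp.dvd_of_dvd_pow h1)).trans
    ((Nat.prime_dvd_prime_iff_eq hq hr').1 (hq.dvd_of_dvd_pow h2)).symm)

/-- In a group with all element orders prime powers, commuting non-identity elements share their prime. -/
theorem eppo_commute (hpp : ∀ g : G, g ≠ 1 → IsPrimePow (orderOf g)) {a b : G} {p q i : ℕ}
    (hp : p.Prime) (hq : q.Prime) (hpq : p ≠ q) (ha : a ≠ 1) (hai : a ^ p ^ i = 1) (hb : orderOf b = q)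
    (hc : Commute a b) : False := by
  obtain ⟨j, -, hj⟩ := (Nat.dvd_prime_pow hp).1 (orderOf_dvd_of_pow_eq_one hai)
  have hj0 : j ≠ 0 := fun h => ha (orderOf_eq_one_iff.1 (by rw [hj, h, pow_zero]))
  obtain ⟨j, rfl⟩ := Nat.exists_eq_succ_of_ne_zero hj0
  have ha' : orderOf (a ^ p ^ j) = p := by
    rw [orderOf_pow' _ (pow_ne_zero _ hp.ne_zero), hj, Nat.gcd_eq_right (pow_dvd_pow p j.le_succ),
      pow_succ, Nat.mul_div_cancel_left _ (pow_pos hp.pos j)]
  have h1 := Recog.ThreePrimes.orderOf_mul_of_commute (hc.pow_left (p ^ j)) hp hq hpq ha' hb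
  have hne : a ^ p ^ j * b ≠ 1 := fun h => by
    rw [h, orderOf_one] at h1
    exact hp.ne_one (Nat.eq_one_of_mul_eq_one_right h1.symm)
  exact not_isPrimePow_mul hp hq hpq (h1 ▸ hpp _ hne)

/-- Disjoint normal subgroups, one of which is not a `p`-group for any `p`. -/
theorem eppo_inf_ne_bot (hpp : ∀ g : G, g ≠ 1 → IsPrimePow (orderOf g)) {M N : Subgroup G}
    (hM : M.Normal) (hN : N.Normal) (hMN : M ⊓ N = ⊥) (hM1 : M ≠ ⊥)
    (hNs : ∀ q : ℕ, q.Prime → ¬ IsPGroup q N) : False := by
  obtain ⟨p, hp, hpd⟩ := Nat.exists_prime_and_dvd (n := Nat.card M)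
    fun h => hM1 (Subgroup.eq_bot_of_card_eq M h)
  haveI := Fact.mk hp
  obtain ⟨a, ha⟩ := exists_prime_orderOf_dvd_card' (G := M) p hpd
  obtain ⟨q, hq, hqd, hqp⟩ : ∃ q : ℕ, q.Prime ∧ q ∣ Nat.card N ∧ q ≠ p := by
    by_contra hc
    push Not at hc
    exact hNs p hp (IsPGroup.of_card
      (Nat.eq_prime_pow_of_unique_prime_dvd Nat.card_pos.ne' fun {d} hd hdd => hc d hd hdd))
  haveI := Fact.mk hq
  obtain ⟨b, hb⟩ := exists_prime_orderOf_dvd_card' (G := N) q hqd
  refine eppo_commute hpp hp hq hqp.symm (a := (a : G)) (i := 1) ?_ ?_ ((Subgroup.orderOf_coe b).trans hb)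
    (Subgroup.commute_of_normal_of_disjoint M N hM hN (disjoint_iff.2 hMN) _ _ a.2 b.2)
  · intro h
    have : orderOf a = 1 := by rw [← Subgroup.orderOf_coe, h, orderOf_one]
    exact hp.ne_one (ha.symm.trans this)
  · rw [pow_one, ← ha, ← Subgroup.orderOf_coe, pow_orderOf_eq_one]

theorem isSolvable_isPGroup {p : ℕ} [Fact p.Prime] {H : Subgroup G} (h : IsPGroup p H) :
    Group.IsSolvable H := by
  have := h.isNilpotent
  infer_instance

theorem eppo_structure (hns : ¬ Group.IsSolvable G) (hpp : ∀ g : G, g ≠ 1 → IsPrimePow (orderOf g))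
    (R : Subgroup G) [R.Normal] (hRs : Group.IsSolvable R)
    (hRmax : ∀ N : Subgroup G, N.Normal → Group.IsSolvable N → N ≤ R) :
    (∃ p : ℕ, p.Prime ∧ IsPGroup p R) ∧
      ∃ M : Subgroup (G ⧸ R), M.Normal ∧ IsSimpleGroup M ∧ ¬ IsMulCommutative M ∧
        ∀ N : Subgroup (G ⧸ R), N.Normal → N ≠ ⊥ → M ≤ N := by
  let π : G →* G ⧸ R := QuotientGroup.mk' R
  refine ⟨?_, ?_⟩
  · by_cases hR : R = ⊥
    · exact ⟨2, Nat.prime_two, hR ▸ IsPGroup.of_bot⟩
    obtain ⟨V, r, hVn, hr, hV1, hVc, hVexp⟩ := Recog.Spectrum.exists_elementary_of_solvable R hR hRs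
    haveI := Fact.mk hr
    refine ⟨r, hr, ?_⟩
    by_contra hnp
    obtain ⟨s, hs, hsd, hsr⟩ : ∃ s : ℕ, s.Prime ∧ s ∣ Nat.card R ∧ s ≠ r := by
      by_contra hc
      push Not at hc
      exact hnp (IsPGroup.of_card
        (Nat.eq_prime_pow_of_unique_prime_dvd Nat.card_pos.ne' fun {d} hd hdd => hc d hd hdd))
    haveI := Fact.mk hs
    obtain ⟨S⟩ : Nonempty (Sylow s R) := inferInstance
    set S' := (S : Subgroup R).map R.subtype with hS'
    have hS'p : IsPGroup s S' := S.isPGroup'.map _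
    have hfpf : ∀ a ∈ S', a ≠ 1 → V ⊓ Subgroup.centralizer {a} = ⊥ := by
      intro a ha ha1
      rw [eq_bot_iff]
      rintro v ⟨hv, hvc⟩
      rw [Subgroup.mem_bot]
      by_contra hv1
      obtain ⟨k, hk⟩ := hS'p ⟨a, ha⟩
      exact eppo_commute hpp hs hr hsr ha1 (congrArg Subtype.val hk)
        (orderOf_eq_prime (congrArg Subtype.val (hVexp ⟨v, hv⟩)) hv1)
        (Subgroup.mem_centralizer_singleton_iff.1 hvc).symm
    obtain ⟨z, hz⟩ := exists_prime_orderOf_dvd_card' (G := S') s
      (by rw [hS', Subgroup.card_map_of_injective R.subtype_injective]; exact S.dvd_card_of_dvd_card hsd)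
    set Z := Subgroup.zpowers (z : G) with hZ
    have hZc : Nat.card Z = s := by rw [hZ, Nat.card_zpowers, Subgroup.orderOf_coe, hz]
    have hZS : Z ≤ S' := Subgroup.zpowers_le.2 z.2
    have hVne : V ≠ ⊥ := hV1
    -- the normaliser of `S` normalises the unique subgroup of order `s`
    have hN : Subgroup.normalizer (S' : Set G) ≤ Subgroup.normalizer (Z : Set G) := by
      intro g hg
      have h1 : Z.map (MulAut.conj g).toMonoidHom = Z := by
        refine Core.FPF.subgroup_order_prime_unique (K := V)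
          (Core.le_normalizer_of_normal S' V) hfpf hVne le_rfl hs hS'p ?_ hZS ?_ hZc
        · rintro _ ⟨w, hw, rfl⟩
          exact (Subgroup.mem_normalizer_iff.1 hg w).1 (hZS hw)
        · rw [Subgroup.card_map_of_injective (MulAut.conj g).injective, hZc]
      rw [Subgroup.mem_normalizer_iff]
      intro w
      refine ⟨fun hw => h1 ▸ ⟨w, hw, rfl⟩, fun hw => ?_⟩
      rw [← h1] at hw
      obtain ⟨v, hv, he⟩ := hw
      have : v = w := (MulAut.conj g).injective he
      exact this ▸ hv
    have hCs : IsPGroup s (Subgroup.centralizer (Z : Set G)) := by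
      intro c
      by_cases hc : (c : G) = 1
      · exact ⟨0, Subtype.ext (by simp [hc])⟩
      obtain ⟨p, k, hp, hk, he⟩ := hpp _ hc
      by_cases hps : p = s
      · exact ⟨k, Subtype.ext (by rw [Subgroup.coe_pow, ← hps, he, pow_orderOf_eq_one]; rfl)⟩
      exact (eppo_commute hpp hp.nat_prime hs hps hc (i := k) (by rw [he, pow_orderOf_eq_one])
        ((Subgroup.orderOf_coe z).trans hz)
        (Subgroup.mem_centralizer_iff.1 c.2 _ (Subgroup.mem_zpowers _)).symm).elim
    have hNsol : Group.IsSolvable (Subgroup.normalizer (Z : Set G)) := by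
      have hcyc : IsCyclic Z := inferInstance
      haveI : Group.IsSolvable (MulAut Z) :=
        Group.isSolvable_of_comm fun a b => by
          have := (IsCyclic.mulAutMulEquiv Z).injective (a₁ := a * b) (a₂ := b * a) (by rw [map_mul, map_mul, mul_comm])
          exact this
      haveI : Group.IsSolvable (Subgroup.centralizer (Z : Set G)) := isSolvable_isPGroup hCs
      refine Group.isSolvable_of_ker_le_range (Subgroup.inclusion (Subgroup.centralizer_le_normalizer (Z : Set G)))
        Z.normalizerMonoidHom ?_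
      intro x hx
      rw [Subgroup.normalizerMonoidHom_ker] at hx
      exact ⟨⟨x, hx⟩, Subtype.ext rfl⟩
    haveI hNS : Group.IsSolvable (Subgroup.normalizer (S' : Set G)) :=
      Group.isSolvable_of_isSolvable_injective (f := Subgroup.inclusion hN) (Subgroup.inclusion_injective hN)
    have hfr : Subgroup.normalizer (S' : Set G) ⊔ R = ⊤ := Sylow.normalizer_sup_eq_top S
    apply hns
    have hq : Group.IsSolvable (G ⧸ R) := by
      refine Group.isSolvable_of_surjective (f := π.comp (Subgroup.normalizer (S' : Set G)).subtype) fun x => ?_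
      induction x using QuotientGroup.induction_on with
      | H g =>
        obtain ⟨n, hn, m, hm, rfl⟩ := Subgroup.mem_sup_of_normal_right.1 (hfr.symm ▸ Subgroup.mem_top g)
        exact ⟨⟨n, hn⟩, QuotientGroup.eq.2 (by simpa using hm)⟩
    exact Group.isSolvable_of_ker_le_range R.subtype π (by simp [π])
  · have hpp' : ∀ z : G ⧸ R, z ≠ 1 → IsPrimePow (orderOf z) := fun z hz => by
      induction z using QuotientGroup.induction_on with
      | H g =>
        have hg : g ≠ 1 := fun h => hz (by rw [h]; rfl)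
        obtain ⟨p, k, hp, hk, he⟩ := hpp g hg
        obtain ⟨j, -, hj⟩ := (Nat.dvd_prime_pow hp.nat_prime).1 (he.symm ▸ orderOf_map_dvd π g)
        refine ⟨p, j, hp, Nat.pos_of_ne_zero fun h0 => hz ?_, hj.symm⟩
        exact orderOf_eq_one_iff.1 (by rw [show orderOf (g : G ⧸ R) = orderOf (π g) from rfl, hj, h0, pow_zero])
    have hrad : ∀ N : Subgroup (G ⧸ R), N.Normal → Group.IsSolvable N → N = ⊥ := by
      intro N hNn hNs
      have hn' : (N.comap π).Normal := hNn.comap π
      have hs' : Group.IsSolvable (N.comap π) := by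
        refine Group.isSolvable_of_ker_le_range
          (Subgroup.inclusion (show R ≤ N.comap π from fun x hx => by
            rw [Subgroup.mem_comap, show π x = 1 from (QuotientGroup.eq_one_iff x).2 hx]; exact one_mem N))
          (π.subgroupComap N) ?_
        intro x hx
        exact ⟨⟨x, (QuotientGroup.eq_one_iff _).1 (congrArg Subtype.val hx)⟩, Subtype.ext rfl⟩
      have h := hRmax _ hn' hs'
      rw [eq_bot_iff]
      intro z hz
      induction z using QuotientGroup.induction_on with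
      | H g => exact (QuotientGroup.eq_one_iff g).2 (h hz)
    have hnsq : ¬ Group.IsSolvable (G ⧸ R) := fun h => hns
      (Group.isSolvable_of_ker_le_range R.subtype π (by simp [π]))
    haveI : Nontrivial (G ⧸ R) := by
      by_contra h
      rw [not_nontrivial_iff_subsingleton] at h
      exact hnsq inferInstance
    obtain ⟨M, hMn, hM1, hMmin⟩ := Components.exists_minimal_normal (G := G ⧸ R)
    have hnotp : ∀ N : Subgroup (G ⧸ R), N.Normal → N ≠ ⊥ → ∀ q : ℕ, q.Prime → ¬ IsPGroup q N := by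
      intro N hNn hN1 q hq hp
      haveI := Fact.mk hq
      exact hN1 (hrad N hNn (isSolvable_isPGroup hp))
    have huniq : ∀ N : Subgroup (G ⧸ R), N.Normal → N ≠ ⊥ → M ≤ N := by
      intro N hNn hN1
      rcases hMmin (M ⊓ N) inferInstance inf_le_left with h | h
      · exact (eppo_inf_ne_bot hpp' hMn hNn h hM1 (hnotp N hNn hN1)).elim
      · exact inf_eq_left.1 h
    have hMnc : ¬ IsMulCommutative M := fun h =>
      hM1 (hrad M hMn (Group.isSolvable_of_comm fun a b => h.1.comm a b))
    refine ⟨M, hMn, ?_, hMnc, huniq⟩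
    haveI : Nontrivial M := (Subgroup.nontrivial_iff_ne_bot M).2 hM1
    refine ⟨fun X hXn => ?_⟩
    by_cases hX : X = ⊥
    · exact Or.inl hX
    right
    obtain ⟨Y, hYn, hY1, hYX, hYmin⟩ := Components.exists_minimal_normal_le hXn hX
    suffices Y = ⊤ from top_le_iff.1 (this ▸ hYX)
    by_contra hYtop
    -- the radical of `M` is trivial
    have hradM : Components.solRadical M = ⊥ := by
      have h1 : ((Components.solRadical M).map M.subtype).Normal := by
        haveI := Components.solRadical_characteristic (G := M)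
        exact ConjAct.normal_of_characteristic_of_normal
      have h2 : Group.IsSolvable ((Components.solRadical M).map M.subtype) := by
        haveI := Components.solRadical_isSolvable (G := M)
        exact Group.isSolvable_of_surjective (MonoidHom.subgroupMap_surjective M.subtype (Components.solRadical M))
      rw [← Subgroup.map_eq_bot_iff_of_injective _ M.subtype_injective]
      exact hrad _ h1 h2
    have hYnotp : ∀ q : ℕ, q.Prime → ¬ IsPGroup q Y := by
      intro q hq hp
      haveI := Fact.mk hq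
      refine hY1 (eq_bot_iff.2 (hradM ▸ ?_))
      exact Components.subnormal_solvable_le_solRadical hYn.isSubnormal (isSolvable_isPGroup hp)
    have hppM : ∀ z : M, z ≠ 1 → IsPrimePow (orderOf z) := fun z hz => by
      rw [← Subgroup.orderOf_coe]
      exact hpp' _ fun h => hz (Subtype.ext h)
    -- all conjugates of `Y` are equal
    have hconj : ∀ g : G ⧸ R, ∀ y ∈ Y, MulAut.conjNormal g y ∈ Y := by
      intro g y hy
      set Y' := Y.map (MulAut.conjNormal g : M ≃* M).toMonoidHom with hY'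
      have hY'n : Y'.Normal := hYn.map _ (MulAut.conjNormal g : M ≃* M).surjective
      rcases hYmin (Y ⊓ Y') inferInstance inf_le_left with h | h
      · refine (eppo_inf_ne_bot hppM hY'n hYn (inf_comm Y Y' ▸ h) ?_ hYnotp).elim
        exact fun h0 => hY1 ((Subgroup.map_eq_bot_iff_of_injective _ (f := (MulAut.conjNormal g : M ≃* M).toMonoidHom)
          (MulAut.conjNormal g : M ≃* M).injective).1 h0)
      · have hle : Y ≤ Y' := inf_eq_left.1 h
        have : Y = Y' := Subgroup.eq_of_le_of_card_ge hle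
          (le_of_eq (Subgroup.card_map_of_injective (f := (MulAut.conjNormal g : M ≃* M).toMonoidHom)
            (MulAut.conjNormal g : M ≃* M).injective))
        rw [this]
        exact ⟨y, hy, rfl⟩
    have hYG : (Y.map M.subtype).Normal := ⟨by
      rintro _ ⟨y, hy, rfl⟩ g
      exact ⟨_, hconj g y hy, MulAut.conjNormal_apply g y⟩⟩
    refine hYtop (top_le_iff.1 fun x _ => ?_)
    have hx := huniq _ hYG (by rwa [Ne, Subgroup.map_eq_bot_iff_of_injective _ M.subtype_injective]) x.2
    obtain ⟨y, hy, hyx⟩ := hx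
    exact (Subtype.ext hyx : y = x) ▸ hy

theorem eppo_solvable_primes (hpp : ∀ g : G, g ≠ 1 → IsPrimePow (orderOf g)) (H : Subgroup G)
    (hH : Group.IsSolvable H) : (Nat.card H).primeFactors.card ≤ 2 := by
  by_contra hc
  obtain ⟨p, hp, q, hq, r, hr, hpq, hpr, hqr⟩ := Finset.two_lt_card_iff.1 (not_le.1 hc) |>
    fun ⟨a, b, c, ha, hb, hc, h1, h2, h3⟩ =>
      (⟨a, ha, b, hb, c, hc, h1, h2, h3⟩ : ∃ p ∈ (Nat.card H).primeFactors, ∃ q ∈ (Nat.card H).primeFactors,
        ∃ r ∈ (Nat.card H).primeFactors, p ≠ q ∧ p ≠ r ∧ q ≠ r)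
  obtain ⟨hp1, hp2, -⟩ := Nat.mem_primeFactors.1 hp
  obtain ⟨hq1, hq2, -⟩ := Nat.mem_primeFactors.1 hq
  obtain ⟨hr1, hr2, -⟩ := Nat.mem_primeFactors.1 hr
  have key : ∀ {a b : ℕ}, a.Prime → b.Prime → a ≠ b → ¬ ∃ x : H, orderOf x = a * b := by
    rintro a b ha hb hab ⟨x, hx⟩
    rw [← Subgroup.orderOf_coe] at hx
    exact not_isPrimePow_mul ha hb hab (hx ▸ hpp _ fun h => by
      rw [h, orderOf_one] at hx; exact ha.ne_one (Nat.eq_one_of_mul_eq_one_right hx.symm))
  rcases Recog.ThreePrimes.solvable_three_primes _ H rfl p q r hp1 hq1 hr1 hpq hpr hqr hp2 hq2 hr2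
    with h | h | h
  · exact key hp1 hq1 hpq h
  · exact key hp1 hr1 hpr h
  · exact key hq1 hr1 hqr h

theorem exists_three_primes (n : ℕ) (hn : 7 ≤ n) : ∃ p q r : ℕ, p.Prime ∧ q.Prime ∧ r.Prime ∧
    p < q ∧ q < r ∧ r ≤ n ∧ n < p * q := by
  by_cases h64 : 64 ≤ n
  · set s := n.sqrt with hs
    have h8 : 8 ≤ s := Nat.le_sqrt.2 (by omega)
    obtain ⟨p, hp, hp1, hp2⟩ := Nat.exists_prime_lt_and_le_two_mul s (by omega)
    obtain ⟨q, hq, hq1, hq2⟩ := Nat.exists_prime_lt_and_le_two_mul (2 * s) (by omega)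
    obtain ⟨r, hr, hr1, hr2⟩ := Nat.exists_prime_lt_and_le_two_mul (4 * s) (by omega)
    have h1 : s * s ≤ n := Nat.sqrt_le n
    have h2 : n < (s + 1) * (s + 1) := Nat.lt_succ_sqrt n
    refine ⟨p, q, r, hp, hq, hr, by omega, by omega, by nlinarith, ?_⟩
    exact h2.trans_le (Nat.mul_le_mul (by omega) (by omega))
  by_cases h35 : 35 ≤ n
  · exact ⟨11, 13, 17, by norm_num, by norm_num, by norm_num, by norm_num, by norm_num, by omega, by omega⟩
  by_cases h15 : 15 ≤ n
  · exact ⟨7, 11, 13, by norm_num, by norm_num, by norm_num, by norm_num, by norm_num, by omega, by omega⟩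
  exact ⟨3, 5, 7, by norm_num, by norm_num, by norm_num, by norm_num, by norm_num, by omega, by omega⟩

theorem not_isSolvable_of_spectrum (n : ℕ) (hn : 7 ≤ n)
    (h : Set.range (orderOf : G → ℕ) = {k : ℕ | 1 ≤ k ∧ k ≤ n}) : ¬ Group.IsSolvable G := by
  intro hs
  obtain ⟨p, q, r, hp, hq, hr, hpq, hqr, hrn, hn'⟩ := exists_three_primes n hn
  have hd : ∀ k : ℕ, 1 ≤ k → k ≤ n → k ∣ Nat.card G := fun k h1 h2 => by
    obtain ⟨g, hg⟩ : k ∈ Set.range (orderOf : G → ℕ) := by rw [h]; exact ⟨h1, h2⟩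
    exact hg ▸ orderOf_dvd_natCard g
  have key : ∀ {a b : ℕ}, n < a * b → ¬ ∃ x : G, orderOf x = a * b := by
    rintro a b hab ⟨x, hx⟩
    have : orderOf x ∈ {k : ℕ | 1 ≤ k ∧ k ≤ n} := h ▸ ⟨x, rfl⟩
    have := this.2
    omega
  rcases Recog.ThreePrimes.solvable_three_primes _ G rfl p q r hp hq hr hpq.ne (by omega) hqr.ne
    (hd p hp.one_le (by omega)) (hd q hq.one_le (by omega)) (hd r hr.one_le hrn) with h | h | h
  · exact key hn' h
  · exact key (hn'.trans_le (Nat.mul_le_mul_left p hqr.le)) h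
  · exact key (hn'.trans_le (Nat.mul_le_mul hpq.le hqr.le)) h

end CfsgLib.Orders
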