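import Cfsg.Agent.Lib.Orders.TwoOrderCounts
import Cfsg.Agent.Lib.Char.Burnside

/-!
# Groups in which the numbers of elements of each order take three values

Everything follows from counting: for a prime `p` and `m` prime to `p`, `p` divides the number of elements
of order `m` plus the number of order `p * m`.
-/

set_option autoImplicit false
set_option linter.all false

namespace CfsgLib.Orders.ThreeCounts

universe u

variable {G : Type u} [Group G] [Finite G]

/-- number of elements of order `m` -/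
noncomputable def cnt (G : Type u) [Group G] (m : ℕ) : ℕ := Nat.card {g : G // orderOf g = m}

theorem cnt_pos (x : G) : 0 < cnt G (orderOf x) :=
  Nat.card_pos_iff.2 ⟨⟨⟨x, rfl⟩⟩, inferInstance⟩

theorem exists_of_cnt {m : ℕ} (h : cnt G m ≠ 0) : ∃ x : G, orderOf x = m := by
  by_contra hc
  push Not at hc
  haveI : IsEmpty {g : G // orderOf g = m} := ⟨fun g => hc g.1 g.2⟩
  exact h Nat.card_of_isEmpty

theorem cnt_one : cnt G 1 = 1 := Nat.card_eq_one_iff_unique.2
  ⟨⟨fun a b => Subtype.ext ((orderOf_eq_one_iff.1 a.2).trans (orderOf_eq_one_iff.1 b.2).symm)⟩,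
    ⟨⟨1, orderOf_one⟩⟩⟩

theorem totient_dvd_cnt (m : ℕ) : m.totient ∣ cnt G m := CfsgLib.Orders.totient_dvd_card_orderOf m

theorem two_le_cnt {m : ℕ} (hm : 3 ≤ m) (h : cnt G m ≠ 0) : 2 ≤ cnt G m :=
  Nat.le_of_dvd (Nat.pos_of_ne_zero h) ((Nat.totient_even hm).two_dvd.trans (totient_dvd_cnt m))

theorem sum_le_card (s : Finset ℕ) : ∑ m ∈ s, cnt G m ≤ Nat.card G := by
  classical
  haveI := Fintype.ofFinite G
  simp only [cnt, Nat.card_eq_fintype_card, Fintype.card_subtype]
  rw [← Finset.card_biUnion]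
  · exact Finset.card_le_univ _
  · intro a _ b _ hab
    exact Finset.disjoint_filter.2 fun x _ h1 h2 => hab (h1.symm.trans h2)

/-- elements of an order divisible by a coprime prime `q` meet the centralizer of each `q`-element -/
theorem exists_commute {q m : ℕ} (hq : q.Prime) (hnd : ¬ q ∣ cnt G m) {y : G} (hy : orderOf y = q) :
    ∃ x : G, orderOf x = m ∧ Commute x y := by
  haveI := Fact.mk hq
  letI : MulAction (Subgroup.zpowers y) {g : G // orderOf g = m} :=
    { smul := fun c g => ⟨(c : G) * g * (c : G)⁻¹, by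
        rw [← MulAut.conj_apply, MulEquiv.orderOf_eq]; exact g.2⟩
      one_smul := fun g => Subtype.ext (show ((1 : Subgroup.zpowers y) : G) * g * ((1 : Subgroup.zpowers y) : G)⁻¹ = _ by simp)
      mul_smul := fun c d g => Subtype.ext (show ((c * d : Subgroup.zpowers y) : G) * g * ((c * d : Subgroup.zpowers y) : G)⁻¹ =
          (c : G) * ((d : G) * g * (d : G)⁻¹) * (c : G)⁻¹ by simp [mul_assoc]) }
  have hp : IsPGroup q (Subgroup.zpowers y) := IsPGroup.of_card (n := 1) (by rw [Nat.card_zpowers, hy, pow_one])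
  obtain ⟨g, hg⟩ := hp.nonempty_fixed_point_of_prime_not_dvd_card {g : G // orderOf g = m} hnd
  refine ⟨g, g.2, ?_⟩
  have h := congrArg Subtype.val (hg ⟨y, Subgroup.mem_zpowers y⟩)
  exact (mul_inv_eq_iff_eq_mul.1 h : y * (g : G) = g * y).symm

theorem prime_dvd_add {p m : ℕ} (hp : p.Prime) (hpG : p ∣ Nat.card G) (hm : m ≠ 0) (hco : p.Coprime m) :
    p ∣ cnt G m + cnt G (p * m) := by
  classical
  haveI := Fact.mk hp
  haveI := Fintype.ofFinite G
  obtain ⟨y, hy⟩ := exists_prime_orderOf_dvd_card' p hpG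
  let S := {w : G × G // orderOf w.1 = m ∧ w.2 ^ p = 1 ∧ Commute w.1 w.2}
  -- the pairs are the elements of the two orders
  obtain ⟨e, he1, he0⟩ := Nat.chineseRemainder hco.symm 1 0
  obtain ⟨c, hc1, hc0⟩ := Nat.chineseRemainder hco.symm 0 1
  have hordv : ∀ v : G, v ^ p = 1 → orderOf v = 1 ∨ orderOf v = p := fun v hv =>
    (Nat.dvd_prime hp).1 (orderOf_dvd_of_pow_eq_one hv)
  have hparts : ∀ w : S, (w.1.1 * w.1.2) ^ e = w.1.1 ∧ (w.1.1 * w.1.2) ^ c = w.1.2 := by
    rintro ⟨⟨u, v⟩, hu, hv, huv⟩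
    simp only
    have hu1 : u ^ e = u ∧ u ^ c = 1 := ⟨by
      conv_rhs => rw [← pow_one u]
      exact pow_eq_pow_iff_modEq.2 (hu ▸ he1), by
      rw [← pow_zero u]; exact pow_eq_pow_iff_modEq.2 (hu ▸ hc1)⟩
    have hv1 : v ^ e = 1 ∧ v ^ c = v := by
      rcases hordv v hv with h | h
      · obtain rfl : v = 1 := orderOf_eq_one_iff.1 h
        simp
      · exact ⟨by rw [← pow_zero v]; exact pow_eq_pow_iff_modEq.2 (h ▸ he0), by
          conv_rhs => rw [← pow_one v]
          exact pow_eq_pow_iff_modEq.2 (h ▸ hc0)⟩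
    rw [huv.mul_pow, huv.mul_pow, hu1.1, hu1.2, hv1.1, hv1.2, mul_one, one_mul]
    exact ⟨rfl, rfl⟩
  have hcard : Nat.card S = cnt G m + cnt G (p * m) := by
    have hne : m ≠ p * m := fun h => hp.ne_one (((Nat.mul_eq_right hm).1 h.symm))
    have hsum : cnt G m + cnt G (p * m) = Nat.card {x : G // orderOf x = m ∨ orderOf x = p * m} := by
      simp only [cnt, Nat.card_eq_fintype_card, Fintype.card_subtype]
      rw [Finset.filter_or, Finset.card_union_of_disjoint]
      exact Finset.disjoint_filter.2 fun x _ h1 h2 => hne (h1.symm.trans h2)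
    rw [hsum]
    refine Nat.card_eq_of_bijective (fun w => ⟨w.1.1 * w.1.2, ?_⟩) ⟨?_, ?_⟩
    · obtain ⟨⟨u, v⟩, hu, hv, huv⟩ := w
      show orderOf (u * v) = m ∨ orderOf (u * v) = p * m
      rcases hordv v hv with h | h
      · left; rw [orderOf_eq_one_iff.1 h, mul_one]; exact hu
      · right
        rw [huv.orderOf_mul_eq_mul_orderOf_of_coprime (by rw [hu, h]; exact hco.symm), hu, h, mul_comm]
    · intro w w' h
      have h1 := congrArg Subtype.val h
      simp only at h1
      refine Subtype.ext (Prod.ext ?_ ?_)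
      · rw [← (hparts w).1, h1, (hparts w').1]
      · rw [← (hparts w).2, h1, (hparts w').2]
    · rintro ⟨x, hx⟩
      have hxm : x ^ (m * p) = 1 := by
        refine orderOf_dvd_iff_pow_eq_one.1 ?_
        rcases hx with h | h
        · exact h ▸ dvd_mul_right m p
        · exact h ▸ (mul_comm p m).dvd
      have hme : m ∣ c := Nat.modEq_zero_iff_dvd.1 hc1
      have hpe : p ∣ e := Nat.modEq_zero_iff_dvd.1 he0
      have hec : e + c ≡ 1 [MOD m * p] := (Nat.modEq_and_modEq_iff_modEq_mul hco.symm).1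
        ⟨by simpa using he1.add hc1, by simpa using he0.add hc0⟩
      have hxe : orderOf (x ^ e) = m := by
        have hdvd : orderOf (x ^ e) ∣ m := orderOf_dvd_of_pow_eq_one (by
          obtain ⟨t, rfl⟩ := hpe
          rw [← pow_mul, show p * t * m = m * p * t by ring, pow_mul, hxm, one_pow])
        refine Nat.dvd_antisymm hdvd ?_
        have hmx : m ∣ orderOf x := by
          rcases hx with h | h
          · exact h ▸ dvd_rfl
          · exact h ▸ dvd_mul_left m p
        have hcop : m.Coprime e := (he1.gcd_eq).trans (Nat.gcd_one_left m) |> fun h => (Nat.coprime_comm.1 h)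
        refine hcop.dvd_of_dvd_mul_left (hmx.trans (orderOf_dvd_of_pow_eq_one ?_))
        rw [pow_mul, pow_orderOf_eq_one]
      refine ⟨⟨⟨x ^ e, x ^ c⟩, hxe, ?_, Commute.pow_pow_self x e c⟩, Subtype.ext ?_⟩
      · obtain ⟨t, rfl⟩ := hme
        rw [← pow_mul, show m * t * p = m * p * t by ring, pow_mul, hxm, one_pow]
      · show x ^ e * x ^ c = x
        rw [← pow_add]
        conv_rhs => rw [← pow_one x]
        exact pow_eq_pow_iff_modEq.2 (hec.of_dvd (orderOf_dvd_of_pow_eq_one hxm))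
  rw [← hcard]
  -- the action of `y`
  have hp' : IsPGroup p (Subgroup.zpowers y) := IsPGroup.of_card (n := 1) (by rw [Nat.card_zpowers, hy, pow_one])
  letI : MulAction (Subgroup.zpowers y) S :=
    { smul := fun d w => ⟨((MulAut.conj (d : G)) w.1.1, (MulAut.conj (d : G)) w.1.2),
        by rw [MulEquiv.orderOf_eq]; exact w.2.1, by rw [← map_pow, w.2.2.1, map_one], w.2.2.2.map _⟩
      one_smul := fun w => Subtype.ext (show ((MulAut.conj ((1 : Subgroup.zpowers y) : G)) w.1.1,
        (MulAut.conj ((1 : Subgroup.zpowers y) : G)) w.1.2) = w.1 by simp)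
      mul_smul := fun d d' w => Subtype.ext (show (((MulAut.conj ((d * d' : Subgroup.zpowers y) : G)) w.1.1,
        (MulAut.conj ((d * d' : Subgroup.zpowers y) : G)) w.1.2) : G × G) =
        ((MulAut.conj (d : G)) ((MulAut.conj (d' : G)) w.1.1), (MulAut.conj (d : G)) ((MulAut.conj (d' : G)) w.1.2))
        by rw [Subgroup.coe_mul, map_mul]; rfl) }
  have hmod := hp'.card_modEq_card_fixedPoints S
  refine (Nat.ModEq.dvd_iff hmod dvd_rfl).2 ?_
  -- translation by `y` on the fixed pairs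
  have hfix : ∀ w ∈ MulAction.fixedPoints (Subgroup.zpowers y) S, ∀ d : Subgroup.zpowers y,
      Commute (d : G) w.1.1 ∧ Commute (d : G) w.1.2 := fun w hw d => by
    have h : ((MulAut.conj (d : G)) w.1.1, (MulAut.conj (d : G)) w.1.2) = w.1 := congrArg Subtype.val (hw d)
    exact ⟨mul_inv_eq_iff_eq_mul.1 (congrArg Prod.fst h), mul_inv_eq_iff_eq_mul.1 (congrArg Prod.snd h)⟩
  have hpy : ∀ d : Subgroup.zpowers y, (d : G) ^ p = 1 := fun d =>
    congrArg Subtype.val (show d ^ p = 1 by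
      have := pow_card_eq_one' (x := d)
      rwa [Nat.card_zpowers, hy] at this)
  letI : MulAction (Subgroup.zpowers y) (MulAction.fixedPoints (Subgroup.zpowers y) S) :=
    { smul := fun d w => ⟨⟨(w.1.1.1, (d : G) * w.1.1.2), w.1.2.1,
          by rw [(hfix w.1 w.2 d).2.mul_pow, hpy d, w.1.2.2.1, mul_one],
          Commute.mul_right (hfix w.1 w.2 d).1.symm w.1.2.2.2⟩, fun d' => Subtype.ext (by
          show ((MulAut.conj (d' : G)) w.1.1.1, (MulAut.conj (d' : G)) ((d : G) * w.1.1.2)) = _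
          have h1 : (MulAut.conj (d' : G)) (d : G) = d := by
            rw [MulAut.conj_apply, mul_inv_eq_iff_eq_mul]
            exact congrArg Subtype.val (mul_comm' d' d)
          have h2 := congrArg Subtype.val (w.2 d')
          have h21 : (MulAut.conj (d' : G)) w.1.1.1 = w.1.1.1 := congrArg Prod.fst h2
          have h22 : (MulAut.conj (d' : G)) w.1.1.2 = w.1.1.2 := congrArg Prod.snd h2
          rw [map_mul, h1, h21, h22])⟩
      one_smul := fun w => Subtype.ext (Subtype.ext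
        (show ((w.1.1.1, ((1 : Subgroup.zpowers y) : G) * w.1.1.2) : G × G) = w.1.1 by simp))
      mul_smul := fun d d' w => Subtype.ext (Subtype.ext
        (show ((w.1.1.1, ((d * d' : Subgroup.zpowers y) : G) * w.1.1.2) : G × G) =
          (w.1.1.1, (d : G) * ((d' : G) * w.1.1.2)) by simp [mul_assoc])) }
  have hfree : ∀ w : MulAction.fixedPoints (Subgroup.zpowers y) S, MulAction.stabilizer (Subgroup.zpowers y) w = ⊥ := by
    intro w
    rw [eq_bot_iff]
    intro d hd
    have h : ((w.1.1.1, (d : G) * w.1.1.2) : G × G) = w.1.1 :=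
      congrArg (fun t => t.1.1) (MulAction.mem_stabilizer_iff.1 hd)
    rw [Subgroup.mem_bot]
    exact Subtype.ext (mul_eq_right.1 (congrArg Prod.snd h))
  rw [Nat.card_congr (MulAction.selfEquivOrbitsQuotientProd hfree), Nat.card_prod, Nat.card_zpowers, hy]
  exact dvd_mul_left _ _

theorem mul_le_cnt {p q : ℕ} (hp : p.Prime) (hq : q.Prime) (hpq : p ≠ q) (hnd : ¬ q ∣ cnt G p) :
    (p - 1) * cnt G q ≤ cnt G (p * q) := by
  classical
  choose x hx hxy using fun y : {g : G // orderOf g = q} => exists_commute hq hnd y.2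
  have hco : p.Coprime q := (Nat.coprime_primes hp hq).2 hpq
  have hxi : ∀ (i : Fin (p - 1)) y, orderOf (x y ^ (i.1 + 1)) = p := fun i y => by
    rw [Nat.Coprime.orderOf_pow (by
      rw [hx y]; exact (hp.coprime_iff_not_dvd.2 fun h => by
        have := Nat.le_of_dvd (Nat.succ_pos _) h; omega)), hx y]
  let F : Fin (p - 1) × {g : G // orderOf g = q} → {g : G // orderOf g = p * q} := fun w =>
    ⟨x w.2 ^ (w.1.1 + 1) * w.2.1, by
      rw [((hxy w.2).pow_left _).orderOf_mul_eq_mul_orderOf_of_coprime (by rw [hxi, w.2.2]; exact hco),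
        hxi, w.2.2]⟩
  have hF : Function.Injective F := by
    rintro ⟨i, y⟩ ⟨i', y'⟩ h
    have h1 : x y ^ (i.1 + 1) * y.1 = x y' ^ (i'.1 + 1) * y'.1 := congrArg Subtype.val h
    have h2 : (x y ^ (i.1 + 1) * y.1) ^ p = (x y' ^ (i'.1 + 1) * y'.1) ^ p := congrArg (· ^ p) h1
    rw [((hxy y).pow_left _).mul_pow, ((hxy y').pow_left _).mul_pow] at h2
    have e : ∀ (i : Fin (p - 1)) y, (x y ^ (i.1 + 1)) ^ p = 1 := fun i y => by
      have := pow_orderOf_eq_one (x y ^ (i.1 + 1))
      rwa [hxi] at this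
    rw [e, e, one_mul, one_mul] at h2
    obtain rfl : y = y' := by
      refine Subtype.ext ?_
      obtain ⟨k, -, hk⟩ := Nat.exists_mul_mod_eq_one_of_coprime hco hq.one_lt
      have h3 := congrArg (· ^ k) h2
      simp only [← pow_mul] at h3
      rw [← pow_mod_orderOf, ← pow_mod_orderOf (y' : G), y.2, y'.2, hk, pow_one, pow_one] at h3
      exact h3
    rw [mul_left_inj] at h1
    have hb : ∀ j : Fin (p - 1), j.1 + 1 ∈ Set.Iio (orderOf (x y)) := fun j => by
      rw [hx y, Set.mem_Iio]; have := j.2; omega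
    have := pow_injOn_Iio_orderOf (x := x y) (hb i) (hb i') h1
    exact Prod.ext (Fin.ext (Nat.succ_injective this)) rfl
  calc (p - 1) * cnt G q = Nat.card (Fin (p - 1) × {g : G // orderOf g = q}) := by
        rw [Nat.card_prod, Nat.card_fin]; rfl
    _ ≤ _ := Nat.card_le_card_of_injective F hF

theorem sylow_part_dvd {p : ℕ} (hp : p.Prime) (h2 : ∀ x : G, orderOf x ≠ p ^ 2) :
    p ^ (Nat.card G).factorization p ∣ 1 + cnt G p := by
  classical
  set i := (Nat.card G).factorization p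
  have h := CfsgLib.Orders.dvd_card_pow_eq_one (G := G) (p ^ i) (Nat.ordProj_dvd _ _)
  rcases Nat.eq_zero_or_pos i with hi | hi
  · rw [hi, pow_zero]; exact one_dvd _
  rw [TwoCounts.card_pow_eq_one_eq_sum (pow_ne_zero _ hp.ne_zero)] at h
  refine (dvd_trans h ?_)
  rw [Nat.sum_divisors_prime_pow hp]
  refine Eq.dvd ?_
  rw [← Finset.sum_subset (s₁ := ({0, 1} : Finset ℕ))]
  · rw [Finset.sum_pair zero_ne_one, pow_zero, pow_one]
    show cnt G 1 + cnt G p = _
    rw [cnt_one]
  · intro x hx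
    simp only [Finset.mem_insert, Finset.mem_singleton] at hx
    exact Finset.mem_range.2 (by omega)
  · intro x hx hx'
    simp only [Finset.mem_insert, Finset.mem_singleton] at hx'
    by_contra hne
    obtain ⟨g, hg⟩ := exists_of_cnt (G := G) (m := p ^ x) hne
    refine h2 (g ^ p ^ (x - 2)) ?_
    rw [orderOf_pow_of_dvd (pow_ne_zero _ hp.ne_zero) (hg ▸ pow_dvd_pow p (by omega)), hg,
      Nat.pow_div (by omega) hp.pos, show x - (x - 2) = 2 by omega]

variable {a b : ℕ}

/-- hypothesis: the counts of orders at least 3 are among `a ≤ b` -/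
def Val (G : Type u) [Group G] (a b : ℕ) : Prop :=
  a ≤ b ∧ ∀ m, 3 ≤ m → cnt G m = 0 ∨ cnt G m = a ∨ cnt G m = b

theorem cnt_prime (hV : Val G a b) {p : ℕ} (hp : p.Prime) (hp2 : p ≠ 2) (hpG : p ∣ Nat.card G) :
    (cnt G p = a ∨ cnt G p = b) ∧ p ∣ 1 + cnt G p ∧ 2 ≤ cnt G p := by
  haveI := Fact.mk hp
  have h3 : 3 ≤ p := by have := hp.two_le; omega
  obtain ⟨x, hx⟩ := exists_prime_orderOf_dvd_card' p hpG
  have h0 : cnt G p ≠ 0 := hx ▸ (cnt_pos x).ne'
  have hd := prime_dvd_add hp hpG one_ne_zero (Nat.coprime_one_right p)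
  rw [cnt_one, mul_one] at hd
  exact ⟨(hV.2 p h3).resolve_left h0, hd, two_le_cnt h3 h0⟩

theorem not_dvd_of_prime (hV : Val G a b) {p : ℕ} (hp : p.Prime) (hp2 : p ≠ 2) (hpG : p ∣ Nat.card G) :
    ¬ p ∣ cnt G p := fun h => hp.not_dvd_one ((Nat.dvd_add_left h).1 (cnt_prime hV hp hp2 hpG).2.1)

/-- two primes cannot both have the larger value -/
theorem not_both_max (hV : Val G a b) {p q : ℕ} (hp : p.Prime) (hp2 : p ≠ 2) (hq : q.Prime) (hq2 : q ≠ 2)
    (hqG : q ∣ Nat.card G) (hpq : p ≠ q) (h : cnt G p = b) (h' : cnt G q = b) : False := by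
  have hb := cnt_prime hV hq hq2 hqG
  rw [h'] at hb
  have := mul_le_cnt (G := G) hp hq hpq (h ▸ h' ▸ not_dvd_of_prime hV hq hq2 hqG)
  have h3 : 3 ≤ p * q := by nlinarith [hp.two_le, hq.two_le]
  have h2 : 2 ≤ p - 1 := by have := hp.two_le; omega
  rw [h'] at this
  rcases hV.2 _ h3 with e | e | e <;> rw [e] at this <;> nlinarith [hV.1, hb.2.2]

/-- a prime with the smaller and a prime with the larger value -/
theorem pair (hV : Val G a b) {p q : ℕ} (hp : p.Prime) (hp2 : p ≠ 2) (hpG : p ∣ Nat.card G) (hq : q.Prime)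
    (hq2 : q ≠ 2) (hqG : q ∣ Nat.card G) (hpq : p ≠ q) (h : cnt G p = a) (h' : cnt G q = b) :
    q ∣ a ∧ p ∣ b ∧ cnt G (p * q) = 0 := by
  have hP := cnt_prime hV hp hp2 hpG
  have hQ := cnt_prime hV hq hq2 hqG
  rw [h] at hP; rw [h'] at hQ
  have hpa : ¬ p ∣ a := h ▸ not_dvd_of_prime hV hp hp2 hpG
  have hqb : ¬ q ∣ b := h' ▸ not_dvd_of_prime hV hq hq2 hqG
  have h3 : 3 ≤ p * q := by nlinarith [hp.two_le, hq.two_le]
  have h2 : 2 ≤ p - 1 := by have := hp.two_le; omega
  have h2' : 2 ≤ q - 1 := by have := hq.two_le; omega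
  have hqa : q ∣ a := by
    by_contra hqa
    have := mul_le_cnt (G := G) hp hq hpq (h ▸ hqa)
    rw [h'] at this
    rcases hV.2 _ h3 with e | e | e <;> rw [e] at this <;> nlinarith [hV.1, hQ.2.2]
  have dp := prime_dvd_add (G := G) hp hpG hq.ne_zero ((Nat.coprime_primes hp hq).2 hpq)
  have dq := prime_dvd_add (G := G) hq hqG hp.ne_zero ((Nat.coprime_primes hq hp).2 hpq.symm)
  rw [mul_comm q p, h] at dq
  rw [h'] at dp
  rcases hV.2 _ h3 with e | e | e
  · exact ⟨hqa, by rwa [e, add_zero] at dp, e⟩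
  · exfalso
    rw [e] at dp
    have hpb : ¬ p ∣ b := fun hb => hpa ((Nat.dvd_add_right hb).1 dp)
    have := mul_le_cnt (G := G) hq hp hpq.symm (h' ▸ hpb)
    rw [mul_comm q p, e, h] at this
    nlinarith [hP.2.2]
  · exfalso
    rw [e] at dq
    exact hqb ((Nat.dvd_add_right hqa).1 dq)

/-- two primes with the smaller value: all odd primes have it, with elementary Sylow subgroups -/
theorem equal (hV : Val G a b) {p q : ℕ} (hp : p.Prime) (hp2 : p ≠ 2) (hpG : p ∣ Nat.card G) (hq : q.Prime)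
    (hq2 : q ≠ 2) (hqG : q ∣ Nat.card G) (hpq : p ≠ q) (h : cnt G p = a) (h' : cnt G q = a) :
    a < b ∧ cnt G (p * q) = b ∧ p ∣ a + b := by
  have hP := cnt_prime hV hp hp2 hpG
  rw [h] at hP
  have h3 : 3 ≤ p * q := by nlinarith [hp.two_le, hq.two_le]
  have h2 : 2 ≤ p - 1 := by have := hp.two_le; omega
  have hge := mul_le_cnt (G := G) hp hq hpq (h ▸ h' ▸ not_dvd_of_prime hV hq hq2 hqG)
  rw [h'] at hge
  have dp := prime_dvd_add (G := G) hp hpG hq.ne_zero ((Nat.coprime_primes hp hq).2 hpq)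
  rw [h'] at dp
  rcases hV.2 _ h3 with e | e | e <;> rw [e] at hge dp
  · nlinarith [hP.2.2]
  · nlinarith [hP.2.2]
  · exact ⟨by nlinarith [hP.2.2], e, dp⟩

theorem all_small (hV : Val G a b) {p q : ℕ} (hp : p.Prime) (hp2 : p ≠ 2) (hpG : p ∣ Nat.card G) (hq : q.Prime)
    (hq2 : q ≠ 2) (hqG : q ∣ Nat.card G) (hpq : p ≠ q) (h : cnt G p = a) (h' : cnt G q = a)
    {r : ℕ} (hr : r.Prime) (hr2 : r ≠ 2) (hrG : r ∣ Nat.card G) :
    r ^ (Nat.card G).factorization r ∣ 1 + a := by
  obtain ⟨hab, he, hd⟩ := equal hV hp hp2 hpG hq hq2 hqG hpq h h'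
  have hpa : ¬ p ∣ a := h ▸ not_dvd_of_prime hV hp hp2 hpG
  have hcr : cnt G r = a := by
    refine (cnt_prime hV hr hr2 hrG).1.resolve_right fun hrb => ?_
    have hpr : p ≠ r := fun e => hab.ne (by rw [← h, e, hrb])
    have := (pair hV hp hp2 hpG hr hr2 hrG hpr h hrb).2.1
    exact hpa ((Nat.dvd_add_left this).1 hd)
  -- a partner for `r`
  obtain ⟨t, ht, ht2, htG, hrt, hct⟩ : ∃ t, t.Prime ∧ t ≠ 2 ∧ t ∣ Nat.card G ∧ r ≠ t ∧ cnt G t = a := by
    by_cases e : r = p
    · exact ⟨q, hq, hq2, hqG, e ▸ hpq, h'⟩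
    · exact ⟨p, hp, hp2, hpG, e, h⟩
  obtain ⟨-, -, hd'⟩ := equal hV hr hr2 hrG ht ht2 htG hrt hcr hct
  have hra : ¬ r ∣ a := hcr ▸ not_dvd_of_prime hV hr hr2 hrG
  rw [← hcr]
  refine sylow_part_dvd hr fun x hx => ?_
  have h3 : 3 ≤ r ^ 2 := by nlinarith [hr.two_le]
  have hdvd : r ∣ cnt G (r ^ 2) := by
    refine dvd_trans ?_ (totient_dvd_cnt (r ^ 2))
    rw [Nat.totient_prime_pow hr two_pos]
    exact Dvd.intro _ (by rw [show 2 - 1 = 1 from rfl, pow_one])
  rcases hV.2 _ h3 with e | e | e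
  · exact (cnt_pos x).ne' (hx ▸ e)
  · exact hra (e ▸ hdvd)
  · exact hra ((Nat.dvd_add_left (e ▸ hdvd)).1 hd')

/-- the odd primes -/
noncomputable def oddPrimes (G : Type u) [Group G] : Finset ℕ := (Nat.card G).primeFactors.erase 2

theorem mem_oddPrimes {p : ℕ} : p ∈ oddPrimes G ↔ p.Prime ∧ p ≠ 2 ∧ p ∣ Nat.card G := by
  simp [oddPrimes, Nat.mem_primeFactors, Nat.card_pos.ne']
  tauto

theorem card_le_two (hV : Val G a b)
    (hshare : ∀ p ∈ oddPrimes G, ∀ q ∈ oddPrimes G, p ≠ q → cnt G p = cnt G q → False) :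
    (oddPrimes G).card ≤ 2 := by
  classical
  calc (oddPrimes G).card ≤ ({a, b} : Finset ℕ).card := by
        refine Finset.card_le_card_of_injOn (cnt G) (fun p hp => ?_) (fun p hp q hq h => ?_)
        · rcases (cnt_prime hV (mem_oddPrimes.1 hp).1 (mem_oddPrimes.1 hp).2.1 (mem_oddPrimes.1 hp).2.2).1 with e | e <;>
            simp [e]
        · by_contra hne; exact hshare p hp q hq hne h
    _ ≤ 2 := Finset.card_le_two

/-- with one value only there is at most one odd prime -/
theorem card_le_one_of_eq (hV : Val G a a) : (oddPrimes G).card ≤ 1 := by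
  refine Finset.card_le_one.2 fun p hp q hq => ?_
  by_contra hne
  obtain ⟨hp1, hp2, hpG⟩ := mem_oddPrimes.1 hp
  obtain ⟨hq1, hq2, hqG⟩ := mem_oddPrimes.1 hq
  exact not_both_max hV hp1 hp2 hq1 hq2 hqG hne ((cnt_prime hV hp1 hp2 hpG).1.elim id id)
    ((cnt_prime hV hq1 hq2 hqG).1.elim id id)

/-- if all odd primes share the smaller value, the odd part divides `1 + a` -/
theorem card_dvd_of_equal (hV : Val G a b) {p q : ℕ} (hp : p.Prime) (hp2 : p ≠ 2) (hpG : p ∣ Nat.card G) (hq : q.Prime)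
    (hq2 : q ≠ 2) (hqG : q ∣ Nat.card G) (hpq : p ≠ q) (h : cnt G p = a) (h' : cnt G q = a) :
    Nat.card G ∣ 2 ^ (Nat.card G).factorization 2 * (1 + a) := by
  refine (Nat.factorization_le_iff_dvd Nat.card_pos.ne' (by positivity)).1 fun r => ?_
  by_cases hr : r.Prime ∧ r ∣ Nat.card G
  swap
  · rw [Nat.factorization_eq_zero_iff _ _ |>.2]
    · exact Nat.zero_le _
    · tauto
  obtain ⟨hr, hrG⟩ := hr
  by_cases hr2 : r = 2
  · subst hr2
    rw [← hr.pow_dvd_iff_le_factorization (by positivity)]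
    exact dvd_mul_right _ _
  · rw [← hr.pow_dvd_iff_le_factorization (by positivity)]
    exact (all_small hV hp hp2 hpG hq hq2 hqG hpq h h' hr hr2 hrG).mul_left _

/-- no two odd primes share a value, when the 2-part is at most 2 and `2` has count one -/
theorem no_share_small (hV : Val G a b) (h4 : ¬ 4 ∣ Nat.card G) (h2 : 2 ∣ Nat.card G → cnt G 2 = 1) :
    ∀ p ∈ oddPrimes G, ∀ q ∈ oddPrimes G, p ≠ q → cnt G p = cnt G q → False := by
  classical
  intro p hp q hq hne heq
  obtain ⟨hp1, hp2, hpG⟩ := mem_oddPrimes.1 hp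
  obtain ⟨hq1, hq2, hqG⟩ := mem_oddPrimes.1 hq
  rcases (cnt_prime hV hp1 hp2 hpG).1 with e | e
  swap
  · exact not_both_max hV hp1 hp2 hq1 hq2 hqG hne e (heq ▸ e)
  obtain ⟨hab, hpq, -⟩ := equal hV hp1 hp2 hpG hq1 hq2 hqG hne e (heq ▸ e)
  have hd := Nat.le_of_dvd (by positivity) (card_dvd_of_equal hV hp1 hp2 hpG hq1 hq2 hqG hne e (heq ▸ e))
  have hpne1 : (1 : ℕ) ≠ p := hp1.ne_one.symm
  have hqne1 : (1 : ℕ) ≠ q := hq1.ne_one.symm
  have hppq : p ≠ p * q := fun h => hq1.ne_one ((Nat.mul_eq_left hp1.ne_zero).1 h.symm)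
  have hqpq : q ≠ p * q := fun h => hp1.ne_one ((Nat.mul_eq_right hq1.ne_zero).1 h.symm)
  have h1pq : 1 ≠ p * q := fun h => hp1.ne_one (Nat.eq_one_of_mul_eq_one_right h.symm)
  by_cases h : 2 ∣ Nat.card G
  · have hf : (Nat.card G).factorization 2 = 1 := by
      have h1 := (Nat.prime_two.dvd_iff_one_le_factorization Nat.card_pos.ne').1 h
      have h2' : (Nat.card G).factorization 2 < 2 := by
        by_contra hc
        exact h4 ((Nat.prime_two.pow_dvd_iff_le_factorization Nat.card_pos.ne').2 (not_lt.1 hc))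
      omega
    rw [hf, pow_one] at hd
    have hs := sum_le_card (G := G) {1, 2, p, q, p * q}
    have h2pq : 2 ≠ p * q := fun h => by nlinarith [hp1.two_le, hq1.two_le]
    rw [Finset.sum_insert (by simp [hpne1, hqne1, h1pq]), Finset.sum_insert (by simp [Ne.symm hp2, Ne.symm hq2, h2pq]),
      Finset.sum_insert (by simp [hne, hppq]), Finset.sum_pair hqpq, cnt_one, h2 h, hpq, ← heq, e] at hs
    omega
  · rw [Nat.factorization_eq_zero_of_not_dvd h, pow_zero, one_mul] at hd
    have hs := sum_le_card (G := G) {1, p, q}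
    rw [Finset.sum_insert (by simp [hpne1, hqne1]), Finset.sum_pair hne, cnt_one, ← heq, e] at hs
    have := (cnt_prime hV hp1 hp2 hpG).2.2
    omega

/-- with four dividing the order and a single involution there is at most one odd prime -/
theorem card_le_one_of_four (hV : Val G a b) (h4 : 4 ∣ Nat.card G) (h2 : cnt G 2 = 1) :
    (oddPrimes G).card ≤ 1 := by
  classical
  have hf4 := CfsgLib.Orders.dvd_card_pow_eq_one (G := G) 4 h4
  rw [TwoCounts.card_pow_eq_one_eq_sum (by norm_num : (4 : ℕ) ≠ 0), show (4 : ℕ).divisors = {1, 2, 4} by decide,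
    Finset.sum_insert (by simp), Finset.sum_pair (by norm_num)] at hf4
  change 4 ∣ cnt G 1 + (cnt G 2 + cnt G 4) at hf4
  rw [cnt_one, h2] at hf4
  refine Finset.card_le_one.2 fun p hp q hq => ?_
  by_contra hne
  obtain ⟨hp1, hp2, hpG⟩ := mem_oddPrimes.1 hp
  obtain ⟨hq1, hq2, hqG⟩ := mem_oddPrimes.1 hq
  have hco : ∀ {r : ℕ}, r.Prime → r ≠ 2 → r.Coprime 4 := fun {r} hr hr2 => by
    rw [show (4 : ℕ) = 2 ^ 2 by norm_num]
    exact ((Nat.coprime_primes hr Nat.prime_two).2 hr2).pow_right 2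
  wlog hle : cnt G p ≤ cnt G q generalizing p q
  · exact this q hq p hp (Ne.symm hne) hq1 hq2 hqG hp1 hp2 hpG (le_of_not_ge hle)
  have hPv := cnt_prime hV hp1 hp2 hpG
  have hQv := cnt_prime hV hq1 hq2 hqG
  have hpn := not_dvd_of_prime hV hp1 hp2 hpG
  have hqn := not_dvd_of_prime hV hq1 hq2 hqG
  rcases hV.2 4 (by norm_num) with e4 | e4
  · rw [e4] at hf4; norm_num at hf4
  by_cases heq : cnt G p = cnt G q
  · rcases hPv.1 with e | e
    swap
    · exact not_both_max hV hp1 hp2 hq1 hq2 hqG hne e (heq ▸ e)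
    obtain ⟨hab, hpq, hd⟩ := equal hV hp1 hp2 hpG hq1 hq2 hqG hne e (heq ▸ e)
    have hb4 : 4 ∣ b := by
      have ht := totient_dvd_cnt (G := G) (p * q)
      rw [hpq, Nat.totient_mul ((Nat.coprime_primes hp1 hq1).2 hne), Nat.totient_prime hp1, Nat.totient_prime hq1] at ht
      refine dvd_trans ?_ ht
      exact mul_dvd_mul (hp1.even_sub_one hp2).two_dvd (hq1.even_sub_one hq2).two_dvd
    rcases e4 with e4 | e4
    swap
    · rw [e4] at hf4
      have : 4 ∣ 2 := (Nat.dvd_add_left hb4).1 (by rwa [← add_assoc] at hf4)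
      norm_num at this
    rw [e4] at hf4
    have ha4 : ¬ 4 ∣ a := fun h => by
      have : 4 ∣ 2 := (Nat.dvd_add_left h).1 (by rwa [← add_assoc] at hf4)
      norm_num at this
    rw [e] at hpn
    have hpb : ¬ p ∣ b := fun h => hpn ((Nat.dvd_add_left h).1 hd)
    obtain ⟨-, -, hd'⟩ := equal hV hq1 hq2 hqG hp1 hp2 hpG (Ne.symm hne) (heq ▸ e) e
    rw [← heq, e] at hqn
    have hqb : ¬ q ∣ b := fun h => hqn ((Nat.dvd_add_left h).1 hd')
    -- order `4 * q`
    have h4q : cnt G (4 * q) = b := by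
      have d1 := prime_dvd_add (G := G) hq1 hqG (by norm_num : (4 : ℕ) ≠ 0) (hco hq1 hq2)
      rw [e4, mul_comm q 4] at d1
      have hqa : ¬ q ∣ a := hqn
      rcases hV.2 (4 * q) (by have := hq1.two_le; omega) with c | c | c
      · rw [c, add_zero] at d1; exact absurd d1 hqa
      · rw [c, ← two_mul] at d1
        exact absurd (((Nat.coprime_primes hq1 Nat.prime_two).2 hq2).dvd_of_dvd_mul_left d1) hqa
      · exact c
    have d2 := prime_dvd_add (G := G) hp1 hpG (mul_ne_zero (by norm_num) hq1.ne_zero : 4 * q ≠ 0)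
      ((hco hp1 hp2).mul_right ((Nat.coprime_primes hp1 hq1).2 hne))
    rw [h4q] at d2
    have h4d : 4 ∣ cnt G (p * (4 * q)) := by
      refine dvd_trans ?_ (totient_dvd_cnt _)
      rw [Nat.totient_mul ((hco hp1 hp2).mul_right ((Nat.coprime_primes hp1 hq1).2 hne)),
        Nat.totient_mul (hco hq1 hq2).symm, Nat.totient_prime hp1, Nat.totient_prime hq1,
        show Nat.totient 4 = 2 by decide]
      exact dvd_mul_of_dvd_right (mul_dvd_mul dvd_rfl (hq1.even_sub_one hq2).two_dvd) _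
    have h3' : 3 ≤ p * (4 * q) := by nlinarith [hp1.two_le, hq1.two_le]
    rcases hV.2 _ h3' with c | c | c
    · rw [c, add_zero] at d2; exact hpb d2
    · exact ha4 (c ▸ h4d)
    · rw [c, ← two_mul] at d2
      exact hpb (((Nat.coprime_primes hp1 Nat.prime_two).2 hp2).dvd_of_dvd_mul_left d2)
  · have hlt : cnt G p < cnt G q := lt_of_le_of_ne hle heq
    have ea : cnt G p = a := hPv.1.resolve_right fun h => by
      rcases hQv.1 with h' | h' <;> [exact absurd hV.1 (by omega); omega]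
    have eb : cnt G q = b := hQv.1.resolve_left fun h => by omega
    obtain ⟨hqa, hpb, -⟩ := pair hV hp1 hp2 hpG hq1 hq2 hqG hne ea eb
    rw [ea] at hpn; rw [eb] at hqn
    rcases e4 with e4 | e4
    · have d := prime_dvd_add (G := G) hp1 hpG (by norm_num : (4 : ℕ) ≠ 0) (hco hp1 hp2)
      rw [e4] at d
      rcases hV.2 (p * 4) (by have := hp1.two_le; omega) with c | c | c <;> rw [c] at d
      · exact hpn (by simpa using d)
      · rw [← two_mul] at d
        exact hpn (((Nat.coprime_primes hp1 Nat.prime_two).2 hp2).dvd_of_dvd_mul_left d)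
      · exact hpn ((Nat.dvd_add_left hpb).1 d)
    · have d := prime_dvd_add (G := G) hq1 hqG (by norm_num : (4 : ℕ) ≠ 0) (hco hq1 hq2)
      rw [e4] at d
      rcases hV.2 (q * 4) (by have := hq1.two_le; omega) with c | c | c <;> rw [c] at d
      · exact hqn (by simpa using d)
      · exact hqn ((Nat.dvd_add_left hqa).1 d)
      · rw [← two_mul] at d
        exact hqn (((Nat.coprime_primes hq1 Nat.prime_two).2 hq2).dvd_of_dvd_mul_left d)

/-- unfolding of the hypothesis -/
theorem values (h : (((fun m : ℕ => Nat.card {g : G // orderOf g = m}) '' Set.range (orderOf : G → ℕ))).ncard = 3) :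
    ∃ a b, a < b ∧ ∀ x : G, cnt G (orderOf x) = 1 ∨ cnt G (orderOf x) = a ∨ cnt G (orderOf x) = b := by
  classical
  set S := ((fun m : ℕ => Nat.card {g : G // orderOf g = m}) '' Set.range (orderOf : G → ℕ))
  have h1 : 1 ∈ S := ⟨1, ⟨1, orderOf_one⟩, cnt_one⟩
  have h2 : (S \ {1}).ncard = 2 := by
    have hfin : S.Finite := (Set.finite_range _).image _
    rw [Set.ncard_sdiff_singleton_of_mem h1, h]
  obtain ⟨a, b, hab, hS⟩ := Set.ncard_eq_two.1 h2
  have hx : ∀ x : G, cnt G (orderOf x) = 1 ∨ cnt G (orderOf x) = a ∨ cnt G (orderOf x) = b := by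
    intro x
    by_cases hc : cnt G (orderOf x) = 1
    · exact Or.inl hc
    · have : cnt G (orderOf x) ∈ S \ {1} := ⟨⟨orderOf x, ⟨x, rfl⟩, rfl⟩, hc⟩
      rw [hS] at this
      exact Or.inr (by simpa using this)
  rcases lt_or_gt_of_ne hab with hl | hl
  · exact ⟨a, b, hl, hx⟩
  · exact ⟨b, a, hl, fun x => by rcases hx x with e | e | e <;> simp [e]⟩

theorem val_of_values (hab : a < b)
    (hx : ∀ x : G, cnt G (orderOf x) = 1 ∨ cnt G (orderOf x) = a ∨ cnt G (orderOf x) = b) : Val G a b := by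
  refine ⟨hab.le, fun m hm => ?_⟩
  by_cases h0 : cnt G m = 0
  · exact Or.inl h0
  · obtain ⟨x, rfl⟩ := exists_of_cnt h0
    rcases hx x with e | e
    · have := two_le_cnt hm h0; omega
    · exact Or.inr e

/-- a prime power times at most two further prime powers -/
theorem eq_mul_pow {n p q : ℕ} (hn : n ≠ 0) (hp : p.Prime) (hq : q.Prime) (hne : p ≠ q)
    (h : n.primeFactors ⊆ {p, q}) : n = p ^ n.factorization p * q ^ n.factorization q := by
  classical
  refine Nat.eq_of_factorization_eq hn (mul_ne_zero (pow_ne_zero _ hp.ne_zero) (pow_ne_zero _ hq.ne_zero)) fun r => ?_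
  rw [Nat.factorization_mul (pow_ne_zero _ hp.ne_zero) (pow_ne_zero _ hq.ne_zero), Finsupp.add_apply,
    hp.factorization_pow, hq.factorization_pow, Finsupp.single_apply, Finsupp.single_apply]
  by_cases h1 : p = r
  · subst h1; simp [Ne.symm hne]
  · by_cases h2 : q = r
    · subst h2; simp [h1]
    · have : r ∉ n.primeFactors := fun h' => by
        rcases Finset.mem_insert.1 (h h') with e | e
        · exact h1 e.symm
        · exact h2 (Finset.mem_singleton.1 e).symm
      simp [h1, h2, Finsupp.notMem_support_iff.1 (Nat.support_factorization n ▸ this)]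

theorem isSolvable_of_small {H : Type u} [Group H] [Finite H] (h : (Nat.card H).primeFactors.card ≤ 2) :
    Group.IsSolvable H := by
  classical
  obtain ⟨p, q, hp, hq, hne, hs⟩ : ∃ p q, p.Prime ∧ q.Prime ∧ p ≠ q ∧ (Nat.card H).primeFactors ⊆ {p, q} := by
    rcases (show (Nat.card H).primeFactors.card = 0 ∨ (Nat.card H).primeFactors.card = 1 ∨
      (Nat.card H).primeFactors.card = 2 by omega) with h | h | h
    · exact ⟨2, 3, Nat.prime_two, Nat.prime_three, by norm_num, by simp [Finset.card_eq_zero.1 h]⟩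
    · obtain ⟨p, hp⟩ := Finset.card_eq_one.1 h
      have hp' : p.Prime := Nat.prime_of_mem_primeFactors (hp ▸ Finset.mem_singleton_self p)
      by_cases h2 : p = 2
      · exact ⟨p, 3, hp', Nat.prime_three, by omega, by simp [hp]⟩
      · exact ⟨p, 2, hp', Nat.prime_two, h2, by simp [hp]⟩
    · obtain ⟨p, q, hne, hp⟩ := Finset.card_eq_two.1 h
      have hpm : p ∈ (Nat.card H).primeFactors := by rw [hp]; simp
      have hqm : q ∈ (Nat.card H).primeFactors := by rw [hp]; simp
      exact ⟨p, q, Nat.prime_of_mem_primeFactors hpm, Nat.prime_of_mem_primeFactors hqm, hne, hp.le⟩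
  exact CfsgLib.Burnside.isSolvable_of_card_eq hp hq (eq_mul_pow Nat.card_pos.ne' hp hq hne hs)

theorem isSolvable_of_one_odd (h : (oddPrimes G).card ≤ 1) : Group.IsSolvable G := by
  refine isSolvable_of_small (le_trans ?_ (Nat.succ_le_succ h))
  have := Finset.pred_card_le_card_erase (s := (Nat.card G).primeFactors) (a := 2)
  simp only [oddPrimes, Nat.succ_eq_add_one]
  omega

theorem isSolvable (h : (((fun m : ℕ => Nat.card {g : G // orderOf g = m}) '' Set.range (orderOf : G → ℕ))).ncard = 3) :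
    Group.IsSolvable G := by
  classical
  haveI := Fact.mk Nat.prime_two
  obtain ⟨a, b, hab, hx⟩ := values h
  have hV := val_of_values hab hx
  by_cases h2 : 2 ∣ Nat.card G
  swap
  · refine isSolvable_of_small ?_
    have h4 : ¬ 4 ∣ Nat.card G := fun h => h2 ((by norm_num : (2 : ℕ) ∣ 4).trans h)
    have := card_le_two hV (no_share_small hV h4 fun h => absurd h h2)
    rwa [oddPrimes, Finset.erase_eq_of_notMem (fun hm => h2 (Nat.dvd_of_mem_primeFactors hm))] at this
  obtain ⟨z, hz⟩ := exists_prime_orderOf_dvd_card' 2 h2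
  have hodd : ¬ 2 ∣ cnt G 2 := by
    have := prime_dvd_add (G := G) Nat.prime_two h2 one_ne_zero (Nat.coprime_one_right 2)
    rw [cnt_one, mul_one] at this
    omega
  by_cases hc : cnt G 2 = 1
  swap
  · -- the involutions have a count of their own
    have hm : ∀ m, 3 ≤ m → cnt G m ≠ cnt G 2 ∨ cnt G m = 0 := fun m hm => Or.inl fun e =>
      hodd (e ▸ (Nat.totient_even hm).two_dvd.trans (totient_dvd_cnt m))
    have hval := (hx z).resolve_left (hz.symm ▸ hc)
    rw [hz] at hval
    obtain ⟨c, hc'⟩ : ∃ c, Val G c c := by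
      refine ⟨if cnt G 2 = a then b else a, le_rfl, fun m hm' => ?_⟩
      by_cases h0 : cnt G m = 0
      · exact Or.inl h0
      have h1 := (hm m hm').resolve_right h0
      have h3 := (hV.2 m hm').resolve_left h0
      right; left
      split_ifs with ha <;> omega
    exact isSolvable_of_one_odd (card_le_one_of_eq hc')
  by_cases h4 : 4 ∣ Nat.card G
  · exact isSolvable_of_one_odd (card_le_one_of_four hV h4 hc)
  -- central involution
  have hcard := card_le_two hV (no_share_small hV h4 fun _ => hc)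
  have hsub : Subsingleton {g : G // orderOf g = 2} := (Nat.card_eq_one_iff_unique.1 hc).1
  set Z := Subgroup.zpowers z
  have hzc : z ∈ Subgroup.center G := Subgroup.mem_center_iff.2 fun g => by
    have := congrArg Subtype.val (hsub.elim ⟨g * z * g⁻¹, by rw [← MulAut.conj_apply, MulEquiv.orderOf_eq, hz]⟩ ⟨z, hz⟩)
    exact mul_inv_eq_iff_eq_mul.1 this
  haveI : Z.Normal := ⟨fun n hn g => by
    rw [Subgroup.mem_center_iff.1 ((Subgroup.zpowers_le.2 hzc) hn) g, mul_inv_cancel_right]; exact hn⟩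
  haveI : Group.IsSolvable (G ⧸ Z) := by
    refine isSolvable_of_small (le_trans (Finset.card_le_card fun r hr => ?_) hcard)
    have hr' := Nat.mem_primeFactors.1 hr
    have hmul := Z.card_eq_card_quotient_mul_card_subgroup
    rw [Nat.card_zpowers, hz] at hmul
    refine mem_oddPrimes.2 ⟨hr'.1, fun e => h4 ?_, hr'.2.1.trans (Z.card_quotient_dvd_card)⟩
    rw [hmul]
    exact mul_dvd_mul (e ▸ hr'.2.1) dvd_rfl
  haveI : Group.IsSolvable Z := inferInstance
  exact Group.isSolvable_of_ker_le_range Z.subtype (QuotientGroup.mk' Z) (by rw [QuotientGroup.ker_mk', Z.range_subtype])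

end CfsgLib.Orders.ThreeCounts
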