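import Cfsg.Agent.Lib.Core.FPFComplement
import Cfsg.Agent.Lib.Components.Char
import Cfsg.Agent.Lib.Orders.ThreeCounts
import Cfsg.Agent.Lib.Recog.ThreePrimes
import Cfsg.Agent.Lib.Recog.SimpleSixty
import Cfsg.Agent.S0183
import Mathlib

/-!
# Finite non-solvable groups with four automorphism orbits
-/

set_option autoImplicit false
set_option linter.all false

namespace CfsgLib.Orders.FourOrbits

open Subgroup
open scoped Pointwise

universe u

variable (G : Type u) [Group G] [Finite G]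

/-- the data extracted from four orbits -/
structure Hyp : Prop where
  prime : ∀ g : G, g ≠ 1 → (orderOf g).Prime
  aut : ∀ x y : G, orderOf x = orderOf y → ∃ σ : MulAut G, σ x = y
  three : (Nat.card G).primeFactors.card = 3
  ns : ¬ Group.IsSolvable G

theorem hyp_of_orbits (hns : ¬ Group.IsSolvable G)
    (h4 : Nat.card (MulAction.orbitRel.Quotient (MulAut G) G) = 4) : Hyp G := by
  classical
  let Q := MulAction.orbitRel.Quotient (MulAut G) G
  haveI : Finite Q := Nat.finite_of_card_ne_zero (show Nat.card Q ≠ 0 by rw [h4]; norm_num)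
  let f : Q → ℕ := Quotient.lift orderOf (fun a b hab => by
    obtain ⟨σ, hσ⟩ := MulAction.mem_orbit_iff.1 (MulAction.orbitRel_apply.1 hab)
    rw [← hσ]
    exact MulEquiv.orderOf_eq σ b)
  have hf : ∀ x : G, f (Quotient.mk'' x) = orderOf x := fun x => rfl
  have hP : ∀ r : ℕ, r ∈ (Nat.card G).primeFactors → ∃ x : G, orderOf x = r := fun r hr => by
    haveI := Fact.mk (Nat.prime_of_mem_primeFactors hr)
    exact exists_prime_orderOf_dvd_card' r (Nat.dvd_of_mem_primeFactors hr)
  haveI := Fintype.ofFinite Q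
  have hsub : insert 1 (Nat.card G).primeFactors ⊆ (Finset.univ : Finset Q).image f := by
    intro r hr
    rcases Finset.mem_insert.1 hr with rfl | hr
    · exact Finset.mem_image.2 ⟨Quotient.mk'' 1, Finset.mem_univ _, orderOf_one⟩
    · obtain ⟨x, hx⟩ := hP r hr
      exact Finset.mem_image.2 ⟨Quotient.mk'' x, Finset.mem_univ _, (hf x).trans hx⟩
  have h1 : (insert 1 (Nat.card G).primeFactors).card = (Nat.card G).primeFactors.card + 1 :=
    Finset.card_insert_of_notMem fun h => Nat.not_prime_one (Nat.prime_of_mem_primeFactors h)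
  have h3 : 3 ≤ (Nat.card G).primeFactors.card := by
    by_contra h
    exact hns (CfsgLib.Orders.ThreeCounts.isSolvable_of_small (by omega))
  have h5 := Finset.card_le_card hsub
  have h6 : ((Finset.univ : Finset Q).image f).card ≤ 4 := by
    refine Finset.card_image_le.trans ?_
    rw [Finset.card_univ, ← Nat.card_eq_fintype_card, h4]
  have heq : insert 1 (Nat.card G).primeFactors = (Finset.univ : Finset Q).image f :=
    Finset.eq_of_subset_of_card_le hsub (by omega)
  have hinj : Function.Injective f := by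
    rw [← Set.injOn_univ, ← Finset.coe_univ, ← Finset.card_image_iff, Finset.card_univ,
      ← Nat.card_eq_fintype_card, h4]
    omega
  refine ⟨fun g hg => ?_, fun x y hxy => ?_, by omega, hns⟩
  · have : orderOf g ∈ insert 1 (Nat.card G).primeFactors := by
      rw [heq]; exact Finset.mem_image.2 ⟨Quotient.mk'' g, Finset.mem_univ _, hf g⟩
    rcases Finset.mem_insert.1 this with h | h
    · exact absurd (orderOf_eq_one_iff.1 h) hg
    · exact Nat.prime_of_mem_primeFactors h
  · have h := hinj (show f (Quotient.mk'' y) = f (Quotient.mk'' x) by rw [hf, hf, hxy])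
    obtain ⟨σ, hσ⟩ := MulAction.mem_orbit_iff.1 (MulAction.orbitRel_apply.1 (Quotient.eq''.1 h))
    exact ⟨σ, hσ⟩

variable {G} (H : Hyp G)
include H

theorem same_order {a b : G} (ha : a ≠ 1) (hb : b ≠ 1) (h : Commute a b) : orderOf a = orderOf b := by
  by_contra hne
  have h1 := CfsgLib.Recog.ThreePrimes.orderOf_mul_of_commute h (H.prime a ha) (H.prime b hb) hne rfl rfl
  have hab : a * b ≠ 1 := fun e => by
    rw [e, orderOf_one] at h1
    exact (H.prime a ha).ne_one (Nat.eq_one_of_mul_eq_one_right h1.symm)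
  have := H.prime _ hab
  rw [h1] at this
  exact Nat.not_prime_mul (H.prime a ha).ne_one (H.prime b hb).ne_one this

theorem mem_centralizer {x c : G} (hx : x ≠ 1) (hc : c ∈ centralizer ({x} : Set G)) :
    c ^ orderOf x = 1 := by
  by_cases hc1 : c = 1
  · rw [hc1, one_pow]
  · rw [← same_order H hc1 hx (mem_centralizer_singleton_iff.1 hc), pow_orderOf_eq_one]

theorem isPGroup_centralizer {x : G} (hx : x ≠ 1) {p : ℕ} (hp : orderOf x = p) :
    IsPGroup p (centralizer ({x} : Set G)) := fun c =>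
  ⟨1, Subtype.ext (by rw [pow_one, ← hp]; exact mem_centralizer H hx c.2)⟩

theorem char_eq_top (K : Subgroup G) [K.Characteristic] (hK : K ≠ ⊥) : K = ⊤ := by
  classical
  have hmem : ∀ g : G, g ≠ 1 → orderOf g ∣ Nat.card K → g ∈ K := by
    intro g hg hd
    haveI := Fact.mk (H.prime g hg)
    obtain ⟨k, hk⟩ := exists_prime_orderOf_dvd_card' (G := K) (orderOf g) hd
    obtain ⟨σ, hσ⟩ := H.aut k g (by rw [Subgroup.orderOf_coe, hk])
    rw [← hσ]
    have := (characteristic_iff_map_eq.1 ‹K.Characteristic› σ).le (mem_map_of_mem _ k.2)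
    exact this
  by_contra hne
  haveI : K.Normal := inferInstance
  have hq : ∀ l ∈ (Nat.card (G ⧸ K)).primeFactors, l ∈ (Nat.card G).primeFactors \ (Nat.card K).primeFactors := by
    intro l hl
    haveI := Fact.mk (Nat.prime_of_mem_primeFactors hl)
    obtain ⟨y, hy⟩ := exists_prime_orderOf_dvd_card' (G := G ⧸ K) l (Nat.dvd_of_mem_primeFactors hl)
    obtain ⟨g, rfl⟩ := QuotientGroup.mk_surjective y
    have hgK : g ∉ K := fun h => by
      rw [(QuotientGroup.eq_one_iff g).2 h, orderOf_one] at hy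
      exact (Fact.out : l.Prime).ne_one hy.symm
    have hg : g ≠ 1 := fun h => hgK (h ▸ one_mem K)
    have hgl : orderOf g = l := ((Nat.prime_dvd_prime_iff_eq (Fact.out : l.Prime) (H.prime g hg)).1
      (hy ▸ orderOf_map_dvd (QuotientGroup.mk' K) g)).symm
    refine Finset.mem_sdiff.2 ⟨Nat.mem_primeFactors.2 ⟨Fact.out, hgl ▸ orderOf_dvd_natCard g, Nat.card_pos.ne'⟩,
      fun h => hgK (hmem g hg (hgl ▸ Nat.dvd_of_mem_primeFactors h))⟩
  have hsub : (Nat.card K).primeFactors ⊆ (Nat.card G).primeFactors :=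
    Nat.primeFactors_mono (card_subgroup_dvd_card K) Nat.card_pos.ne'
  have hne3 : (Nat.card K).primeFactors ≠ (Nat.card G).primeFactors := fun e => hne (eq_top_iff.2 fun g _ => by
    by_cases hg : g = 1
    · exact hg ▸ one_mem K
    · refine hmem g hg (Nat.dvd_of_mem_primeFactors (e ▸ ?_))
      exact Nat.mem_primeFactors.2 ⟨H.prime g hg, orderOf_dvd_natCard g, Nat.card_pos.ne'⟩)
  have hK2 := Finset.card_lt_card (Finset.ssubset_iff_subset_ne.2 ⟨hsub, hne3⟩)
  have hK1 : 1 ≤ (Nat.card K).primeFactors.card := by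
    rw [Nat.one_le_iff_ne_zero, Ne, Finset.card_eq_zero, Nat.primeFactors_eq_empty]
    push Not
    exact ⟨Nat.card_pos.ne', fun e => hK (Subgroup.card_eq_one.1 e)⟩
  have hQ := (Finset.card_le_card hq).trans (Finset.card_sdiff_of_subset hsub).le
  have hthree := H.three
  haveI := CfsgLib.Orders.ThreeCounts.isSolvable_of_small (H := K) (by omega)
  haveI := CfsgLib.Orders.ThreeCounts.isSolvable_of_small (H := G ⧸ K) (by omega)
  exact H.ns ((Group.isSolvable_iff_subgroup_quotient K).2 ⟨inferInstance, inferInstance⟩)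

theorem isSimpleGroup : IsSimpleGroup G := by
  classical
  haveI : Nontrivial G := by
    by_contra h
    rw [not_nontrivial_iff_subsingleton] at h
    exact H.ns inferInstance
  refine ⟨fun N hN => ?_⟩
  by_cases hN0 : N = ⊥
  · exact Or.inl hN0
  right
  obtain ⟨M, hMn, hM0, hMN, hmin⟩ := CfsgLib.Components.exists_minimal_normal_le hN hN0
  have hMs : ¬ Group.IsSolvable M := by
    intro hs
    haveI := CfsgLib.Components.solRadical_characteristic (G := G)
    have h1 := char_eq_top H (CfsgLib.Components.solRadical G) fun e =>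
      hM0 (le_bot_iff.1 (e ▸ CfsgLib.Components.subnormal_solvable_le_solRadical hMn.isSubnormal hs))
    have h2 := CfsgLib.Components.solRadical_isSolvable (G := G)
    rw [h1] at h2
    exact H.ns (Group.isSolvable_of_surjective (f := (⊤ : Subgroup G).subtype) fun g => ⟨⟨g, mem_top g⟩, rfl⟩)
  have hMc : M.Characteristic := by
    rw [characteristic_iff_map_eq]
    intro σ
    have hn' : (M.map σ.toMonoidHom).Normal := hMn.map _ σ.surjective
    rcases hmin (M ⊓ M.map σ.toMonoidHom) inferInstance inf_le_left with h | h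
    · exfalso
      apply hMs
      refine CfsgLib.Orders.ThreeCounts.isSolvable_of_small ?_
      have hall : ∀ l ∈ (Nat.card M).primeFactors, ∀ l' ∈ (Nat.card M).primeFactors, l = l' := by
        intro l hl l' hl'
        haveI := Fact.mk (Nat.prime_of_mem_primeFactors hl)
        obtain ⟨a, ha⟩ := exists_prime_orderOf_dvd_card' (G := M) l (Nat.dvd_of_mem_primeFactors hl)
        haveI := Fact.mk (Nat.prime_of_mem_primeFactors hl')
        obtain ⟨b, hb⟩ := exists_prime_orderOf_dvd_card' (G := M) l' (Nat.dvd_of_mem_primeFactors hl')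
        have hbo : orderOf (σ b) = l' := by rw [MulEquiv.orderOf_eq, Subgroup.orderOf_coe, hb]
        have hao : orderOf (a : G) = l := by rw [Subgroup.orderOf_coe, ha]
        rw [← hao, ← hbo]
        refine same_order H (fun e => ?_) (fun e => ?_) (Subgroup.commute_of_normal_of_disjoint M _ hMn hn'
          (disjoint_iff.2 h) _ _ a.2 (mem_map_of_mem _ b.2))
        · rw [e, orderOf_one] at hao; exact (Nat.prime_of_mem_primeFactors hl).ne_one hao.symm
        · rw [e, orderOf_one] at hbo; exact (Nat.prime_of_mem_primeFactors hl').ne_one hbo.symm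
      exact (Finset.card_le_one.2 hall).trans (by norm_num)
    · exact (Subgroup.eq_of_le_of_card_ge (inf_eq_left.1 h) (card_map_of_injective σ.injective).le).symm
  exact top_le_iff.1 ((char_eq_top H M hM0).ge.trans hMN)

theorem two_dvd : 2 ∣ Nat.card G := by
  by_contra h
  refine H.ns (Cfsg.Agent.S0183.result (Nat.not_even_iff_odd.1 fun he => h he.two_dvd) fun g hg => ?_)
  haveI := Fact.mk (H.prime g hg)
  exact (isPGroup_centralizer H hg rfl).isNilpotent

/-- centralisers of real elements of odd order -/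
theorem real_centralizer {x t : G} (ht : orderOf t = 2) (hx : x ≠ 1) (hx2 : orderOf x ≠ 2)
    (hinv : t * x * t⁻¹ = x⁻¹) :
    (∀ a ∈ centralizer ({x} : Set G), t * a * t⁻¹ = a⁻¹) ∧
      IsMulCommutative (centralizer ({x} : Set G)) := by
  set C := centralizer ({x} : Set G)
  have hAK : zpowers t ≤ normalizer (C : Set G) := by
    rw [zpowers_le]
    have htc : ∀ c ∈ C, t * c * t⁻¹ ∈ C := by
      intro c hc
      have h1 : c * x⁻¹ = x⁻¹ * c := (show Commute c x from mem_centralizer_singleton_iff.1 hc).inv_right.eq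
      refine mem_centralizer_singleton_iff.2 ?_
      have h2 : t * x⁻¹ * t⁻¹ = x := by
        rw [← conj_inv, hinv, inv_inv]
      calc t * c * t⁻¹ * x = t * c * t⁻¹ * (t * x⁻¹ * t⁻¹) := by rw [h2]
        _ = t * (c * x⁻¹) * t⁻¹ := by group
        _ = t * (x⁻¹ * c) * t⁻¹ := by rw [h1]
        _ = t * x⁻¹ * t⁻¹ * (t * c * t⁻¹) := by group
        _ = x * (t * c * t⁻¹) := by rw [h2]
    have htt : t * t = 1 := by rw [← pow_two, ← ht, pow_orderOf_eq_one]
    refine mem_normalizer_iff.2 fun c => ⟨htc c, fun hc => ?_⟩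
    have := htc _ hc
    rwa [show t * (t * c * t⁻¹) * t⁻¹ = (t * t) * c * (t * t)⁻¹ by group, htt, one_mul, inv_one, mul_one] at this
  have hfpf : ∀ a ∈ zpowers t, a ≠ 1 → C ⊓ centralizer {a} = ⊥ := by
    intro a ha ha1
    rw [eq_bot_iff]
    rintro c ⟨hc, hca⟩
    rw [mem_bot]
    by_contra hc1
    have h1 := same_order H hc1 ha1 (mem_centralizer_singleton_iff.1 hca)
    have h2 := same_order H hc1 hx (mem_centralizer_singleton_iff.1 hc)
    have h3 : orderOf a ∣ 2 := ht ▸ (Nat.card_zpowers t ▸ (zpowers t).orderOf_dvd_natCard ha)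
    have h4 := ((Nat.dvd_prime Nat.prime_two).1 h3).resolve_left fun e => ha1 (orderOf_eq_one_iff.1 e)
    omega
  have hK : C ≠ ⊥ := fun e => hx (mem_bot.1 (e ▸ mem_centralizer_singleton_iff.2 rfl))
  obtain ⟨⟨s, hs, hs2, hu, hsi⟩, hab⟩ := CfsgLib.Core.FPF.exists_unique_involution hAK hfpf hK
    (by rw [Nat.card_zpowers, ht])
  rw [← hu t (mem_zpowers t) ht] at hsi
  exact ⟨hsi, hab⟩

/-- a real element of odd order: data of its Sylow subgroup -/
theorem real_data {ℓ : ℕ} (hℓ : ℓ.Prime) (hℓ2 : ℓ ≠ 2)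
    (hreal : ∃ x t : G, orderOf x = ℓ ∧ orderOf t = 2 ∧ t * x * t⁻¹ = x⁻¹) {x : G} (hx : orderOf x = ℓ) :
    IsMulCommutative (centralizer ({x} : Set G)) ∧
    (∃ Q : Sylow ℓ G, (Q : Subgroup G) = centralizer ({x} : Set G)) ∧
    Nat.card {w : G // orderOf w = 2 ∧ w * x * w⁻¹ = x⁻¹} = Nat.card (centralizer ({x} : Set G)) := by
  haveI := Fact.mk hℓ
  have hne : ∀ y : G, orderOf y = ℓ → y ≠ 1 := fun y hy e => hℓ.ne_one (by rw [← hy, e, orderOf_one])
  have hinv : ∀ y : G, orderOf y = ℓ → ∃ t, orderOf t = 2 ∧ t * y * t⁻¹ = y⁻¹ := by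
    intro y hy
    obtain ⟨x₀, t, h1, h2, h3⟩ := hreal
    obtain ⟨σ, hσ⟩ := H.aut x₀ y (h1.trans hy.symm)
    refine ⟨σ t, (MulEquiv.orderOf_eq σ t).trans h2, ?_⟩
    rw [← hσ, ← map_inv, ← map_mul, ← map_mul, h3, map_inv]
  have hcomm : ∀ y : G, orderOf y = ℓ → IsMulCommutative (centralizer ({y} : Set G)) := fun y hy => by
    obtain ⟨t, h2, h3⟩ := hinv y hy
    exact (real_centralizer H h2 (hne y hy) (hy ▸ hℓ2) h3).2
  refine ⟨hcomm x hx, ?_, ?_⟩
  · obtain ⟨Q, hQ⟩ := (isPGroup_centralizer H (hne x hx) hx).exists_le_sylow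
    refine ⟨Q, le_antisymm ?_ hQ⟩
    haveI : Nontrivial (Q : Subgroup G) := ⟨⟨⟨x, hQ (mem_centralizer_singleton_iff.2 rfl)⟩, 1,
      fun e => hne x hx (congrArg Subtype.val e)⟩⟩
    haveI := Q.2.center_nontrivial
    obtain ⟨⟨⟨z, hzQ⟩, hzc⟩, hz1⟩ := exists_ne (1 : center (Q : Subgroup G))
    have hz : z ≠ 1 := fun e => hz1 (Subtype.ext (Subtype.ext e))
    have hQz : (Q : Subgroup G) ≤ centralizer ({z} : Set G) := fun a ha =>
      mem_centralizer_singleton_iff.2 (congrArg Subtype.val (mem_center_iff.1 hzc ⟨a, ha⟩))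
    have hxz : x ∈ centralizer ({z} : Set G) := hQz (hQ (mem_centralizer_singleton_iff.2 rfl))
    have hoz : orderOf z = ℓ := (same_order H hz (hne x hx) (mem_centralizer_singleton_iff.1 hxz).symm).trans hx
    intro a ha
    haveI := hcomm z hoz
    exact mem_centralizer_singleton_iff.2
      (congrArg Subtype.val (mul_comm' (⟨a, hQz ha⟩ : centralizer ({z} : Set G)) ⟨x, hxz⟩))
  · obtain ⟨t, ht2, ht3⟩ := hinv x hx
    obtain ⟨htinv, -⟩ := real_centralizer H ht2 (hne x hx) (hx ▸ hℓ2) ht3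
    have htt : t * t = 1 := by rw [← pow_two, ← ht2, pow_orderOf_eq_one]
    have hti : t⁻¹ = t := inv_eq_of_mul_eq_one_right htt
    have hto : ∀ c : centralizer ({x} : Set G), orderOf ((c : G) * t) = 2 := by
      intro c
      refine orderOf_eq_prime ?_ fun e => ?_
      · rw [pow_two, show (c : G) * t * ((c : G) * t) = c * (t * c * t) by group]
        nth_rewrite 2 [← hti]
        rw [htinv c c.2, mul_inv_cancel]
      · have htC : t ∈ centralizer ({x} : Set G) := by
          rw [eq_inv_of_mul_eq_one_right e]; exact inv_mem c.2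
        have h5 := same_order H (fun e' => by rw [e', orderOf_one] at ht2; norm_num at ht2) (hne x hx)
          (mem_centralizer_singleton_iff.1 htC)
        rw [ht2, hx] at h5
        exact hℓ2 h5.symm
    refine (Nat.card_congr (Equiv.ofBijective (fun c : centralizer ({x} : Set G) =>
      (⟨(c : G) * t, hto c, ?_⟩ : {w : G // orderOf w = 2 ∧ w * x * w⁻¹ = x⁻¹})) ⟨?_, ?_⟩)).symm
    · calc (c : G) * t * x * ((c : G) * t)⁻¹ = (c : G) * (t * x * t⁻¹) * (c : G)⁻¹ := by group
        _ = ((c : G) * x * (c : G)⁻¹)⁻¹ := by rw [ht3, conj_inv]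
        _ = x⁻¹ := by rw [mem_centralizer_singleton_iff.1 c.2, mul_inv_cancel_right]
    · intro a b hab
      exact Subtype.ext (mul_right_cancel (congrArg Subtype.val hab :))
    · rintro ⟨w, hw2, hw⟩
      refine ⟨⟨w * t, mem_centralizer_singleton_iff.2 (mul_inv_eq_iff_eq_mul.1 ?_)⟩, Subtype.ext ?_⟩
      · calc w * t * x * (w * t)⁻¹ = w * (t * x * t⁻¹) * w⁻¹ := by group
          _ = (w * x * w⁻¹)⁻¹ := by rw [ht3, conj_inv]
          _ = x := by rw [hw, inv_inv]
      · show w * t * t = w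
        rw [mul_assoc, htt, mul_one]

/-- number of elements of a real odd order -/
theorem card_real {ℓ : ℕ} (hℓ : ℓ.Prime) (hℓ2 : ℓ ≠ 2)
    (hreal : ∃ x t : G, orderOf x = ℓ ∧ orderOf t = 2 ∧ t * x * t⁻¹ = x⁻¹) (Q : Sylow ℓ G) :
    2 * (Nat.card {x : G // orderOf x = ℓ} * Nat.card (Q : Subgroup G)) =
      Nat.card G * (Nat.card (Q : Subgroup G) - 1) := by
  classical
  haveI := Fact.mk hℓ
  haveI := Fintype.ofFinite (Sylow ℓ G)
  haveI := Fintype.ofFinite G
  have hne : ∀ y : G, orderOf y = ℓ → y ≠ 1 := fun y hy e => hℓ.ne_one (by rw [← hy, e, orderOf_one])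
  obtain ⟨x0, t0, hx0, ht0, hinv0⟩ := hreal
  have hreal' : ∃ x t : G, orderOf x = ℓ ∧ orderOf t = 2 ∧ t * x * t⁻¹ = x⁻¹ := ⟨x0, t0, hx0, ht0, hinv0⟩
  choose QS hQS using fun x : {x : G // orderOf x = ℓ} => (real_data H hℓ hℓ2 hreal' x.2).2.1
  have hord : ∀ (R : Sylow ℓ G) (y : G), y ∈ (R : Subgroup G) → y ≠ 1 → orderOf y = ℓ := fun R y hy hy1 => by
    obtain ⟨k, hk⟩ := R.2 ⟨y, hy⟩
    have h1 : orderOf y ∣ ℓ ^ k := orderOf_dvd_of_pow_eq_one (congrArg Subtype.val hk)
    exact (Nat.prime_dvd_prime_iff_eq (H.prime y hy1) hℓ).1 ((H.prime y hy1).dvd_of_dvd_pow h1)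
  have hsame : ∀ (R : Sylow ℓ G) (y : G) (hy : y ∈ (R : Subgroup G)) (hy1 : y ≠ 1),
      (R : Subgroup G) = centralizer ({y} : Set G) := by
    intro R y hy hy1
    have ho := hord R y hy hy1
    haveI : Nontrivial (R : Subgroup G) := ⟨⟨⟨y, hy⟩, 1, fun e => hy1 (congrArg Subtype.val e)⟩⟩
    haveI := R.2.center_nontrivial
    obtain ⟨⟨⟨z, hzR⟩, hzc⟩, hz1⟩ := exists_ne (1 : center (R : Subgroup G))
    have hz : z ≠ 1 := fun e => hz1 (Subtype.ext (Subtype.ext e))
    obtain ⟨hcomm, -⟩ := real_data H hℓ hℓ2 hreal' (hord R z hzR hz)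
    haveI := hcomm
    have hRz : (R : Subgroup G) ≤ centralizer ({z} : Set G) := fun a ha =>
      mem_centralizer_singleton_iff.2 (congrArg Subtype.val (mem_center_iff.1 hzc ⟨a, ha⟩))
    have hRy : (R : Subgroup G) ≤ centralizer ({y} : Set G) := fun a ha => mem_centralizer_singleton_iff.2
      (congrArg Subtype.val (mul_comm' (⟨a, hRz ha⟩ : centralizer ({z} : Set G)) ⟨y, hRz hy⟩))
    exact (R.is_maximal' (isPGroup_centralizer H hy1 ho) hRy).symm
  have hcount : Nat.card {x : G // orderOf x = ℓ} = Nat.card (Sylow ℓ G) * (Nat.card (Q : Subgroup G) - 1) := by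
    rw [← Nat.card_congr (Equiv.ofBijective (fun s : (Σ R : Sylow ℓ G, {y : (R : Subgroup G) // y ≠ 1}) =>
      (⟨(s.2.1 : G), hord s.1 _ s.2.1.2 fun e => s.2.2 (Subtype.ext e)⟩ : {x : G // orderOf x = ℓ})) ⟨?_, ?_⟩),
      Nat.card_sigma]
    rotate_left
    · rintro ⟨R, ⟨y, hy⟩, hy1⟩ ⟨R', ⟨y', hy'⟩, hy1'⟩ e
      obtain rfl : y = y' := congrArg Subtype.val e
      have hy0 : y ≠ 1 := fun e => hy1 (Subtype.ext e)
      obtain rfl : R = R' := Sylow.ext ((hsame R y hy hy0).trans (hsame R' y hy' hy0).symm)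
      rfl
    · rintro ⟨x, hx⟩
      exact ⟨⟨QS ⟨x, hx⟩, ⟨⟨x, (hQS ⟨x, hx⟩).ge (mem_centralizer_singleton_iff.2 rfl)⟩,
        fun e => hne x hx (congrArg Subtype.val e)⟩⟩, rfl⟩
    have : ∀ R : Sylow ℓ G, Nat.card {y : (R : Subgroup G) // y ≠ 1} = Nat.card (Q : Subgroup G) - 1 := by
      intro R
      rw [Nat.card_eq_fintype_card, Fintype.card_subtype_compl, Fintype.card_subtype_eq,
        ← Nat.card_eq_fintype_card, R.card_eq_multiplicity, Q.card_eq_multiplicity]
    rw [Finset.sum_congr rfl fun R _ => this R, Finset.sum_const, Finset.card_univ, smul_eq_mul,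
      Nat.card_eq_fintype_card (α := Sylow ℓ G)]
  -- the normaliser has index two
  obtain ⟨Q0, hQ0⟩ := (real_data H hℓ hℓ2 hreal' hx0).2.1
  obtain ⟨htinv, -⟩ := real_centralizer H ht0 (hne x0 hx0) (hx0 ▸ hℓ2) hinv0
  set N := normalizer ((Q0 : Subgroup G) : Set G)
  set QN := (Q0 : Subgroup G).subgroupOf N
  haveI : QN.Normal := normal_in_normalizer
  have hQN : (Q0 : Subgroup G) ≤ N := le_normalizer
  have hcop : (Nat.card QN).Coprime QN.index := by
    rw [Nat.card_congr (subgroupOfEquivOfLe hQN).toEquiv, Q0.card_eq_multiplicity]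
    refine Nat.Coprime.pow_left _ ((Nat.Prime.coprime_iff_not_dvd hℓ).2 fun h => ?_)
    exact Q0.not_dvd_index (h.trans (Subgroup.relIndex_dvd_index_of_le hQN))
  obtain ⟨D, hD⟩ := exists_right_complement'_of_coprime hcop
  have hQNne : QN ≠ ⊥ := fun e => hne x0 hx0 (by
    have : (⟨x0, hQN (hQ0.ge (mem_centralizer_singleton_iff.2 rfl))⟩ : N) ∈ QN :=
      mem_subgroupOf.2 (hQ0.ge (mem_centralizer_singleton_iff.2 rfl))
    rw [e, mem_bot] at this
    exact congrArg Subtype.val this)
  have hAK : D ≤ normalizer (QN : Set N) := by rw [normalizer_eq_top_iff.2 ‹QN.Normal›]; exact le_top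
  have hfpf : ∀ d ∈ D, d ≠ 1 → QN ⊓ centralizer {d} = ⊥ := by
    intro d hd hd1
    rw [eq_bot_iff]
    rintro k ⟨hk, hkd⟩
    rw [mem_bot]
    by_contra hk1
    have hk1' : (k : G) ≠ 1 := fun e => hk1 (Subtype.ext e)
    have hdk : (d : G) ∈ centralizer ({(k : G)} : Set G) :=
      mem_centralizer_singleton_iff.2 (congrArg Subtype.val (mem_centralizer_singleton_iff.1 hkd).symm)
    rw [← hsame Q0 k (mem_subgroupOf.1 hk) hk1'] at hdk
    exact hd1 (mem_bot.1 (hD.disjoint.le_bot ⟨mem_subgroupOf.2 hdk, hd⟩))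
  have htN : t0 ∈ N := by
    refine mem_normalizer_iff.2 fun a => ?_
    have htt : t0 * t0 = 1 := by rw [← pow_two, ← ht0, pow_orderOf_eq_one]
    rw [hQ0]
    refine ⟨fun ha => by rw [htinv a ha]; exact inv_mem ha, fun ha => ?_⟩
    have := htinv _ ha
    rw [show t0 * (t0 * a * t0⁻¹) * t0⁻¹ = (t0 * t0) * a * (t0 * t0)⁻¹ by group, htt, one_mul, inv_one, mul_one] at this
    rw [this]; exact inv_mem ha
  have hDc : Nat.card D = QN.index := by
    refine Nat.eq_of_mul_eq_mul_left (Nat.card_pos (α := QN)) ?_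
    rw [hD.card_mul, QN.card_mul_index]
  have heven : 2 ∣ Nat.card D := by
    have h2 : 2 ∣ Nat.card N := ht0 ▸ N.orderOf_dvd_natCard htN
    rw [← hD.card_mul] at h2
    refine (Nat.prime_two.dvd_mul.1 h2).resolve_left fun h => hℓ2 ?_
    rw [Nat.card_congr (subgroupOfEquivOfLe hQN).toEquiv, Q0.card_eq_multiplicity] at h
    exact ((Nat.prime_dvd_prime_iff_eq Nat.prime_two hℓ).1 (Nat.prime_two.dvd_of_dvd_pow h)).symm
  obtain ⟨⟨s, hs, hs2, hu, -⟩, -⟩ := CfsgLib.Core.FPF.exists_unique_involution hAK hfpf hQNne heven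
  have hs1 : (s : G) ≠ 1 := fun e => by
    rw [← Subgroup.orderOf_coe, e, orderOf_one] at hs2; norm_num at hs2
  have hDall : ∀ d ∈ D, d = 1 ∨ d = s := by
    intro d hd
    by_cases hd1 : d = 1
    · exact Or.inl hd1
    refine Or.inr (hu d hd ?_)
    have hds : d * s * d⁻¹ = s := hu _ (D.mul_mem (D.mul_mem hd hs) (D.inv_mem hd))
      (((MulAut.conj d).orderOf_eq s).trans hs2)
    have hd1' : (d : G) ≠ 1 := fun e => hd1 (Subtype.ext e)
    rw [← Subgroup.orderOf_coe, same_order H hd1' hs1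
      (congrArg Subtype.val (mul_inv_eq_iff_eq_mul.1 hds)), Subgroup.orderOf_coe, hs2]
  have hD2 : Nat.card D = 2 := by
    rw [Nat.card_eq_two_iff]
    refine ⟨⟨1, one_mem D⟩, ⟨s, hs⟩, fun e => hs1 ?_, Set.eq_univ_iff_forall.2 fun d => ?_⟩
    · exact (congrArg (fun z : D => ((z : N) : G)) e).symm
    · rcases hDall d d.2 with h | h
      · exact Or.inl (Subtype.ext h)
      · exact Or.inr (Subtype.ext h)
  have hQQ : Nat.card (Q0 : Subgroup G) = Nat.card (Q : Subgroup G) := by
    rw [Q0.card_eq_multiplicity, Q.card_eq_multiplicity]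
  have hNc : Nat.card N = 2 * Nat.card (Q : Subgroup G) := by
    rw [← hD.card_mul, hD2, Nat.card_congr (subgroupOfEquivOfLe hQN).toEquiv, hQQ, mul_comm]
  have hS : Nat.card (Sylow ℓ G) = N.index := Q0.card_eq_index_normalizer
  rw [hcount, hS, ← N.card_mul_index, hNc]
  ring

set_option maxHeartbeats 1000000 in
/-- the two-Sylow data and the final order -/
theorem card_eq_sixty : Nat.card G = 60 := by
  classical
  haveI := isSimpleGroup H
  haveI := Fintype.ofFinite G
  haveI : Fact (Nat.Prime 2) := ⟨Nat.prime_two⟩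
  obtain ⟨S⟩ := (inferInstance : Nonempty (Sylow 2 G))
  obtain ⟨t, htS, ht2⟩ : ∃ t ∈ (S : Subgroup G), orderOf t = 2 := by
    obtain ⟨t, ht⟩ := exists_prime_orderOf_dvd_card' (G := (S : Subgroup G)) 2 (S.dvd_card_of_dvd_card (two_dvd H))
    exact ⟨t, t.2, by rw [Subgroup.orderOf_coe, ht]⟩
  have hne2 : ∀ w : G, orderOf w = 2 → w ≠ 1 := fun w hw e => by rw [e, orderOf_one] at hw; norm_num at hw
  have hsq : ∀ w : G, orderOf w = 2 → w * w = 1 := fun w hw => by rw [← pow_two, ← hw, pow_orderOf_eq_one]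
  have hord2 : ∀ (R : Sylow 2 G) (y : G), y ∈ (R : Subgroup G) → y ≠ 1 → orderOf y = 2 := fun R y hy hy1 => by
    obtain ⟨k, hk⟩ := R.2 ⟨y, hy⟩
    have h1 : orderOf y ∣ 2 ^ k := orderOf_dvd_of_pow_eq_one (congrArg Subtype.val hk)
    exact (Nat.prime_dvd_prime_iff_eq (H.prime y hy1) Nat.prime_two).1 ((H.prime y hy1).dvd_of_dvd_pow h1)
  have hRcomm : ∀ (R : Sylow 2 G), ∀ a ∈ (R : Subgroup G), ∀ b ∈ (R : Subgroup G), a * b = b * a := by
    intro R a ha b hb
    have hi : ∀ c ∈ (R : Subgroup G), c⁻¹ = c := fun c hc => by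
      by_cases hc1 : c = 1
      · rw [hc1, inv_one]
      · exact inv_eq_of_mul_eq_one_right (hsq c (hord2 R c hc hc1))
    calc a * b = (a * b)⁻¹ := (hi _ (mul_mem ha hb)).symm
      _ = b * a := by rw [mul_inv_rev, hi a ha, hi b hb]
  have hC : ∀ (R : Sylow 2 G) (y : G), y ∈ (R : Subgroup G) → y ≠ 1 →
      centralizer ({y} : Set G) = (R : Subgroup G) := fun R y hy hy1 =>
    R.is_maximal' (isPGroup_centralizer H hy1 (hord2 R y hy hy1))
      fun a ha => mem_centralizer_singleton_iff.2 (hRcomm R a ha y hy)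
  -- involutions are conjugate
  have hdih : ∀ a b : G, orderOf a = 2 → orderOf b = 2 → a * b ≠ b * a → ∃ g, g * a * g⁻¹ = b := by
    intro a b ha hb hab
    have hai := inv_eq_of_mul_eq_one_right (hsq a ha)
    have hbi := inv_eq_of_mul_eq_one_right (hsq b hb)
    set x := a * b
    have hx1 : x ≠ 1 := fun e => hab (by
      have e' : a = b := (eq_inv_of_mul_eq_one_left e).trans hbi
      show a * b = b * a
      rw [e'])
    have hxo : orderOf x ≠ 2 := fun e => hab (by
      calc x = x⁻¹ := (inv_eq_of_mul_eq_one_right (hsq x e)).symm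
        _ = b * a := by rw [mul_inv_rev, hai, hbi])
    obtain ⟨j, hj⟩ := (H.prime x hx1).odd_of_ne_two hxo
    refine ⟨x ^ j, ?_⟩
    have hax : a * x * a⁻¹ = x⁻¹ := by
      rw [mul_inv_rev, hai, hbi]; show a * (a * b) * a = b * a
      rw [← mul_assoc, hsq a ha, one_mul]
    have h1 : a * (x ^ j)⁻¹ = x ^ j * a := by
      rw [← inv_pow, ← hax, conj_pow]
      calc a * (a * x ^ j * a⁻¹) = (a * a) * x ^ j * a⁻¹ := by group
        _ = x ^ j * a := by rw [hsq a ha, one_mul, hai]
    rw [mul_assoc, h1, ← mul_assoc, ← pow_add]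
    have h2 : x ^ (j + j) = x⁻¹ := eq_inv_of_mul_eq_one_left (by
      rw [← pow_succ, show j + j + 1 = orderOf x by omega, pow_orderOf_eq_one])
    rw [h2]
    calc x⁻¹ * a = b * (a * a) := by rw [mul_inv_rev, hai, hbi, mul_assoc]
      _ = b := by rw [hsq a ha, mul_one]
  have hSnn : ¬ (S : Subgroup G).Normal := fun h => by
    rcases h.eq_bot_or_eq_top with e | e
    · exact hne2 t ht2 (mem_bot.1 (e ▸ htS))
    · refine H.ns ?_
      haveI : Group.IsSolvable (⊤ : Subgroup G) := e ▸ (Group.isSolvable_of_comm fun a b =>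
        Subtype.ext (hRcomm S _ a.2 _ b.2) : Group.IsSolvable (S : Subgroup G))
      exact Group.isSolvable_of_surjective (f := (⊤ : Subgroup G).subtype) fun g => ⟨⟨g, mem_top g⟩, rfl⟩
  have hconj : ∀ a : G, orderOf a = 2 → ∃ g, g * t * g⁻¹ = a := by
    intro a ha
    by_cases hta : t * a = a * t
    · -- an involution outside `S`
      obtain ⟨g, hg⟩ : ∃ g : G, g • S ≠ S := by
        by_contra hno
        push Not at hno
        exact hSnn (normalizer_eq_top_iff.1 (eq_top_iff.2 fun g _ => Sylow.smul_eq_iff_mem_normalizer.1 (hno g)))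
      have hu : g * t * g⁻¹ ∈ ((g • S : Sylow 2 G) : Subgroup G) := by
        rw [Sylow.coe_subgroup_smul, CfsgLib.Core.mem_conj_smul_iff]
        simpa [mul_assoc] using htS
      set u := g * t * g⁻¹
      have hu2 : orderOf u = 2 := ((MulAut.conj g).orderOf_eq t).trans ht2
      have huS : u ∉ (S : Subgroup G) := fun h => hg (Sylow.ext (by
        rw [← hC _ u hu (hne2 u hu2), hC S u h (hne2 u hu2)]))
      have haS : a ∈ (S : Subgroup G) := hC S t htS (hne2 t ht2) ▸ mem_centralizer_singleton_iff.2 hta.symm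
      obtain ⟨g1, hg1⟩ := hdih t u ht2 hu2 fun e => huS (hC S t htS (hne2 t ht2) ▸ mem_centralizer_singleton_iff.2 e.symm)
      obtain ⟨g2, hg2⟩ := hdih u a hu2 ha fun e => huS (hC S a haS (hne2 a ha) ▸ mem_centralizer_singleton_iff.2 e)
      exact ⟨g2 * g1, by rw [← hg2, ← hg1]; group⟩
    · exact hdih t a ht2 ha hta
  set q := Nat.card (S : Subgroup G)
  set N := normalizer ((S : Subgroup G) : Set G)
  have hSN : (S : Subgroup G) ≤ N := le_normalizer
  have hCt := hC S t htS (hne2 t ht2)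
  have hn : Nat.card {w : G // orderOf w = 2} = (S : Subgroup G).index := by
    refine (Nat.card_congr (Equiv.ofBijective (Quotient.lift
      (fun g : G => (⟨g * t * g⁻¹, ((MulAut.conj g).orderOf_eq t).trans ht2⟩ : {w : G // orderOf w = 2}))
      ?_ : G ⧸ (S : Subgroup G) → {w : G // orderOf w = 2}) ⟨?_, ?_⟩)).symm
    · intro a b hab
      have h : a⁻¹ * b ∈ centralizer ({t} : Set G) := hCt ▸ QuotientGroup.leftRel_apply.1 hab
      apply Subtype.ext
      show a * t * a⁻¹ = b * t * b⁻¹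
      calc a * t * a⁻¹ = a * (t * (a⁻¹ * b)) * b⁻¹ := by group
        _ = a * (a⁻¹ * b * t) * b⁻¹ := by rw [mem_centralizer_singleton_iff.1 h]
        _ = b * t * b⁻¹ := by group
    · intro x y
      induction x using QuotientGroup.induction_on with | H a => ?_
      induction y using QuotientGroup.induction_on with | H b => ?_
      intro hab
      have h : a * t * a⁻¹ = b * t * b⁻¹ := congrArg Subtype.val hab
      refine QuotientGroup.eq.2 ?_
      rw [← hCt]
      refine mem_centralizer_singleton_iff.2 ?_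
      calc a⁻¹ * b * t = a⁻¹ * (b * t * b⁻¹) * b := by group
        _ = a⁻¹ * (a * t * a⁻¹) * b := by rw [h]
        _ = t * (a⁻¹ * b) := by group
    · rintro ⟨w, hw⟩
      obtain ⟨g, hg⟩ := hconj w hw
      exact ⟨QuotientGroup.mk g, Subtype.ext hg⟩
  have hnorm : ∀ g : G, g * t * g⁻¹ ∈ (S : Subgroup G) → g ∈ N := by
    intro g hg
    refine Sylow.smul_eq_iff_mem_normalizer.1 (Sylow.ext ?_)
    have h1 : g * t * g⁻¹ ∈ ((g • S : Sylow 2 G) : Subgroup G) := by
      rw [Sylow.coe_subgroup_smul, CfsgLib.Core.mem_conj_smul_iff]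
      simpa [mul_assoc] using htS
    have h2 : g * t * g⁻¹ ≠ 1 := fun e => hne2 t ht2 (conj_eq_one_iff.1 e)
    rw [← hC _ _ h1 h2, hC S _ hg h2]
  set SN := (S : Subgroup G).subgroupOf N
  haveI : SN.Normal := normal_in_normalizer
  have hm : SN.index = q - 1 := by
    have hc : Nat.card {s : (S : Subgroup G) // s ≠ 1} = q - 1 := by
      rw [Nat.card_eq_fintype_card, Fintype.card_subtype_compl, Fintype.card_subtype_eq, ← Nat.card_eq_fintype_card]
    rw [← hc]
    refine Nat.card_congr (Equiv.ofBijective (Quotient.lift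
      (fun g : N => (⟨⟨(g : G) * t * (g : G)⁻¹, (mem_normalizer_iff.1 g.2 t).1 htS⟩,
        fun e => hne2 t ht2 (conj_eq_one_iff.1 (congrArg Subtype.val e))⟩ : {s : (S : Subgroup G) // s ≠ 1}))
      ?_ : N ⧸ SN → {s : (S : Subgroup G) // s ≠ 1}) ⟨?_, ?_⟩)
    · intro a b hab
      have h : (a : G)⁻¹ * b ∈ centralizer ({t} : Set G) := hCt ▸ mem_subgroupOf.1 (QuotientGroup.leftRel_apply.1 hab)
      apply Subtype.ext; apply Subtype.ext
      show (a : G) * t * (a : G)⁻¹ = b * t * (b : G)⁻¹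
      calc (a : G) * t * (a : G)⁻¹ = a * (t * ((a : G)⁻¹ * b)) * (b : G)⁻¹ := by group
        _ = a * ((a : G)⁻¹ * b * t) * (b : G)⁻¹ := by rw [mem_centralizer_singleton_iff.1 h]
        _ = b * t * (b : G)⁻¹ := by group
    · intro x y
      induction x using QuotientGroup.induction_on with | H a => ?_
      induction y using QuotientGroup.induction_on with | H b => ?_
      intro hab
      have h : (a : G) * t * (a : G)⁻¹ = b * t * (b : G)⁻¹ :=
        congrArg (fun s : {s : (S : Subgroup G) // s ≠ 1} => ((s.1 : (S : Subgroup G)) : G)) hab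
      refine QuotientGroup.eq.2 (mem_subgroupOf.2 ?_)
      rw [← hCt]
      refine mem_centralizer_singleton_iff.2 ?_
      show (a : G)⁻¹ * b * t = t * ((a : G)⁻¹ * b)
      calc (a : G)⁻¹ * b * t = (a : G)⁻¹ * (b * t * (b : G)⁻¹) * b := by group
        _ = (a : G)⁻¹ * (a * t * (a : G)⁻¹) * b := by rw [h]
        _ = t * ((a : G)⁻¹ * b) := by group
    · rintro ⟨⟨s, hs⟩, hs1⟩
      obtain ⟨g, hg⟩ := hconj s (hord2 S s hs fun e => hs1 (Subtype.ext e))
      exact ⟨QuotientGroup.mk (⟨g, hnorm g (hg.symm ▸ hs)⟩ : N), Subtype.ext (Subtype.ext hg)⟩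
  have hqpos : 2 ≤ q := by
    rw [← ht2]; exact Nat.le_of_dvd Nat.card_pos ((S : Subgroup G).orderOf_dvd_natCard htS)
  have hq2 : q ≠ 2 := by
    intro hq
    have hidx : SN.index = 1 := by rw [hm, hq]
    have hNS : N ≤ (S : Subgroup G) := fun g hg => by
      have := Subgroup.index_eq_one.1 hidx
      exact mem_subgroupOf.1 (this.ge (mem_top (⟨g, hg⟩ : N)))
    have hle : N ≤ centralizer ((S : Subgroup G) : Set G) := fun g hg =>
      mem_centralizer_iff.2 fun y hy => hRcomm S y hy g (hNS hg)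
    have hc := MonoidHom.ker_transferSylow_isComplement' S hle
    rcases (inferInstance : (MonoidHom.transferSylow S hle).ker.Normal).eq_bot_or_eq_top with e | e <;> rw [e] at hc
    · exact hSnn (by rw [isComplement'_bot_left.1 hc]; infer_instance)
    · rw [isComplement'_top_left] at hc; exact hne2 t ht2 (mem_bot.1 (hc ▸ htS))
  obtain ⟨k, hk⟩ := IsPGroup.iff_card.1 S.2
  change q = 2 ^ k at hk
  have hk2 : 2 ≤ k := by
    by_contra h
    rcases (show k = 0 ∨ k = 1 by omega) with rfl | rfl <;> omega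
  have hqeven : 2 ∣ q := hk ▸ dvd_pow_self 2 (by omega)
  -- `q - 1` is a prime
  have hcopN : (Nat.card SN).Coprime SN.index := by
    rw [Nat.card_congr (subgroupOfEquivOfLe hSN).toEquiv, hm]
    show q.Coprime (q - 1)
    exact Nat.coprime_self_sub_right (by omega) |>.2 (Nat.coprime_one_right q)
  obtain ⟨D, hD⟩ := exists_right_complement'_of_coprime hcopN
  have hDc : Nat.card D = q - 1 := by
    rw [← hm]
    refine Nat.eq_of_mul_eq_mul_left (Nat.card_pos (α := SN)) ?_
    rw [hD.card_mul, SN.card_mul_index]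
  have hAK : D ≤ normalizer (SN : Set N) := by rw [normalizer_eq_top_iff.2 ‹SN.Normal›]; exact le_top
  have hfpfD : ∀ d ∈ D, d ≠ 1 → SN ⊓ centralizer {d} = ⊥ := by
    intro d hd hd1
    rw [eq_bot_iff]
    rintro x ⟨hx, hxd⟩
    rw [mem_bot]
    by_contra hx1
    have hdx : (d : G) ∈ centralizer ({(x : G)} : Set G) :=
      mem_centralizer_singleton_iff.2 (congrArg Subtype.val (mem_centralizer_singleton_iff.1 hxd).symm)
    rw [hC S x (mem_subgroupOf.1 hx) fun e => hx1 (Subtype.ext e)] at hdx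
    exact hd1 (mem_bot.1 (hD.disjoint.le_bot ⟨mem_subgroupOf.2 hdx, hd⟩))
  have hSNne : SN ≠ ⊥ := fun e => by
    have : (⟨t, hSN htS⟩ : N) ∈ SN := mem_subgroupOf.2 htS
    rw [e, mem_bot] at this
    exact hne2 t ht2 (congrArg Subtype.val this)
  have hDne : D ≠ ⊥ := fun e => by rw [e, Subgroup.card_bot] at hDc; omega
  obtain ⟨⟨z, hzc⟩, hz1⟩ := ne_bot_iff_exists_ne_one.1 (CfsgLib.Core.FPF.center_ne_bot hAK hfpfD hSNne hDne)
  have hz1' : (((z : N)) : G) ≠ 1 := fun e => hz1 (Subtype.ext (Subtype.ext (Subtype.ext e)))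
  set p := orderOf (((z : N)) : G)
  have hp : p.Prime := H.prime _ hz1'
  haveI := Fact.mk hp
  have hDo : ∀ d ∈ D, d ≠ 1 → orderOf d = p := by
    intro d hd hd1
    rw [← Subgroup.orderOf_coe]
    exact same_order H (fun e => hd1 (Subtype.ext e)) hz1'
      (congrArg (fun w : D => ((w : N) : G)) (mem_center_iff.1 hzc ⟨d, hd⟩))
  have hDp : IsPGroup p D := fun d => by
    by_cases hd : (d : N) = 1
    · exact ⟨0, Subtype.ext (by simp [hd])⟩
    · refine ⟨1, Subtype.ext ?_⟩
      show (d : N) ^ p ^ 1 = 1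
      rw [pow_one, ← hDo d d.2 hd, pow_orderOf_eq_one]
  have hzo : orderOf (z : N) = p := by rw [← Subgroup.orderOf_coe]
  have hDeq : D = zpowers (z : N) := by
    refine le_antisymm (fun d hd => ?_) (zpowers_le.2 z.2)
    by_cases hd1 : d = 1
    · rw [hd1]; exact one_mem _
    exact (CfsgLib.Core.FPF.subgroup_order_prime_unique hAK hfpfD hSNne le_rfl hp hDp (zpowers_le.2 hd) (zpowers_le.2 z.2)
      (by rw [Nat.card_zpowers, hDo d hd hd1]) (by rw [Nat.card_zpowers, hzo])).le (mem_zpowers d)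
  have hpq : q - 1 = p := by rw [← hDc, hDeq, Nat.card_zpowers, hzo]
  have hp2 : p ≠ 2 := by omega
  -- the three primes
  have hpG : p ∈ (Nat.card G).primeFactors := Nat.mem_primeFactors.2 ⟨hp, orderOf_dvd_natCard _, Nat.card_pos.ne'⟩
  have h2G : 2 ∈ (Nat.card G).primeFactors := Nat.mem_primeFactors.2 ⟨Nat.prime_two, two_dvd H, Nat.card_pos.ne'⟩
  obtain ⟨r, hrG, hr2, hrp⟩ : ∃ r ∈ (Nat.card G).primeFactors, r ≠ 2 ∧ r ≠ p := by
    by_contra hno
    push Not at hno
    have : (Nat.card G).primeFactors ⊆ {2, p} := fun r hr => by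
      by_cases h : r = 2
      · simp [h]
      · simp [hno r hr h]
    have := (Finset.card_le_card this).trans Finset.card_le_two
    have := H.three
    omega
  have hr : r.Prime := Nat.prime_of_mem_primeFactors hrG
  haveI := Fact.mk hr
  have hset : (Nat.card G).primeFactors = {2, p, r} := by
    refine (Finset.eq_of_subset_of_card_le ?_ ?_).symm
    · exact Finset.insert_subset h2G (Finset.insert_subset hpG (Finset.singleton_subset_iff.2 hrG))
    · rw [H.three, Finset.card_insert_of_notMem (by simp [hp2.symm, hr2.symm]), Finset.card_pair hrp.symm]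
  obtain ⟨Qp⟩ := (inferInstance : Nonempty (Sylow p G))
  obtain ⟨Qr⟩ := (inferInstance : Nonempty (Sylow r G))
  set P := Nat.card (Qp : Subgroup G)
  set R := Nat.card (Qr : Subgroup G)
  have hG : Nat.card G = q * (P * R) := by
    conv_lhs => rw [← Nat.factorization_prod_pow_eq_self (Nat.card_pos (α := G)).ne']
    rw [Finsupp.prod, Nat.support_factorization, hset, Finset.prod_insert (by simp [hp2.symm, hr2.symm]),
      Finset.prod_pair hrp.symm, show q = _ from S.card_eq_multiplicity, show P = _ from Qp.card_eq_multiplicity,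
      show R = _ from Qr.card_eq_multiplicity]
  have hn' : Nat.card {w : G // orderOf w = 2} = P * R := by
    rw [hn]
    exact Nat.eq_of_mul_eq_mul_left (Nat.card_pos (α := (S : Subgroup G))) ((S : Subgroup G).card_mul_index.trans hG)
  -- pairs of non-commuting involutions
  have hpairs : Nat.card {w : G // orderOf w = 2} * (Nat.card {w : G // orderOf w = 2} - (q - 1)) =
      ∑ x ∈ Finset.univ.filter (fun x : G => x ≠ 1 ∧ orderOf x ≠ 2),
        Nat.card {w : G // orderOf w = 2 ∧ w * x * w⁻¹ = x⁻¹} := by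
    have hper : ∀ w : {w : G // orderOf w = 2},
        Nat.card {s : {s : G // orderOf s = 2} // s.1 * w.1 ≠ w.1 * s.1} =
          Nat.card {w : G // orderOf w = 2} - (q - 1) := by
      intro w
      rw [Nat.card_eq_fintype_card, Fintype.card_subtype_compl, ← Nat.card_eq_fintype_card]
      congr 1
      obtain ⟨g, hg⟩ := hconj w.1 w.2
      have hwS : w.1 ∈ ((g • S : Sylow 2 G) : Subgroup G) := by
        rw [← hg, Sylow.coe_subgroup_smul, CfsgLib.Core.mem_conj_smul_iff]
        simpa [mul_assoc] using htS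
      have hc := hC _ _ hwS (hne2 _ w.2)
      rw [← Nat.card_eq_fintype_card, Nat.card_congr (show {s : {s : G // orderOf s = 2} // s.1 * w.1 = w.1 * s.1} ≃
        {s : ((g • S : Sylow 2 G) : Subgroup G) // s ≠ 1} from
        { toFun := fun s => ⟨⟨s.1.1, hc ▸ mem_centralizer_singleton_iff.2 s.2⟩,
            fun e => hne2 _ s.1.2 (congrArg Subtype.val e)⟩
          invFun := fun s => ⟨⟨s.1.1, hord2 _ _ s.1.2 fun e => s.2 (Subtype.ext e)⟩,
            hRcomm _ _ s.1.2 _ hwS⟩
          left_inv := fun s => rfl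
          right_inv := fun s => rfl }),
        Nat.card_eq_fintype_card, Fintype.card_subtype_compl, Fintype.card_subtype_eq, ← Nat.card_eq_fintype_card,
        (g • S).card_eq_multiplicity]
      exact congrArg (· - 1) S.card_eq_multiplicity.symm
    have h1 : Nat.card (Σ w : {w : G // orderOf w = 2}, {s : {s : G // orderOf s = 2} // s.1 * w.1 ≠ w.1 * s.1}) =
        Nat.card (Σ x : {x : G // x ≠ 1 ∧ orderOf x ≠ 2}, {w : G // orderOf w = 2 ∧ w * x.1 * w⁻¹ = x.1⁻¹}) := by
      have hmk : ∀ (w s : G), orderOf w = 2 → orderOf s = 2 → s * w ≠ w * s →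
          w * s ≠ 1 ∧ orderOf (w * s) ≠ 2 ∧ w * (w * s) * w⁻¹ = (w * s)⁻¹ := by
        intro w s hw hs hne
        have hwi := inv_eq_of_mul_eq_one_right (hsq w hw)
        have hsi := inv_eq_of_mul_eq_one_right (hsq s hs)
        refine ⟨fun e => hne ?_, fun e => hne ?_, ?_⟩
        · rw [eq_inv_of_mul_eq_one_right e, hwi]
        · calc s * w = (w * s)⁻¹ := by rw [mul_inv_rev, hwi, hsi]
            _ = w * s := inv_eq_of_mul_eq_one_right (hsq _ e)
        · rw [mul_inv_rev, hwi, hsi, ← mul_assoc, hsq w hw, one_mul]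
      have hmk' : ∀ (x w : G), x ≠ 1 → orderOf x ≠ 2 → orderOf w = 2 → w * x * w⁻¹ = x⁻¹ →
          orderOf (w * x) = 2 ∧ (w * x) * w ≠ w * (w * x) := by
        intro x w hx hx2 hw hinv
        have hwi := inv_eq_of_mul_eq_one_right (hsq w hw)
        refine ⟨orderOf_eq_prime ?_ fun e => hx2 ?_, fun e => ?_⟩
        · rw [pow_two, show w * x * (w * x) = w * x * w * x by group]
          nth_rewrite 2 [← hwi]
          rw [hinv, inv_mul_cancel]
        · rw [← hw, eq_inv_of_mul_eq_one_right e, orderOf_inv]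
        · nth_rewrite 2 [← hwi] at e
          rw [hinv, ← mul_assoc, hsq w hw, one_mul] at e
          exact hx2 (orderOf_eq_prime (by rw [pow_two]; nth_rewrite 1 [← e]; exact inv_mul_cancel x) hx)
      refine Nat.card_congr
        { toFun := fun s => ⟨⟨s.1.1 * s.2.1.1, (hmk _ _ s.1.2 s.2.1.2 s.2.2).1, (hmk _ _ s.1.2 s.2.1.2 s.2.2).2.1⟩,
            ⟨s.1.1, s.1.2, (hmk _ _ s.1.2 s.2.1.2 s.2.2).2.2⟩⟩
          invFun := fun u => ⟨⟨u.2.1, u.2.2.1⟩, ⟨⟨u.2.1 * u.1.1, (hmk' _ _ u.1.2.1 u.1.2.2 u.2.2.1 u.2.2.2).1⟩,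
            (hmk' _ _ u.1.2.1 u.1.2.2 u.2.2.1 u.2.2.2).2⟩⟩
          left_inv := ?_
          right_inv := ?_ }
      · rintro ⟨⟨w, hw⟩, ⟨⟨s, hs⟩, hne⟩⟩
        refine Sigma.ext rfl (heq_of_eq (Subtype.ext (Subtype.ext ?_)))
        show w * (w * s) = s
        rw [← mul_assoc, hsq w hw, one_mul]
      · rintro ⟨⟨x, hx⟩, ⟨w, hw, hinv⟩⟩
        have hxx : w * (w * x) = x := by rw [← mul_assoc, hsq w hw, one_mul]
        refine Sigma.ext (Subtype.ext hxx) ?_
        exact (Subtype.heq_iff_coe_eq (fun z => by simp only [hxx])).2 rfl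
    rw [Nat.card_sigma, Nat.card_sigma, Finset.sum_congr rfl fun w _ => hper w, Finset.sum_const,
      Finset.card_univ, smul_eq_mul, ← Nat.card_eq_fintype_card] at h1
    rw [h1]
    exact (Finset.sum_subtype _ (by simp) (fun x : G => Nat.card {w : G // orderOf w = 2 ∧ w * x * w⁻¹ = x⁻¹})).symm
  -- value of the sum for each prime
  have hval : ∀ (l : ℕ) [Fact l.Prime], l ≠ 2 → ∀ Q : Sylow l G,
      (∀ x : G, orderOf x = l → Nat.card {w : G // orderOf w = 2 ∧ w * x * w⁻¹ = x⁻¹} = 0) ∨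
      ((∃ x t : G, orderOf x = l ∧ orderOf t = 2 ∧ t * x * t⁻¹ = x⁻¹) ∧
        ∀ x : G, orderOf x = l → Nat.card {w : G // orderOf w = 2 ∧ w * x * w⁻¹ = x⁻¹} = Nat.card (Q : Subgroup G)) := by
    intro l hl hl2 Q
    by_cases hre : ∃ x t : G, orderOf x = l ∧ orderOf t = 2 ∧ t * x * t⁻¹ = x⁻¹
    · refine Or.inr ⟨hre, fun x hx => ?_⟩
      obtain ⟨-, ⟨Q', hQ'⟩, h⟩ := real_data H hl.out hl2 hre hx
      rw [h, ← hQ', Q'.card_eq_multiplicity, Q.card_eq_multiplicity]
    · refine Or.inl fun x hx => ?_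
      haveI : IsEmpty {w : G // orderOf w = 2 ∧ w * x * w⁻¹ = x⁻¹} := ⟨fun w => hre ⟨x, w.1, hx, w.2.1, w.2.2⟩⟩
      exact Nat.card_of_isEmpty
  have hsum : ∑ x ∈ Finset.univ.filter (fun x : G => x ≠ 1 ∧ orderOf x ≠ 2),
        Nat.card {w : G // orderOf w = 2 ∧ w * x * w⁻¹ = x⁻¹} =
      (∑ x ∈ Finset.univ.filter (fun x : G => orderOf x = p), Nat.card {w : G // orderOf w = 2 ∧ w * x * w⁻¹ = x⁻¹}) +
      (∑ x ∈ Finset.univ.filter (fun x : G => orderOf x = r), Nat.card {w : G // orderOf w = 2 ∧ w * x * w⁻¹ = x⁻¹}) := by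
    rw [← Finset.sum_union (Finset.disjoint_filter.2 fun x _ h1 h2 => hrp (h2.symm.trans h1))]
    refine Finset.sum_congr (Finset.ext fun x => ?_) fun _ _ => rfl
    simp only [Finset.mem_filter, Finset.mem_univ, true_and, Finset.mem_union]
    constructor
    · rintro ⟨h1, h2⟩
      have : orderOf x ∈ (Nat.card G).primeFactors :=
        Nat.mem_primeFactors.2 ⟨H.prime x h1, orderOf_dvd_natCard x, Nat.card_pos.ne'⟩
      rw [hset] at this
      simp only [Finset.mem_insert, Finset.mem_singleton] at this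
      tauto
    · rintro (h | h)
      · exact ⟨fun e => hp.ne_one (by rw [← h, e, orderOf_one]), h ▸ hp2⟩
      · exact ⟨fun e => hr.ne_one (by rw [← h, e, orderOf_one]), h ▸ hr2⟩
  have hterm : ∀ (l : ℕ) [Fact l.Prime], l ≠ 2 → ∀ Q : Sylow l G,
      (∑ x ∈ Finset.univ.filter (fun x : G => orderOf x = l), Nat.card {w : G // orderOf w = 2 ∧ w * x * w⁻¹ = x⁻¹}) = 0 ∨
      2 * (∑ x ∈ Finset.univ.filter (fun x : G => orderOf x = l), Nat.card {w : G // orderOf w = 2 ∧ w * x * w⁻¹ = x⁻¹}) =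
        Nat.card G * (Nat.card (Q : Subgroup G) - 1) := by
    intro l hl hl2 Q
    rcases hval l hl2 Q with h | ⟨hre, h⟩
    · exact Or.inl (Finset.sum_eq_zero fun x hx => h x (Finset.mem_filter.1 hx).2)
    · refine Or.inr ?_
      rw [Finset.sum_congr rfl fun x hx => h x (Finset.mem_filter.1 hx).2, Finset.sum_const, smul_eq_mul,
        ← card_real H hl.out hl2 hre Q, ← Fintype.card_subtype, ← Nat.card_eq_fintype_card]
  have hP1 : 3 ≤ P ∧ p ∣ P := by
    have hd : p ∣ P := Qp.dvd_card_of_dvd_card (Nat.dvd_of_mem_primeFactors hpG)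
    exact ⟨le_trans (by have := hp.two_le; omega) (Nat.le_of_dvd Nat.card_pos hd), hd⟩
  have hR1 : 3 ≤ R ∧ r ∣ R := by
    have hd : r ∣ R := Qr.dvd_card_of_dvd_card (Nat.dvd_of_mem_primeFactors hrG)
    exact ⟨le_trans (by have := hr.two_le; omega) (Nat.le_of_dvd Nat.card_pos hd), hd⟩
  have hge : q - 1 < P * R := by
    rw [hpq]
    have := Nat.le_of_dvd (by omega) hP1.2
    nlinarith [hR1.1]
  rw [hn', hsum] at hpairs
  obtain ⟨a, ha⟩ := IsPGroup.iff_card.1 Qp.2
  change P = p ^ a at ha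
  have hq4 : (4 : ℤ) ≤ q := by
    have : 4 ≤ q := by rw [hk]; exact le_trans (by norm_num) (Nat.pow_le_pow_right two_pos hk2)
    exact_mod_cast this
  have hPR : P = q - 1 ∧ R = q + 1 := by
    have hGz : (Nat.card G : ℤ) = q * (P * R) := by exact_mod_cast hG
    have hL : ((P * R * (P * R - (q - 1)) : ℕ) : ℤ) = (P : ℤ) * R * (P * R - q + 1) := by
      rw [Nat.cast_mul, Nat.cast_sub hge.le, Nat.cast_sub (by omega)]; push_cast; ring
    have hP3 : (3 : ℤ) ≤ P := by exact_mod_cast hP1.1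
    have hR3 : (3 : ℤ) ≤ R := by exact_mod_cast hR1.1
    have hPpos : (0 : ℤ) < P * R := by positivity
    have hpz : (P : ℤ) ≥ q - 1 := by
      have := Nat.le_of_dvd (by omega) hP1.2
      have h' : q - 1 ≤ P := by omega
      omega
    rcases hterm p hp2 Qp with h1 | h1 <;> rcases hterm r hr2 Qr with h2 | h2
    · exfalso
      rw [h1, h2] at hpairs
      rcases Nat.mul_eq_zero.1 hpairs with h | h <;> omega
    · exfalso
      rw [h1, zero_add] at hpairs
      have h2' : 2 * ((P : ℤ) * R * (P * R - q + 1)) = (Nat.card G : ℤ) * (R - 1) := by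
        rw [← hL, show ((R : ℤ) - 1) = ((R - 1 : ℕ) : ℤ) by omega, hpairs]
        exact_mod_cast h2
      rw [hGz] at h2'
      have key : (R : ℤ) * (2 * P - q) = q - 2 := by
        have : (P : ℤ) * R * (2 * (P * R - q + 1) - q * (R - 1)) = 0 := by linear_combination h2'
        rcases mul_eq_zero.1 this with h | h
        · omega
        · linarith
      have h5 : (R : ℤ) * (q - 2) ≤ R * (2 * P - q) := mul_le_mul_of_nonneg_left (by linarith) (by linarith)
      have h6 : (3 : ℤ) * (q - 2) ≤ R * (q - 2) := mul_le_mul_of_nonneg_right hR3 (by linarith)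
      linarith
    · exfalso
      rw [h2, add_zero] at hpairs
      have h2' : 2 * ((P : ℤ) * R * (P * R - q + 1)) = (Nat.card G : ℤ) * (P - 1) := by
        rw [← hL, show ((P : ℤ) - 1) = ((P - 1 : ℕ) : ℤ) by omega, hpairs]
        exact_mod_cast h1
      rw [hGz] at h2'
      have key : (P : ℤ) * (2 * R - q) = q - 2 := by
        have : (P : ℤ) * R * (2 * (P * R - q + 1) - q * (P - 1)) = 0 := by linear_combination h2'
        rcases mul_eq_zero.1 this with h | h
        · omega
        · linarith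
      have h0 : 1 ≤ 2 * (R : ℤ) - q := by
        by_contra h
        have := mul_nonpos_of_nonneg_of_nonpos (show (0 : ℤ) ≤ P by linarith) (show 2 * (R : ℤ) - q ≤ 0 by linarith)
        linarith
      have h5 := le_mul_of_one_le_right (show (0 : ℤ) ≤ P by linarith) h0
      linarith
    · have h2' : 2 * ((P : ℤ) * R * (P * R - q + 1)) = (Nat.card G : ℤ) * (P - 1) + (Nat.card G : ℤ) * (R - 1) := by
        rw [← hL, show ((R : ℤ) - 1) = ((R - 1 : ℕ) : ℤ) by omega, show ((P : ℤ) - 1) = ((P - 1 : ℕ) : ℤ) by omega,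
          hpairs, Nat.cast_add, mul_add]
        have e1 : 2 * ((∑ x ∈ Finset.univ.filter (fun x : G => orderOf x = p),
          Nat.card {w : G // orderOf w = 2 ∧ w * x * w⁻¹ = x⁻¹} : ℕ) : ℤ) = (Nat.card G : ℤ) * ((P - 1 : ℕ) : ℤ) := by
          exact_mod_cast h1
        have e2 : 2 * ((∑ x ∈ Finset.univ.filter (fun x : G => orderOf x = r),
          Nat.card {w : G // orderOf w = 2 ∧ w * x * w⁻¹ = x⁻¹} : ℕ) : ℤ) = (Nat.card G : ℤ) * ((R - 1 : ℕ) : ℤ) := by
          exact_mod_cast h2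
        rw [e1, e2]
      rw [hGz] at h2'
      have key : (2 * (P : ℤ) - q) * (2 * R - q) = q * q - 4 := by
        have : (P : ℤ) * R * (2 * (P * R - q + 1) - q * (P - 1) - q * (R - 1)) = 0 := by linear_combination h2'
        rcases mul_eq_zero.1 this with h | h
        · omega
        · linear_combination 2 * h
      have hA : 0 < 2 * (P : ℤ) - q := by linarith
      have hB : 1 ≤ 2 * (R : ℤ) - q := by
        by_contra h
        have := mul_nonpos_of_nonneg_of_nonpos hA.le (show 2 * (R : ℤ) - q ≤ 0 by linarith)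
        nlinarith
      have hPe : P = q - 1 := by
        rcases (show a = 0 ∨ a = 1 ∨ 2 ≤ a by omega) with rfl | rfl | ha2
        · simp at ha; omega
        · rw [ha, pow_one, hpq]
        · exfalso
          have h' : p ^ 2 ≤ P := ha ▸ Nat.pow_le_pow_right hp.pos ha2
          have h'' : ((q : ℤ) - 1) ^ 2 ≤ P := by
            have : ((p : ℤ)) = q - 1 := by omega
            rw [← this]; exact_mod_cast h'
          nlinarith
      refine ⟨hPe, ?_⟩
      have hPz : (P : ℤ) = q - 1 := by omega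
      rw [hPz] at key
      have h3 : ((q : ℤ) - 2) * (2 * R - q - (q + 2)) = 0 := by linear_combination key
      rcases mul_eq_zero.1 h3 with h | h <;> omega
  obtain ⟨hPe, hRe⟩ := hPR
  obtain ⟨b, hb⟩ := IsPGroup.iff_card.1 Qr.2
  change R = r ^ b at hb
  by_cases hk22 : k = 2
  · rw [hG, hPe, hRe, hk, hk22]; norm_num
  exfalso
  have hpodd : Odd k := by
    by_contra he
    obtain ⟨j, rfl⟩ := Nat.not_odd_iff_even.1 he
    have h3 : 3 ∣ p := by
      rw [← hpq, hk, ← two_mul, pow_mul]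
      have : (2 ^ 2) ^ j % 3 = 1 := by rw [Nat.pow_mod]; norm_num
      omega
    have hp3 := ((Nat.prime_dvd_prime_iff_eq Nat.prime_three hp).1 h3).symm
    have : 2 ^ (j + j) = 4 := by omega
    have := Nat.pow_right_injective le_rfl (show 2 ^ (j + j) = 2 ^ 2 by omega)
    omega
  obtain ⟨j, hj⟩ := hpodd
  have h3R : 3 ∣ R := by
    rw [hRe, hk, hj, pow_succ, pow_mul]
    have : (2 ^ 2) ^ j % 3 = 1 := by rw [Nat.pow_mod]; norm_num
    omega
  have hr3 : r = 3 := ((Nat.prime_dvd_prime_iff_eq Nat.prime_three hr).1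
    (Nat.prime_three.dvd_of_dvd_pow (hb ▸ h3R))).symm
  have hq8 : q = 8 := by
    have h1 : 3 ^ b = 2 ^ k + 1 := by rw [← hr3, ← hb, hRe, hk]
    have h8 : 8 ∣ 2 ^ k := (pow_dvd_pow 2 (show 3 ≤ k by omega) : 2 ^ 3 ∣ 2 ^ k)
    obtain ⟨c, rfl⟩ : ∃ c, b = c + c := by
      rcases Nat.even_or_odd b with ⟨c, hc⟩ | ⟨c, hc⟩
      · exact ⟨c, hc⟩
      · exfalso
        rw [hc, pow_succ, pow_mul] at h1
        have : (3 ^ 2) ^ c % 8 = 1 := by rw [Nat.pow_mod]; norm_num
        omega
    have hc3 : 1 ≤ 3 ^ c := Nat.one_le_pow _ _ (by norm_num)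
    have hfac : (3 ^ c - 1) * (3 ^ c + 1) = 2 ^ k := by
      rw [pow_add] at h1
      have : (3 ^ c - 1) * (3 ^ c + 1) + 1 = 3 ^ c * 3 ^ c := by
        obtain ⟨y, hy⟩ : ∃ y, 3 ^ c = y + 1 := ⟨3 ^ c - 1, by omega⟩
        rw [hy, Nat.add_sub_cancel]; ring
      omega
    obtain ⟨i, -, hi⟩ := (Nat.dvd_prime_pow Nat.prime_two).1 (Dvd.intro _ hfac : 3 ^ c - 1 ∣ 2 ^ k)
    obtain ⟨l, -, hl⟩ := (Nat.dvd_prime_pow Nat.prime_two).1 (Dvd.intro_left _ hfac : 3 ^ c + 1 ∣ 2 ^ k)
    have hi1 : i ≤ 1 := by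
      by_contra hi1
      have h4 : 4 ∣ 2 ^ i := (pow_dvd_pow 2 (show 2 ≤ i by omega) : 2 ^ 2 ∣ 2 ^ i)
      have h4le := Nat.le_of_dvd (pow_pos two_pos i) h4
      have hl2 : 2 ≤ l := by
        by_contra hl2
        rcases (show l = 0 ∨ l = 1 by omega) with rfl | rfl <;> omega
      have h4' : 4 ∣ 2 ^ l := (pow_dvd_pow 2 hl2 : 2 ^ 2 ∣ 2 ^ l)
      omega
    have hc2 : c = 1 := by
      rcases (show i = 0 ∨ i = 1 by omega) with rfl | rfl
      · rcases Nat.eq_zero_or_pos c with rfl | hc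
        · simp at hi
        · have : 3 ∣ 3 ^ c := dvd_pow_self 3 (by omega)
          omega
      · have : 3 ^ c = 3 ^ 1 := by omega
        exact Nat.pow_right_injective (by norm_num) this
    subst hc2
    norm_num at hfac
    omega
  -- the group of order 504
  have hR9 : R = 9 := by omega
  have hP7 : P = 7 := by omega
  rw [hP7, hR9] at hG
  rw [hq8] at hG
  have hreal : ∃ x t : G, orderOf x = r ∧ orderOf t = 2 ∧ t * x * t⁻¹ = x⁻¹ := by
    rcases hval r hr2 Qr with h | ⟨hre, -⟩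
    · exfalso
      have h2 : (∑ x ∈ Finset.univ.filter (fun x : G => orderOf x = r),
          Nat.card {w : G // orderOf w = 2 ∧ w * x * w⁻¹ = x⁻¹}) = 0 :=
        Finset.sum_eq_zero fun x hx => h x (Finset.mem_filter.1 hx).2
      rw [h2, add_zero, hP7, hR9, hq8] at hpairs
      rcases hterm p hp2 Qp with h1 | h1
      · omega
      · rw [show Nat.card (Qp : Subgroup G) = 7 from hP7] at h1; omega
    · exact hre
  have hE : Nat.card {x : G // orderOf x = r} = 224 := by
    have := card_real H hr hr2 hreal Qr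
    rw [show Nat.card (Qr : Subgroup G) = 9 from hR9, hG] at this
    omega
  -- action on the nine Sylow 2-subgroups
  let X := Sylow 2 G
  have hX : Nat.card X = 9 := by
    have h1 := SN.card_mul_index
    rw [Nat.card_congr (subgroupOfEquivOfLe hSN).toEquiv, hm, show Nat.card (S : Subgroup G) = q from rfl, hq8] at h1
    have h2 := N.card_mul_index
    rw [← h1, hG] at h2
    rw [show Nat.card X = Nat.card (Sylow 2 G) from rfl, S.card_eq_index_normalizer]
    show N.index = 9
    omega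
  have hp7 : p = 7 := by omega
  have hfix3 : ∀ g : G, g ≠ 1 → ∀ R₁ : X, g • R₁ = R₁ → orderOf g ≠ r := by
    intro g hg R₁ hR₁ ho
    obtain ⟨c, hc⟩ := MulAction.exists_smul_eq G S R₁
    have hgN : c⁻¹ * g * c ∈ N := by
      apply Sylow.smul_eq_iff_mem_normalizer.1
      rw [mul_smul, mul_smul, hc, hR₁, ← hc, inv_smul_smul]
    have h3 : orderOf (c⁻¹ * g * c) = r := by
      rw [← ho, show c⁻¹ * g * c = (MulAut.conj c⁻¹) g by simp]
      exact MulEquiv.orderOf_eq _ g
    have := N.orderOf_dvd_natCard hgN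
    have h1 := SN.card_mul_index
    rw [Nat.card_congr (subgroupOfEquivOfLe hSN).toEquiv, hm, show Nat.card (S : Subgroup G) = q from rfl, hq8] at h1
    rw [h3, hr3, ← h1] at this
    omega
  have htwo : ∀ g : G, ∀ R₁ R₂ R₃ : X, R₁ ≠ R₂ → R₁ ≠ R₃ → R₂ ≠ R₃ →
      g • R₁ = R₁ → g • R₂ = R₂ → g • R₃ = R₃ → g = 1 := by
    intro g R₁ R₂ R₃ h12 h13 h23 h1 h2 h3
    by_contra hg
    have ho : orderOf g ∈ (Nat.card G).primeFactors :=
      Nat.mem_primeFactors.2 ⟨H.prime g hg, orderOf_dvd_natCard g, Nat.card_pos.ne'⟩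
    rw [hset] at ho
    simp only [Finset.mem_insert, Finset.mem_singleton] at ho
    rcases ho with ho | ho | ho
    · -- an involution lies in each Sylow subgroup it normalises
      have hin : ∀ R' : X, g • R' = R' → g ∈ (R' : Subgroup G) := by
        intro R' hR'
        have hgp : IsPGroup 2 (zpowers g) := IsPGroup.of_card (n := 1) (by rw [Nat.card_zpowers, ho, pow_one])
        have := R'.is_maximal' (IsPGroup.to_sup_of_normal_right' hgp R'.2
          (zpowers_le.2 (Sylow.smul_eq_iff_mem_normalizer.1 hR'))) le_sup_right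
        exact this ▸ mem_sup_left (mem_zpowers g)
      exact h12 (Sylow.ext (by rw [← hC R₁ g (hin R₁ h1) hg, hC R₂ g (hin R₂ h2) hg]))
    · haveI : Fact (Nat.Prime 7) := ⟨by norm_num⟩
      have hgp : IsPGroup 7 (zpowers g) := IsPGroup.of_card (n := 1) (by rw [Nat.card_zpowers, ho, hp7, pow_one])
      have hmod := hgp.card_modEq_card_fixedPoints (α := X)
      rw [hX] at hmod
      have hmem : ∀ R' : X, g • R' = R' → R' ∈ MulAction.fixedPoints (zpowers g) X := by
        intro R' hR' z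
        have : (z : G) ∈ MulAction.stabilizer G R' := (zpowers_le.2 (show g ∈ MulAction.stabilizer G R' from hR')) z.2
        exact this
      have h3le : 3 ≤ Nat.card (MulAction.fixedPoints (zpowers g) X) := by
        have hsub : ({R₁, R₂, R₃} : Set X) ⊆ MulAction.fixedPoints (zpowers g) X := by
          rintro R' (rfl | rfl | rfl)
          exacts [hmem _ h1, hmem _ h2, hmem _ h3]
        rw [Nat.card_coe_set_eq]
        refine le_trans (le_of_eq ?_) (Set.ncard_le_ncard hsub (Set.toFinite _))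
        rw [Set.ncard_insert_of_notMem (by simp [h12, h13]), Set.ncard_pair h23]
      have hle9 : Nat.card (MulAction.fixedPoints (zpowers g) X) ≤ 9 := hX ▸ Finite.card_subtype_le _
      have h9 : Nat.card (MulAction.fixedPoints (zpowers g) X) = 9 := by
        unfold Nat.ModEq at hmod
        omega
      -- then `g` is in the kernel of the action
      have hall : ∀ R' : X, g • R' = R' := by
        intro R'
        have hinj : Function.Bijective (fun y : MulAction.fixedPoints (zpowers g) X => (y : X)) :=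
          (Nat.bijective_iff_injective_and_card _).2 ⟨Subtype.val_injective, h9.trans hX.symm⟩
        obtain ⟨y, rfl⟩ := hinj.2 R'
        exact y.2 ⟨g, mem_zpowers g⟩
      set K := (MulAction.toPermHom G X).ker
      have hgK : g ∈ K := MonoidHom.mem_ker.2 (Equiv.ext hall)
      rcases (inferInstance : K.Normal).eq_bot_or_eq_top with e | e
      · exact hg (mem_bot.1 (e ▸ hgK))
      · refine hSnn (normalizer_eq_top_iff.1 (eq_top_iff.2 fun c _ => Sylow.smul_eq_iff_mem_normalizer.1 ?_))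
        exact congrArg (fun σ : Equiv.Perm X => σ S) (MonoidHom.mem_ker.1 (show c ∈ K from e ▸ mem_top c))
    · exact hfix3 g hg R₁ h1 ho
  have hinj : Function.Injective (fun u : {x : G // orderOf x = r} × X =>
      ((u.2, u.1.1 • u.2, u.1.1 • (u.1.1 • u.2)) : X × X × X)) := by
    rintro ⟨⟨g, hg⟩, R₁⟩ ⟨⟨h, hh⟩, R₂⟩ e
    simp only [Prod.mk.injEq] at e
    obtain ⟨rfl, e2, e3⟩ := e
    have hg1 : g ≠ 1 := fun e => hr.ne_one (by rw [← hg, e, orderOf_one])
    have hd1 : g • R₁ ≠ R₁ := fun e => hfix3 g hg1 R₁ e hg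
    have hd2 : g • (g • R₁) ≠ g • R₁ := fun e => hd1 (MulAction.injective g e)
    have hg3 : g * g * g = 1 := by rw [← pow_two, ← pow_succ, show (2 + 1) = orderOf g by rw [hg, hr3], pow_orderOf_eq_one]
    have hh3 : h * h * h = 1 := by rw [← pow_two, ← pow_succ, show (2 + 1) = orderOf h by rw [hh, hr3], pow_orderOf_eq_one]
    have hd3 : g • (g • R₁) ≠ R₁ := fun e => hd1 (by
      conv_rhs => rw [← one_smul G R₁, ← hg3, mul_smul, mul_smul]
      rw [e])
    have : g = h := by
      refine (inv_mul_eq_one.1 (htwo (h⁻¹ * g) R₁ (g • R₁) (g • (g • R₁)) hd1.symm hd3.symm hd2.symm ?_ ?_ ?_)).symm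
      · rw [mul_smul, e2, inv_smul_smul]
      · rw [mul_smul, e3, ← e2, inv_smul_smul]
      · rw [mul_smul, inv_smul_eq_iff]
        have h1 : g • (g • (g • R₁)) = R₁ := by rw [smul_smul, smul_smul, hg3, one_smul]
        have h2 : h • (h • (h • R₁)) = R₁ := by rw [smul_smul, smul_smul, hh3, one_smul]
        rw [h1, e3, h2]
    subst this
    rfl
  have := Nat.card_le_card_of_injective _ hinj
  rw [Nat.card_prod, Nat.card_prod, Nat.card_prod, hE, hX] at this
  omega

end CfsgLib.Orders.FourOrbits
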