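import Cfsg.Agent.Lib.Orders.LinearDerivedLength
import Mathlib

/-!
# Derived length of Sylow subgroups of symmetric groups
-/

set_option autoImplicit false
set_option linter.all false

namespace CfsgLib.Orders.SymDerived

open scoped commutatorElement

universe u v

theorem derived_fix {p : ℕ} [hp : Fact p.Prime] :
    ∀ (a : ℕ) (Q : Type u) [Group Q] [Finite Q] (hQ : IsPGroup p Q) (Ω : Type v) [MulAction Q Ω] (x : Ω),
      (MulAction.orbit Q x).ncard < p ^ (a + 1) → ∀ g ∈ derivedSeries Q a, g • x = x := by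
  intro a
  induction a with
  | zero =>
    intro Q _ _ hQ Ω _ x hx g _
    rw [← MulAction.index_stabilizer] at hx
    obtain ⟨i, hi⟩ := hQ.index (MulAction.stabilizer Q x)
    have h0 : i < 1 := (Nat.pow_lt_pow_iff_right hp.out.one_lt).1 (hi ▸ hx)
    have h1 : MulAction.stabilizer Q x = ⊤ := Subgroup.index_eq_one.1 (by rw [hi, show i = 0 by omega, pow_zero])
    exact MulAction.mem_stabilizer_iff.1 (h1.ge (Subgroup.mem_top g))
  | succ a ih =>
    intro Q _ _ hQ Ω _ x hx
    by_cases hsmall : (MulAction.orbit Q x).ncard < p ^ (a + 1)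
    · exact fun g hg => ih Q hQ Ω x hsmall g (derivedSeries_antitone Q (Nat.le_succ a) hg)
    set S := MulAction.stabilizer Q x
    have hS : S ≠ ⊤ := fun h => hsmall (by
      rw [← MulAction.index_stabilizer, show MulAction.stabilizer Q x = ⊤ from h, Subgroup.index_top]
      exact Nat.one_lt_pow (by omega) hp.out.one_lt)
    obtain ⟨M, hM, hSM⟩ := (eq_top_or_exists_le_coatom S).resolve_left hS
    haveI := hQ.isNilpotent
    haveI hMn : M.Normal := Subgroup.NormalizerCondition.normal_of_coatom M Group.normalizerCondition_of_isNilpotent hM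
    obtain ⟨i, hi⟩ := hQ.index M
    have hi0 : i ≠ 0 := fun e => hM.1 (Subgroup.index_eq_one.1 (by rw [hi, e, pow_zero]))
    have hd1 : derivedSeries Q 1 ≤ M := by
      haveI : IsSimpleGroup (Q ⧸ M) := by
        haveI : Nontrivial (Q ⧸ M) := QuotientGroup.nontrivial_iff.2 hM.1
        refine IsSimpleGroup.mk fun N hN => ?_
        by_cases h : N.comap (QuotientGroup.mk' M) = M
        · left
          rw [Subgroup.eq_bot_iff_forall]
          intro y hy
          obtain ⟨y, rfl⟩ := QuotientGroup.mk'_surjective M y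
          exact (QuotientGroup.eq_one_iff y).2 (h.le hy)
        · right
          have h2 := hM.2 _ (lt_of_le_of_ne (fun m hm => by
            show QuotientGroup.mk' M m ∈ N
            rw [show QuotientGroup.mk' M m = 1 from (QuotientGroup.eq_one_iff m).2 hm]; exact one_mem _) (Ne.symm h))
          rw [eq_top_iff]
          intro y _
          obtain ⟨y, rfl⟩ := QuotientGroup.mk'_surjective M y
          exact h2.ge (Subgroup.mem_top y)
      have hc := IsSimpleGroup.comm_iff_isSolvable.2 (inferInstance : Group.IsSolvable (Q ⧸ M))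
      rw [derivedSeries_one, commutator_def, Subgroup.commutator_le]
      intro y _ z _
      refine (QuotientGroup.eq_one_iff _).1 ?_
      show QuotientGroup.mk' M ⁅y, z⁆ = 1
      rw [map_commutatorElement, commutatorElement_eq_one_iff_mul_comm]
      exact hc _ _
    have horb : (MulAction.orbit M x).ncard < p ^ (a + 1) := by
      have e1 := MulAction.index_stabilizer (↥M) x
      have e2 : (MulAction.stabilizer (↥M) x).index = S.relIndex M := rfl
      have e3 := Subgroup.relIndex_mul_index hSM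
      rw [← MulAction.index_stabilizer, ← e3, hi] at hx
      rw [← e1, e2]
      refine lt_of_not_ge fun hge => not_le.2 hx ?_
      rw [pow_succ p (a + 1)]
      exact Nat.mul_le_mul hge (Nat.le_self_pow hi0 p)
    intro g hg
    obtain ⟨m, hm, rfl⟩ := LinearDerived.derivedSeries_add_le M hd1 a hg
    exact ih M (hQ.to_subgroup M) Ω x horb m hm

open RegularWreathProduct in
theorem lift_derived {D C : Type u} [Group D] [Group C] [DecidableEq C] {t : C} (ht : t ≠ 1) :
    ∀ j : ℕ, ∀ d ∈ derivedSeries D j, ∃ w ∈ derivedSeries (D ≀ᵣ C) (j + 1), w.right = 1 ∧ w.left 1 = d := by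
  intro j
  induction j with
  | zero =>
    intro d _
    refine ⟨⁅(⟨Pi.mulSingle 1 d, 1⟩ : D ≀ᵣ C), ⟨1, t⟩⁆, ?_, ?_, ?_⟩
    · rw [derivedSeries_one]
      exact Subgroup.commutator_mem_commutator (Subgroup.mem_top _) (Subgroup.mem_top _)
    · simp [commutatorElement_def]
    · simp [commutatorElement_def, Pi.mulSingle_apply, ht]
  | succ j ih =>
    let T : Subgroup D :=
      { carrier := {d | ∃ w ∈ derivedSeries (D ≀ᵣ C) (j + 1 + 1), w.right = 1 ∧ w.left 1 = d}
        one_mem' := ⟨1, one_mem _, rfl, rfl⟩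
        mul_mem' := by
          rintro a b ⟨v, hv, hv1, rfl⟩ ⟨w, hw, hw1, rfl⟩
          exact ⟨v * w, mul_mem hv hw, by simp [hv1, hw1], by simp [hv1]⟩
        inv_mem' := by
          rintro a ⟨v, hv, hv1, rfl⟩
          exact ⟨v⁻¹, inv_mem hv, by simp [hv1], by simp [hv1]⟩ }
    have hle : derivedSeries D (j + 1) ≤ T := by
      rw [derivedSeries_succ, Subgroup.commutator_le]
      intro a ha b hb
      obtain ⟨v, hv, hv1, rfl⟩ := ih a ha
      obtain ⟨w, hw, hw1, rfl⟩ := ih b hb
      refine ⟨⁅v, w⁆, ?_, by simp [commutatorElement_def, hv1, hw1], by simp [commutatorElement_def, hv1, hw1]⟩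
      rw [derivedSeries_succ (D ≀ᵣ C) (j + 1)]
      exact Subgroup.commutator_mem_commutator hv hw
    exact fun d hd => hle hd

theorem exists_tower (p : ℕ) [hp : Fact p.Prime] : ∀ k : ℕ,
    ∃ (W : Type) (_ : Group W) (_ : Finite W) (f : W →* Equiv.Perm (Fin (p ^ k))),
      Function.Injective f ∧ IsPGroup p W ∧ (1 ≤ k → derivedSeries W (k - 1) ≠ ⊥) := by
  intro k
  induction k with
  | zero =>
    refine ⟨(⊥ : Subgroup (Equiv.Perm (Fin (p ^ 0)))), inferInstance, inferInstance, Subgroup.subtype _, Subgroup.subtype_injective _, ?_, by omega⟩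
    exact IsPGroup.of_bot
  | succ k ih =>
    obtain ⟨D, hD, hDf, f, hf, hDp, hder⟩ := ih
    let C := Multiplicative (ZMod p)
    have hCc : Nat.card C = p := by rw [Nat.card_congr Multiplicative.toAdd, Nat.card_zmod]
    haveI : Nonempty (Fin (p ^ k)) := ⟨⟨0, pow_pos hp.out.pos k⟩⟩
    letI : MulAction D (Fin (p ^ k)) := MulAction.compHom (Fin (p ^ k)) f
    haveI : FaithfulSMul D (Fin (p ^ k)) := ⟨fun h => hf (Equiv.ext h)⟩
    let e : Fin (p ^ k) × C ≃ Fin (p ^ (k + 1)) := (Finite.equivFinOfCardEq (by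
      rw [Nat.card_prod, Nat.card_fin, hCc, pow_succ]))
    refine ⟨D ≀ᵣ C, inferInstance, inferInstance, e.permCongrHom.toMonoidHom.comp (RegularWreathProduct.toPerm D C (Fin (p ^ k))),
      e.permCongrHom.injective.comp (RegularWreathProduct.toPermInj D C _), ?_, fun _ => ?_⟩
    · obtain ⟨m, hm⟩ := IsPGroup.iff_card.1 hDp
      exact IsPGroup.of_card (n := m * p + 1) (by rw [RegularWreathProduct.card, hCc, hm, ← pow_mul, pow_succ])
    · haveI : Nontrivial C := Finite.one_lt_card_iff_nontrivial.1 (hCc.symm ▸ hp.out.one_lt)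
      obtain ⟨t, ht⟩ := exists_ne (1 : C)
      rw [Nat.add_sub_cancel]
      rcases Nat.eq_zero_or_pos k with rfl | hk
      · intro h
        have h1 : (⟨1, t⟩ : D ≀ᵣ C) ∈ (⊥ : Subgroup (D ≀ᵣ C)) := h ▸ Subgroup.mem_top _
        exact ht (congrArg RegularWreathProduct.right (Subgroup.mem_bot.1 h1))
      · intro h
        refine hder hk ((Subgroup.eq_bot_iff_forall _).2 fun d hd => ?_)
        classical
        obtain ⟨w, hw, -, rfl⟩ := lift_derived ht (k - 1) d hd
        rw [show k - 1 + 1 = k by omega, h, Subgroup.mem_bot] at hw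
        rw [hw]; rfl

theorem derivedLength_sylow (p : ℕ) [hp : Fact p.Prime] (n : ℕ) (hn : 1 ≤ n) (P : Sylow p (Equiv.Perm (Fin n))) :
    derivedSeries ↥(P : Subgroup (Equiv.Perm (Fin n))) (Nat.log p n) = ⊥ ∧
      (1 ≤ Nat.log p n → derivedSeries ↥(P : Subgroup (Equiv.Perm (Fin n))) (Nat.log p n - 1) ≠ ⊥) := by
  constructor
  · rw [eq_bot_iff]
    intro g hg
    rw [Subgroup.mem_bot]
    refine Subtype.ext (Equiv.ext fun x => ?_)
    have h := derived_fix (Nat.log p n) (P : Subgroup (Equiv.Perm (Fin n))) P.isPGroup' (Fin n) x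
      (lt_of_le_of_lt ((Set.ncard_le_ncard (Set.subset_univ _)).trans_eq (by rw [Set.ncard_univ, Nat.card_fin]))
        (Nat.lt_pow_succ_log_self hp.out.one_lt n)) g hg
    exact h
  · intro hk h
    obtain ⟨W, hW, hWf, f, hf, hWp, hder⟩ := exists_tower p (Nat.log p n)
    let ι : Fin (p ^ Nat.log p n) ↪ Fin n := (Fin.castLEEmb (Nat.pow_log_le_self p (by omega)))
    let φ : W →* Equiv.Perm (Fin n) := (Equiv.Perm.viaEmbeddingHom ι).comp f
    have hφ : Function.Injective φ := (Equiv.Perm.viaEmbeddingHom_injective ι).comp hf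
    obtain ⟨Q, hQ⟩ := (IsPGroup.of_equiv hWp (MonoidHom.ofInjective hφ)).exists_le_sylow
    let ψ : W →* (P : Subgroup (Equiv.Perm (Fin n))) :=
      (Q.equiv P).toMonoidHom.comp ((Subgroup.inclusion hQ).comp φ.rangeRestrict)
    have hψ : Function.Injective ψ := (Q.equiv P).injective.comp ((Subgroup.inclusion_injective hQ).comp
      (fun a b e => hφ (congrArg Subtype.val e)))
    refine hder hk ?_
    have := map_derivedSeries_le_derivedSeries ψ (Nat.log p n - 1)
    rwa [h, le_bot_iff, Subgroup.map_eq_bot_iff_of_injective _ hψ] at this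

end CfsgLib.Orders.SymDerived
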