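import Cfsg.Agent.Lib.Orders.LinearDerivedLength
import Cfsg.Agent.Lib.Orders.SymmetricSylowDerived
import Mathlib

/-!
# Derived length of Sylow subgroups of general linear groups in cross characteristic
-/

set_option autoImplicit false
set_option linter.all false

namespace CfsgLib.Orders.GLDerived

open Module LinearDerived
open scoped commutatorElement

universe u v w

section

variable {k : Type v} [Field k]

theorem derived_le_ker_of_pow [IsAlgClosed k] {p : ℕ} [hp : Fact p.Prime] (hpk : (p : k) ≠ 0) :
    ∀ (n : ℕ) (P : Type u) [Group P] [Finite P] (hP : IsPGroup p P) (V : Type w) [AddCommGroup V] [Module k V]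
      [FiniteDimensional k V] (ρ : P →* Module.End k V) (j : ℕ), finrank k V = n → n < p ^ j →
      ∀ g ∈ derivedSeries P j, ρ g = 1 := by
  intro n
  induction n using Nat.strong_induction_on with
  | _ n ih =>
  intro P _ _ hP V _ _ _ ρ j hV hj
  rcases Nat.eq_zero_or_pos n with hn | hn
  · haveI : Subsingleton V := Module.finrank_zero_iff.1 (hV.trans hn)
    exact fun g _ => LinearMap.ext fun x => Subsingleton.elim _ _
  refine le_ker_of_faithful hP ρ j fun {Q} _ _ hQ σ hσ => ?_
  obtain ⟨i, rfl⟩ : ∃ i, j = i + 1 := ⟨j - 1, by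
    rcases Nat.eq_zero_or_pos j with h0 | h0
    · rw [h0] at hj; simp at hj; omega
    · omega⟩
  haveI : Nontrivial V := Module.nontrivial_of_finrank_pos (R := k) (by omega)
  have hdiag : ∀ a : Q, ⨆ μ : k, (σ a).eigenspace μ = ⊤ := fun a => by
    obtain ⟨e, he⟩ := hQ a
    refine iSup_eigenspace_eq_top_of_pow (σ a) (m := p ^ e) ?_ (by rw [← map_pow, he, map_one])
    rw [Nat.cast_pow]
    exact pow_ne_zero _ hpk
  -- it suffices to act trivially on a spanning family of invariant subspaces
  have hres : ∀ (M : Subgroup Q) (W : Submodule k V) (l : ℕ), (∀ g ∈ M, ∀ x ∈ W, σ g x ∈ W) → finrank k W < n →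
      finrank k W < p ^ l → ∀ g ∈ (derivedSeries M l).map M.subtype, ∀ x ∈ W, σ g x = x := by
    rintro M W l hinv hWn hWl _ ⟨g, hg, rfl⟩ x hx
    let τ : M →* Module.End k W :=
      { toFun := fun g => (σ (g : Q)).restrict (hinv g g.2)
        map_one' := by ext x; simp [LinearMap.restrict_apply]
        map_mul' := fun a b => by ext x; simp [LinearMap.restrict_apply, map_mul] }
    exact congrArg Subtype.val (LinearMap.congr_fun (ih _ hWn M (hQ.to_subgroup M) W τ l rfl hWl g hg) ⟨x, hx⟩)
  have hone : ∀ (a : Q), (∀ g, (∀ μ : k, ∀ x ∈ (σ a).eigenspace μ, σ g x = x) → g = 1) := fun a g hg => by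
    refine hσ ((LinearMap.ext fun x => ?_).trans (map_one σ).symm)
    have hle : (⨆ μ : k, (σ a).eigenspace μ) ≤ LinearMap.eqLocus (σ g) (1 : Module.End k V) :=
      iSup_le fun μ y hy => LinearMap.mem_eqLocus.2 (by simpa using hg μ y hy)
    exact LinearMap.mem_eqLocus.1 (hle ((hdiag a).ge Submodule.mem_top))
  by_cases hscal : ∀ z ∈ Subgroup.center Q, ∃ c : k, ∀ x, σ z x = c • x
  swap
  · push Not at hscal
    obtain ⟨z, hz, hzs⟩ := hscal
    rw [eq_bot_iff]
    intro g hg
    rw [Subgroup.mem_bot]
    refine hone z g fun μ => ?_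
    have hlt : finrank k ((σ z).eigenspace μ) < n := by
      rw [← hV]
      refine Submodule.finrank_lt fun htop => ?_
      obtain ⟨x, hx⟩ := hzs μ
      exact hx (Module.End.mem_eigenspace_iff.1 (htop ▸ Submodule.mem_top))
    have h := hres ⊤ ((σ z).eigenspace μ) (i + 1)
      (fun g _ => eigenspace_inv ((show Commute z g from (Subgroup.mem_center_iff.1 hz g).symm).map σ) μ) hlt
      (hlt.trans hj)
    refine h g ?_
    have hs := Subgroup.topEquiv (G := Q)
    have h1 := map_derivedSeries_eq (f := (Subgroup.topEquiv (G := Q)).toMonoidHom) (Subgroup.topEquiv (G := Q)).surjective (i + 1)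
    exact h1.symm ▸ hg
  by_cases hab : ∀ a b : Q, a * b = b * a
  · rw [eq_bot_iff]
    refine (derivedSeries_antitone Q (Nat.le_add_left 1 i)).trans ?_
    rw [derivedSeries_one, commutator_def, Subgroup.commutator_le]
    intro a _ b _
    rw [Subgroup.mem_bot, commutatorElement_eq_one_iff_mul_comm]
    exact hab a b
  haveI : Nontrivial (Q ⧸ Subgroup.center Q) := QuotientGroup.nontrivial_iff.2 fun h => hab fun a b =>
    Subgroup.mem_center_iff.1 (h.ge (Subgroup.mem_top b)) a
  haveI := (hQ.to_quotient (Subgroup.center Q)).center_nontrivial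
  obtain ⟨⟨a', ha'⟩, ha1⟩ := exists_ne (1 : Subgroup.center (Q ⧸ Subgroup.center Q))
  obtain ⟨a, rfl⟩ := QuotientGroup.mk'_surjective _ a'
  have hcen : ∀ g : Q, ⁅g, a⁆ ∈ Subgroup.center Q := fun g => (QuotientGroup.eq_one_iff _).1 (by
    show QuotientGroup.mk' (Subgroup.center Q) ⁅g, a⁆ = 1
    rw [map_commutatorElement, commutatorElement_eq_one_iff_mul_comm]
    exact Subgroup.mem_center_iff.1 ha' _)
  let φ : Q →* Q := MonoidHom.mk' (fun g => ⁅g, a⁆) fun x y => CfsgLib.PGroups.comm_mul_left_of_central (hcen y)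
  obtain ⟨g₀, hg₀⟩ : ∃ g, ⁅g, a⁆ ≠ 1 := by
    by_contra h
    push Not at h
    refine ha1 (Subtype.ext ((QuotientGroup.eq_one_iff a).2 (Subgroup.mem_center_iff.2 fun g => ?_)))
    exact commutatorElement_eq_one_iff_mul_comm.1 (h g)
  have hM : derivedSeries Q 1 ≤ φ.ker := by
    rw [derivedSeries_one, commutator_def, Subgroup.commutator_le]
    intro x _ y _
    rw [MonoidHom.mem_ker, map_commutatorElement, commutatorElement_eq_one_iff_mul_comm]
    exact Subgroup.mem_center_iff.1 (hcen y) _
  have h1 := derivedSeries_add_le φ.ker hM i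
  rw [eq_bot_iff]
  intro g hg
  rw [Subgroup.mem_bot]
  refine hone a g fun μ => ?_
  by_cases hbot : (σ a).eigenspace μ = ⊥
  · intro x hx
    rw [hbot, Submodule.mem_bot] at hx
    rw [hx, map_zero]
  obtain ⟨c, hc⟩ := hscal _ (hcen g₀)
  have hc1 : c ≠ 1 := fun e => hg₀ (hσ ((LinearMap.ext fun x => by rw [hc x, e, one_smul]; rfl).trans (map_one σ).symm))
  have hμ : μ ≠ 0 := fun e => hbot (by
    rw [Submodule.eq_bot_iff]
    intro x hx
    rw [Module.End.mem_eigenspace_iff, e, zero_smul] at hx
    have h2 : σ a⁻¹ (σ a x) = x := by rw [← Module.End.mul_apply, ← map_mul, inv_mul_cancel, map_one]; rfl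
    rw [← h2, hx, map_zero])
  -- `g₀⁻¹` moves the eigenspace around an orbit of at least `p` eigenvalues
  set W := (σ a).eigenspace μ
  let t : V ≃ₗ[k] V :=
    { σ g₀⁻¹ with
      invFun := σ g₀
      left_inv := fun x => by
        show σ g₀ (σ g₀⁻¹ x) = x
        rw [← Module.End.mul_apply, ← map_mul, mul_inv_cancel, map_one]; rfl
      right_inv := fun x => by
        show σ g₀⁻¹ (σ g₀ x) = x
        rw [← Module.End.mul_apply, ← map_mul, inv_mul_cancel, map_one]; rfl }
  have hstep : ∀ (ν : k), ∀ x ∈ (σ a).eigenspace ν, t x ∈ (σ a).eigenspace (c * ν) := by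
    intro ν x hx
    rw [Module.End.mem_eigenspace_iff]
    show σ a (σ g₀⁻¹ x) = (c * ν) • σ g₀⁻¹ x
    have e : a * g₀⁻¹ = g₀⁻¹ * ⁅g₀, a⁆ * a := by rw [commutatorElement_def]; group
    have hx' : σ a x = ν • x := Module.End.mem_eigenspace_iff.1 hx
    rw [← Module.End.mul_apply, ← map_mul, e, map_mul, map_mul, Module.End.mul_apply, Module.End.mul_apply, hx',
      hc, smul_smul, map_smul]
  have hcp : ∃ e : ℕ, c ^ p ^ e = 1 := by
    obtain ⟨e, he⟩ := hQ ⁅g₀, a⁆
    refine ⟨e, ?_⟩
    obtain ⟨x, hx⟩ := exists_ne (0 : V)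
    have h2 : ∀ r : ℕ, σ (⁅g₀, a⁆ ^ r) x = c ^ r • x := fun r => by
      induction r with
      | zero => simp
      | succ r ihr => rw [pow_succ', map_mul, Module.End.mul_apply, ihr, hc, smul_smul, ← pow_succ']
    have h3 := h2 (p ^ e)
    rw [he, map_one, Module.End.one_apply] at h3
    exact (smul_left_injective k hx (h3.symm.trans (one_smul k x).symm) :)
  have hord : ∀ i j : ℕ, i < p → j < p → c ^ i = c ^ j → i = j := by
    have key : ∀ d : ℕ, d ≠ 0 → d < p → c ^ d ≠ 1 := fun d hd0 hd hcd => by
      obtain ⟨e, he⟩ := hcp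
      have hco : d.Coprime (p ^ e) := ((hp.out.coprime_iff_not_dvd.2 fun h => not_le.2 hd (Nat.le_of_dvd (by omega) h)).pow_left e).symm
      exact hc1 (orderOf_eq_one_iff.1 (Nat.eq_one_of_dvd_coprimes hco (orderOf_dvd_of_pow_eq_one hcd) (orderOf_dvd_of_pow_eq_one he)))
    have hc0 : c ≠ 0 := fun e => by
      obtain ⟨d, hd⟩ := hcp
      rw [e, zero_pow (pow_ne_zero d hp.out.ne_zero)] at hd
      exact zero_ne_one hd
    intro i j hi hj hij
    rcases lt_trichotomy i j with h | h | h
    · exact absurd (mul_left_cancel₀ (pow_ne_zero i hc0) (by rw [← pow_add, mul_one, Nat.add_sub_cancel' h.le, hij])) (key (j - i) (by omega) (by omega))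
    · exact h
    · exact absurd (mul_left_cancel₀ (pow_ne_zero j hc0) (by rw [← pow_add, mul_one, Nat.add_sub_cancel' h.le, hij])) (key (i - j) (by omega) (by omega))
  let E : Fin p → Submodule k V := fun i => (σ a).eigenspace (c ^ i.val * μ)
  have hE : ∀ i : Fin p, finrank k W ≤ finrank k (E i) := by
    have h : ∀ r : ℕ, finrank k W ≤ finrank k ((σ a).eigenspace (c ^ r * μ)) := fun r => by
      induction r with
      | zero => rw [pow_zero, one_mul]
      | succ r ihr =>
        refine ihr.trans ?_
        rw [← LinearEquiv.finrank_map_eq t ((σ a).eigenspace (c ^ r * μ))]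
        refine Submodule.finrank_mono ?_
        rintro _ ⟨x, hx, rfl⟩
        rw [pow_succ', mul_assoc]
        exact hstep _ x hx
    exact fun i => h i.val
  have hind : iSupIndep E := by
    have hinj : Function.Injective fun i : Fin p => c ^ i.val * μ := fun i j h =>
      Fin.ext (hord _ _ i.2 j.2 (mul_right_cancel₀ hμ h))
    exact (Module.End.eigenspaces_iSupIndep (σ a)).comp hinj
  have hsum : ∀ s : Finset (Fin p), s.card * finrank k W ≤ finrank k (s.sup E : Submodule k V) := by
    intro s
    induction s using Finset.induction_on with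
    | empty => simp
    | @insert i s hi ihs =>
      rw [Finset.sup_insert, Finset.card_insert_of_notMem hi, Nat.succ_mul]
      have h2 := Submodule.finrank_sup_add_finrank_inf_eq (E i) (s.sup E)
      rw [((iSupIndep.supIndep' (insert i s) hind) (Finset.subset_insert i s) (Finset.mem_insert_self i s) hi).eq_bot,
        finrank_bot, add_zero] at h2
      rw [h2]
      have := hE i
      omega
  have hdim : p * finrank k W ≤ n := by
    have := (hsum Finset.univ).trans (Submodule.finrank_le _)
    rwa [Finset.card_univ, Fintype.card_fin, hV] at this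
  have h2p := hp.out.two_le
  have hWn : finrank k W < n := by
    have := Nat.mul_le_mul_right (finrank k W) h2p
    omega
  exact hres φ.ker W i (fun g hg => eigenspace_inv
    ((show Commute a g from (commutatorElement_eq_one_iff_mul_comm.1 (MonoidHom.mem_ker.1 hg)).symm).map σ) μ)
    hWn (Nat.lt_of_mul_lt_mul_left (a := p) (lt_of_le_of_lt hdim (hj.trans_eq (pow_succ' p i)))) g (h1 hg)

end

/-- over any field of characteristic prime to `p` -/
theorem derived_le_ker_field {F : Type v} [Field F] {p : ℕ} [Fact p.Prime] (hpF : (p : F) ≠ 0)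
    {Q : Type u} [Group Q] [Finite Q] (hQ : IsPGroup p Q) {V : Type w} [AddCommGroup V] [Module F V] [FiniteDimensional F V]
    (ρ : Q →* Module.End F V) (j : ℕ) (hj : finrank F V < p ^ j) : ∀ g ∈ derivedSeries Q j, ρ g = 1 := by
  classical
  let K := AlgebraicClosure F
  let b := Module.finBasis F V
  let A : Module.End F V ≃ₐ[F] Matrix (Fin (finrank F V)) (Fin (finrank F V)) F := LinearMap.toMatrixAlgEquiv b
  let m : Module.End F V →* Module.End K (Fin (finrank F V) → K) :=
    (((Matrix.toLinAlgEquiv' (R := K) (n := Fin (finrank F V))).toAlgHom.toRingHom.toMonoidHom).comp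
      (algebraMap F K).mapMatrix.toMonoidHom).comp A.toAlgHom.toRingHom.toMonoidHom
  have hm : Function.Injective m := by
    intro a b h
    have h1 := (Matrix.toLinAlgEquiv' (R := K) (n := Fin (finrank F V))).injective h
    exact A.injective (Matrix.map_injective (algebraMap F K).injective h1)
  intro g hg
  refine hm (Eq.trans ?_ (map_one m).symm)
  refine derived_le_ker_of_pow (k := K) ?_ (finrank F V) Q hQ (Fin (finrank F V) → K) (m.comp ρ) j
    (Module.finrank_fin_fun K) hj g hg
  rw [← map_natCast (algebraMap F K)]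
  exact fun h => hpF ((algebraMap F K).injective (h.trans (map_zero _).symm))

theorem commute_aeval {F : Type v} [Field F] {A : Type w} [Ring A] [Algebra F A] {a b : A} (h : Commute a b)
    (P : Polynomial F) : Commute (Polynomial.aeval a P) b := by
  induction P using Polynomial.induction_on' with
  | add r s hr hs => rw [map_add]; exact hr.add_left hs
  | monomial m x =>
    rw [Polynomial.aeval_monomial]
    exact Commute.mul_left (show Commute (algebraMap F A x) b from Algebra.commutes x b) (h.pow_left m)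

/-- over a finite field, the degree is divided by the order of `q` modulo `p` -/
theorem derived_le_ker_finite {F : Type v} [Field F] [Fintype F] {p : ℕ} [hp : Fact p.Prime]
    (hpq : ¬ p ∣ Fintype.card F) :
    ∀ (n : ℕ) (Q : Type u) [Group Q] [Finite Q] (hQ : IsPGroup p Q) (V : Type w) [AddCommGroup V] [Module F V]
      [FiniteDimensional F V] (ρ : Q →* Module.End F V) (j : ℕ), finrank F V = n →
      n / orderOf (Fintype.card F : ZMod p) < p ^ j → ∀ g ∈ derivedSeries Q j, ρ g = 1 := by
  have hpF : (p : F) ≠ 0 := by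
    intro h
    obtain ⟨ℓ, hℓ⟩ := CharP.exists F
    haveI := hℓ
    haveI := Fact.mk (CharP.char_is_prime F ℓ)
    obtain ⟨r, -, hr⟩ := FiniteField.card F ℓ
    have hd := (CharP.cast_eq_zero_iff F ℓ p).1 h
    rw [(Nat.prime_dvd_prime_iff_eq (CharP.char_is_prime F ℓ) hp.out).1 hd] at hr
    exact hpq (hr ▸ dvd_pow_self p r.ne_zero)
  intro n
  induction n using Nat.strong_induction_on with
  | _ n ih =>
  intro Q _ _ hQ V _ _ _ ρ j hV hj
  classical
  refine le_ker_of_faithful hQ ρ j fun {R} _ _ hR σ hσ => ?_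
  by_cases hR1 : Subsingleton R
  · exact Subsingleton.elim _ _
  rw [not_subsingleton_iff_nontrivial] at hR1
  haveI := hR.center_nontrivial
  obtain ⟨c, hc⟩ := IsPGroup.iff_card.1 (hR.to_subgroup (Subgroup.center R))
  have hdvd : p ∣ Nat.card (Subgroup.center R) := by
    rw [hc]; refine dvd_pow_self p fun e => ?_
    rw [e, pow_zero] at hc
    exact (Finite.one_lt_card (α := Subgroup.center R)).ne' hc
  obtain ⟨⟨z, hzc⟩, hz⟩ := exists_prime_orderOf_dvd_card' p hdvd
  rw [Subgroup.orderOf_mk] at hz
  set f := σ z with hf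
  have hfp : f ^ p = 1 := by rw [hf, ← map_pow, ← hz, pow_orderOf_eq_one, map_one]
  have hf1 : f ≠ 1 := fun h => hp.out.one_lt.ne (by rw [← hz, hσ (h.trans (map_one σ).symm), orderOf_one])
  have hcomm : ∀ (P : Polynomial F) (g : R), Commute (Polynomial.aeval f P) (σ g) := fun P g =>
    commute_aeval ((show Commute z g from (Subgroup.mem_center_iff.1 hzc g).symm).map σ) P
  have hann : Polynomial.aeval f (Polynomial.X ^ p - Polynomial.C (1 : F)) = 0 := by simp [hfp]
  set M := minpoly F f
  have hMd : M ∣ Polynomial.X ^ p - Polynomial.C (1 : F) := minpoly.dvd F f hann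
  have hint : IsIntegral F f := IsIntegral.of_finite F f
  have hsq : Squarefree M := ((Polynomial.separable_X_pow_sub_C 1 hpF one_ne_zero).squarefree).squarefree_of_dvd hMd
  by_cases hirr : Irreducible M
  · -- a field acts
    haveI := Fact.mk hirr
    let φ : AdjoinRoot M →+* Module.End F V := Ideal.Quotient.lift _ (Polynomial.aeval f).toRingHom (fun a ha => by
      obtain ⟨b, rfl⟩ := Ideal.mem_span_singleton.1 ha
      show Polynomial.aeval f (M * b) = 0
      rw [map_mul, minpoly.aeval, zero_mul])
    have hφ : ∀ P, φ (AdjoinRoot.mk M P) = Polynomial.aeval f P := fun P => rfl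
    haveI : Module.Finite F (AdjoinRoot M) := (AdjoinRoot.powerBasis hirr.ne_zero).finite
    haveI : Finite (AdjoinRoot M) := Module.finite_of_finite F
    letI : Module (AdjoinRoot M) V := Module.compHom V φ
    haveI : IsScalarTower F (AdjoinRoot M) V := ⟨fun x l v => by
      show φ (x • l) v = x • φ l v
      obtain ⟨P, rfl⟩ := AdjoinRoot.mk_surjective l
      rw [AdjoinRoot.smul_mk, hφ, hφ, map_smul, LinearMap.smul_apply]⟩
    haveI : Module.Finite (AdjoinRoot M) V := Module.Finite.of_restrictScalars_finite F _ _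
    have hpL : (p : AdjoinRoot M) ≠ 0 := by
      rw [← map_natCast (algebraMap F (AdjoinRoot M))]
      exact fun h => hpF ((algebraMap F (AdjoinRoot M)).injective (h.trans (map_zero _).symm))
    set r := AdjoinRoot.root M
    have hr1 : r ≠ 1 := fun h => hf1 (by
      have := congrArg φ h
      rwa [map_one, show r = AdjoinRoot.mk M Polynomial.X from AdjoinRoot.mk_X.symm, hφ, Polynomial.aeval_X] at this)
    have hrp : r ^ p = 1 := by
      have h1 : AdjoinRoot.mk M (Polynomial.X ^ p - Polynomial.C (1 : F)) = 0 := AdjoinRoot.mk_eq_zero.2 hMd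
      rwa [map_sub, map_pow, AdjoinRoot.mk_X, AdjoinRoot.mk_C, map_one, sub_eq_zero] at h1
    let ru : (AdjoinRoot M)ˣ := Units.mk0 r fun h => by
      rw [h, zero_pow hp.out.ne_zero] at hrp; exact zero_ne_one hrp
    have hru : orderOf ru = p := orderOf_eq_prime (Units.ext (by simpa [ru] using hrp))
      fun h => hr1 (congrArg Units.val h)
    have hcard : p ∣ Fintype.card F ^ finrank F (AdjoinRoot M) - 1 := by
      rw [← Nat.card_eq_fintype_card, ← Module.natCard_eq_pow_finrank, ← hru, ← Nat.card_units]
      exact orderOf_dvd_natCard ru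
    have he : orderOf (Fintype.card F : ZMod p) ∣ finrank F (AdjoinRoot M) := by
      refine orderOf_dvd_of_pow_eq_one ?_
      rw [← Nat.cast_pow, ← sub_eq_zero, ← Nat.cast_one, ← Nat.cast_sub (Nat.one_le_pow _ _ Fintype.card_pos),
        ZMod.natCast_eq_zero_iff]
      exact hcard
    have hd : 0 < finrank F (AdjoinRoot M) := Module.finrank_pos
    have he0 : 0 < orderOf (Fintype.card F : ZMod p) := Nat.pos_of_dvd_of_pos he hd
    have hdim : finrank (AdjoinRoot M) V < p ^ j := by
      refine lt_of_le_of_lt ((Nat.le_div_iff_mul_le he0).2 ?_) hj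
      rw [← hV, ← Module.finrank_mul_finrank F (AdjoinRoot M) V, mul_comm (finrank F (AdjoinRoot M))]
      exact Nat.mul_le_mul_left _ (Nat.le_of_dvd hd he)
    let τ : R →* Module.End (AdjoinRoot M) V :=
      { toFun := fun g =>
          { toFun := fun v => σ g v
            map_add' := fun x y => map_add _ x y
            map_smul' := fun l v => by
              obtain ⟨P, rfl⟩ := AdjoinRoot.mk_surjective l
              show σ g (φ (AdjoinRoot.mk M P) v) = φ (AdjoinRoot.mk M P) (σ g v)
              rw [hφ, ← Module.End.mul_apply, ← Module.End.mul_apply, (hcomm P g).eq] }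
        map_one' := LinearMap.ext fun v => by show σ 1 v = v; rw [map_one]; rfl
        map_mul' := fun a b => LinearMap.ext fun v => by
          show σ (a * b) v = σ a (σ b v)
          rw [map_mul]; rfl }
    rw [Subgroup.eq_bot_iff_forall]
    intro g hg
    refine hσ ((LinearMap.ext fun v => ?_).trans (map_one σ).symm)
    exact LinearMap.congr_fun (derived_le_ker_field hpL hR τ j hdim g hg) v
  · -- split off a proper invariant subspace
    haveI : Nontrivial V := by
      by_contra hn
      rw [not_nontrivial_iff_subsingleton] at hn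
      exact hf1 (LinearMap.ext fun x => Subsingleton.elim _ _)
    have hM0 : M ≠ 0 := minpoly.ne_zero hint
    obtain ⟨g, hg, hgM⟩ := WfDvdMonoid.exists_irreducible_factor (minpoly.not_isUnit F f) hM0
    obtain ⟨h, hgh⟩ := hgM
    change M = g * h at hgh
    have hh : ¬ IsUnit h := fun hu => hirr (hgh.symm ▸ (associated_mul_unit_right g h hu).irreducible hg)
    have hcop : IsCoprime g h := (hg.coprime_iff_not_dvd).2 fun hd =>
      hg.not_isUnit (hsq g (by rw [hgh]; exact mul_dvd_mul_left g hd))
    have hh0 : h ≠ 0 := fun e => hM0 (by rw [hgh, e, mul_zero])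
    have hnot : ∀ P : Polynomial F, P ≠ 0 → P.natDegree < M.natDegree → LinearMap.ker (Polynomial.aeval f P) ≠ ⊤ := by
      intro P hP hdeg htop
      have h0 : Polynomial.aeval f P = 0 := LinearMap.ker_eq_top.1 htop
      exact not_le.2 hdeg (Polynomial.natDegree_le_of_dvd (minpoly.dvd F f h0) hP)
    have hdeg : M.natDegree = g.natDegree + h.natDegree := by rw [hgh, Polynomial.natDegree_mul hg.ne_zero hh0]
    have hg1 : 0 < g.natDegree := hg.natDegree_pos
    have hh1 : 0 < h.natDegree := Nat.pos_of_ne_zero fun e => hh (by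
      rw [Polynomial.eq_C_of_natDegree_eq_zero e] at hh0 ⊢
      exact Polynomial.isUnit_C.2 (Ne.isUnit fun e' => hh0 (by rw [e', Polynomial.C_0])))
    set W₁ := LinearMap.ker (Polynomial.aeval f g)
    set W₂ := LinearMap.ker (Polynomial.aeval f h)
    have hsup : W₁ ⊔ W₂ = ⊤ := by
      rw [Polynomial.sup_ker_aeval_eq_ker_aeval_mul_of_coprime f hcop, ← hgh, minpoly.aeval, LinearMap.ker_zero]
    have hinv : ∀ (P : Polynomial F) (a : R), ∀ x ∈ LinearMap.ker (Polynomial.aeval f P),
        σ a x ∈ LinearMap.ker (Polynomial.aeval f P) := fun P a x hx => by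
      rw [LinearMap.mem_ker] at hx ⊢
      rw [← Module.End.mul_apply, (hcomm P a).eq, Module.End.mul_apply, hx, map_zero]
    have hfix : ∀ (P : Polynomial F), P ≠ 0 → P.natDegree < M.natDegree →
        ∀ a ∈ derivedSeries R j, ∀ x ∈ LinearMap.ker (Polynomial.aeval f P), σ a x = x := by
      intro P hP hdeg a ha x hx
      set W := LinearMap.ker (Polynomial.aeval f P)
      have hlt : finrank F W < n := hV ▸ Submodule.finrank_lt (hnot P hP hdeg)
      let τ : R →* Module.End F W :=
        { toFun := fun g => (σ g).restrict (hinv P g)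
          map_one' := by ext x; simp [LinearMap.restrict_apply]
          map_mul' := fun a b => by ext x; simp [LinearMap.restrict_apply, map_mul] }
      exact congrArg Subtype.val (LinearMap.congr_fun (ih _ hlt R hR W τ j rfl
        (lt_of_le_of_lt (Nat.div_le_div_right hlt.le) hj) a ha) ⟨x, hx⟩)
    rw [Subgroup.eq_bot_iff_forall]
    intro a ha
    refine hσ ((LinearMap.ext fun v => ?_).trans (map_one σ).symm)
    obtain ⟨x, hx, y, hy, rfl⟩ := Submodule.mem_sup.1 (hsup.ge (Submodule.mem_top (x := v)))
    rw [map_add, map_add, hfix g hg.ne_zero (by omega) a ha x hx, hfix h hh0 (by omega) a ha y hy]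
    rfl

theorem exists_monomial_tower (p : ℕ) [hp : Fact p.Prime] (F : Type v) [Field F] [Fintype F]
    (hpq : ¬ p ∣ Fintype.card F) : ∀ k : ℕ,
    ∃ (W : Type v) (_ : Group W) (_ : Finite W)
      (σ : W →* Module.End F (Fin (orderOf (Fintype.card F : ZMod p) * p ^ k) → F)),
      Function.Injective σ ∧ IsPGroup p W ∧ derivedSeries W k ≠ ⊥ := by
  classical
  set e := orderOf (Fintype.card F : ZMod p) with he
  have hq0 : (Fintype.card F : ZMod p) ≠ 0 := fun h => hpq ((ZMod.natCast_eq_zero_iff _ _).1 h)
  have he0 : 0 < e := Nat.pos_of_dvd_of_pos (ZMod.orderOf_dvd_card_sub_one hq0) (by have := hp.out.two_le; omega)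
  intro k
  induction k with
  | zero =>
    have hd : p ∣ Nat.card (GL (Fin e) F) := by
      rw [Matrix.card_GL_field]
      refine dvd_trans ?_ (Finset.dvd_prod_of_mem _ (Finset.mem_univ (⟨0, he0⟩ : Fin e)))
      rw [pow_zero, ← ZMod.natCast_eq_zero_iff, Nat.cast_sub (Nat.one_le_pow _ _ Fintype.card_pos), Nat.cast_pow,
        Nat.cast_one, sub_eq_zero, he, pow_orderOf_eq_one]
    obtain ⟨y, hy⟩ := exists_prime_orderOf_dvd_card' p hd
    let l : (Fin (e * p ^ 0) → F) ≃ₗ[F] (Fin e → F) := LinearEquiv.ofFinrankEq _ _ (by rw [Module.finrank_fin_fun, Module.finrank_fin_fun, pow_zero, mul_one])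
    let σ : Subgroup.zpowers y →* Module.End F (Fin (e * p ^ 0) → F) :=
      (l.symm.conjAlgEquiv F).toAlgHom.toRingHom.toMonoidHom.comp
        ((Matrix.toLinAlgEquiv' (R := F) (n := Fin e)).toAlgHom.toRingHom.toMonoidHom.comp
          ((Units.coeHom _).comp (Subgroup.zpowers y).subtype))
    refine ⟨Subgroup.zpowers y, inferInstance, inferInstance, σ, ?_, IsPGroup.of_card (n := 1) (by rw [Nat.card_zpowers, hy, pow_one]), ?_⟩
    · exact (l.symm.conjAlgEquiv F).injective.comp ((Matrix.toLinAlgEquiv' (R := F) (n := Fin e)).injective.comp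
        (Units.val_injective.comp Subtype.val_injective))
    · intro h
      have h1 : (⟨y, Subgroup.mem_zpowers y⟩ : Subgroup.zpowers y) ∈ (⊥ : Subgroup (Subgroup.zpowers y)) :=
        h ▸ Subgroup.mem_top _
      rw [show y = 1 from congrArg Subtype.val (Subgroup.mem_bot.1 h1), orderOf_one] at hy
      exact hp.out.one_lt.ne hy
  | succ k ih =>
    obtain ⟨D, hD, hDf, σ, hσ, hDp, hder⟩ := ih
    let C := Multiplicative (ULift.{v} (ZMod p))
    have hCc : Nat.card C = p := by
      rw [Nat.card_congr Multiplicative.toAdd, Nat.card_congr Equiv.ulift, Nat.card_zmod]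
    haveI : Fintype C := Fintype.ofFinite C
    set V := Fin (e * p ^ k) → F
    let Φ : D ≀ᵣ C →* Module.End F (C → V) :=
      { toFun := fun w =>
          { toFun := fun v x => σ (w.left x) (v (w.right⁻¹ * x))
            map_add' := fun a b => funext fun x => by simp
            map_smul' := fun c a => funext fun x => by simp }
        map_one' := LinearMap.ext fun v => funext fun x => by simp
        map_mul' := fun a b => LinearMap.ext fun v => funext fun x => by
          simp [map_mul]
          exact congrArg (fun z => σ (a.left x) (σ (b.left (a.right⁻¹ * x)) (v z))) ((congrArg (· * x) (_root_.mul_inv_rev a.right b.right)).trans (mul_assoc _ _ _)) }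
    let l : (C → V) ≃ₗ[F] (Fin (e * p ^ (k + 1)) → F) := LinearEquiv.ofFinrankEq _ _ (by
      rw [Module.finrank_pi_fintype, Finset.sum_const, Finset.card_univ, Module.finrank_fin_fun, Module.finrank_fin_fun,
        ← Nat.card_eq_fintype_card, hCc, smul_eq_mul, pow_succ]
      ring)
    haveI : Nonempty (Fin (e * p ^ k)) := ⟨⟨0, Nat.mul_pos he0 (pow_pos hp.out.pos k)⟩⟩
    have hΦ : Function.Injective Φ := by
      rw [injective_iff_map_eq_one]
      intro w hw
      have hr : w.right = 1 := by
        by_contra hr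
        obtain ⟨v0, hv0⟩ := exists_ne (0 : V)
        have h1 := congrFun (LinearMap.congr_fun hw (Pi.single 1 v0)) 1
        simp only [Φ, MonoidHom.coe_mk, OneHom.coe_mk, LinearMap.coe_mk, AddHom.coe_mk, Module.End.one_apply,
          mul_one, Pi.single_eq_same] at h1
        rw [Pi.single_eq_of_ne (inv_ne_one.2 hr), map_zero] at h1
        exact hv0 h1.symm
      refine RegularWreathProduct.ext (funext fun x => hσ ((LinearMap.ext fun v => ?_).trans (map_one σ).symm)) hr
      have h1 := congrFun (LinearMap.congr_fun hw (Pi.single x v)) x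
      simpa [Φ, hr] using h1
    let σ' : D ≀ᵣ C →* Module.End F (Fin (e * p ^ (k + 1)) → F) := (l.conjAlgEquiv F).toAlgHom.toRingHom.toMonoidHom.comp Φ
    refine ⟨D ≀ᵣ C, inferInstance, inferInstance, σ', (l.conjAlgEquiv F).injective.comp hΦ, ?_, ?_⟩
    · obtain ⟨m, hm⟩ := IsPGroup.iff_card.1 hDp
      exact IsPGroup.of_card (n := m * p + 1) (by rw [RegularWreathProduct.card, hCc, hm, ← pow_mul, pow_succ])
    · haveI : Nontrivial C := Finite.one_lt_card_iff_nontrivial.1 (hCc.symm ▸ hp.out.one_lt)
      obtain ⟨t, ht⟩ := exists_ne (1 : C)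
      intro h
      refine hder ((Subgroup.eq_bot_iff_forall _).2 fun d hd => ?_)
      obtain ⟨w, hw, -, rfl⟩ := SymDerived.lift_derived ht k d hd
      rw [h, Subgroup.mem_bot] at hw
      rw [hw]; rfl

theorem derived_le_GL {F : Type v} [Field F] [Fintype F] (p : ℕ) [hp : Fact p.Prime] (hpq : ¬ p ∣ Fintype.card F)
    (n : ℕ) (P : Subgroup (Matrix.GeneralLinearGroup (Fin n) F)) (hP : IsPGroup p P) (j : ℕ)
    (hj : n / orderOf (Fintype.card F : ZMod p) < p ^ j) : derivedSeries P j = ⊥ := by
  rw [Subgroup.eq_bot_iff_forall]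
  intro g hg
  let σ : P →* Module.End F (Fin n → F) :=
    (Matrix.toLinAlgEquiv' (R := F) (n := Fin n)).toAlgHom.toRingHom.toMonoidHom.comp ((Units.coeHom _).comp P.subtype)
  have hσ : Function.Injective σ := (Matrix.toLinAlgEquiv' (R := F) (n := Fin n)).injective.comp
    (Units.val_injective.comp Subtype.val_injective)
  exact hσ ((derived_le_ker_finite hpq n P hP (Fin n → F) σ j (Module.finrank_fin_fun F) hj g hg).trans (map_one σ).symm)

theorem derivedLength_sylow_GL (p : ℕ) [hp : Fact p.Prime] (F : Type v) [Field F] [Fintype F] (q : ℕ)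
    (hq : Fintype.card F = q) (hpq : ¬ p ∣ q) (n : ℕ) (hn : orderOf (q : ZMod p) ≤ n)
    (P : Sylow p (Matrix.GeneralLinearGroup (Fin n) F)) :
    derivedSeries ↥(P : Subgroup (Matrix.GeneralLinearGroup (Fin n) F)) (Nat.log p (n / orderOf (q : ZMod p)) + 1) = ⊥ ∧
      derivedSeries ↥(P : Subgroup (Matrix.GeneralLinearGroup (Fin n) F)) (Nat.log p (n / orderOf (q : ZMod p))) ≠ ⊥ := by
  classical
  subst hq
  set e := orderOf (Fintype.card F : ZMod p) with he
  refine ⟨derived_le_GL p hpq n _ P.isPGroup' _ (Nat.lt_pow_succ_log_self hp.out.one_lt _), fun h => ?_⟩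
  set k := Nat.log p (n / e)
  have hq0 : (Fintype.card F : ZMod p) ≠ 0 := fun h => hpq ((ZMod.natCast_eq_zero_iff _ _).1 h)
  have he0 : 0 < e := Nat.pos_of_dvd_of_pos (ZMod.orderOf_dvd_card_sub_one hq0) (by have := hp.out.two_le; omega)
  obtain ⟨W, hW, hWf, σ, hσ, hWp, hder⟩ := exists_monomial_tower p F hpq k
  have hm : e * p ^ k ≤ n := by
    refine le_trans (Nat.mul_le_mul_left e (Nat.pow_log_le_self p ?_)) (Nat.mul_div_le n e)
    exact (Nat.div_pos hn he0).ne'
  let l : ((Fin (e * p ^ k) → F) × (Fin (n - e * p ^ k) → F)) ≃ₗ[F] (Fin n → F) := LinearEquiv.ofFinrankEq _ _ (by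
    rw [Module.finrank_prod, Module.finrank_fin_fun, Module.finrank_fin_fun, Module.finrank_fin_fun]; omega)
  let τ : W →* Module.End F ((Fin (e * p ^ k) → F) × (Fin (n - e * p ^ k) → F)) :=
    { toFun := fun w => (σ w).prodMap LinearMap.id
      map_one' := by rw [map_one]; rfl
      map_mul' := fun a b => by rw [map_mul]; rfl }
  have hτ : Function.Injective τ := fun a b hab => hσ (LinearMap.ext fun x => by
    simpa [τ] using congrArg Prod.fst (LinearMap.congr_fun hab (x, 0)))
  let A : W →* Matrix (Fin n) (Fin n) F :=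
    (LinearMap.toMatrixAlgEquiv' (R := F) (n := Fin n)).toAlgHom.toRingHom.toMonoidHom.comp
      ((l.conjAlgEquiv F).toAlgHom.toRingHom.toMonoidHom.comp τ)
  have hA : Function.Injective A := (LinearMap.toMatrixAlgEquiv' (R := F) (n := Fin n)).injective.comp
    ((l.conjAlgEquiv F).injective.comp hτ)
  let φ : W →* Matrix.GeneralLinearGroup (Fin n) F := A.toHomUnits
  have hφ : Function.Injective φ := fun a b hab => hA (congrArg Units.val hab)
  obtain ⟨Q, hQ⟩ := (IsPGroup.of_equiv hWp (MonoidHom.ofInjective hφ)).exists_le_sylow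
  let ψ : W →* (P : Subgroup (Matrix.GeneralLinearGroup (Fin n) F)) :=
    (Q.equiv P).toMonoidHom.comp ((Subgroup.inclusion hQ).comp φ.rangeRestrict)
  have hψ : Function.Injective ψ := (Q.equiv P).injective.comp ((Subgroup.inclusion_injective hQ).comp
    (fun a b e => hφ (congrArg Subtype.val e)))
  refine hder ?_
  have := map_derivedSeries_le_derivedSeries ψ k
  rwa [h, le_bot_iff, Subgroup.map_eq_bot_iff_of_injective _ hψ] at this

end CfsgLib.Orders.GLDerived
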