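import Cfsg.Agent.Lib.Core.Zipper

/-!
# Subgroups generated by conjugates: the join or a unique maximal overgroup

Let `A` be a proper subgroup of a finite group with normal closure the whole group.  Then either the proper
overgroups of `A` generated by their own conjugates of `A` generate the group, or `A` lies in a unique
maximal subgroup.
-/

set_option autoImplicit false
set_option linter.all false

namespace CfsgLib.Orders.UniqueMax

open scoped Pointwise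
open Subgroup CfsgLib.Core

variable {G : Type*} [Group G]

/-- `H` is generated by its conjugates of `A` -/
def Gen (A H : Subgroup G) : Prop :=
  A ≤ H ∧ ∀ T : Subgroup G, T ≤ H → A ≤ T → H ≤ normalizer (T : Set G) → T = H

theorem gen_self (A : Subgroup G) : Gen A A := ⟨le_rfl, fun T h1 h2 _ => le_antisymm h1 h2⟩

theorem gen_iff {A H : Subgroup G} (h : A ≤ H) :
    Gen A H ↔ Subgroup.normalClosure ((A.subgroupOf H : Subgroup H) : Set H) = ⊤ := by
  constructor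
  · intro hg
    set R := Subgroup.normalClosure ((A.subgroupOf H : Subgroup H) : Set H)
    have h1 := hg.2 (R.map H.subtype) (map_subtype_le _)
      (fun a ha => ⟨⟨a, h ha⟩, Subgroup.subset_normalClosure (mem_subgroupOf.2 ha), rfl⟩) ?_
    · rw [eq_top_iff]
      intro x _
      obtain ⟨y, hy, hyx⟩ := h1.ge x.2
      exact (Subtype.ext hyx : y = x) ▸ hy
    · intro x hx
      rw [mem_normalizer_iff_conj_smul_eq]
      ext y
      rw [mem_conj_smul_iff]
      constructor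
      · rintro ⟨z, hz, hzy⟩
        refine ⟨⟨x, hx⟩ * z * (⟨x, hx⟩ : H)⁻¹, (inferInstance : R.Normal).conj_mem z hz _, ?_⟩
        show x * (z : G) * x⁻¹ = y
        rw [show (z : G) = x⁻¹ * y * x from hzy]; group
      · rintro ⟨z, hz, rfl⟩
        exact ⟨(⟨x, hx⟩ : H)⁻¹ * z * ⟨x, hx⟩, (inferInstance : R.Normal).conj_mem' z hz _, rfl⟩
  · intro hcl
    refine ⟨h, fun T hT hAT hN => le_antisymm hT fun x hx => ?_⟩
    haveI : (T.subgroupOf H).Normal := normal_subgroupOf_of_le_normalizer hN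
    have : (⊤ : Subgroup H) ≤ T.subgroupOf H := hcl ▸ Subgroup.normalClosure_le_normal
      (fun a ha => mem_subgroupOf.2 (hAT (mem_subgroupOf.1 ha)))
    exact mem_subgroupOf.1 (this (mem_top ⟨x, hx⟩))

theorem Gen.trans {A B H : Subgroup G} (hAB : Gen A B) (hBH : Gen B H) : Gen A H := by
  refine ⟨hAB.1.trans hBH.1, fun T hT hAT hN => hBH.2 T hT ?_ hN⟩
  have h1 : B ≤ normalizer ((T ⊓ B : Subgroup G) : Set G) := by
    intro b hb
    rw [mem_normalizer_iff]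
    intro x
    have h2 := mem_normalizer_iff.1 (hN (hBH.1 hb)) x
    have h3 := mem_normalizer_iff.1 (le_normalizer hb : b ∈ normalizer (B : Set G)) x
    exact ⟨fun hx => ⟨h2.1 hx.1, h3.1 hx.2⟩, fun hx => ⟨h2.2 hx.1, h3.2 hx.2⟩⟩
  exact inf_eq_right.1 (hAB.2 _ inf_le_right (le_inf hAT hAB.1) h1)

theorem Gen.smul {A H : Subgroup G} (h : Gen A H) (g : G) :
    Gen (MulAut.conj g • A) (MulAut.conj g • H) := by
  have hback : ∀ K : Subgroup G, MulAut.conj g⁻¹ • MulAut.conj g • K = K := fun K => by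
    rw [conj_smul_conj_smul, inv_mul_cancel, conj_one_smul]
  have hforth : ∀ K : Subgroup G, MulAut.conj g • MulAut.conj g⁻¹ • K = K := fun K => by
    rw [conj_smul_conj_smul, mul_inv_cancel, conj_one_smul]
  refine ⟨smul_mono_right _ h.1, fun T hT hAT hN => ?_⟩
  have h1 := h.2 (MulAut.conj g⁻¹ • T) (hback H ▸ smul_mono_right _ hT) (hback A ▸ smul_mono_right _ hAT)
    (hback H ▸ Components.le_normalizer_smul hN g⁻¹)
  rw [← h1, hforth]

theorem Gen.eq_of_subnormal {A H : Subgroup G} (h : Gen A H) (hs : (A.subgroupOf H).IsSubnormal) :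
    H = A := by
  refine le_antisymm ?_ h.1
  rcases hs.lt_normal with h1 | ⟨K, hK, hle, hlt⟩
  · exact subgroupOf_eq_top.1 h1
  · exfalso
    refine hlt.ne (eq_top_iff.2 fun x _ => ?_)
    have h2 := h.2 (K.map H.subtype) (map_subtype_le _) (fun a ha => ⟨⟨a, h.1 ha⟩, hle (mem_subgroupOf.2 ha), rfl⟩) ?_
    · obtain ⟨y, hy, hyx⟩ := h2.ge x.2
      exact (Subtype.ext hyx : y = x) ▸ hy
    · intro x hx
      rw [mem_normalizer_iff_conj_smul_eq]
      ext y
      rw [mem_conj_smul_iff]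
      constructor
      · rintro ⟨z, hz, hzy⟩
        refine ⟨⟨x, hx⟩ * z * (⟨x, hx⟩ : H)⁻¹, hK.conj_mem z hz _, ?_⟩
        show x * (z : G) * x⁻¹ = y
        rw [show (z : G) = x⁻¹ * y * x from hzy]; group
      · rintro ⟨z, hz, rfl⟩
        exact ⟨(⟨x, hx⟩ : H)⁻¹ * z * ⟨x, hx⟩, hK.conj_mem' z hz _, rfl⟩

theorem subnormal_mono {A H L : Subgroup G} (h : H ≤ L) (hs : (A.subgroupOf L).IsSubnormal) :
    (A.subgroupOf H).IsSubnormal :=
  hs.comap (Subgroup.inclusion h)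

theorem subnormal_sup {A B H : Subgroup G} [Finite G] (hA : A ≤ H) (hB : B ≤ H)
    (h1 : (A.subgroupOf H).IsSubnormal) (h2 : (B.subgroupOf H).IsSubnormal) :
    ((A ⊔ B).subgroupOf H).IsSubnormal := by
  rw [subgroupOf_sup hA hB]
  exact Components.isSubnormal_sup h1 h2

theorem subnormal_sSup [Finite G] {H : Subgroup G} (S : Set (Subgroup G)) (hle : ∀ E ∈ S, E ≤ H)
    (hs : ∀ E ∈ S, (E.subgroupOf H).IsSubnormal) : ((sSup S).subgroupOf H).IsSubnormal := by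
  have hfin : S.Finite := Set.toFinite _
  induction S, hfin using Set.Finite.induction_on with
  | empty => simp
  | @insert E S _ _ ih =>
    rw [sSup_insert]
    exact subnormal_sup (hle E (Set.mem_insert _ _)) (sSup_le fun F hF => hle F (Set.mem_insert_of_mem _ hF))
      (hs E (Set.mem_insert _ _)) (ih (fun F hF => hle F (Set.mem_insert_of_mem _ hF))
        fun F hF => hs F (Set.mem_insert_of_mem _ hF))

theorem exists_gen_subnormal [Finite G] {A M : Subgroup G} (h : A ≤ M) :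
    ∃ B, Gen A B ∧ B ≤ M ∧ (B.subgroupOf M).IsSubnormal := by
  obtain ⟨B, ⟨hAB, hBM, hBs⟩, hmin⟩ := Set.Finite.exists_minimal
    (s := {T : Subgroup G | A ≤ T ∧ T ≤ M ∧ (T.subgroupOf M).IsSubnormal}) (Set.toFinite _)
    ⟨M, h, le_rfl, by rw [subgroupOf_self]; exact IsSubnormal.top⟩
  refine ⟨B, ⟨hAB, fun T hT hAT hN => le_antisymm hT (hmin ⟨hAT, hT.trans hBM, ?_⟩ hT)⟩, hBM, hBs⟩
  have hle : T.subgroupOf M ≤ B.subgroupOf M := fun x hx => mem_subgroupOf.2 (hT (mem_subgroupOf.1 hx))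
  refine IsSubnormal.step _ _ hle hBs ((normal_subgroupOf_iff_le_normalizer hle).2 ?_)
  intro x hx
  rw [mem_normalizer_iff]
  intro y
  exact mem_normalizer_iff.1 (hN (mem_subgroupOf.1 hx)) (y : G)

theorem exists_conj_le_normalizer_aux {K : Subgroup G} (hK : K.IsSubnormal) :
    ∀ H : Subgroup G, H ≤ K → K ≤ normalizer (H : Set G) → ¬ (⊤ : Subgroup G) ≤ normalizer (H : Set G) →
      ∃ x : G, MulAut.conj x • H ≠ H ∧ MulAut.conj x • H ≤ normalizer (H : Set G) := by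
  induction hK with
  | top => exact fun H _ h hn => absurd h hn
  | step K K₂ hle hs hN ih =>
    intro H hH hKN hn
    by_cases hK₂ : K₂ ≤ normalizer (H : Set G)
    · exact ih H (hH.trans hle) hK₂ hn
    obtain ⟨x, hx, hxN⟩ := SetLike.not_le_iff_exists.mp hK₂
    refine ⟨x, fun h => hxN (mem_normalizer_iff_conj_smul_eq.mpr h), ?_⟩
    refine le_trans (le_trans (smul_mono_right _ hH) ?_) hKN
    rw [mem_normalizer_iff_conj_smul_eq.mp (((normal_subgroupOf_iff_le_normalizer hle).1 hN) hx)]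

/-- a non-normal subnormal subgroup has a different conjugate normalising it -/
theorem exists_conj_le_normalizer [Finite G] {Q X : Subgroup G} (hQ : Q ≤ X)
    (hs : (Q.subgroupOf X).IsSubnormal) (hn : ¬ X ≤ normalizer (Q : Set G)) :
    ∃ x ∈ X, MulAut.conj x • Q ≠ Q ∧ MulAut.conj x • Q ≤ normalizer (Q : Set G) := by
  obtain ⟨x, hx1, hx2⟩ := exists_conj_le_normalizer_aux hs _ le_rfl le_normalizer (fun h => hn fun y hy => by
    rw [mem_normalizer_iff]
    intro z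
    by_cases hz : z ∈ X
    · exact mem_normalizer_iff.1 (h (mem_top ⟨y, hy⟩)) ⟨z, hz⟩
    · refine ⟨fun h' => absurd (hQ h') hz, fun h' => absurd ?_ hz⟩
      have := mul_mem (mul_mem (inv_mem hy) (hQ h')) hy
      simpa [mul_assoc] using this)
  rw [conj_smul_subgroupOf hQ x] at hx1 hx2
  refine ⟨x, x.2, fun h => hx1 (by rw [h]), fun y hy => ?_⟩
  have hyX : y ∈ X := conj_smul_le_of_le hQ x hy
  rw [mem_normalizer_iff_conj_smul_eq]
  refine Subgroup.eq_of_le_of_card_ge (fun z hz => ?_) (card_conj_smul _ Q).ge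
  rw [mem_conj_smul_iff] at hz
  have h2 := hx2 (show (⟨y, hyX⟩ : X) ∈ _ from mem_subgroupOf.2 hy)
  have h3 := (mem_normalizer_iff.1 h2 ⟨y⁻¹ * z * y, hQ hz⟩).1 hz
  simpa [mem_subgroupOf, mul_assoc] using h3

theorem back (g : G) (K : Subgroup G) : MulAut.conj g⁻¹ • MulAut.conj g • K = K := by
  rw [conj_smul_conj_smul, inv_mul_cancel, conj_one_smul]

theorem forth (g : G) (K : Subgroup G) : MulAut.conj g • MulAut.conj g⁻¹ • K = K := by
  rw [conj_smul_conj_smul, mul_inv_cancel, conj_one_smul]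

theorem le_conj {g : G} {K L : Subgroup G} : MulAut.conj g • K ≤ L ↔ K ≤ MulAut.conj g⁻¹ • L :=
  ⟨fun h => back g K ▸ smul_mono_right _ h, fun h => forth g L ▸ smul_mono_right _ h⟩

theorem coatom_conj [Finite G] {L : Subgroup G} (hL : IsCoatom L) (g : G) :
    IsCoatom (MulAut.conj g • L) := by
  refine ⟨fun h => hL.1 ?_, fun X hX => ?_⟩
  · rw [← Subgroup.card_eq_iff_eq_top, ← card_conj_smul g L, h, Subgroup.card_top]
  · have h1 : L < MulAut.conj g⁻¹ • X := lt_of_le_of_ne (le_conj.1 hX.le) fun h =>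
      hX.ne (by rw [h, forth])
    rw [← Subgroup.card_eq_iff_eq_top, ← card_conj_smul g⁻¹ X, hL.2 _ h1, Subgroup.card_top]

theorem main [Finite G] (A : Subgroup G) : A ≠ ⊤ → Gen A ⊤ →
    (∃ U : Subgroup G, U ≠ ⊤ ∧ ∀ H, Gen A H → H ≠ ⊤ → H ≤ U) →
    ∀ L₁ L₂ : Subgroup G, IsCoatom L₁ → IsCoatom L₂ → A ≤ L₁ → A ≤ L₂ → L₁ = L₂ := by
  induction A using (wellFounded_gt (α := Subgroup G)).induction with
  | _ A ih =>
  intro hA hcl hU
  classical
  obtain ⟨U, hU, hUb⟩ := hU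
  set Y := sSup {H : Subgroup G | Gen A H ∧ H ≠ ⊤} with hYdef
  have hmemY : ∀ H, Gen A H → H ≠ ⊤ → H ≤ Y := fun H h1 h2 => le_sSup ⟨h1, h2⟩
  have hY : Y ≠ ⊤ := fun h => hU (top_le_iff.1 (h ▸ sSup_le fun H hH => hUb H hH.1 hH.2))
  have hAY : A ≤ Y := hmemY A (gen_self A) hA
  have hgenY : Gen A Y := by
    refine ⟨hAY, fun T hT hAT hN => le_antisymm hT (sSup_le fun H hH => ?_)⟩
    have h1 : H ≤ normalizer ((T ⊓ H : Subgroup G) : Set G) := by
      intro b hb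
      rw [mem_normalizer_iff]
      intro x
      have h2 := mem_normalizer_iff.1 (hN (hmemY H hH.1 hH.2 hb)) x
      have h3 := mem_normalizer_iff.1 (le_normalizer hb : b ∈ normalizer (H : Set G)) x
      exact ⟨fun hx => ⟨h2.1 hx.1, h3.1 hx.2⟩, fun hx => ⟨h2.2 hx.1, h3.2 hx.2⟩⟩
    exact inf_eq_right.1 (hH.1.2 _ inf_le_right (le_inf hAT hH.1.1) h1)
  have hNY : normalizer (Y : Set G) ≠ ⊤ := fun h => hY (hcl.2 Y le_top hAY h.ge)
  obtain ⟨M₀, hM₀, hNM⟩ := (eq_top_or_exists_le_coatom (normalizer (Y : Set G))).resolve_left hNY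
  have hAM : A ≤ M₀ := hAY.trans (le_normalizer.trans hNM)
  have hNA : normalizer (A : Set G) ≤ M₀ := by
    refine le_trans (fun a ha => ?_) hNM
    rw [mem_normalizer_iff_conj_smul_eq] at ha ⊢
    refine Subgroup.eq_of_le_of_card_ge (le_conj.2 (sSup_le fun H hH => le_conj.1 ?_)) (card_conj_smul _ Y).ge
    refine hmemY _ (by have := hH.1.smul a; rwa [ha] at this) fun h => hH.2 ?_
    rw [← Subgroup.card_eq_iff_eq_top, ← card_conj_smul a H, h, Subgroup.card_top]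
  -- `A` is subnormal in every other maximal overgroup
  have hsn : ∀ L : Subgroup G, IsCoatom L → A ≤ L → L ≠ M₀ → (A.subgroupOf L).IsSubnormal := by
    intro L hL hAL hne
    obtain ⟨B, hB, hBL, hBs⟩ := exists_gen_subnormal hAL
    by_cases hBA : B = A
    · exact hBA ▸ hBs
    exfalso
    have hBtop : B ≠ ⊤ := fun h => hL.1 (top_le_iff.1 (h ▸ hBL))
    refine hne (ih B (lt_of_le_of_ne hB.1 (Ne.symm hBA)) hBtop
      ⟨le_top, fun T h1 h2 h3 => hcl.2 T h1 (hB.1.trans h2) h3⟩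
      ⟨Y, hY, fun H h1 h2 => hmemY H (hB.trans h1) h2⟩ L M₀ hL hM₀ hBL ?_)
    exact (hmemY B hB hBtop).trans (le_normalizer.trans hNM)
  have hsnc : ∀ (g : G) (L : Subgroup G), IsCoatom L → MulAut.conj g • A ≤ L → L ≠ MulAut.conj g • M₀ →
      ((MulAut.conj g • A).subgroupOf L).IsSubnormal := by
    intro g L hL hle hne
    have h1 := isSubnormal_subgroupOf_conj g (hsn _ (coatom_conj hL g⁻¹) (le_conj.1 hle)
      fun h => hne (by rw [← h, forth]))
    rwa [forth] at h1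
  -- a conjugate and `A` in two maximal subgroups
  have P1 : ∀ (g : G), MulAut.conj g • A ≠ A → ∀ L₁ L₂ : Subgroup G, IsCoatom L₁ → IsCoatom L₂ → L₁ ≠ L₂ →
      A ≤ L₁ → MulAut.conj g • A ≤ L₁ → A ≤ L₂ → MulAut.conj g • A ≤ L₂ →
      MulAut.conj g • A ≤ M₀ ∧ MulAut.conj g • M₀ ≠ M₀ := by
    intro g hg L₁ L₂ hL₁ hL₂ hne hA₁ hZ₁ hA₂ hZ₂
    set Z := MulAut.conj g • A
    set K := A ⊔ Z
    have hK₁ : K ≤ L₁ := sup_le hA₁ hZ₁
    have hKtop : K ≠ ⊤ := fun h => hL₁.1 (top_le_iff.1 (h ▸ hK₁))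
    have hAK : A < K := lt_of_le_of_ne le_sup_left fun h =>
      hg (Subgroup.eq_of_le_of_card_ge (le_sup_right.trans h.ge) (card_conj_smul _ A).ge)
    have hno : ∀ U : Subgroup G, U ≠ ⊤ → K ≤ U →
        (∀ L : Subgroup G, IsCoatom L → K ≤ L → (L = M₀ ∨ L = MulAut.conj g • M₀) → L = U) → False := by
      intro U hU hKU hUM
      refine hne (ih K hAK hKtop ⟨le_top, fun T h1 h2 h3 => hcl.2 T h1 (le_sup_left.trans h2) h3⟩
        ⟨U, hU, fun H hH hHtop => ?_⟩ L₁ L₂ hL₁ hL₂ hK₁ (sup_le hA₂ hZ₂))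
      obtain ⟨L, hL, hHL⟩ := (eq_top_or_exists_le_coatom H).resolve_left hHtop
      have hKL : K ≤ L := hH.1.trans hHL
      by_cases hspec : L = M₀ ∨ L = MulAut.conj g • M₀
      · exact hUM L hL hKL hspec ▸ hHL
      · push Not at hspec
        have h1 : (K.subgroupOf L).IsSubnormal := subnormal_sup (le_sup_left.trans hKL) (le_sup_right.trans hKL)
          (hsn L hL (le_sup_left.trans hKL) hspec.1) (hsnc g L hL (le_sup_right.trans hKL) hspec.2)
        rw [hH.eq_of_subnormal (subnormal_mono hHL h1)]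
        exact hKU
    have hgM : Z ≤ MulAut.conj g • M₀ := smul_mono_right _ hAM
    constructor
    · by_contra hZM
      by_cases hAg : A ≤ MulAut.conj g • M₀
      · refine hno _ (coatom_conj hM₀ g).1 (sup_le hAg hgM) fun L hL hKL h => h.resolve_left ?_
        exact fun h' => hZM (h' ▸ le_sup_right.trans hKL)
      · refine hno K hKtop le_rfl fun L hL hKL h => ?_
        rcases h with h | h
        · exact absurd (h ▸ le_sup_right.trans hKL) hZM
        · exact absurd (h ▸ le_sup_left.trans hKL) hAg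
    · intro heq
      exact hno M₀ hM₀.1 (sup_le hAM (heq ▸ hgM)) fun L hL hKL h => h.elim id fun h' => h'.trans heq
  have P2 : ∀ (g : G), MulAut.conj g • A ≠ A → ∀ L₁ L₂ : Subgroup G, IsCoatom L₁ → IsCoatom L₂ → L₁ ≠ L₂ →
      A ≤ L₁ → MulAut.conj g • A ≤ L₁ → A ≤ L₂ → MulAut.conj g • A ≤ L₂ →
      A ≤ MulAut.conj g • M₀ := by
    intro g hg L₁ L₂ hL₁ hL₂ hne hA₁ hZ₁ hA₂ hZ₂
    have h := P1 g⁻¹ (fun h => hg (by rw [← h, forth, h])) (MulAut.conj g⁻¹ • L₁) (MulAut.conj g⁻¹ • L₂)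
      (coatom_conj hL₁ _) (coatom_conj hL₂ _) (fun h => hne (by rw [← forth g L₁, h, forth]))
      (le_conj.1 hZ₁) (smul_mono_right _ hA₁) (le_conj.1 hZ₂) (smul_mono_right _ hA₂)
    have h1 := le_conj.1 h.1
    rwa [inv_inv] at h1
  have P3 : ∀ L : Subgroup G, IsCoatom L → A ≤ L → L ≠ M₀ → ∀ d ∈ M₀, MulAut.conj d • A ≤ L →
      MulAut.conj d • A = A := by
    intro L hL hAL hne d hd hdL
    by_contra h
    have hdM : MulAut.conj d • M₀ = M₀ := mem_normalizer_iff_conj_smul_eq.mp (le_normalizer hd)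
    exact (P1 d h L M₀ hL hM₀ hne hAL hdL hAM (hdM ▸ smul_mono_right _ hAM)).2 hdM
  have hfix : ∀ g : G, MulAut.conj g • A = A → MulAut.conj g • M₀ = M₀ := fun g h =>
    mem_normalizer_iff_conj_smul_eq.mp (le_normalizer (hNA (mem_normalizer_iff_conj_smul_eq.mpr h)))
  intro L₁ L₂ hL₁ hL₂ hA₁ hA₂
  by_contra hne
  obtain ⟨Lb, hLb, hALb, hLbne⟩ : ∃ L, IsCoatom L ∧ A ≤ L ∧ L ≠ M₀ := by
    by_cases h : L₁ = M₀
    · exact ⟨L₂, hL₂, hA₂, fun h' => hne (h.trans h'.symm)⟩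
    · exact ⟨L₁, hL₁, hA₁, h⟩
  let S : Subgroup G → Set (Subgroup G) := fun L => {Z | (∃ g : G, Z = MulAut.conj g • A) ∧ Z ≤ M₀ ∧ Z ≤ L}
  obtain ⟨L, ⟨hL, hAL, hLne⟩, hmax⟩ := Set.exists_max_image
    {L : Subgroup G | IsCoatom L ∧ A ≤ L ∧ L ≠ M₀} (fun L => (S L).ncard) (Set.toFinite _)
    ⟨Lb, hLb, hALb, hLbne⟩
  -- properties of a maximizing overgroup
  have side : ∀ L : Subgroup G, IsCoatom L → A ≤ L → L ≠ M₀ →
      (M₀ ≤ normalizer ((sSup (S L) : Subgroup G) : Set G) ∨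
        ∃ F : Subgroup G, (∃ g : G, F = MulAut.conj g • A) ∧ F ∉ S L ∧ F ≤ M₀ ∧
          F ≤ normalizer ((sSup (S L) : Subgroup G) : Set G)) ∧
      ∃ g : G, MulAut.conj g • A ∈ S L ∧ MulAut.conj g • A ≠ A := by
    intro L hL hAL hne
    set W := S L \ {A}
    set Q := sSup W
    have hW : ∀ Z ∈ W, ∃ g : G, Z = MulAut.conj g • A ∧ Z ≤ M₀ ∧ Z ≤ L ∧ A ≤ MulAut.conj g • M₀ ∧
        MulAut.conj g • M₀ ≠ M₀ := by
      rintro Z ⟨⟨⟨g, rfl⟩, hZM, hZL⟩, hZA⟩
      exact ⟨g, rfl, hZM, hZL, P2 g hZA L M₀ hL hM₀ hne hAL hZL hAM hZM,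
        (P1 g hZA L M₀ hL hM₀ hne hAL hZL hAM hZM).2⟩
    have hex : ∃ Z, Z ∈ W := by
      have hLN : ¬ L ≤ normalizer (A : Set G) := fun h => by
        rcases lt_or_eq_of_le (h.trans hNA) with h' | h'
        · exact hM₀.1 (hL.2 _ h')
        · exact hne h'
      obtain ⟨x, hx, hxA, hxN⟩ := exists_conj_le_normalizer hAL (hsn L hL hAL hne) hLN
      exact ⟨MulAut.conj x • A, ⟨⟨x, rfl⟩, hxN.trans hNA, conj_smul_le_of_le hAL ⟨x, hx⟩⟩, hxA⟩
    refine ⟨?_, by obtain ⟨Z, ⟨⟨g, rfl⟩, h2⟩, h3⟩ := hex; exact ⟨g, ⟨⟨g, rfl⟩, h2⟩, h3⟩⟩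
    have hQM : Q ≤ M₀ := sSup_le fun Z hZ => hZ.1.2.1
    have hQL : Q ≤ L := sSup_le fun Z hZ => hZ.1.2.2
    have key : ∀ n ∈ M₀, n ∈ normalizer (Q : Set G) → n ∈ normalizer (A : Set G) := by
      intro n hn hnQ
      obtain ⟨Z, hZ⟩ := hex
      obtain ⟨g, rfl, hZM, hZL, hAg, hgne⟩ := hW Z hZ
      have hnM : MulAut.conj n • M₀ = M₀ := mem_normalizer_iff_conj_smul_eq.mp (le_normalizer hn)
      have hle : MulAut.conj (n * g) • A ≤ Q := by
        rw [← conj_smul_conj_smul, ← mem_normalizer_iff_conj_smul_eq.mp hnQ]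
        exact smul_mono_right _ (le_sSup hZ)
      have hneA : MulAut.conj (n * g) • A ≠ A := fun h => hgne (by
        have h1 := hfix _ h
        rw [← conj_smul_conj_smul] at h1
        rw [← back n (MulAut.conj g • M₀), h1]
        nth_rewrite 1 [← hnM]
        rw [back])
      have h2 := P2 _ hneA L M₀ hL hM₀ hne hAL (hle.trans hQL) hAM (hle.trans hQM)
      rw [← conj_smul_conj_smul] at h2
      have h3 : MulAut.conj n⁻¹ • A ≤ MulAut.conj g • M₀ := by
        have := le_conj (g := n⁻¹) (K := A) (L := MulAut.conj g • M₀)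
        rw [inv_inv] at this
        exact this.2 h2
      have h4 := P3 _ (coatom_conj hM₀ g) hAg hgne n⁻¹ (inv_mem hn) h3
      rw [mem_normalizer_iff_conj_smul_eq]
      conv_lhs => rw [← h4]
      exact forth n A
    have hsup : sSup (S L) = A ⊔ Q := by
      rw [← sSup_insert, Set.insert_sdiff_singleton, Set.insert_eq_of_mem]
      exact ⟨⟨1, (conj_one_smul A).symm⟩, hAM, hAL⟩
    have keyS : ∀ n ∈ M₀, n ∈ normalizer (Q : Set G) → n ∈ normalizer ((sSup (S L) : Subgroup G) : Set G) := by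
      intro n hn hnQ
      rw [hsup, mem_normalizer_iff_conj_smul_eq, Subgroup.smul_sup,
        mem_normalizer_iff_conj_smul_eq.mp hnQ, mem_normalizer_iff_conj_smul_eq.mp (key n hn hnQ)]
    by_cases hMQ : M₀ ≤ normalizer (Q : Set G)
    · exact Or.inl fun n hn => keyS n hn (hMQ hn)
    right
    obtain ⟨x, hx, hxQ, hxN⟩ := exists_conj_le_normalizer hQM
      (subnormal_sSup W (fun Z hZ => hZ.1.2.1) fun Z hZ => by
        obtain ⟨g, rfl, hZM, -, -, hgne⟩ := hW Z hZ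
        exact hsnc g M₀ hM₀ hZM (Ne.symm hgne)) hMQ
    obtain ⟨Z, hZ, hxZ⟩ : ∃ Z ∈ W, MulAut.conj x • Z ∉ S L := by
      by_contra h
      push Not at h
      refine hxQ (Subgroup.eq_of_le_of_card_ge (le_conj.2 (sSup_le fun Z hZ => le_conj.1 ?_)) (card_conj_smul _ Q).ge)
      refine le_sSup ⟨h Z hZ, fun hxA => ?_⟩
      obtain ⟨g, rfl, -, -, -, hgne⟩ := hW Z hZ
      have hxM : MulAut.conj x • M₀ = M₀ := mem_normalizer_iff_conj_smul_eq.mp (le_normalizer hx)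
      rw [Set.mem_singleton_iff, conj_smul_conj_smul] at hxA
      have h1 := hfix _ hxA
      rw [← conj_smul_conj_smul] at h1
      refine hgne ?_
      rw [← back x (MulAut.conj g • M₀), h1]
      nth_rewrite 1 [← hxM]
      rw [back]
    obtain ⟨g, rfl, hZM, -⟩ := hW Z hZ
    have hFM : MulAut.conj x • MulAut.conj g • A ≤ M₀ := conj_smul_le_of_le hZM ⟨x, hx⟩
    refine ⟨_, ⟨x * g, conj_smul_conj_smul _ _ _⟩, hxZ, hFM, fun f hf => keyS f (hFM hf) (hxN ?_)⟩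
    exact smul_mono_right _ (le_sSup hZ) hf
  obtain ⟨hside, g, hgS, hgA⟩ := side L hL hAL hLne
  obtain ⟨-, hZM, hZL⟩ := hgS
  have hAg := P2 g hgA L M₀ hL hM₀ hLne hAL hZL hAM hZM
  have hgne := (P1 g hgA L M₀ hL hM₀ hLne hAL hZL hAM hZM).2
  have hgM : IsCoatom (MulAut.conj g • M₀) := coatom_conj hM₀ g
  have hSeq : S (MulAut.conj g • M₀) = S L := by
    refine (Set.eq_of_subset_of_ncard_le ?_ (hmax _ ⟨hgM, hAg, hgne⟩) (Set.toFinite _)).symm
    rintro _ ⟨⟨h, rfl⟩, hFM, hFL⟩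
    refine ⟨⟨h, rfl⟩, hFM, ?_⟩
    by_cases hFZ : MulAut.conj (g⁻¹ * h) • A = A
    · rw [← forth g (MulAut.conj h • A), conj_smul_conj_smul g⁻¹ h, hFZ]
      exact smul_mono_right _ hAM
    · have h1 := (P1 _ hFZ (MulAut.conj g⁻¹ • L) (MulAut.conj g⁻¹ • M₀) (coatom_conj hL _) (coatom_conj hM₀ _)
        (fun e => hLne (by rw [← forth g L, e, forth])) (le_conj.1 hZL)
        (by rw [← conj_smul_conj_smul]; exact smul_mono_right _ hFL) (le_conj.1 hZM)
        (by rw [← conj_smul_conj_smul]; exact smul_mono_right _ hFM)).1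
      rw [← conj_smul_conj_smul] at h1
      have h2 := le_conj.1 h1
      rwa [inv_inv] at h2
  -- the same seen from the conjugate
  have hg'ne : MulAut.conj g⁻¹ • M₀ ≠ M₀ := fun h => hgne (by nth_rewrite 1 [← h]; rw [forth])
  have hAg' : A ≤ MulAut.conj g⁻¹ • M₀ := le_conj.1 hZM
  have hmemS : ∀ Z : Subgroup G, Z ∈ S (MulAut.conj g⁻¹ • M₀) ↔ MulAut.conj g • Z ∈ S L := by
    intro Z
    rw [← hSeq]
    constructor
    · rintro ⟨⟨h, rfl⟩, h1, h2⟩
      refine ⟨⟨g * h, conj_smul_conj_smul _ _ _⟩, ?_, smul_mono_right _ h1⟩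
      exact le_conj.2 h2
    · rintro ⟨⟨h, hh⟩, h1, h2⟩
      refine ⟨⟨g⁻¹ * h, by rw [← conj_smul_conj_smul, ← hh, back]⟩, ?_, le_conj.1 h1⟩
      have := le_conj.1 h2
      rwa [back] at this
  have hN : ¬ normalizer ((sSup (S L) : Subgroup G) : Set G) ≤ M₀ := by
    intro hle
    have hQeq : sSup (S L) = MulAut.conj g • sSup (S (MulAut.conj g⁻¹ • M₀)) := by
      refine le_antisymm (sSup_le fun Z hZ => ?_) (le_conj.2 (sSup_le fun Z hZ => le_conj.1 (le_sSup ((hmemS Z).1 hZ))))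
      rw [← forth g Z]
      exact smul_mono_right _ (le_sSup ((hmemS _).2 (by rwa [forth])))
    obtain ⟨hside', -⟩ := side _ (coatom_conj hM₀ g⁻¹) hAg' hg'ne
    rcases hside' with h | ⟨F, ⟨h, rfl⟩, hFS, hFM, hFN⟩
    · have h1 := Components.le_normalizer_smul h g
      rw [← hQeq] at h1
      rcases lt_or_eq_of_le (h1.trans hle) with h' | h'
      · exact hM₀.1 (hgM.2 _ h')
      · exact hgne h'
    · have h1 := Components.le_normalizer_smul hFN g
      rw [← hQeq] at h1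
      refine hFS ((hmemS _).2 ?_)
      rw [← hSeq]
      exact ⟨⟨g * h, conj_smul_conj_smul _ _ _⟩, h1.trans hle, smul_mono_right _ hFM⟩
  have hAS : A ∈ S L := ⟨⟨1, (conj_one_smul A).symm⟩, hAM, hAL⟩
  set Qp := sSup (S L)
  have hQpM : Qp ≤ M₀ := sSup_le fun Z hZ => hZ.2.1
  have hNtop : normalizer (Qp : Set G) ≠ ⊤ := fun h => hM₀.1 (top_le_iff.1
    ((hcl.2 Qp le_top (le_sSup hAS) h.ge) ▸ hQpM))
  obtain ⟨L', hL', hNL'⟩ := (eq_top_or_exists_le_coatom (normalizer (Qp : Set G))).resolve_left hNtop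
  have hne' : L' ≠ M₀ := fun h => hN (h ▸ hNL')
  have hSsub : ∀ Z ∈ S L, Z ∈ S L' := fun Z hZ =>
    ⟨hZ.1, hZ.2.1, ((le_sSup hZ).trans le_normalizer).trans hNL'⟩
  have hbad : IsCoatom L' ∧ A ≤ L' ∧ L' ≠ M₀ := ⟨hL', (hSsub A hAS).2.2, hne'⟩
  rcases hside with h | ⟨F, hF, hFS, hFM, hFN⟩
  · rcases lt_or_eq_of_le (h.trans hNL') with h' | h'
    · exact hL'.1 (hM₀.2 _ h')
    · exact hne' h'.symm
  · have hlt : (S L).ncard < (S L').ncard := Set.ncard_lt_ncard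
      ⟨hSsub, fun hsub => hFS (hsub ⟨hF, hFM, hFN.trans hNL'⟩)⟩ (Set.toFinite _)
    exact absurd (hmax L' hbad) (not_le.2 hlt)

theorem top_or_unique [Finite G] (A : Subgroup G) (hA : Subgroup.normalClosure (A : Set G) = ⊤) (hAG : A ≠ ⊤) :
    sSup {H : Subgroup G | A ≤ H ∧ H ≠ ⊤ ∧ Subgroup.normalClosure ((A.subgroupOf H : Subgroup ↥H) : Set ↥H) = ⊤} = ⊤ ∨
      ∃! M : Subgroup G, IsCoatom M ∧ A ≤ M := by
  refine or_iff_not_imp_left.2 fun hY => ?_
  obtain ⟨M, hM, hAM⟩ := (eq_top_or_exists_le_coatom A).resolve_left hAG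
  have hcl : Gen A ⊤ := ⟨le_top, fun T _ hAT hN => by
    haveI : T.Normal := normalizer_eq_top_iff.1 (top_le_iff.1 hN)
    exact top_le_iff.1 (hA ▸ Subgroup.normalClosure_le_normal hAT)⟩
  exact ⟨M, ⟨hM, hAM⟩, fun M' h => main A hAG hcl
    ⟨_, hY, fun H hH hHt => le_sSup ⟨hH.1, hHt, (gen_iff hH.1).1 hH⟩⟩ M' M h.1 hM h.2 hAM⟩

end CfsgLib.Orders.UniqueMax
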