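import Cfsg.Agent.Lib.Char.Indicator
import Cfsg.Agent.Lib.CharDegree.Twist
import Cfsg.Agent.Lib.PGroups.Basic
import Mathlib.GroupTheory.FiniteAbelian.Duality
import Mathlib.RingTheory.RootsOfUnity.AlgebraicallyClosed
import Mathlib.Analysis.Complex.Polynomial.Basic

/-!
# Number of solutions of `x * x = 1` in a 2-group with many generators
-/

set_option autoImplicit false

namespace CfsgLib.Orders

universe u

open scoped ComplexConjugate commutatorElement
open CfsgLib.Char CfsgLib.CharDegree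

variable {G : Type u} [Group G] [Fintype G]

/-- The stabiliser of `χ` under twisting by linear characters has at most `χ(1)²` elements. -/
theorem card_twist_stab_le (χ : Cfsg.IrrCharacter G) (S : Finset (G →* ℂˣ))
    (hone : (1 : G →* ℂˣ) ∈ S) (hmul : ∀ l ∈ S, ∀ l' ∈ S, l * l' ∈ S)
    (hinv : ∀ l ∈ S, l⁻¹ ∈ S) (hfix : ∀ l ∈ S, twist χ l = χ) :
    S.card ≤ Cfsg.charDegree (χ : G → ℂ) ^ 2 := by
  classical
  set d := Cfsg.charDegree (χ : G → ℂ) with hd
  -- a bound at each group element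
  have hpt : ∀ g : G, (S.card : ℝ) * Complex.normSq ((χ : G → ℂ) g) ≤
      (d : ℝ) ^ 2 * (∑ l ∈ S, (l g : ℂ)).re := by
    intro g
    by_cases hall : ∀ l ∈ S, (l g : ℂ) = 1
    · have h1 : (∑ l ∈ S, (l g : ℂ)).re = (S.card : ℝ) := by
        rw [Finset.sum_congr rfl hall]; simp
      rw [h1, mul_comm ((d : ℝ) ^ 2)]
      refine mul_le_mul_of_nonneg_left ?_ (Nat.cast_nonneg _)
      rw [Complex.normSq_eq_norm_sq]
      have h2 := IsChar.norm_le (IsIrr.isCharacter χ.2) g
      rw [← cast_irrDegree χ, Complex.norm_natCast] at h2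
      exact pow_le_pow_left₀ (norm_nonneg _) h2 2
    · push Not at hall
      obtain ⟨l₀, hl₀, hne⟩ := hall
      have hχ : (χ : G → ℂ) g = 0 := by
        have h1 := congrArg (fun ψ : Cfsg.IrrCharacter G => (ψ : G → ℂ) g) (hfix l₀ hl₀)
        simp only [twist_apply] at h1
        by_contra h0
        exact hne (mul_left_cancel₀ h0 (h1.trans (mul_one _).symm))
      have hsum : (∑ l ∈ S, (l g : ℂ)) = 0 := by
        have h1 : (l₀ g : ℂ) * (∑ l ∈ S, (l g : ℂ)) = ∑ l ∈ S, (l g : ℂ) := by
          rw [Finset.mul_sum]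
          refine Finset.sum_bij' (fun l _ => l₀ * l) (fun l _ => l₀⁻¹ * l)
            (fun l hl => hmul _ hl₀ _ hl) (fun l hl => hmul _ (hinv _ hl₀) _ hl) (fun l _ => MonoidHom.ext fun x => by simp)
            (fun l _ => MonoidHom.ext fun x => by simp) (fun l _ => by simp)
        by_contra h0
        exact hne (mul_right_cancel₀ h0 (h1.trans (one_mul _).symm))
      rw [hχ, hsum]; simp
  have hsum := Finset.sum_le_sum (s := Finset.univ) fun g _ => hpt g
  rw [← Finset.mul_sum, ← Finset.mul_sum] at hsum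
  have hL : (∑ g : G, Complex.normSq ((χ : G → ℂ) g)) = (Nat.card G : ℝ) := by
    have h := classInner_irr_self χ
    rw [Cfsg.classInner, inv_mul_eq_one₀ (Nat.cast_ne_zero.2 Nat.card_pos.ne')] at h
    simp only [Complex.mul_conj] at h
    exact_mod_cast h.symm
  have hR : (∑ g : G, (∑ l ∈ S, (l g : ℂ)).re) = (Nat.card G : ℝ) := by
    rw [← Complex.re_sum, Finset.sum_comm, Finset.sum_eq_single_of_mem 1 hone]
    · simp [Nat.card_eq_fintype_card]
    · intro l _ hl
      obtain ⟨a, ha⟩ : ∃ a, (l a : ℂ) ≠ 1 := by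
        by_contra hno
        push Not at hno
        exact hl (MonoidHom.ext fun a => Units.ext (hno a))
      have h1 : (l a : ℂ) * (∑ g : G, (l g : ℂ)) = ∑ g : G, (l g : ℂ) := by
        rw [Finset.mul_sum]
        exact Fintype.sum_equiv (Equiv.mulLeft a) _ _ fun g => by simp
      by_contra h0
      exact ha (mul_right_cancel₀ h0 (h1.trans (one_mul _).symm))
  rw [hL, hR] at hsum
  have h2 : (S.card : ℝ) ≤ (d : ℝ) ^ 2 :=
    le_of_mul_le_mul_right hsum (Nat.cast_pos.2 Nat.card_pos)
  exact_mod_cast h2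

theorem two_pow_dvd_card_sq_eq_one (hG : IsPGroup 2 G) (k : ℕ)
    (hgen : 2 ^ (2 * k + 1) ≤ Nat.card (G ⧸ frattini G)) :
    2 ^ (k + 1) ∣ Nat.card {x : G // x * x = 1} := by
  classical
  have : Fact (Nat.Prime 2) := ⟨Nat.prime_two⟩
  have hfn : (frattini G).Normal := inferInstance
  set Q := G ⧸ frattini G
  have hcomm : ∀ a b : Q, a * b = b * a := by
    intro a b
    induction a using QuotientGroup.induction_on with
    | H a =>
    induction b using QuotientGroup.induction_on with
    | H b =>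
    rw [← QuotientGroup.mk_mul, ← QuotientGroup.mk_mul, QuotientGroup.eq]
    rw [show (a * b)⁻¹ * (b * a) = ⁅b⁻¹, a⁻¹⁆ by rw [commutatorElement_def]; group]
    exact PGroups.commutator_le_frattini' hG
      (Subgroup.commutator_mem_commutator (Subgroup.mem_top _) (Subgroup.mem_top _))
  letI : CommGroup Q := { (inferInstance : Group Q) with mul_comm := hcomm }
  have hsq : ∀ a : Q, a * a = 1 := by
    intro a
    induction a using QuotientGroup.induction_on with
    | H a =>
    rw [← QuotientGroup.mk_mul, QuotientGroup.eq_one_iff, ← sq]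
    exact PGroups.pow_mem_frattini hG a
  haveI : NeZero ((Monoid.exponent Q : ℕ) : ℂ) :=
    ⟨Nat.cast_ne_zero.2 Monoid.exponent_ne_zero_of_finite⟩
  set L := Q →* ℂˣ
  have hcardL : Nat.card L = Nat.card Q := CommGroup.card_monoidHom_of_hasEnoughRootsOfUnity Q ℂ
  haveI : Finite L := Nat.finite_of_card_ne_zero (hcardL ▸ Nat.card_pos.ne')
  haveI := Fintype.ofFinite L
  let lift : L → (G →* ℂˣ) := fun l => l.comp (QuotientGroup.mk' (frattini G))
  letI : MulAction L (Cfsg.IrrCharacter G) :=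
    { smul := fun l χ => twist χ (lift l)
      one_smul := fun χ => irr_ext fun g => by
        show (χ : G → ℂ) g * ((lift 1 g : ℂˣ) : ℂ) = _
        simp [lift]
      mul_smul := fun a b χ => irr_ext fun g => by
        show (χ : G → ℂ) g * ((lift (a * b) g : ℂˣ) : ℂ) =
          (χ : G → ℂ) g * ((lift b g : ℂˣ) : ℂ) * ((lift a g : ℂˣ) : ℂ)
        show (χ : G → ℂ) g * ((a (g : Q) * b (g : Q) : ℂˣ) : ℂ) =
          (χ : G → ℂ) g * ((b (g : Q) : ℂˣ) : ℂ) * ((a (g : Q) : ℂˣ) : ℂ)
        push_cast; ring }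
  have : Fintype (Cfsg.IrrCharacter G) := Fintype.ofFinite _
  -- integer valued summand
  have hint : ∀ χ : Cfsg.IrrCharacter G, ∃ e : ℤ, fsInd (χ : G → ℂ) = e := by
    intro χ
    obtain ⟨n, ρ, hρ, hχ⟩ := χ.2
    rcases (fsInd_trichotomy ρ).1 with h | h | h <;> rw [hχ] at h
    · exact ⟨0, by simp [h]⟩
    · exact ⟨1, by simp [h]⟩
    · exact ⟨-1, by simp [h]⟩
  choose e he using hint
  let f : Cfsg.IrrCharacter G → ℤ := fun χ => e χ * Cfsg.charDegree (χ : G → ℂ)
  have htot : (Nat.card {x : G // x * x = 1} : ℤ) = ∑ χ, f χ := by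
    have h := card_sqrt_eq_sum (1 : G)
    have h' : (((Nat.card {x : G // x * x = 1} : ℤ)) : ℂ) = ((∑ χ, f χ : ℤ) : ℂ) := by
      rw [Int.cast_natCast, h, Int.cast_sum]
      refine Finset.sum_congr rfl fun χ _ => ?_
      rw [he χ, ← cast_irrDegree χ]
      simp [f]
    exact_mod_cast h'
  have hinvar : ∀ (l : L) (χ : Cfsg.IrrCharacter G), f (l • χ) = f χ := by
    intro l χ
    have h1 : ∀ s : G, (lift l (s * s) : ℂ) = 1 := fun s => by
      show ((l ((s * s : G) : Q) : ℂˣ) : ℂ) = 1
      rw [show ((s * s : G) : Q) = 1 from hsq (s : Q), map_one, Units.val_one]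
    have h2 : fsInd ((l • χ : Cfsg.IrrCharacter G) : G → ℂ) = fsInd (χ : G → ℂ) := by
      show fsInd ((twist χ (lift l) : Cfsg.IrrCharacter G) : G → ℂ) = _
      simp only [fsInd, twist_apply, h1, mul_one]
    have h3 : e (l • χ) = e χ := by
      have := (he (l • χ)).symm.trans (h2.trans (he χ))
      exact_mod_cast this
    show e (l • χ) * (Cfsg.charDegree ((twist χ (lift l) : Cfsg.IrrCharacter G) : G → ℂ) : ℤ) = _
    rw [h3, charDegree_twist]
  have hL2 : ∃ d : ℕ, Nat.card L = 2 ^ d ∧ 2 * k + 1 ≤ d := by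
    obtain ⟨d, hd⟩ := IsPGroup.iff_card.1 (hG.to_quotient (frattini G))
    refine ⟨d, hcardL.trans hd, ?_⟩
    rw [hd] at hgen
    exact (Nat.pow_le_pow_iff_right (by norm_num)).1 hgen
  obtain ⟨d, hd, hkd⟩ := hL2
  rw [← Int.natCast_dvd_natCast, htot]
  let π : Cfsg.IrrCharacter G → MulAction.orbitRel.Quotient L (Cfsg.IrrCharacter G) := Quotient.mk''
  haveI := Fintype.ofFinite (MulAction.orbitRel.Quotient L (Cfsg.IrrCharacter G))
  rw [← Finset.sum_fiberwise Finset.univ π f]
  refine Finset.dvd_sum fun q _ => ?_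
  induction q using Quotient.inductionOn' with
  | h χ =>
  have hfib : ∀ ψ ∈ Finset.univ.filter (fun ψ => π ψ = Quotient.mk'' χ), f ψ = f χ := by
    intro ψ hψ
    obtain ⟨l, rfl⟩ := Quotient.exact' (Finset.mem_filter.1 hψ).2
    exact hinvar l χ
  rw [Finset.sum_congr rfl hfib, Finset.sum_const, nsmul_eq_mul]
  have hcount : (Finset.univ.filter (fun ψ => π ψ = Quotient.mk'' χ)).card *
      Nat.card (MulAction.stabilizer L χ) = 2 ^ d := by
    rw [← hd, ← Nat.card_congr (MulAction.orbitProdStabilizerEquivGroup L χ), Nat.card_prod]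
    congr 1
    rw [← Fintype.card_subtype, ← Nat.card_eq_fintype_card]
    exact Nat.card_congr (Equiv.subtypeEquivRight fun ψ => by
      simp only [π, Quotient.eq'']; rfl)
  obtain ⟨j, -, hj⟩ := (Nat.dvd_prime_pow Nat.prime_two).1
    ((charDegree_dvd_card χ).trans (IsPGroup.iff_card.1 hG).choose_spec.dvd)
  obtain ⟨s, -, hs⟩ := (Nat.dvd_prime_pow Nat.prime_two).1 (Dvd.intro_left _ hcount)
  have hinj : Function.Injective lift := fun a b h =>
    MonoidHom.ext fun x => QuotientGroup.induction_on x fun g => DFunLike.congr_fun h g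
  have hsle : s ≤ 2 * j := by
    have h := card_twist_stab_le χ
      ((Finset.univ.filter (fun l : L => l • χ = χ)).map ⟨lift, hinj⟩)
      (Finset.mem_map.2 ⟨1, Finset.mem_filter.2 ⟨Finset.mem_univ _, one_smul L χ⟩, MonoidHom.ext fun x => rfl⟩)
      (by
        intro a ha b hb
        obtain ⟨a, ha', rfl⟩ := Finset.mem_map.1 ha
        obtain ⟨b, hb', rfl⟩ := Finset.mem_map.1 hb
        refine Finset.mem_map.2 ⟨a * b, ?_, MonoidHom.ext fun x => rfl⟩
        simp only [Finset.mem_filter, Finset.mem_univ, true_and] at ha' hb' ⊢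
        exact (SemigroupAction.mul_smul a b χ).trans (by rw [hb', ha']))
      (by
        intro a ha
        obtain ⟨a, ha', rfl⟩ := Finset.mem_map.1 ha
        refine Finset.mem_map.2 ⟨a⁻¹, ?_, MonoidHom.ext fun x => rfl⟩
        simp only [Finset.mem_filter, Finset.mem_univ, true_and] at ha' ⊢
        exact MulAction.mem_stabilizer_iff.1 (inv_mem (MulAction.mem_stabilizer_iff.2 ha')))
      (by
        intro a ha
        obtain ⟨a, ha', rfl⟩ := Finset.mem_map.1 ha
        exact (Finset.mem_filter.1 ha').2)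
    rw [Finset.card_map, hj, ← pow_mul] at h
    have hst : Nat.card (MulAction.stabilizer L χ) = (Finset.univ.filter (fun l : L => l • χ = χ)).card := by
      rw [← Fintype.card_subtype, ← Nat.card_eq_fintype_card]; rfl
    rw [← hst, hs, mul_comm j] at h
    exact (Nat.pow_le_pow_iff_right (by norm_num)).1 h
  rw [hs] at hcount
  have hsd : s ≤ d := (Nat.pow_dvd_pow_iff_le_right (by norm_num)).1 (Dvd.intro_left _ hcount)
  have horb : (Finset.univ.filter (fun ψ => π ψ = Quotient.mk'' χ)).card = 2 ^ (d - s) :=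
    Nat.eq_of_mul_eq_mul_right (by positivity) (hcount.trans (by rw [← pow_add]; congr 1; omega))
  rw [horb]
  refine Dvd.dvd.trans ?_ (dvd_of_eq (show ((2 ^ (d - s) * 2 ^ j : ℕ) : ℤ) * e χ = _ by
    simp only [f, hj]; push_cast; ring))
  refine Dvd.dvd.mul_right (Int.natCast_dvd_natCast.2 ?_) _
  rw [← pow_add]
  exact pow_dvd_pow 2 (by omega)

end CfsgLib.Orders
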