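import Cfsg.Agent.Lib.Orders.GenerationUniqueMax
import Mathlib.GroupTheory.SemidirectProduct

/-!
# Iterated commutators with an automorphism generate

If the values of `c ↦ c * (α c)⁻¹` generate a finite group, then so do the values of each of its iterates:
otherwise `α` lies in a unique maximal subgroup of the semidirect product, and this is absorbing.
-/

set_option autoImplicit false
set_option linter.all false

namespace CfsgLib.Orders.IterComm

open Subgroup SemidirectProduct CfsgLib.Core
open scoped Pointwise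

universe u

variable {G : Type u} [Group G]

/-- the map `c ↦ c * (α c)⁻¹` -/
def twist (α : MulAut G) (c : G) : G := c * (α c)⁻¹

/-- the extension of `G` by the automorphism -/
abbrev Ext (α : MulAut G) := G ⋊[(Subgroup.zpowers α).subtype] (Subgroup.zpowers α)

/-- the elements with first coordinate in an invariant subgroup -/
def overLift (α : MulAut G) (J : Subgroup G) (hJ : ∀ z ∈ Subgroup.zpowers α, ∀ j ∈ J, z j ∈ J) :
    Subgroup (Ext α) where
  carrier := {x | x.left ∈ J}
  one_mem' := J.one_mem
  mul_mem' {x y} hx hy := by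
    show (x * y).left ∈ J
    rw [mul_left]
    exact J.mul_mem hx (hJ _ x.right.2 _ hy)
  inv_mem' {x} hx := by
    show (x⁻¹).left ∈ J
    rw [inv_left]
    exact hJ _ x.right⁻¹.2 _ (J.inv_mem hx)

theorem zpowers_invariant [Finite G] {α : MulAut G} {J : Subgroup G} (hJ : ∀ j ∈ J, α j ∈ J) :
    ∀ z ∈ Subgroup.zpowers α, ∀ j ∈ J, z j ∈ J := by
  intro z hz
  obtain ⟨n, rfl⟩ := mem_powers_iff_mem_zpowers.2 hz
  induction n with
  | zero => exact fun j hj => by simpa using hj
  | succ n ih =>
    intro j hj
    simp only [pow_succ, MulAut.mul_apply]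
    exact ih (Submonoid.mem_powers_iff _ _ |>.2 ⟨n, rfl⟩ |> mem_powers_iff_mem_zpowers.1) _ (hJ j hj)

theorem twist_mul (α : MulAut G) (x y : G) : twist α (x * y) = x * twist α y * x⁻¹ * twist α x := by
  simp only [twist, map_mul]; group

theorem closure_iterate [Finite G] (α : MulAut G) (hG : Subgroup.closure (Set.range (twist α)) = ⊤) (k : ℕ) :
    Subgroup.closure (Set.range (twist α)^[k]) = ⊤ := by
  suffices key : ∀ n, ∀ (K : Type u) [Group K] [Finite K] (β : MulAut K), Nat.card K = n →
      Subgroup.closure (Set.range (twist β)) = ⊤ → ∀ m : ℕ, Subgroup.closure (Set.range (twist β)^[m]) = ⊤ from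
    key _ G α rfl hG k
  intro n
  induction n using Nat.strong_induction_on with
  | _ n ih =>
  intro G _ _ α hn hG k
  classical
  by_contra hH
  haveI : Nontrivial G := by
    by_contra h
    rw [not_nontrivial_iff_subsingleton] at h
    exact hH (Subsingleton.elim _ _)
  set H := Subgroup.closure (Set.range (twist α)^[k]) with hHdef
  have hcomm : Function.Commute (α : G → G) (twist α) := fun x => by simp [twist]
  have hHinv : ∀ j ∈ H, α j ∈ H := by
    intro j hj
    have : H ≤ H.comap (α : G →* G) := by
      rw [hHdef, Subgroup.closure_le]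
      rintro _ ⟨x, rfl⟩
      exact Subgroup.subset_closure ⟨α x, ((hcomm.iterate_right k) x).symm⟩
    exact this hj
  haveI : Finite (MulAut G) := Finite.of_injective (fun f => (f : G → G)) DFunLike.coe_injective
  haveI : Finite (Ext α) := Finite.of_equiv _ SemidirectProduct.equivProd.symm
  set a : Ext α := inr ⟨α, mem_zpowers α⟩ with ha
  set A := Subgroup.zpowers a
  have hconj : ∀ c : G, (inl c : Ext α) * a * (inl c)⁻¹ = inl (twist α c) * a := by
    intro c
    refine SemidirectProduct.ext ?_ ?_ <;> simp [twist, ha]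
  have hinrA : ∀ z : Subgroup.zpowers α, (inr z : Ext α) ∈ A := by
    rintro ⟨z, hz⟩
    obtain ⟨i, rfl⟩ := Subgroup.mem_zpowers_iff.1 hz
    refine Subgroup.mem_zpowers_iff.2 ⟨i, ?_⟩
    rw [ha, ← map_zpow]
    rfl
  have hdec : ∀ x : Ext α, x = inl x.left * inr x.right := fun x => (inl_left_mul_inr_right x).symm
  -- the normal closure of `a` is everything
  have hcl : UniqueMax.Gen A ⊤ := by
    refine ⟨le_top, fun T _ hAT hN => ?_⟩
    haveI : T.Normal := normalizer_eq_top_iff.1 (top_le_iff.1 hN)
    have haT : a ∈ T := hAT (mem_zpowers a)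
    have h1 : (⊤ : Subgroup G) ≤ T.comap inl := by
      rw [← hG, Subgroup.closure_le]
      rintro _ ⟨c, rfl⟩
      have h2 := T.mul_mem (Subgroup.Normal.conj_mem inferInstance a haT (inl c)) (T.inv_mem haT)
      rw [hconj, mul_inv_cancel_right] at h2
      exact h2
    rw [eq_top_iff]
    intro x _
    rw [hdec x]
    exact T.mul_mem (h1 (mem_top _)) (hAT (hinrA _))
  have hAne : A ≠ ⊤ := by
    intro h
    obtain ⟨g, hg⟩ := exists_ne (1 : G)
    obtain ⟨i, hi⟩ := Subgroup.mem_zpowers_iff.1 (h ▸ mem_top (inl g) : (inl g : Ext α) ∈ A)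
    refine hg ?_
    rw [ha, ← map_zpow] at hi
    have h2 := congrArg SemidirectProduct.left hi
    rw [left_inr, left_inl] at h2
    exact h2.symm
  set V := overLift α H (zpowers_invariant hHinv)
  have hV : V ≠ ⊤ := by
    intro h
    refine hH (eq_top_iff.2 fun g _ => ?_)
    have h1 : (inl g : Ext α) ∈ V := h ▸ mem_top _
    simpa [V, overLift] using h1
  have hAV : A ≤ V := by
    rw [Subgroup.zpowers_le]
    show a.left ∈ H
    simp [ha]
  -- every proper generated overgroup lies below `V`
  have hgen : ∀ Z, UniqueMax.Gen A Z → Z ≠ ⊤ → Z ≤ V := by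
    intro Z hZ hZt
    set J := Z.comap (inl : G →* Ext α) with hJdef
    have hleft : ∀ x ∈ Z, x.left ∈ J := by
      intro x hx
      show inl x.left ∈ Z
      have := Z.mul_mem hx (Z.inv_mem (hZ.1 (hinrA x.right)))
      nth_rewrite 1 [hdec x] at this
      rwa [mul_inv_cancel_right] at this
    have hJinv : ∀ z ∈ Subgroup.zpowers α, ∀ j ∈ J, z j ∈ J := by
      intro z hz j hj
      show inl (z j) ∈ Z
      rw [show (inl (z j) : Ext α) = inr ⟨z, hz⟩ * inl j * inr (⟨z, hz⟩ : Subgroup.zpowers α)⁻¹ from inl_aut (⟨z, hz⟩ : Subgroup.zpowers α) j]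
      exact Z.mul_mem (Z.mul_mem (hZ.1 (hinrA _)) hj) (hZ.1 (hinrA _))
    have hαJ : ∀ j ∈ J, α j ∈ J := hJinv α (mem_zpowers α)
    set J' := Subgroup.closure (twist α '' (J : Set G))
    have hJ'le : J' ≤ J := by
      rw [Subgroup.closure_le]
      rintro _ ⟨j, hj, rfl⟩
      exact J.mul_mem hj (J.inv_mem (hαJ j hj))
    have hconjJ' : ∀ j ∈ J, ∀ y ∈ J', j * y * j⁻¹ ∈ J' := by
      intro j hj y hy
      have : J' ≤ J'.comap (MulAut.conj j).toMonoidHom := by
        rw [Subgroup.closure_le]
        rintro _ ⟨i, hi, rfl⟩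
        show j * twist α i * j⁻¹ ∈ J'
        rw [show j * twist α i * j⁻¹ = twist α (j * i) * (twist α j)⁻¹ by rw [twist_mul]; group]
        exact J'.mul_mem (Subgroup.subset_closure ⟨_, J.mul_mem hj hi, rfl⟩)
          (J'.inv_mem (Subgroup.subset_closure ⟨_, hj, rfl⟩))
      exact this hy
    have hαJ' : ∀ y ∈ J', α y ∈ J' := by
      intro y hy
      have : J' ≤ J'.comap (α : G →* G) := by
        rw [Subgroup.closure_le]
        rintro _ ⟨i, hi, rfl⟩
        exact Subgroup.subset_closure ⟨α i, hαJ i hi, (hcomm i).symm⟩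
      exact this hy
    have hmod : ∀ z ∈ Subgroup.zpowers α, ∀ j ∈ J, j * (z j)⁻¹ ∈ J' := by
      intro z hz
      obtain ⟨i, rfl⟩ := mem_powers_iff_mem_zpowers.2 hz
      clear hz
      induction i with
      | zero => exact fun j hj => by simp
      | succ i ih' =>
        intro j hj
        have h1 := J'.mul_mem (Subgroup.subset_closure ⟨j, hj, rfl⟩ : twist α j ∈ J') (ih' _ (hαJ j hj))
        simp only [pow_succ, MulAut.mul_apply]
        simpa [twist, mul_assoc] using h1
    set T := overLift α J' (zpowers_invariant hαJ')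
    have hinrT : ∀ z, (inr z : Ext α) ∈ T := fun z => by
      show (inr z : Ext α).left ∈ J'
      simp
    have hTZ : T ≤ Z := fun x hx => by
      rw [hdec x]
      exact Z.mul_mem (hJ'le hx) (hZ.1 (hinrA _))
    have hAT : A ≤ T := (Subgroup.zpowers_le).2 (hinrT _)
    have hnorm : Z ≤ normalizer (T : Set (Ext α)) := by
      intro x hx
      rw [hdec x]
      refine mul_mem ?_ (le_normalizer (hinrT _))
      have hc : ∀ j ∈ J, ∀ y ∈ T, inl j * y * (inl j)⁻¹ ∈ T := by
        intro j hj y hy
        show (inl j * y * (inl j)⁻¹ : Ext α).left ∈ J'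
        have h1 := J'.mul_mem (hconjJ' j hj _ hy) (hmod _ y.right.2 j hj)
        simpa [mul_assoc] using h1
      rw [mem_normalizer_iff]
      intro y
      refine ⟨fun hy => hc _ (hleft x hx) y hy, fun hy => ?_⟩
      have h1 := hc _ (J.inv_mem (hleft x hx)) _ hy
      rw [map_inv] at h1
      simpa [mul_assoc] using h1
    have hTeq := hZ.2 T hTZ hAT hnorm
    have hJne : J ≠ ⊤ := by
      intro h
      refine hZt (eq_top_iff.2 fun x _ => ?_)
      rw [hdec x]
      exact Z.mul_mem (show x.left ∈ J from h ▸ mem_top _) (hZ.1 (hinrA _))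
    -- restrict to `J`
    let β : MulAut J := MulEquiv.ofBijective
      (((α : G →* G).comp J.subtype).codRestrict J fun j => hαJ j j.2)
      (Finite.injective_iff_bijective.1 fun x y hxy => Subtype.ext (α.injective (congrArg Subtype.val hxy)))
    have htw : ∀ x : J, ((twist β x : J) : G) = twist α (x : G) := fun x => rfl
    have hβ : Subgroup.closure (Set.range (twist β)) = ⊤ := by
      apply Subgroup.map_injective J.subtype_injective
      rw [MonoidHom.map_closure, ← MonoidHom.range_eq_map, J.range_subtype, ← Set.range_comp,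
        show (J.subtype : J → G) ∘ twist β = twist α ∘ (J.subtype : J → G) from funext htw, Set.range_comp]
      refine le_antisymm (by simpa [J'] using hJ'le) fun j hj => ?_
      have h1 : (inl j : Ext α) ∈ T := hTeq.ge hj
      simpa [T, overLift, J'] using h1
    have hlt : Nat.card J < n := hn ▸ lt_of_le_of_ne (Subgroup.card_le_card_group J) fun h =>
      hJne ((Subgroup.card_eq_iff_eq_top J).1 h)
    have hJH : J ≤ H := by
      intro j hj
      have h1 : (⊤ : Subgroup J) ≤ H.comap J.subtype := by
        rw [← ih _ hlt J β rfl hβ k, Subgroup.closure_le]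
        rintro _ ⟨x, rfl⟩
        have : Function.Semiconj (J.subtype : J → G) (twist β) (twist α) := htw
        exact Subgroup.subset_closure ⟨J.subtype x, ((this.iterate_right k) x).symm⟩
      exact h1 (mem_top ⟨j, hj⟩)
    exact fun x hx => hJH (hleft x hx)
  -- the unique maximal subgroup
  have huniq := UniqueMax.main A hAne hcl ⟨V, hV, hgen⟩
  obtain ⟨X, hX, hVX⟩ := (eq_top_or_exists_le_coatom V).resolve_left hV
  have hAX : A ≤ X := hAV.trans hVX
  have hNX : normalizer (X : Set (Ext α)) = X := by
    refine (hX.le_iff.1 le_normalizer).resolve_left fun h => hX.1 ?_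
    exact hcl.2 X le_top hAX h.ge
  have hstep : ∀ c : G, inl (twist α c) ∈ X → (inl c : Ext α) ∈ X := by
    intro c hc
    have h1 : inl c * a * (inl c)⁻¹ ∈ X := hconj c ▸ X.mul_mem hc (hAX (mem_zpowers a))
    have h2 : A ≤ MulAut.conj (inl c : Ext α)⁻¹ • X := by
      rw [Subgroup.zpowers_le, Subgroup.mem_pointwise_smul_iff_inv_smul_mem, ← map_inv, inv_inv,
        MulAut.smul_def, MulAut.conj_apply]
      exact h1
    have h3 := huniq X _ hX (UniqueMax.coatom_conj hX _) hAX h2
    have h4 : (inl c : Ext α)⁻¹ ∈ normalizer (X : Set (Ext α)) := mem_normalizer_iff_conj_smul_eq.2 h3.symm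
    rw [hNX] at h4
    simpa using X.inv_mem h4
  have hall : ∀ (m : ℕ) (c : G), (twist α)^[m] c ∈ X.comap (inl : G →* Ext α) → (inl c : Ext α) ∈ X := by
    intro m
    induction m with
    | zero => exact fun c h => h
    | succ m ihm =>
      intro c h
      rw [Function.iterate_succ_apply] at h
      exact hstep c (ihm _ h)
  refine hX.1 (eq_top_iff.2 fun x _ => ?_)
  rw [hdec x]
  refine X.mul_mem (hall k _ (hVX ?_)) (hAX (hinrA _))
  show (inl ((twist α)^[k] x.left) : Ext α).left ∈ H
  simpa using Subgroup.subset_closure (Set.mem_range_self x.left)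

end CfsgLib.Orders.IterComm
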