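import Cfsg.Agent.Lib.Core.FrobeniusRegular
import Cfsg.Agent.Lib.PGroups.ClassTwo
import Mathlib

/-!
# Derived length of linear `p`-groups
-/

set_option autoImplicit false
set_option linter.all false

namespace CfsgLib.Orders.LinearDerived

open Module
open scoped commutatorElement

universe u v w

theorem derivedSeries_add_le {P : Type u} [Group P] (M : Subgroup P) (hM : derivedSeries P 1 ≤ M) :
    ∀ j : ℕ, derivedSeries P (j + 1) ≤ (derivedSeries M j).map M.subtype := by
  intro j
  induction j with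
  | zero => rwa [derivedSeries_zero, ← MonoidHom.range_eq_map, Subgroup.range_subtype]
  | succ j ih =>
    rw [derivedSeries_succ P (j + 1), derivedSeries_succ M j, Subgroup.map_commutator]
    exact Subgroup.commutator_mono ih ih

section

variable {k : Type v} [Field k]

/-- reduction to faithful representations -/
theorem le_ker_of_faithful {P : Type u} [Group P] [Finite P] {p : ℕ} (hP : IsPGroup p P) {V : Type w}
    [AddCommGroup V] [Module k V] (ρ : P →* Module.End k V) (j : ℕ)
    (h : ∀ {Q : Type u} [Group Q] [Finite Q], IsPGroup p Q → ∀ σ : Q →* Module.End k V,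
      Function.Injective σ → derivedSeries Q j = ⊥) :
    ∀ g ∈ derivedSeries P j, ρ g = 1 := by
  intro g hg
  let θ := ρ.toHomUnits
  have hq := h (hP.to_quotient θ.ker) ((Units.coeHom _).comp (QuotientGroup.kerLift θ))
    (Units.val_injective.comp (QuotientGroup.kerLift_injective θ))
  have h1 := map_derivedSeries_le_derivedSeries (QuotientGroup.mk' θ.ker) j
  rw [hq, le_bot_iff, Subgroup.map_eq_bot_iff, QuotientGroup.ker_mk'] at h1
  have h2 : θ g = 1 := h1 hg
  have h3 : ((θ g : (Module.End k V)ˣ) : Module.End k V) = 1 := by rw [h2]; rfl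
  simpa [θ] using h3

theorem exists_invariant {p : ℕ} [Fact p.Prime] [CharP k p] {P : Type u} [Group P] [Finite P] (hP : IsPGroup p P) :
    ∀ (m : ℕ) (V : Type w) [AddCommGroup V] [Module k V] [FiniteDimensional k V] (ρ : P →* Module.End k V),
      m ≤ finrank k V → ∃ W : Submodule k V, finrank k W = m ∧ ∀ g, ∀ x ∈ W, ρ g x ∈ W := by
  intro m
  induction m with
  | zero =>
    intro V _ _ _ ρ _
    exact ⟨⊥, finrank_bot k V, fun g x hx => by rw [Submodule.mem_bot] at hx ⊢; rw [hx, map_zero]⟩
  | succ m ih =>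
    intro V _ _ _ ρ hm
    haveI : Nontrivial V := Module.nontrivial_of_finrank_pos (R := k) (by omega)
    obtain ⟨u, hu⟩ := exists_ne (0 : V)
    obtain ⟨v, -, hv, hfix⟩ := CfsgLib.Core.FrobReg.exists_fixed_of_isPGroup hP ρ hu
    set L := Submodule.span k ({v} : Set V)
    have hL : ∀ g, L ≤ L.comap (ρ g) := fun g => by
      rw [Submodule.span_le]
      intro x hx
      rw [Set.mem_singleton_iff] at hx
      rw [hx]
      show ρ g v ∈ L
      rw [hfix g]
      exact Submodule.subset_span rfl
    let σ : P →* Module.End k (V ⧸ L) :=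
      { toFun := fun g => L.mapQ L (ρ g) (hL g)
        map_one' := by ext x; simp
        map_mul' := fun a b => by ext x; simp [map_mul] }
    have hq : finrank k (V ⧸ L) + 1 = finrank k V := by
      rw [← Submodule.finrank_quotient_add_finrank L, finrank_span_singleton hv]
    obtain ⟨W, hW, hWinv⟩ := ih (V ⧸ L) σ (by omega)
    refine ⟨W.comap L.mkQ, ?_, fun g x hx => hWinv g _ hx⟩
    have hle : L ≤ W.comap L.mkQ := fun x hx => by
      show L.mkQ x ∈ W
      rw [Submodule.mkQ_apply, (Submodule.Quotient.mk_eq_zero L).2 hx]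
      exact W.zero_mem
    have h1 := LinearMap.finrank_range_add_finrank_ker (L.mkQ.comp (W.comap L.mkQ).subtype)
    rw [LinearMap.range_comp, Submodule.range_subtype, Submodule.map_comap_eq_of_surjective L.mkQ_surjective,
      LinearMap.ker_comp, Submodule.ker_mkQ] at h1
    have h2 : finrank k (Submodule.comap (W.comap L.mkQ).subtype L) = 1 := by
      rw [(Submodule.comapSubtypeEquivOfLe hle).finrank_eq, finrank_span_singleton hv]
    omega

theorem derived_le_ker_of_charP {p : ℕ} [Fact p.Prime] [CharP k p] :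
    ∀ (j : ℕ) (P : Type u) [Group P] [Finite P] (hP : IsPGroup p P) (V : Type w) [AddCommGroup V] [Module k V]
      [FiniteDimensional k V] (ρ : P →* Module.End k V), finrank k V ≤ 2 ^ j →
      ∀ g ∈ derivedSeries P j, ρ g = 1 := by
  intro j
  induction j with
  | zero =>
    intro P _ _ hP V _ _ _ ρ hV g _
    refine LinearMap.ext fun x => ?_
    by_cases hx : x = 0
    · simp [hx]
    obtain ⟨v, -, hv, hfix⟩ := CfsgLib.Core.FrobReg.exists_fixed_of_isPGroup hP ρ hx
    haveI : Nontrivial V := ⟨⟨x, 0, hx⟩⟩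
    have h1 : finrank k V = 1 := by
      have := Module.finrank_pos (R := k) (M := V)
      simp at hV; omega
    obtain ⟨c, rfl⟩ := (finrank_eq_one_iff_of_nonzero' v hv).1 h1 x
    simp [hfix g]
  | succ j ih =>
    intro P _ _ hP V _ _ _ ρ hV
    by_cases hsmall : finrank k V ≤ 2 ^ j
    · exact fun g hg => ih P hP V ρ hsmall g (derivedSeries_antitone P (Nat.le_succ j) hg)
    obtain ⟨W, hW, hWinv⟩ := exists_invariant hP (2 ^ j) V ρ (le_of_not_ge hsmall)
    let σ : P →* Module.End k W :=
      { toFun := fun g => (ρ g).restrict (hWinv g)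
        map_one' := by ext x; simp [LinearMap.restrict_apply]
        map_mul' := fun a b => by ext x; simp [LinearMap.restrict_apply, map_mul] }
    have hW' : ∀ g, W ≤ W.comap (ρ g) := fun g x hx => hWinv g x hx
    let τ : P →* Module.End k (V ⧸ W) :=
      { toFun := fun g => W.mapQ W (ρ g) (hW' g)
        map_one' := by ext x; simp
        map_mul' := fun a b => by ext x; simp [map_mul] }
    have hq := Submodule.finrank_quotient_add_finrank W
    have h1 := ih P hP W σ hW.le
    have h2 := ih P hP (V ⧸ W) τ (by rw [pow_succ] at hV; omega)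
    have hfix : ∀ g ∈ derivedSeries P j, ∀ x ∈ W, ρ g x = x := fun g hg x hx =>
      congrArg Subtype.val (LinearMap.congr_fun (h1 g hg) ⟨x, hx⟩)
    have hmod : ∀ g ∈ derivedSeries P j, ∀ x : V, ρ g x - x ∈ W := fun g hg x => by
      have := LinearMap.congr_fun (h2 g hg) (Submodule.Quotient.mk x)
      exact (Submodule.Quotient.eq W).1 this
    have hcomm : ∀ g ∈ derivedSeries P j, ∀ h ∈ derivedSeries P j, ρ (g * h) = ρ (h * g) := by
      intro g hg h hh
      refine LinearMap.ext fun x => ?_
      have e1 : ρ g (ρ h x - x) = ρ h x - x := hfix g hg _ (hmod h hh x)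
      have e2 : ρ h (ρ g x - x) = ρ g x - x := hfix h hh _ (hmod g hg x)
      rw [map_sub, sub_eq_iff_eq_add] at e1 e2
      rw [map_mul, map_mul, Module.End.mul_apply, Module.End.mul_apply, e1, e2]
      abel
    intro g hg
    have hle : derivedSeries P (j + 1) ≤ ρ.toHomUnits.ker := by
      rw [derivedSeries_succ, Subgroup.commutator_le]
      intro a ha b hb
      rw [MonoidHom.mem_ker, map_commutatorElement, commutatorElement_eq_one_iff_mul_comm, ← map_mul, ← map_mul]
      exact Units.ext (by simpa using hcomm a ha b hb)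
    have h3 : ((ρ.toHomUnits g : (Module.End k V)ˣ) : Module.End k V) = 1 := by rw [hle hg]; rfl
    simpa using h3

theorem iSup_eigenspace_eq_top_of_pow [IsAlgClosed k] {V : Type w} [AddCommGroup V] [Module k V] [FiniteDimensional k V]
    (f : Module.End k V) {m : ℕ} (hm : (m : k) ≠ 0) (hf : f ^ m = 1) : ⨆ μ : k, f.eigenspace μ = ⊤ := by
  have hsq : Squarefree (Polynomial.X ^ m - Polynomial.C (1 : k)) :=
    (Polynomial.separable_X_pow_sub_C 1 hm one_ne_zero).squarefree
  have hss : f.IsSemisimple := Module.End.isSemisimple_of_squarefree_aeval_eq_zero hsq (by simp [hf])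
  rw [← Module.End.iSup_maxGenEigenspace_eq_top f]
  exact iSup_congr fun μ => (hss.isFinitelySemisimple.maxGenEigenspace_eq_eigenspace μ).symm

theorem eigenspace_inv {V : Type w} [AddCommGroup V] [Module k V] {a f : Module.End k V} (h : Commute a f) (μ : k) :
    ∀ x ∈ a.eigenspace μ, f x ∈ a.eigenspace μ := by
  intro x hx
  rw [Module.End.mem_eigenspace_iff] at hx ⊢
  rw [← Module.End.mul_apply, h.eq, Module.End.mul_apply, hx, map_smul]

theorem derived_le_ker_of_ne [IsAlgClosed k] {p : ℕ} [hp : Fact p.Prime] (hpk : (p : k) ≠ 0) :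
    ∀ (n : ℕ) (P : Type u) [Group P] [Finite P] (hP : IsPGroup p P) (V : Type w) [AddCommGroup V] [Module k V]
      [FiniteDimensional k V] (ρ : P →* Module.End k V) (j : ℕ), finrank k V = n → n < 2 ^ j →
      ∀ g ∈ derivedSeries P j, ρ g = 1 := by
  intro n
  induction n using Nat.strong_induction_on with
  | _ n ih =>
  intro P _ _ hP V _ _ _ ρ j hV hj
  rcases Nat.eq_zero_or_pos n with hn | hn
  · haveI : Subsingleton V := Module.finrank_zero_iff.1 (hV.trans hn)
    exact fun g _ => LinearMap.ext fun x => Subsingleton.elim _ _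
  refine le_ker_of_faithful hP ρ j fun {Q} _ _ hQ σ hσ => ?_
  obtain ⟨i, rfl⟩ : ∃ i, j = i + 1 := ⟨j - 1, by
    rcases Nat.eq_zero_or_pos j with h0 | h0
    · rw [h0] at hj; simp at hj; omega
    · omega⟩
  haveI : Nontrivial V := Module.nontrivial_of_finrank_pos (R := k) (by omega)
  have hdiag : ∀ a : Q, ⨆ μ : k, (σ a).eigenspace μ = ⊤ := fun a => by
    obtain ⟨e, he⟩ := hQ a
    refine iSup_eigenspace_eq_top_of_pow (σ a) (m := p ^ e) ?_ (by rw [← map_pow, he, map_one])
    rw [Nat.cast_pow]
    exact pow_ne_zero _ hpk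
  -- it suffices to act trivially on a spanning family of invariant subspaces
  have hres : ∀ (M : Subgroup Q) (W : Submodule k V) (l : ℕ), (∀ g ∈ M, ∀ x ∈ W, σ g x ∈ W) → finrank k W < n →
      finrank k W < 2 ^ l → ∀ g ∈ (derivedSeries M l).map M.subtype, ∀ x ∈ W, σ g x = x := by
    rintro M W l hinv hWn hWl _ ⟨g, hg, rfl⟩ x hx
    let τ : M →* Module.End k W :=
      { toFun := fun g => (σ (g : Q)).restrict (hinv g g.2)
        map_one' := by ext x; simp [LinearMap.restrict_apply]
        map_mul' := fun a b => by ext x; simp [LinearMap.restrict_apply, map_mul] }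
    exact congrArg Subtype.val (LinearMap.congr_fun (ih _ hWn M (hQ.to_subgroup M) W τ l rfl hWl g hg) ⟨x, hx⟩)
  have hone : ∀ (a : Q), (∀ g, (∀ μ : k, ∀ x ∈ (σ a).eigenspace μ, σ g x = x) → g = 1) := fun a g hg => by
    refine hσ ((LinearMap.ext fun x => ?_).trans (map_one σ).symm)
    have hle : (⨆ μ : k, (σ a).eigenspace μ) ≤ LinearMap.eqLocus (σ g) (1 : Module.End k V) :=
      iSup_le fun μ y hy => LinearMap.mem_eqLocus.2 (by simpa using hg μ y hy)
    exact LinearMap.mem_eqLocus.1 (hle ((hdiag a).ge Submodule.mem_top))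
  by_cases hscal : ∀ z ∈ Subgroup.center Q, ∃ c : k, ∀ x, σ z x = c • x
  swap
  · push Not at hscal
    obtain ⟨z, hz, hzs⟩ := hscal
    rw [eq_bot_iff]
    intro g hg
    rw [Subgroup.mem_bot]
    refine hone z g fun μ => ?_
    have hlt : finrank k ((σ z).eigenspace μ) < n := by
      rw [← hV]
      refine Submodule.finrank_lt fun htop => ?_
      obtain ⟨x, hx⟩ := hzs μ
      exact hx (Module.End.mem_eigenspace_iff.1 (htop ▸ Submodule.mem_top))
    have h := hres ⊤ ((σ z).eigenspace μ) (i + 1)
      (fun g _ => eigenspace_inv ((show Commute z g from (Subgroup.mem_center_iff.1 hz g).symm).map σ) μ) hlt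
      (hlt.trans hj)
    refine h g ?_
    have hs := Subgroup.topEquiv (G := Q)
    have h1 := map_derivedSeries_eq (f := (Subgroup.topEquiv (G := Q)).toMonoidHom) (Subgroup.topEquiv (G := Q)).surjective (i + 1)
    exact h1.symm ▸ hg
  by_cases hab : ∀ a b : Q, a * b = b * a
  · rw [eq_bot_iff]
    refine (derivedSeries_antitone Q (Nat.le_add_left 1 i)).trans ?_
    rw [derivedSeries_one, commutator_def, Subgroup.commutator_le]
    intro a _ b _
    rw [Subgroup.mem_bot, commutatorElement_eq_one_iff_mul_comm]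
    exact hab a b
  haveI : Nontrivial (Q ⧸ Subgroup.center Q) := QuotientGroup.nontrivial_iff.2 fun h => hab fun a b =>
    Subgroup.mem_center_iff.1 (h.ge (Subgroup.mem_top b)) a
  haveI := (hQ.to_quotient (Subgroup.center Q)).center_nontrivial
  obtain ⟨⟨a', ha'⟩, ha1⟩ := exists_ne (1 : Subgroup.center (Q ⧸ Subgroup.center Q))
  obtain ⟨a, rfl⟩ := QuotientGroup.mk'_surjective _ a'
  have hcen : ∀ g : Q, ⁅g, a⁆ ∈ Subgroup.center Q := fun g => (QuotientGroup.eq_one_iff _).1 (by
    show QuotientGroup.mk' (Subgroup.center Q) ⁅g, a⁆ = 1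
    rw [map_commutatorElement, commutatorElement_eq_one_iff_mul_comm]
    exact Subgroup.mem_center_iff.1 ha' _)
  let φ : Q →* Q := MonoidHom.mk' (fun g => ⁅g, a⁆) fun x y => CfsgLib.PGroups.comm_mul_left_of_central (hcen y)
  obtain ⟨g₀, hg₀⟩ : ∃ g, ⁅g, a⁆ ≠ 1 := by
    by_contra h
    push Not at h
    refine ha1 (Subtype.ext ((QuotientGroup.eq_one_iff a).2 (Subgroup.mem_center_iff.2 fun g => ?_)))
    exact commutatorElement_eq_one_iff_mul_comm.1 (h g)
  have hM : derivedSeries Q 1 ≤ φ.ker := by
    rw [derivedSeries_one, commutator_def, Subgroup.commutator_le]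
    intro x _ y _
    rw [MonoidHom.mem_ker, map_commutatorElement, commutatorElement_eq_one_iff_mul_comm]
    exact Subgroup.mem_center_iff.1 (hcen y) _
  have h1 := derivedSeries_add_le φ.ker hM i
  rw [eq_bot_iff]
  intro g hg
  rw [Subgroup.mem_bot]
  refine hone a g fun μ => ?_
  by_cases hbot : (σ a).eigenspace μ = ⊥
  · intro x hx
    rw [hbot, Submodule.mem_bot] at hx
    rw [hx, map_zero]
  obtain ⟨c, hc⟩ := hscal _ (hcen g₀)
  have hc1 : c ≠ 1 := fun e => hg₀ (hσ ((LinearMap.ext fun x => by rw [hc x, e, one_smul]; rfl).trans (map_one σ).symm))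
  have hμ : μ ≠ 0 := fun e => hbot (by
    rw [Submodule.eq_bot_iff]
    intro x hx
    rw [Module.End.mem_eigenspace_iff, e, zero_smul] at hx
    have h2 : σ a⁻¹ (σ a x) = x := by rw [← Module.End.mul_apply, ← map_mul, inv_mul_cancel, map_one]; rfl
    rw [← h2, hx, map_zero])
  -- `g₀⁻¹` moves the eigenspace to another one
  set W := (σ a).eigenspace μ
  let t : V ≃ₗ[k] V :=
    { σ g₀⁻¹ with
      invFun := σ g₀
      left_inv := fun x => by
        show σ g₀ (σ g₀⁻¹ x) = x
        rw [← Module.End.mul_apply, ← map_mul, mul_inv_cancel, map_one]; rfl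
      right_inv := fun x => by
        show σ g₀⁻¹ (σ g₀ x) = x
        rw [← Module.End.mul_apply, ← map_mul, inv_mul_cancel, map_one]; rfl }
  have himg : W.map (t : V →ₗ[k] V) ≤ (σ a).eigenspace (c * μ) := by
    rintro _ ⟨x, hx, rfl⟩
    rw [Module.End.mem_eigenspace_iff]
    show σ a (σ g₀⁻¹ x) = (c * μ) • σ g₀⁻¹ x
    have e : a * g₀⁻¹ = g₀⁻¹ * ⁅g₀, a⁆ * a := by rw [commutatorElement_def]; group
    have hx' : σ a x = μ • x := Module.End.mem_eigenspace_iff.1 hx
    rw [← Module.End.mul_apply, ← map_mul, e, map_mul, map_mul, Module.End.mul_apply, Module.End.mul_apply, hx',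
      hc, smul_smul, map_smul]
  have hdis : Disjoint W (W.map (t : V →ₗ[k] V)) :=
    ((σ a).disjoint_genEigenspace (fun e => hc1 ((mul_eq_right₀ hμ).1 e.symm)) 1 1).mono le_rfl himg
  have hdim : finrank k W + finrank k W ≤ n := by
    have h2 := Submodule.finrank_sup_add_finrank_inf_eq W (W.map (t : V →ₗ[k] V))
    rw [hdis.eq_bot, finrank_bot, add_zero, LinearEquiv.finrank_map_eq] at h2
    rw [← h2, ← hV]
    exact Submodule.finrank_le _
  have hWn : finrank k W < n := by omega
  exact hres φ.ker W i (fun g hg => eigenspace_inv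
    ((show Commute a g from (commutatorElement_eq_one_iff_mul_comm.1 (MonoidHom.mem_ker.1 hg)).symm).map σ) μ)
    hWn (by rw [pow_succ] at hj; omega) g (h1 hg)

end

theorem derivedLength_linear {P : Type u} [Group P] [Finite P] (p : ℕ) [Fact p.Prime] (hP : IsPGroup p P) (F : Type v)
    [Field F] (n : ℕ) (hn : 1 ≤ n) (ρ : P →* Matrix.GeneralLinearGroup (Fin n) F) (hρ : Function.Injective ρ) :
    derivedSeries P (Nat.log 2 n + 1) = ⊥ := by
  classical
  let K := AlgebraicClosure F
  let m : Matrix (Fin n) (Fin n) F →* Module.End K (Fin n → K) :=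
    ((Matrix.toLinAlgEquiv' (R := K) (n := Fin n)).toAlgHom.toRingHom.toMonoidHom).comp
      (algebraMap F K).mapMatrix.toMonoidHom
  have hm : Function.Injective m := by
    intro a b h
    have h1 := (Matrix.toLinAlgEquiv' (R := K) (n := Fin n)).injective h
    exact Matrix.map_injective (algebraMap F K).injective h1
  let σ : P →* Module.End K (Fin n → K) := m.comp ((Units.coeHom _).comp ρ)
  have hσ : Function.Injective σ := hm.comp (Units.val_injective.comp hρ)
  have hfr : Module.finrank K (Fin n → K) = n := Module.finrank_fin_fun K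
  have hlt : n < 2 ^ (Nat.log 2 n + 1) := Nat.lt_pow_succ_log_self one_lt_two n
  rw [eq_bot_iff]
  intro g hg
  rw [Subgroup.mem_bot]
  refine hσ (Eq.trans ?_ (map_one σ).symm)
  by_cases hpk : (p : K) = 0
  · haveI : CharP K p := by
      obtain ⟨q, hq⟩ := CharP.exists K
      haveI := hq
      have hd := (CharP.cast_eq_zero_iff K q p).1 hpk
      rcases (Nat.dvd_prime Fact.out).1 hd with rfl | rfl
      · exact absurd rfl (CharP.char_ne_one K 1)
      · exact hq
    exact derived_le_ker_of_charP (Nat.log 2 n + 1) P hP (Fin n → K) σ (by omega) g hg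
  · exact derived_le_ker_of_ne hpk n P hP (Fin n → K) σ (Nat.log 2 n + 1) hfr hlt g hg

end CfsgLib.Orders.LinearDerived
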