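import Cfsg.Agent.Lib.Core.Coprime
import Cfsg.Agent.Lib.Orders.Parts
import Cfsg.Agent.Lib.OddLocal.FittingHall
import Cfsg.Agent.Lib.PLocal.NormalPComplementThms
import Cfsg.Agent.Lib.Transfer.Fusion
import Cfsg.Agent.Lib.Core.FPFAutomorphism

/-!
# Groups with a nilpotent maximal subgroup (Thompson, Deskins, Janko)
-/

set_option autoImplicit false

namespace CfsgLib.Orders

universe u

open scoped Pointwise commutatorElement
open CfsgLib

variable {G : Type u} [Group G] [Finite G]

/-- A normal Sylow of a nilpotent maximal corefree subgroup is a Sylow subgroup of `G`. -/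
theorem normalizer_eq_of_le_center_ish {M H : Subgroup G} (hmax : IsCoatom M)
    (hcore : ∀ N : Subgroup G, N.Normal → N ≤ M → N = ⊥) (hH : H ≤ M) (hne : H ≠ ⊥)
    (hn : M ≤ Subgroup.normalizer (H : Set G)) : Subgroup.normalizer (H : Set G) = M := by
  rcases hmax.le_iff.1 hn with h | h
  · exact absurd (hcore H (Subgroup.normalizer_eq_top_iff.1 h) hH) hne
  · exact h

theorem isCoatom_map_conj {M : Subgroup G} (hmax : IsCoatom M) (g : G) :
    IsCoatom (MulAut.conj g • M) := by
  rw [Core.conj_smul_eq_map]
  exact (MulAut.conj g).mapSubgroup.isCoatom_iff M |>.2 hmax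

/-- For class at most two, normalizers of `2`-subgroups induce `2`-groups of automorphisms. -/
theorem centralizes_of_class_two {p : ℕ} [Fact p.Prime] (S : Sylow p G) {M : Subgroup G}
    (hmax : IsCoatom M) (hcore : ∀ N : Subgroup G, N.Normal → N ≤ M → N = ⊥)
    (hnil : Group.IsNilpotent M) (hSM : (S : Subgroup G) ≤ M)
    (hcl : ∀ a ∈ M, ∀ b ∈ M, ∀ c ∈ M, ⁅⁅a, b⁆, c⁆ = 1)
    {H : Subgroup G} (hHS : H ≤ (S : Subgroup G))
    (hT : ∀ T : Subgroup G, IsPGroup p T → (S : Subgroup G) ⊓ Subgroup.centralizer (H : Set G) ≤ T →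
      T ≤ Subgroup.centralizer (H : Set G) → T = (S : Subgroup G) ⊓ Subgroup.centralizer (H : Set G))
    {g : G} (hg : g ∈ Subgroup.normalizer (H : Set G)) (hodd : (orderOf g).Coprime p) :
    g ∈ Subgroup.centralizer (H : Set G) := by
  rcases eq_or_ne H ⊥ with rfl | hne
  · rw [Subgroup.mem_centralizer_iff]
    intro y hy
    rw [SetLike.mem_coe, Subgroup.mem_bot] at hy
    rw [hy, one_mul, mul_one]
  set C := Subgroup.centralizer (H : Set G)
  set T := (S : Subgroup G) ⊓ C
  set H2 := H ⊔ T
  have hH2S : H2 ≤ (S : Subgroup G) := sup_le hHS inf_le_left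
  have hcomm : ∀ a ∈ (S : Subgroup G), ∀ b ∈ (S : Subgroup G), ⁅a, b⁆ ∈ T := by
    intro a ha b hb
    refine Subgroup.mem_inf.2 ⟨mul_mem (mul_mem (mul_mem ha hb) (inv_mem ha)) (inv_mem hb), ?_⟩
    rw [Subgroup.mem_centralizer_iff]
    intro c hc
    exact (commutatorElement_eq_one_iff_mul_comm.1 (hcl a (hSM ha) b (hSM hb) c (hSM (hHS hc)))).symm
  -- elements of `M` of order prime to `p` centralise `S`
  have hM' : ∀ m ∈ M, (orderOf m).Coprime p → ∀ s ∈ (S : Subgroup G), Commute m s := by
    intro m hm hmo s hs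
    obtain ⟨k, hk⟩ := S.isPGroup'.exists_card_eq
    have hso : (orderOf m).Coprime (orderOf s) :=
      (hmo.pow_right k).coprime_dvd_right (hk ▸ Subgroup.orderOf_dvd_natCard _ hs)
    have := OddLocal.commute_of_coprime_orderOf hnil (x := (⟨m, hm⟩ : M)) (y := ⟨s, hSM hs⟩)
      (by rwa [Subgroup.orderOf_mk, Subgroup.orderOf_mk])
    exact congrArg Subtype.val this.eq
  have hsplit : ∀ m ∈ M, ∃ s ∈ (S : Subgroup G), ∃ m' ∈ M, (orderOf m').Coprime p ∧ m = s * m' := by
    intro m hm
    obtain ⟨u, v, hu, hv, huv, -, ⟨a, ha⟩, hvo⟩ := exists_split (Fact.out : p.Prime) m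
    have hz : Subgroup.zpowers m ≤ M := Subgroup.zpowers_le.2 hm
    refine ⟨u, ?_, v, hz hv, hvo, huv⟩
    -- `u` normalises `S` (it lies in `M`), hence lies in `S`
    have hnorm : Subgroup.zpowers u ≤ Subgroup.normalizer ((S : Subgroup G) : Set G) := by
      have hSn : M ≤ Subgroup.normalizer ((S : Subgroup G) : Set G) := by
        have hP : ((S.subtype hSM : Sylow p M) : Subgroup M).Normal :=
          haveI := hnil; inferInstance
        intro x hx
        rw [Subgroup.mem_normalizer_iff]
        intro y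
        constructor
        · intro hy
          have := hP.conj_mem ⟨y, hSM hy⟩ (by rw [Sylow.coe_subtype, Subgroup.mem_subgroupOf]; exact hy) ⟨x, hx⟩
          rw [Sylow.coe_subtype, Subgroup.mem_subgroupOf] at this
          exact this
        · intro hy
          have := hP.conj_mem ⟨x * y * x⁻¹, hSM hy⟩
            (by rw [Sylow.coe_subtype, Subgroup.mem_subgroupOf]; exact hy) ⟨x⁻¹, inv_mem hx⟩
          rw [Sylow.coe_subtype, Subgroup.mem_subgroupOf] at this
          simp only [Subgroup.coe_mul, InvMemClass.coe_inv, inv_inv] at this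
          convert this using 1
          group
      exact Subgroup.zpowers_le.2 (hSn (hz hu))
    have hp' : IsPGroup p ((S : Subgroup G) ⊔ Subgroup.zpowers u : Subgroup G) := by
      rw [sup_comm]
      exact IsPGroup.to_sup_of_normal_right' (IsPGroup.of_card ((Nat.card_zpowers u).trans ha))
        S.isPGroup' hnorm
    exact (S.is_maximal' hp' le_sup_left).le (Subgroup.mem_sup_right (Subgroup.mem_zpowers u))
  have hH2n : M ≤ Subgroup.normalizer (H2 : Set G) := by
    intro m hm
    obtain ⟨s, hs, m', hm', hm'o, rfl⟩ := hsplit m hm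
    refine mul_mem ?_ (Subgroup.centralizer_le_normalizer _ ?_)
    · rw [Subgroup.mem_normalizer_iff]
      intro y
      constructor
      · intro hy
        have : s * y * s⁻¹ = ⁅s, y⁆ * y := by rw [commutatorElement_def]; group
        rw [this]
        exact mul_mem (Subgroup.mem_sup_right (hcomm s hs y (hH2S hy))) hy
      · intro hy
        have : y = ⁅s⁻¹, s * y * s⁻¹⁆ * (s * y * s⁻¹) := by rw [commutatorElement_def]; group
        rw [this]
        exact mul_mem (Subgroup.mem_sup_right (hcomm s⁻¹ (inv_mem hs) _ (hH2S hy))) hy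
    · rw [Subgroup.mem_centralizer_iff]
      exact fun y hy => (hM' m' hm' hm'o y (hH2S hy)).eq.symm
  have hN2 : Subgroup.normalizer (H2 : Set G) = M :=
    normalizer_eq_of_le_center_ish hmax hcore (hH2S.trans hSM)
      (fun h => hne (le_bot_iff.1 (h ▸ (le_sup_left : H ≤ H2)))) hH2n
  -- Frattini argument in the centraliser
  have hTp : IsPGroup p T := S.isPGroup'.to_le inf_le_left
  set TC : Subgroup C := T.subgroupOf C
  have hTCp : IsPGroup p TC := hTp.of_equiv (Subgroup.subgroupOfEquivOfLe (inf_le_right : T ≤ C)).symm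
  let TS : Sylow p C :=
    { toSubgroup := TC
      isPGroup' := hTCp
      is_maximal' := by
        intro Q hQ hle
        have h1 := hT (Q.map C.subtype) (hQ.map _) (by
          intro x hx
          exact ⟨⟨x, hx.2⟩, hle hx, rfl⟩) (Subgroup.map_subtype_le _)
        refine le_antisymm (fun x hx => ?_) hle
        show (x : G) ∈ T
        rw [← h1]
        exact ⟨x, hx, rfl⟩ }
  have hgC : ∀ c ∈ C, g * c * g⁻¹ ∈ C := by
    intro c hc
    rw [Subgroup.mem_centralizer_iff] at hc ⊢
    intro y hy
    have h1 := hc (g⁻¹ * y * g) ((Subgroup.mem_normalizer_iff''.1 hg y).1 hy)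
    calc y * (g * c * g⁻¹) = g * ((g⁻¹ * y * g) * c) * g⁻¹ := by group
      _ = g * c * g⁻¹ * y := by rw [h1]; group
  obtain ⟨c, hc, hcT⟩ : ∃ c ∈ C, MulAut.conj c • (MulAut.conj g • T) = T := by
    have hTle : MulAut.conj g • T ≤ C := by
      intro x hx
      rw [Core.mem_conj_smul_iff] at hx
      have := hgC _ hx.2
      convert this using 1
      group
    obtain ⟨k, hk, hk'⟩ := Core.exists_conj_of_card_eq TS hTle (by
      rw [Core.card_conj_smul]
      rw [Subgroup.card_map_of_injective C.subtype_injective]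
      exact (Nat.card_congr (Subgroup.subgroupOfEquivOfLe (inf_le_right : T ≤ C)).toEquiv).symm)
    refine ⟨k⁻¹, inv_mem hk, ?_⟩
    rw [show ((TS : Subgroup C).map C.subtype) = T from
      Subgroup.map_subgroupOf_eq_of_le (inf_le_right : T ≤ C)] at hk'
    rw [← hk', Core.conj_smul_conj_smul, inv_mul_cancel, Core.conj_one_smul]
  set m := c * g
  have hm : m ∈ M := by
    rw [← hN2, Core.mem_normalizer_iff_conj_smul_eq]
    have h1 : MulAut.conj m • H = H :=
      Core.mem_normalizer_iff_conj_smul_eq.1 (mul_mem (Subgroup.centralizer_le_normalizer _ hc) hg)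
    have h2 : MulAut.conj m • T = T := by rw [← Core.conj_smul_conj_smul]; exact hcT
    rw [Subgroup.smul_sup, h1, h2]
  obtain ⟨s, hs, m', hm', hm'o, hsm⟩ := hsplit m hm
  set φ := Subgroup.normalizerMonoidHom H
  have hgm : φ ⟨g, hg⟩ = φ ⟨m, mul_mem (Subgroup.centralizer_le_normalizer _ hc) hg⟩ := by
    have hk : (⟨c, Subgroup.centralizer_le_normalizer _ hc⟩ : Subgroup.normalizer (H : Set G)) ∈ φ.ker := by
      rw [Subgroup.normalizerMonoidHom_ker, Subgroup.mem_subgroupOf]; exact hc
    rw [MonoidHom.mem_ker] at hk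
    have : φ ⟨m, mul_mem (Subgroup.centralizer_le_normalizer _ hc) hg⟩ =
        φ ⟨c, Subgroup.centralizer_le_normalizer _ hc⟩ * φ ⟨g, hg⟩ := by rw [← map_mul]; rfl
    rw [this, hk, one_mul]
  obtain ⟨k, hk⟩ := S.isPGroup'.exists_card_eq
  have hpow : φ ⟨g, hg⟩ ^ p ^ k = 1 := by
    rw [hgm, ← map_pow, ← MonoidHom.mem_ker, Subgroup.normalizerMonoidHom_ker, Subgroup.mem_subgroupOf]
    show m ^ p ^ k ∈ C
    rw [hsm, ((hM' m' hm' hm'o s hs).symm).mul_pow,
      orderOf_dvd_iff_pow_eq_one.1 (hk ▸ Subgroup.orderOf_dvd_natCard _ hs : orderOf s ∣ p ^ k), one_mul]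
    refine pow_mem ?_ _
    rw [Subgroup.mem_centralizer_iff]
    exact fun y hy => (hM' m' hm' hm'o y (hHS hy)).eq.symm
  have h1 : φ ⟨g, hg⟩ = 1 := by
    rw [← orderOf_eq_one_iff]
    refine Nat.eq_one_of_dvd_coprimes (hodd.pow_right k) ?_ (orderOf_dvd_of_pow_eq_one hpow)
    exact (orderOf_map_dvd φ _).trans (Subgroup.orderOf_mk _ _).dvd
  rw [← MonoidHom.mem_ker, Subgroup.normalizerMonoidHom_ker, Subgroup.mem_subgroupOf] at h1
  exact h1

theorem isSolvable_of_nilpotent_maximal (M : Subgroup G) (hmax : IsCoatom M)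
    (hnil : Group.IsNilpotent M)
    (h : Odd (Nat.card M) ∨ ∀ a ∈ M, ∀ b ∈ M, ∀ c ∈ M, ⁅⁅a, b⁆, c⁆ = 1) :
    Group.IsSolvable G := by
  induction hn : Nat.card G using Nat.strong_induction_on generalizing G with
  | _ n ih =>
    subst hn
    have hMs : Group.IsSolvable M := IsNilpotent.to_isSolvable (h := hnil)
    by_cases hcore : ∃ N : Subgroup G, N.Normal ∧ N ≤ M ∧ N ≠ ⊥
    · obtain ⟨N, hN, hNM, hN0⟩ := hcore
      have := hN
      let π := QuotientGroup.mk' N
      have hπ := QuotientGroup.mk'_surjective N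
      have hcomap : (M.map π).comap π = M := by
        rw [Subgroup.comap_map_eq, QuotientGroup.ker_mk', sup_eq_left.2 hNM]
      have hmax' : IsCoatom (M.map π) := by
        refine ⟨fun htop => hmax.1 ?_, fun X hX => ?_⟩
        · rw [← hcomap, htop, Subgroup.comap_top]
        · have h1 : M < X.comap π := by
            rw [← hcomap]; exact (Subgroup.comap_lt_comap_of_surjective hπ).2 hX
          rw [← Subgroup.map_comap_eq_self_of_surjective hπ X, hmax.2 _ h1,
            Subgroup.map_top_of_surjective π hπ]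
      have hnil' : Group.IsNilpotent (M.map π) :=
        Group.nilpotent_of_surjective (π.subgroupMap M) (π.subgroupMap_surjective M)
      have h' : Odd (Nat.card (M.map π)) ∨ ∀ a ∈ M.map π, ∀ b ∈ M.map π, ∀ c ∈ M.map π, ⁅⁅a, b⁆, c⁆ = 1 := by
        refine h.imp (fun ho => ho.of_dvd_nat (Subgroup.card_map_dvd M π)) fun hc => ?_
        rintro _ ⟨a, ha, rfl⟩ _ ⟨b, hb, rfl⟩ _ ⟨c, hc', rfl⟩
        rw [← map_commutatorElement, ← map_commutatorElement, hc a ha b hb c hc', map_one]
      have hq := ih _ (Core.card_quotient_lt N hN0) (M.map π) hmax' hnil' h' rfl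
      have hNs : Group.IsSolvable N := Core.isSolvable_of_le hMs hNM
      exact Group.isSolvable_of_ker_le_range N.subtype π
        (by rw [QuotientGroup.ker_mk', Subgroup.range_subtype])
    push Not at hcore
    -- each prime of `M` has a normal complement
    have key : ∀ p : ℕ, p.Prime → p ∣ Nat.card M →
        Cfsg.HasNormalPComplement p G := by
      intro p hp hpM
      have := Fact.mk hp
      obtain ⟨P0⟩ : Nonempty (Sylow p M) := inferInstance
      set P := (P0 : Subgroup M).map M.subtype
      have hPne : P ≠ ⊥ := by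
        rw [ne_eq, Subgroup.map_eq_bot_iff_of_injective _ M.subtype_injective]
        exact P0.ne_bot_of_dvd_card hpM
      have hP0n : (P0 : Subgroup M).Normal := haveI := hnil; inferInstance
      have hMn : M ≤ Subgroup.normalizer (P : Set G) := by
        intro x hx
        rw [Core.mem_normalizer_iff_conj_smul_eq, Core.conj_smul_eq_map, Subgroup.map_map,
          show (MulAut.conj x).toMonoidHom.comp M.subtype = M.subtype.comp (MulAut.conj (⟨x, hx⟩ : M)).toMonoidHom
            from MonoidHom.ext fun y => rfl, ← Subgroup.map_map, ← Core.conj_smul_eq_map,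
          Core.mem_normalizer_iff_conj_smul_eq.1 (Subgroup.normalizer_eq_top_iff.2 hP0n ▸ Subgroup.mem_top _)]
      have hNP := normalizer_eq_of_le_center_ish hmax hcore (Subgroup.map_subtype_le _) hPne hMn
      obtain ⟨S, hPS⟩ := (P0.isPGroup'.map M.subtype).exists_le_sylow
      have hSP : (S : Subgroup G) = P := by
        by_contra hne
        obtain ⟨hlt1, hlt2⟩ : P < (S : Subgroup G) ⊓ Subgroup.normalizer (P : Set G) ∧ True :=
          ⟨Transfer.lt_inf_normalizer S.isPGroup' (lt_of_le_of_ne hPS (Ne.symm hne)), trivial⟩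
        rw [hNP] at hlt1
        have h1 : IsPGroup p (((S : Subgroup G) ⊓ M).subgroupOf M) :=
          (S.isPGroup'.to_le inf_le_left).of_equiv (Subgroup.subgroupOfEquivOfLe inf_le_right).symm
        have h2 := P0.is_maximal' h1 fun x hx => Subgroup.mem_subgroupOf.2 (hlt1.le ⟨x, hx, rfl⟩)
        refine hlt1.ne (le_antisymm hlt1.le fun x hx => ⟨⟨x, hx.2⟩, ?_, rfl⟩)
        exact h2.le (Subgroup.mem_subgroupOf.2 hx)
      have hSM : (S : Subgroup G) ≤ M := hSP ▸ Subgroup.map_subtype_le _
      by_cases hp2 : p = 2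
      · have hcl : ∀ a ∈ M, ∀ b ∈ M, ∀ c ∈ M, ⁅⁅a, b⁆, c⁆ = 1 :=
          h.resolve_left fun ho => Nat.not_even_iff_odd.2 ho (even_iff_two_dvd.2 (hp2 ▸ hpM))
        refine Transfer.hasNormalPComplement_of_centralizes S fun Q hQS g hg hodd => ?_
        -- a Sylow subgroup containing a Sylow of the centraliser, together with `Q`
        set C := Subgroup.centralizer (Q : Set G)
        obtain ⟨T0⟩ : Nonempty (Sylow p C) := inferInstance
        set T := (T0 : Subgroup C).map C.subtype
        have hQT : Q ≤ Subgroup.normalizer (T : Set G) := fun q hq => by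
          refine Subgroup.centralizer_le_normalizer _ ?_
          rw [Subgroup.mem_centralizer_iff]
          rintro _ ⟨t, -, rfl⟩
          exact (Subgroup.mem_centralizer_iff.1 t.2 q hq).symm
        obtain ⟨R, hR⟩ := (IsPGroup.to_sup_of_normal_right' (S.isPGroup'.to_le hQS)
          (T0.isPGroup'.map C.subtype) hQT).exists_le_sylow
        obtain ⟨x, hx⟩ := MulAction.exists_smul_eq G S R
        have hRM : (R : Subgroup G) ≤ MulAut.conj x • M := by
          rw [← hx, Sylow.coe_subgroup_smul]
          exact Subgroup.pointwise_smul_le_pointwise_smul_iff.2 hSM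
        refine centralizes_of_class_two R (isCoatom_map_conj hmax x) ?_ ?_ hRM ?_ (le_sup_left.trans hR) ?_ hg hodd
        · intro N hN hle
          refine hcore N hN ?_
          intro y hy
          have := hle (hN.conj_mem y hy x)
          rw [Core.mem_conj_smul_iff] at this
          convert this using 1
          group
        · exact Group.nilpotent_of_mulEquiv (Subgroup.equivSMul (MulAut.conj x) M)
        · intro a ha b hb c hc
          rw [Core.mem_conj_smul_iff] at ha hb hc
          have h1 := congrArg (MulAut.conj x) (hcl _ ha _ hb _ hc)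
          rw [map_commutatorElement, map_commutatorElement, map_one] at h1
          simpa [MulAut.conj_apply, mul_assoc] using h1
        · intro T' hT' hle hT'C
          refine le_antisymm ?_ hle
          have hTT' : T ≤ T' := fun y hy => hle ⟨(le_sup_right.trans hR) hy, Subgroup.map_subtype_le _ hy⟩
          have h3 := T0.is_maximal' (hT'.of_equiv (Subgroup.subgroupOfEquivOfLe hT'C).symm)
            fun y hy => Subgroup.mem_subgroupOf.2 (hTT' ⟨y, hy, rfl⟩)
          intro y hy
          exact ⟨(le_sup_right.trans hR) ⟨⟨y, hT'C hy⟩, h3.le (Subgroup.mem_subgroupOf.2 hy), rfl⟩, hT'C hy⟩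
      · refine PLocal.hasNormalPComplement_glauberman hp2 S ?_
        have hJle : Cfsg.centerThompsonAOf (S : Subgroup G) ≤ (S : Subgroup G) := PLocal.centerThompsonA_le _
        have hJne := PLocal.centerThompsonA_ne_bot S.isPGroup' (hSP ▸ hPne)
        have hJn : M ≤ Subgroup.normalizer ((Cfsg.centerThompsonAOf (S : Subgroup G) : Subgroup G) : Set G) := by
          refine le_trans ?_ (PLocal.normalizer_le_normalizer_centerThompsonA _)
          rw [hSP]
          exact hMn
        rw [normalizer_eq_of_le_center_ish hmax hcore (hJle.trans hSM) hJne hJn]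
        haveI := hnil
        exact Core.FPFAut.hasNormalPComplement_of_isNilpotent p
    -- the common complement
    by_cases hM1 : M = ⊥
    · subst hM1
      have hprime : IsCyclic G := by
        rcases subsingleton_or_nontrivial G with h1 | h1
        · infer_instance
        · obtain ⟨x, hx⟩ := exists_ne (1 : G)
          refine isCyclic_iff_exists_zpowers_eq_top.2 ⟨x, hmax.2 _ (bot_lt_iff_ne_bot.2 ?_)⟩
          rwa [ne_eq, Subgroup.zpowers_eq_bot]
      exact Group.isSolvable_of_comm fun a b => (IsCyclic.commutative (α := G)).is_comm.comm a b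
    have hKdata : ∀ p : ℕ, ∃ N : Subgroup G, N.Normal ∧ (p.Prime → p ∣ Nat.card M →
        (Nat.card N).Coprime p ∧ ∀ r : ℕ, r.Prime → r ∣ N.index → r = p) := by
      intro p
      by_cases hp : p.Prime ∧ p ∣ Nat.card M
      · have := Fact.mk hp.1
        obtain ⟨N, hN, hco, hq⟩ := Transfer.hasNormalPComplement_iff_exists.1 (key p hp.1 hp.2)
        refine ⟨N, hN, fun _ _ => ⟨hco, fun r hr hd => ?_⟩⟩
        obtain ⟨j, hj⟩ := IsPGroup.iff_card.1 hq
        rw [Subgroup.index_eq_card, hj] at hd
        exact (Nat.prime_dvd_prime_iff_eq hr hp.1).1 (hr.dvd_of_dvd_pow hd)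
      · exact ⟨⊤, inferInstance, fun h1 h2 => absurd ⟨h1, h2⟩ hp⟩
    choose Nf hNf hNf' using hKdata
    set K := ⨅ p ∈ (Nat.card M).primeFactors, Nf p
    have hKn : K.Normal := Subgroup.normal_iInf_normal fun p => Subgroup.normal_iInf_normal fun _ => hNf p
    have hKcop : (Nat.card K).Coprime (Nat.card M) := by
      refine Nat.coprime_of_dvd fun p hp hpK hpM => ?_
      have h1 : p ∣ Nat.card (Nf p) := hpK.trans (Subgroup.card_dvd_of_le
        (iInf₂_le p (Nat.mem_primeFactors.2 ⟨hp, hpM, Nat.card_pos.ne'⟩)))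
      exact hp.coprime_iff_not_dvd.1 (((hNf' p hp hpM).1).symm) h1
    have hKidx : ∀ r : ℕ, r.Prime → r ∣ K.index → r ∣ Nat.card M := by
      intro r hr
      have : ∀ s : Finset ℕ, s ⊆ (Nat.card M).primeFactors → r ∣ (⨅ p ∈ s, Nf p).index → r ∣ Nat.card M := by
        intro s
        induction s using Finset.induction_on with
        | empty => intro _ h; simp [hr.ne_one] at h
        | @insert a s ha ihs =>
          intro hs h
          rw [Finset.iInf_insert] at h
          obtain ⟨hap, haM, -⟩ := Nat.mem_primeFactors.1 (hs (Finset.mem_insert_self a s))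
          have := (⨅ p ∈ s, Nf p).relIndex_mul_index (K := (⊤ : Subgroup G))
          rw [← Subgroup.relIndex_mul_index (H := Nf a ⊓ ⨅ p ∈ s, Nf p) (K := ⨅ p ∈ s, Nf p) inf_le_right,
            Subgroup.inf_relIndex_right] at h
          rcases hr.dvd_mul.1 h with h1 | h1
          · have := hNf a
            rw [(hNf' a hap haM).2 r hr (h1.trans (Subgroup.relIndex_dvd_index_of_normal (H := Nf a) _))]
            exact haM
          · exact ihs ((Finset.subset_insert a s).trans hs) h1
      exact this _ subset_rfl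
    have hKne : K ≠ ⊥ := by
      intro hb
      refine hmax.1 (Subgroup.eq_top_of_card_eq M (Nat.dvd_antisymm (Subgroup.card_subgroup_dvd_card M) ?_))
      rw [← Nat.factorization_prime_le_iff_dvd Nat.card_pos.ne' Nat.card_pos.ne']
      intro r hr
      by_cases hrM : r ∣ Nat.card M
      · have := Fact.mk hr
        -- `M` contains a Sylow `r`-subgroup of `G`
        by_contra hlt
        push Not at hlt
        obtain ⟨P0⟩ : Nonempty (Sylow r M) := inferInstance
        obtain ⟨S, hPS⟩ := (P0.isPGroup'.map M.subtype).exists_le_sylow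
        have hPlt : (P0 : Subgroup M).map M.subtype < (S : Subgroup G) := by
          refine lt_of_le_of_ne hPS fun he => ?_
          have := S.card_eq_multiplicity
          rw [← he, Subgroup.card_map_of_injective M.subtype_injective, P0.card_eq_multiplicity] at this
          exact hlt.ne (Nat.pow_right_injective hr.two_le this)
        have hP0n : (P0 : Subgroup M).Normal := haveI := hnil; inferInstance
        have hMn : M ≤ Subgroup.normalizer (((P0 : Subgroup M).map M.subtype : Subgroup G) : Set G) := by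
          intro x hx
          rw [Core.mem_normalizer_iff_conj_smul_eq, Core.conj_smul_eq_map, Subgroup.map_map,
            show (MulAut.conj x).toMonoidHom.comp M.subtype = M.subtype.comp (MulAut.conj (⟨x, hx⟩ : M)).toMonoidHom
              from MonoidHom.ext fun y => rfl, ← Subgroup.map_map, ← Core.conj_smul_eq_map,
            Core.mem_normalizer_iff_conj_smul_eq.1 (Subgroup.normalizer_eq_top_iff.2 hP0n ▸ Subgroup.mem_top _)]
        have hNP := normalizer_eq_of_le_center_ish hmax hcore (Subgroup.map_subtype_le _)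
          (by rw [ne_eq, Subgroup.map_eq_bot_iff_of_injective _ M.subtype_injective]
              exact P0.ne_bot_of_dvd_card hrM) hMn
        have h1 := Transfer.lt_inf_normalizer S.isPGroup' hPlt
        rw [hNP] at h1
        have h2 : IsPGroup r (((S : Subgroup G) ⊓ M).subgroupOf M) :=
          (S.isPGroup'.to_le inf_le_left).of_equiv (Subgroup.subgroupOfEquivOfLe inf_le_right).symm
        have h3 := P0.is_maximal' h2 fun x hx => Subgroup.mem_subgroupOf.2 (h1.le ⟨x, hx, rfl⟩)
        exact h1.ne (le_antisymm h1.le fun x hx => ⟨⟨x, hx.2⟩, h3.le (Subgroup.mem_subgroupOf.2 hx), rfl⟩)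
      · rw [Nat.factorization_eq_zero_of_not_dvd fun hd => hrM (hKidx r hr (by rwa [hb, Subgroup.index_bot]))]
        exact Nat.zero_le _
    have hKtop : K ⊔ M = ⊤ := by
      rcases hmax.le_iff.1 (le_sup_right : M ≤ K ⊔ M) with h1 | h1
      · exact h1
      · exact absurd (hcore K hKn (h1 ▸ le_sup_left)) hKne
    obtain ⟨r, hr, hrK⟩ := Nat.exists_prime_and_dvd (n := Nat.card K) fun h1 => hKne (Subgroup.card_eq_one.1 h1)
    have := Fact.mk hr
    obtain ⟨R0, hR0⟩ := Core.exists_invariant_sylow (A := M) (K := K) (Core.le_normalizer_of_normal _ _)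
      hKcop.symm (Or.inl hMs) r
    set R := (R0 : Subgroup K).map K.subtype
    have hRne : R ≠ ⊥ := by
      rw [ne_eq, Subgroup.map_eq_bot_iff_of_injective _ K.subtype_injective]
      exact R0.ne_bot_of_dvd_card hrK
    have hRM : R ⊔ M = ⊤ := by
      rcases hmax.le_iff.1 (le_sup_right : M ≤ R ⊔ M) with h1 | h1
      · exact h1
      · refine absurd (le_bot_iff.1 ?_) hRne
        rw [← Subgroup.inf_eq_bot_of_coprime hKcop]
        exact le_inf (Subgroup.map_subtype_le _) (h1 ▸ le_sup_left)
    have hRn : R.Normal := Subgroup.normalizer_eq_top_iff.1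
      (eq_top_iff.2 (hRM ▸ sup_le Subgroup.le_normalizer hR0))
    have hRs : Group.IsSolvable R :=
      IsNilpotent.to_isSolvable (h := (R0.isPGroup'.map K.subtype).isNilpotent)
    have hQs : Group.IsSolvable (G ⧸ R) := by
      refine solvable_of_surjective (f := (QuotientGroup.mk' R).comp M.subtype) fun y => ?_
      obtain ⟨z, rfl⟩ := QuotientGroup.mk'_surjective R y
      have hz : z ∈ R ⊔ M := hRM ▸ Subgroup.mem_top z
      obtain ⟨a, ha, b, hb, rfl⟩ := Subgroup.mem_sup_of_normal_left.1 hz
      exact ⟨⟨b, hb⟩, by rw [map_mul, show QuotientGroup.mk' R a = 1 from (QuotientGroup.eq_one_iff a).2 ha, one_mul]; rfl⟩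
    exact Group.isSolvable_of_ker_le_range R.subtype (QuotientGroup.mk' R)
      (by rw [QuotientGroup.ker_mk', Subgroup.range_subtype])

end CfsgLib.Orders
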