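import Cfsg.Agent.Lib.Core.Zipper
import Cfsg.Agent.Lib.Core.SchurZassenhaus
import Cfsg.Agent.Lib.HallGen.Basic
import Cfsg.Agent.Lib.Orders.Parts

/-!
# A group in which no nontrivial element of odd order is inverted has a normal Sylow 2-subgroup
-/

set_option autoImplicit false

namespace CfsgLib.Orders

universe u

open scoped Pointwise

/-- No nontrivial element of odd order is conjugate to its inverse. -/
def NoInversion (G : Type u) [Group G] : Prop :=
  ∀ x g : G, Odd (orderOf x) → g * x * g⁻¹ = x⁻¹ → x = 1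

theorem noInversion_quotient {G : Type u} [Group G] [Finite G] (h : NoInversion G)
    (N : Subgroup G) [N.Normal] (hN : IsPGroup 2 N) : NoInversion (G ⧸ N) := by
  intro xb gb hodd hinv
  let π := QuotientGroup.mk' N
  obtain ⟨g, rfl⟩ := QuotientGroup.mk'_surjective N gb
  obtain ⟨x0, rfl⟩ := QuotientGroup.mk'_surjective N xb
  -- an odd order lift
  obtain ⟨u, v, -, -, rfl, hcomm, ⟨a, ha⟩, hv⟩ := exists_split Nat.prime_two x0
  have hu : π u = 1 := by
    rw [map_mul] at hodd hinv
    have hvodd : Odd (orderOf (π v)) := (Nat.coprime_two_right.1 hv).of_dvd_nat (orderOf_map_dvd π v)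
    have h1 : orderOf (π u) ∣ 2 ^ a := ha ▸ orderOf_map_dvd π u
    have h2 : (π u) ^ (orderOf (π u * π v) * orderOf (π v)) = 1 := by
      have hc : Commute (π u * π v) (π v)⁻¹ :=
        ((hcomm.map π).mul_left (Commute.refl _)).inv_right
      calc (π u) ^ (orderOf (π u * π v) * orderOf (π v))
          = (π u * π v * (π v)⁻¹) ^ (orderOf (π u * π v) * orderOf (π v)) := by
            rw [mul_inv_cancel_right]
        _ = 1 := by
            rw [hc.mul_pow, pow_mul, pow_orderOf_eq_one, one_pow, one_mul,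
              mul_comm (orderOf (π u * π v)), pow_mul, inv_pow, pow_orderOf_eq_one, inv_one, one_pow]
    have h3 : (orderOf (π u * π v) * orderOf (π v)).Coprime (2 ^ a) :=
      (Nat.coprime_two_right.2 (hodd.mul hvodd)).pow_right a
    exact orderOf_eq_one_iff.1 (Nat.eq_one_of_dvd_coprimes h3 (orderOf_dvd_of_pow_eq_one h2) h1)
  have hπ : π (u * v) = π v := by rw [map_mul, hu, one_mul]
  rw [hπ] at hinv ⊢
  -- Schur-Zassenhaus
  obtain ⟨b, hb⟩ := IsPGroup.iff_card.1 hN
  have hcopv : (orderOf v).Coprime (Nat.card N) := hb ▸ hv.pow_right b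
  obtain ⟨n, hn, hnK⟩ := Core.exists_conj_eq_of_coprime
    (H := Subgroup.zpowers v) (K := Subgroup.zpowers (g * v * g⁻¹)) (N := N)
    (Core.le_normalizer_of_normal _ _) (by
      rw [Subgroup.zpowers_le, show g * v * g⁻¹ = v⁻¹ * (v * (g * v * g⁻¹)) by group]
      refine Subgroup.mul_mem_sup (inv_mem (Subgroup.mem_zpowers v)) ?_
      rw [← QuotientGroup.eq_one_iff]
      show π (v * (g * v * g⁻¹)) = 1
      rw [map_mul, map_mul, map_mul, map_inv]
      exact mul_eq_one_iff_eq_inv'.2 hinv)
    (by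
      rw [Nat.card_zpowers, Nat.card_zpowers]
      exact orderOf_injective (MulAut.conj g).toMonoidHom (MulAut.conj g).injective v)
    (by rw [Nat.card_zpowers]; exact hcopv) (Or.inr inferInstance)
  have hw : (n⁻¹ * g) * v * (n⁻¹ * g)⁻¹ ∈ Subgroup.zpowers v := by
    have h1 : g * v * g⁻¹ ∈ MulAut.conj n • Subgroup.zpowers v := hnK ▸ Subgroup.mem_zpowers _
    rw [Core.mem_conj_smul_iff] at h1
    convert h1 using 1
    group
  obtain ⟨k, hk⟩ := Subgroup.mem_zpowers_iff.1 hw
  have hπn : π n = 1 := (QuotientGroup.eq_one_iff n).2 hn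
  have hkinv : v ^ k = v⁻¹ := by
    have h2 : π (v ^ (k + 1)) = 1 := by
      rw [zpow_add, zpow_one, map_mul, hk, map_mul, map_mul, map_inv, map_mul, map_inv, hπn, inv_one,
        one_mul]
      exact mul_eq_one_iff_eq_inv.2 hinv
    have h3 : orderOf (v ^ (k + 1)) ∣ Nat.card N :=
      Subgroup.orderOf_dvd_natCard _ ((QuotientGroup.eq_one_iff _).1 h2)
    have h4 : orderOf (v ^ (k + 1)) ∣ orderOf v :=
      orderOf_dvd_of_mem_zpowers (zpow_mem (Subgroup.mem_zpowers v) _)
    have h5 := orderOf_eq_one_iff.1 (Nat.eq_one_of_dvd_coprimes hcopv h4 h3)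
    rw [zpow_add, zpow_one] at h5
    exact eq_inv_of_mul_eq_one_left h5
  rw [h v (n⁻¹ * g) (Nat.coprime_two_right.1 hv) (hk.symm.trans hkinv), map_one]

theorem isPGroup_closure_pair {G : Type u} [Group G] [Finite G] (h : NoInversion G) {s t : G}
    (hs : s * s = 1) (ht : t * t = 1) :
    IsPGroup 2 (Subgroup.closure ({s, t} : Set G)) := by
  have : Fact (Nat.Prime 2) := ⟨Nat.prime_two⟩
  have hsi : s⁻¹ = s := inv_eq_of_mul_eq_one_left hs
  have hti : t⁻¹ = t := inv_eq_of_mul_eq_one_left ht
  obtain ⟨u, v, hu, hv, huv, hcom, ⟨a, ha⟩, hvo⟩ := exists_split Nat.prime_two (s * t)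
  have hinv : ∀ w ∈ Subgroup.zpowers (s * t), s * w * s⁻¹ = w⁻¹ := by
    intro w hw
    obtain ⟨i, rfl⟩ := Subgroup.mem_zpowers_iff.1 hw
    rw [← conj_zpow, show s * (s * t) * s⁻¹ = (s * t)⁻¹ by
      rw [mul_inv_rev, ← mul_assoc, hs, one_mul, hsi, hti], inv_zpow]
  have hv1 : v = 1 := h v s (Nat.coprime_two_right.1 hvo) (hinv v hv)
  rw [hv1, mul_one] at huv
  have hz : IsPGroup 2 (Subgroup.zpowers (s * t)) := by
    rw [huv]; exact HallGen.isPGroup_zpowers ha
  have hs2 : IsPGroup 2 (Subgroup.zpowers s) := by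
    obtain ⟨j, -, hj⟩ := (Nat.dvd_prime_pow Nat.prime_two).1
      (orderOf_dvd_of_pow_eq_one (show s ^ 2 ^ 1 = 1 by rw [pow_one, sq, hs]))
    exact HallGen.isPGroup_zpowers hj
  have hnorm : Subgroup.zpowers s ≤
      Subgroup.normalizer ((Subgroup.zpowers (s * t) : Subgroup G) : Set G) := by
    rw [Subgroup.zpowers_le, Subgroup.mem_normalizer_iff]
    intro w
    refine ⟨fun hw => by rw [hinv w hw]; exact inv_mem hw, fun hw => ?_⟩
    have h1 := hinv _ hw
    have : w = (s * w * s⁻¹)⁻¹ := by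
      calc w = s * (s * w * s⁻¹) * s⁻¹ := by rw [hsi, ← mul_assoc, ← mul_assoc, hs, one_mul, mul_assoc, hs, mul_one]
        _ = _ := h1
    rw [this]; exact inv_mem hw
  refine (IsPGroup.to_sup_of_normal_right' hs2 hz hnorm).to_le ?_
  rw [Subgroup.closure_le]
  rintro w (rfl | rfl)
  · exact Subgroup.mem_sup_left (Subgroup.mem_zpowers _)
  · have h1 := Subgroup.mul_mem_sup (inv_mem (Subgroup.mem_zpowers s)) (Subgroup.mem_zpowers (s * w))
    rwa [inv_mul_cancel_left] at h1

theorem normal_sylow_two_of_noInversion {G : Type u} [Group G] [Finite G] (h : NoInversion G)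
    (P : Sylow 2 G) : (P : Subgroup G).Normal := by
  have : Fact (Nat.Prime 2) := ⟨Nat.prime_two⟩
  induction hn : Nat.card G using Nat.strong_induction_on generalizing G with
  | _ m ih =>
    subst hn
    by_cases heven : 2 ∣ Nat.card G
    swap
    · have hbot : (P : Subgroup G) = ⊥ := by
        obtain ⟨k, hk⟩ := P.isPGroup'.exists_card_eq
        refine Subgroup.card_eq_one.1 ?_
        rcases Nat.eq_zero_or_pos k with rfl | hk0
        · exact hk
        · exact absurd ((dvd_pow_self 2 hk0.ne').trans (hk ▸ Subgroup.card_subgroup_dvd_card (P : Subgroup G))) heven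
      rw [hbot]; infer_instance
    obtain ⟨t, ht⟩ := exists_prime_orderOf_dvd_card' (G := G) 2 heven
    have ht2 : t * t = 1 := by rw [← sq, ← ht, pow_orderOf_eq_one]
    have hconj : ∀ g : G, IsPGroup 2 (Subgroup.zpowers t ⊔ MulAut.conj g • Subgroup.zpowers t : Subgroup G) := by
      intro g
      refine (isPGroup_closure_pair h ht2 (t := g * t * g⁻¹) ?_).to_le ?_
      · rw [show g * t * g⁻¹ * (g * t * g⁻¹) = g * (t * t) * g⁻¹ by group, ht2]; group
      · refine sup_le (Subgroup.zpowers_le.2 (Subgroup.subset_closure (Set.mem_insert _ _))) ?_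
        rw [Core.conj_smul_eq_map, MonoidHom.map_zpowers, Subgroup.zpowers_le]
        exact Subgroup.subset_closure (Set.mem_insert_of_mem _ rfl)
    obtain ⟨-, hle⟩ := Core.isSubnormal_of_nilpotent_join (A := Subgroup.zpowers t)
      fun g => (hconj g).isNilpotent
    have htcore : t ∈ Cfsg.pCore 2 G :=
      HallGen.mem_pCore_of_mem_nilpotent_normal (k := 1) (N := Cfsg.fittingSubgroup G)
        HallGen.fittingSubgroup_normal' HallGen.isNilpotent_fittingSubgroup
        (hle (Subgroup.mem_zpowers t)) (by rw [ht, pow_one])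
    set N := Cfsg.pCore 2 G
    have hNn : N.Normal := HallGen.pCore_normal' 2
    have hNp : IsPGroup 2 N := HallGen.isPGroup_pCore 2
    have hNne : N ≠ ⊥ := fun hb => by
      rw [hb, Subgroup.mem_bot] at htcore
      rw [htcore, orderOf_one] at ht
      exact absurd ht (by norm_num)
    let π := QuotientGroup.mk' N
    have hnorm := ih _ (Core.card_quotient_lt N hNne) (noInversion_quotient h N hNp)
      (P.mapSurjective (QuotientGroup.mk'_surjective N)) rfl
    have hcomap : (P : Subgroup G) = ((P : Subgroup G).map π).comap π := by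
      rw [Subgroup.comap_map_eq, QuotientGroup.ker_mk', sup_eq_left.2 (HallGen.pCore_le_sylow P)]
    rw [hcomap]
    rw [Sylow.coe_mapSurjective] at hnorm
    exact hnorm.comap π

end CfsgLib.Orders
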