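import Cfsg.Agent.Lib.Core.Coprime
import Cfsg.Agent.Lib.Orders.Parts

/-!
# `π`-closed groups and homogeneity
-/

set_option autoImplicit false

namespace CfsgLib.Orders

universe u

open scoped Pointwise

/-- all prime divisors in `π`. -/
def PiNum (π : Set ℕ) (n : ℕ) : Prop := ∀ p : ℕ, p.Prime → p ∣ n → p ∈ π

/-- no prime divisor in `π`. -/
def CoPiNum (π : Set ℕ) (n : ℕ) : Prop := ∀ p : ℕ, p.Prime → p ∣ n → p ∉ π

/-- The `π`-elements form a subgroup. -/
def PiClosed (π : Set ℕ) (G : Type u) [Group G] : Prop :=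
  ∃ K : Subgroup G, ∀ x : G, x ∈ K ↔ PiNum π (orderOf x)

/-- homogeneity for `π'`. -/
def HomCoPi (π : Set ℕ) (G : Type u) [Group G] : Prop :=
  ∀ H : Subgroup G, H ≠ ⊥ → CoPiNum π (Nat.card H) →
    CoPiNum π ((Subgroup.centralizer (H : Set G)).relIndex (Subgroup.normalizer (H : Set G)))

variable {π : Set ℕ} {G : Type u} [Group G] [Finite G]

theorem coprime_piNum {a b : ℕ} (ha : PiNum π a) (hb : CoPiNum π b) : a.Coprime b :=
  Nat.coprime_of_dvd fun p hp hpa hpb => hb p hp hpb (ha p hp hpa)

theorem piNum_of_dvd {a b : ℕ} (h : PiNum π b) (hab : a ∣ b) : PiNum π a :=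
  fun p hp hpa => h p hp (hpa.trans hab)

theorem piNum_mul {a b : ℕ} (ha : PiNum π a) (hb : PiNum π b) : PiNum π (a * b) :=
  fun p hp h => (hp.dvd_mul.1 h).elim (ha p hp) (hb p hp)

theorem coPiNum_of_dvd {a b : ℕ} (h : CoPiNum π b) (hab : a ∣ b) : CoPiNum π a :=
  fun p hp hpa => h p hp (hpa.trans hab)

theorem PiClosed.exists_hall (h : PiClosed π G) :
    ∃ K : Subgroup G, K.Normal ∧ PiNum π (Nat.card K) ∧ CoPiNum π K.index := by
  obtain ⟨K, hK⟩ := h
  refine ⟨K, ⟨fun k hk g => ?_⟩, fun p hp hd => ?_, fun p hp hd hpi => ?_⟩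
  · rw [hK] at hk ⊢
    rwa [show orderOf (g * k * g⁻¹) = orderOf k from
      orderOf_injective (MulAut.conj g).toMonoidHom (MulAut.conj g).injective k]
  · have := Fact.mk hp
    obtain ⟨x, hx⟩ := exists_prime_orderOf_dvd_card' p hd
    exact (hK x.1).1 x.2 p hp (by rw [Subgroup.orderOf_coe, hx])
  · have := Fact.mk hp
    obtain ⟨P⟩ : Nonempty (Sylow p G) := inferInstance
    have hle : (P : Subgroup G) ≤ K := fun x hx => (hK x).2 fun q hq hqd => by
      obtain ⟨k, hk⟩ := P.isPGroup'.exists_card_eq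
      have h1 := hq.dvd_of_dvd_pow (hk ▸ hqd.trans (Subgroup.orderOf_dvd_natCard _ hx))
      exact (Nat.prime_dvd_prime_iff_eq hq hp).1 h1 ▸ hpi
    exact P.not_dvd_index (hd.trans (Subgroup.index_dvd_of_le hle))

theorem piClosed_of_hall {K : Subgroup G} [K.Normal] (h1 : PiNum π (Nat.card K))
    (h2 : CoPiNum π K.index) : PiClosed π G := by
  refine ⟨K, fun x => ⟨fun hx => piNum_of_dvd h1 (Subgroup.orderOf_dvd_natCard _ hx), fun hx => ?_⟩⟩
  rw [← QuotientGroup.eq_one_iff, ← orderOf_eq_one_iff]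
  exact Nat.eq_one_of_dvd_coprimes (coprime_piNum hx h2) (orderOf_map_dvd (QuotientGroup.mk' K) x)
    (Subgroup.index_eq_card K ▸ orderOf_dvd_natCard _)

theorem piClosed_of_quotient {L : Subgroup G} [L.Normal] (hL : PiNum π (Nat.card L))
    (h : PiClosed π (G ⧸ L)) : PiClosed π G := by
  obtain ⟨K, hK⟩ := h
  refine ⟨K.comap (QuotientGroup.mk' L), fun x => ?_⟩
  rw [Subgroup.mem_comap, hK]
  refine ⟨fun hx => piNum_of_dvd (piNum_mul hx hL) ?_, fun hx => piNum_of_dvd hx (orderOf_map_dvd _ x)⟩
  rw [orderOf_dvd_iff_pow_eq_one, pow_mul]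
  refine orderOf_dvd_iff_pow_eq_one.1 (Subgroup.orderOf_dvd_natCard L ?_)
  rw [← QuotientGroup.eq_one_iff]
  show (QuotientGroup.mk' L) (x ^ _) = 1
  rw [map_pow, pow_orderOf_eq_one]

theorem relIndex_centralizer_dvd {H N : Subgroup G} (hN : N ≤ Subgroup.normalizer (H : Set G)) :
    (Subgroup.centralizer (H : Set G)).relIndex N ∣
      (Subgroup.centralizer (H : Set G)).relIndex (Subgroup.normalizer (H : Set G)) := by
  rw [← Subgroup.relIndex_subgroupOf hN, ← Subgroup.normalizerMonoidHom_ker, Subgroup.relIndex_ker]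
  show _ ∣ ((Subgroup.centralizer (H : Set G)).subgroupOf (Subgroup.normalizer (H : Set G))).index
  rw [← Subgroup.normalizerMonoidHom_ker, Subgroup.index_ker]
  exact Subgroup.card_dvd_of_le (Subgroup.map_le_range _ _)

theorem homCoPi_subgroup (h : HomCoPi π G) (M : Subgroup G) : HomCoPi π M := by
  intro H hne hH
  have hH' : CoPiNum π (Nat.card (H.map M.subtype)) := by
    rwa [Subgroup.card_map_of_injective M.subtype_injective]
  have hne' : H.map M.subtype ≠ ⊥ := by
    rwa [ne_eq, Subgroup.map_eq_bot_iff_of_injective _ M.subtype_injective]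
  refine coPiNum_of_dvd (h _ hne' hH') ?_
  have hc : Subgroup.centralizer (H : Set M) =
      (Subgroup.centralizer ((H.map M.subtype : Subgroup G) : Set G)).comap M.subtype := by
    ext m
    simp only [Subgroup.mem_comap, Subgroup.mem_centralizer_iff]
    constructor
    · rintro hm _ ⟨y, hy, rfl⟩
      exact congrArg Subtype.val (hm y hy)
    · intro hm y hy
      exact Subtype.ext (hm (y : G) ⟨y, hy, rfl⟩)
  have hn : (Subgroup.normalizer (H : Set M)).map M.subtype ≤
      Subgroup.normalizer ((H.map M.subtype : Subgroup G) : Set G) := by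
    rintro _ ⟨m, hm, rfl⟩
    have h1 := Core.mem_normalizer_iff_conj_smul_eq.1 hm
    rw [Core.conj_smul_eq_map] at h1
    rw [Core.mem_normalizer_iff_conj_smul_eq, Core.conj_smul_eq_map, Subgroup.map_map]
    conv_rhs => rw [← h1, Subgroup.map_map]
    rfl
  rw [hc, Subgroup.relIndex_comap]
  exact relIndex_centralizer_dvd hn

/-- In `G / L` (`L` a normal `π`-subgroup) the `π`-elements centralise a normal `π'`-subgroup. -/
theorem piClosed_extension (hhom : HomCoPi π G) (K : Subgroup G) [K.Normal]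
    (hK : PiClosed π K) (hQ : PiClosed π (G ⧸ K)) : PiClosed π G := by
  obtain ⟨L₀, hL₀n, hL₀π, hL₀idx⟩ := hK.exists_hall
  set L := L₀.map K.subtype
  have hLK : L ≤ K := Subgroup.map_subtype_le _
  have hLcard : Nat.card L = Nat.card L₀ := Subgroup.card_map_of_injective K.subtype_injective
  have hLn : L.Normal := by
    refine ⟨fun l hl g => ?_⟩
    obtain ⟨l₀, hl₀, rfl⟩ := hl
    have hgl : g * (l₀ : G) * g⁻¹ ∈ K := (inferInstance : K.Normal).conj_mem _ l₀.2 g
    refine ⟨⟨_, hgl⟩, ?_, rfl⟩
    refine (QuotientGroup.eq_one_iff _).1 (orderOf_eq_one_iff.1 ?_)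
    refine Nat.eq_one_of_dvd_coprimes (coprime_piNum (piNum_of_dvd hL₀π
      (Subgroup.orderOf_dvd_natCard L₀ hl₀)) hL₀idx) ((orderOf_map_dvd (QuotientGroup.mk' L₀) _).trans ?_)
      (Subgroup.index_eq_card L₀ ▸ orderOf_dvd_natCard _)
    rw [← Subgroup.orderOf_coe, ← Subgroup.orderOf_coe l₀]
    exact (orderOf_injective (MulAut.conj g).toMonoidHom (MulAut.conj g).injective (l₀ : G)).dvd
  refine piClosed_of_quotient (L := L) (hLcard ▸ hL₀π) ?_
  let q := QuotientGroup.mk' L
  set Kb := K.map q with hKb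
  have hKbn : Kb.Normal := (inferInstance : K.Normal).map q (QuotientGroup.mk'_surjective L)
  have hKbc : CoPiNum π (Nat.card Kb) := by
    refine coPiNum_of_dvd hL₀idx (dvd_of_eq ?_)
    rw [hKb, Core.card_map_mk']
    show (L.subgroupOf K).index = L₀.index
    rw [Subgroup.subgroupOf, Subgroup.comap_map_eq_self_of_injective K.subtype_injective]
  -- every `π`-element centralises `Kb`
  have hcent : ∀ xb : G ⧸ L, PiNum π (orderOf xb) → Kb ≤ Subgroup.centralizer {xb} := by
    intro xb hxb
    set A := Subgroup.zpowers xb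
    have hcop : (Nat.card A).Coprime (Nat.card Kb) := by
      rw [Nat.card_zpowers]; exact coprime_piNum hxb hKbc
    have hsolvA : Group.IsSolvable A :=
      Group.isSolvable_of_comm fun a b => (IsCyclic.commutative (α := A)).is_comm.comm a b
    set W := Kb ⊓ Subgroup.centralizer ({xb} : Set (G ⧸ L))
    suffices hW : W = Kb from hW.ge.trans inf_le_right
    refine Subgroup.eq_of_le_of_card_ge inf_le_left (Nat.le_of_dvd Nat.card_pos ?_)
    rw [← Nat.factorization_prime_le_iff_dvd Nat.card_pos.ne' Nat.card_pos.ne']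
    intro r hr
    have := Fact.mk hr
    obtain ⟨P, hP⟩ := Core.exists_invariant_sylow (A := A) (K := Kb)
      (Core.le_normalizer_of_normal _ _) hcop (Or.inl hsolvA) r
    set Qb := (P : Subgroup Kb).map Kb.subtype
    have hQbK : Qb ≤ Kb := Subgroup.map_subtype_le _
    have hQcard : Nat.card Qb = r ^ (Nat.card Kb).factorization r := by
      rw [Subgroup.card_map_of_injective Kb.subtype_injective, P.card_eq_multiplicity]
    suffices hQc : Qb ≤ W by
      rw [← hr.pow_dvd_iff_le_factorization Nat.card_pos.ne', ← hQcard]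
      exact Subgroup.card_dvd_of_le hQc
    refine le_inf hQbK ?_
    rcases Nat.eq_zero_or_pos ((Nat.card Kb).factorization r) with h0 | h0
    · rw [h0, pow_zero, Subgroup.card_eq_one] at hQcard
      rw [hQcard]; exact bot_le
    have hrπ : r ∉ π := hKbc r hr (Nat.dvd_of_factorization_pos h0.ne')
    -- lift `Qb` to an `r`-subgroup of `G`
    set M := Qb.comap q
    obtain ⟨Q⟩ : Nonempty (Sylow r M) := inferInstance
    set QG := (Q : Subgroup M).map M.subtype
    have hQGM : QG ≤ M := Subgroup.map_subtype_le _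
    have hrL : ¬ r ∣ Nat.card L := fun h => hrπ (hL₀π r hr (hLcard ▸ h))
    have hMcard : Nat.card M = Nat.card L * r ^ (Nat.card Kb).factorization r := by
      rw [← hQcard]; exact Core.card_comap_mk' L Qb
    have hQGcard : Nat.card QG = r ^ (Nat.card Kb).factorization r := by
      rw [Subgroup.card_map_of_injective M.subtype_injective, Q.card_eq_multiplicity, hMcard,
        Nat.factorization_mul Nat.card_pos.ne' (pow_ne_zero _ hr.ne_zero), Finsupp.add_apply,
        Nat.factorization_eq_zero_of_not_dvd hrL, zero_add, Nat.Prime.factorization_pow hr,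
        Finsupp.single_eq_same]
    have hcop' : (Nat.card QG).Coprime (Nat.card L) := by
      rw [hQGcard]; exact ((hr.coprime_iff_not_dvd).2 hrL).pow_left _
    have hsupM : QG ⊔ L = M := by
      refine Subgroup.eq_of_le_of_card_ge (sup_le hQGM ?_) ?_
      · intro l hl
        show q l ∈ Qb
        rw [show q l = 1 from (QuotientGroup.eq_one_iff l).2 hl]; exact one_mem _
      · rw [Core.card_sup_of_coprime QG L (Core.le_normalizer_of_normal _ _) hcop', hQGcard, hMcard,
          mul_comm]
    have hQGmap : QG.map q = Qb := by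
      have h1 : (QG ⊔ L).map q = Qb := by
        rw [hsupM]; exact Subgroup.map_comap_eq_self_of_surjective (QuotientGroup.mk'_surjective L) _
      rwa [Subgroup.map_sup, show L.map q = ⊥ from (Subgroup.map_eq_bot_iff _).2 (by rw [QuotientGroup.ker_mk']),
        sup_bot_eq] at h1
    -- lift `xb` into the normalizer of `QG`
    obtain ⟨x, rfl⟩ := QuotientGroup.mk'_surjective L xb
    have hxQ : MulAut.conj x • QG ≤ QG ⊔ L := by
      rw [hsupM]
      intro y hy
      rw [Core.mem_conj_smul_iff] at hy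
      show q y ∈ Qb
      have h1 := Core.mem_normalizer_iff_conj_smul_eq.1 (hP (Subgroup.mem_zpowers (q x)))
      rw [← h1, Core.mem_conj_smul_iff, ← map_inv, ← map_mul, ← map_mul]
      exact hQGM hy
    have hQp : IsPGroup r QG := IsPGroup.of_card hQGcard
    obtain ⟨n, hn, hn'⟩ := Core.exists_conj_eq_of_coprime (N := L) (H := QG) (K := MulAut.conj x • QG)
      (Core.le_normalizer_of_normal _ _) hxQ (Core.card_conj_smul _ _) hcop'
      (Or.inr (IsNilpotent.to_isSolvable (h := hQp.isNilpotent)))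
    have hnx : n⁻¹ * x ∈ Subgroup.normalizer (QG : Set G) := by
      rw [Core.mem_normalizer_iff_conj_smul_eq, ← Core.conj_smul_conj_smul, ← hn',
        Core.conj_smul_conj_smul, inv_mul_cancel, Core.conj_one_smul]
    have hQGne : QG ≠ ⊥ := fun hb => by
      rw [hb, Subgroup.card_bot] at hQGcard
      exact (Nat.one_lt_pow h0.ne' hr.one_lt).ne hQGcard
    have hQGpi : CoPiNum π (Nat.card QG) := fun s hs hd => by
      rw [hQGcard] at hd
      exact (Nat.prime_dvd_prime_iff_eq hs hr).1 (hs.dvd_of_dvd_pow hd) ▸ hrπ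
    have hidx := hhom QG hQGne hQGpi
    set j := (Subgroup.centralizer (QG : Set G)).relIndex (Subgroup.normalizer (QG : Set G))
    have hnormal : ((Subgroup.centralizer (QG : Set G)).subgroupOf (Subgroup.normalizer (QG : Set G))).Normal := by
      rw [← Subgroup.normalizerMonoidHom_ker]; infer_instance
    have hpow : (n⁻¹ * x) ^ j ∈ Subgroup.centralizer (QG : Set G) := by
      have h := Subgroup.pow_index_mem ((Subgroup.centralizer (QG : Set G)).subgroupOf
        (Subgroup.normalizer (QG : Set G))) ⟨n⁻¹ * x, hnx⟩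
      rw [Subgroup.mem_subgroupOf] at h
      exact h
    have hqn : q (n⁻¹ * x) = q x := by
      rw [map_mul, map_inv, show q n = 1 from (QuotientGroup.eq_one_iff n).2 hn, inv_one, one_mul]
    have hxj : (q x) ^ j ∈ Subgroup.centralizer (Qb : Set (G ⧸ L)) := by
      rw [Subgroup.mem_centralizer_iff, ← hqn, ← map_pow, ← hQGmap]
      rintro _ ⟨y, hy, rfl⟩
      rw [← map_mul, ← map_mul, Subgroup.mem_centralizer_iff.1 hpow y hy]
    obtain ⟨m, hm⟩ := exists_pow_eq_self_of_coprime (coprime_piNum hxb hidx).symm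
    rw [← hm] at *
    intro y hy
    exact Subgroup.mem_centralizer_singleton_iff.2
      (Subgroup.mem_centralizer_iff.1 (pow_mem hxj m) y hy)
  obtain ⟨R₀, hR₀n, hR₀π, hR₀idx⟩ := hQ.exists_hall
  set Rb := (R₀.comap (QuotientGroup.mk' K)).map q
  have hRbn : Rb.Normal := (hR₀n.comap _).map q (QuotientGroup.mk'_surjective L)
  have hKR : Kb ≤ Rb := Subgroup.map_mono fun k hk => by
    show (k : G ⧸ K) ∈ R₀
    rw [(QuotientGroup.eq_one_iff k).2 hk]; exact one_mem _
  have hRidx : CoPiNum π Rb.index := coPiNum_of_dvd hR₀idx (by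
    refine (Subgroup.index_map_dvd _ (QuotientGroup.mk'_surjective L)).trans (dvd_of_eq ?_)
    exact Subgroup.index_comap_of_surjective _ (QuotientGroup.mk'_surjective K))
  have hquot : PiNum π (Kb.subgroupOf Rb).index := by
    refine piNum_of_dvd hR₀π (dvd_of_eq ?_)
    set R := R₀.comap (QuotientGroup.mk' K)
    have hKR' : K ≤ R := fun k hk => by
      show (k : G ⧸ K) ∈ R₀
      rw [(QuotientGroup.eq_one_iff k).2 hk]; exact one_mem _
    have hKrel : K.relIndex R = Nat.card R₀ := by
      refine Nat.eq_of_mul_eq_mul_left (Nat.card_pos (α := K)) ?_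
      rw [← Core.card_comap_mk' K R₀, ← Subgroup.relIndex_bot_left, ← Subgroup.relIndex_bot_left,
        Subgroup.relIndex_mul_relIndex _ _ _ bot_le hKR']
    have h1 : Nat.card Kb * Kb.relIndex Rb = Nat.card Rb := by
      rw [← Subgroup.relIndex_bot_left, ← Subgroup.relIndex_bot_left,
        Subgroup.relIndex_mul_relIndex _ _ _ bot_le hKR]
    show Kb.relIndex Rb = Nat.card R₀
    refine Nat.eq_of_mul_eq_mul_left (Nat.card_pos (α := Kb)) ?_
    rw [h1, ← hKrel]
    show Nat.card (R.map q) = Nat.card (K.map q) * _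
    rw [Core.card_map_mk', Core.card_map_mk', Subgroup.relIndex_mul_relIndex _ _ _ hLK hKR']
  have : (Kb.subgroupOf Rb).Normal := hKbn.comap _
  obtain ⟨S, hS⟩ := Subgroup.exists_right_complement'_of_coprime (N := Kb.subgroupOf Rb) (by
    rw [Nat.card_congr (Subgroup.subgroupOfEquivOfLe hKR).toEquiv]
    exact (coprime_piNum hquot hKbc).symm)
  have hScard : Nat.card S = (Kb.subgroupOf Rb).index := hS.symm.index_eq_card.symm
  have hSn : S.Normal := by
    refine Subgroup.normalizer_eq_top_iff.1 (eq_top_iff.2 ?_)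
    rw [← hS.sup_eq_top]
    refine sup_le ?_ Subgroup.le_normalizer
    intro k hk
    have hk' : ∀ s ∈ S, k * s * k⁻¹ = s := by
      intro s hs
      have h := hcent (s : G ⧸ L) (by
        rw [Subgroup.orderOf_coe]
        exact piNum_of_dvd hquot (hScard ▸ Subgroup.orderOf_dvd_natCard S hs)) hk
      rw [mul_inv_eq_iff_eq_mul]
      exact Subtype.ext (Subgroup.mem_centralizer_singleton_iff.1 h)
    rw [Subgroup.mem_normalizer_iff]
    intro s
    refine ⟨fun hs => (hk' s hs).symm ▸ hs, fun hs => ?_⟩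
    have h := hk' _ hs
    rw [mul_left_inj, mul_right_inj] at h
    exact h ▸ hs
  obtain ⟨T, hT⟩ := piClosed_of_hall (K := S) (fun p hp hd => hquot p hp (hScard ▸ hd))
    (by rw [hS.index_eq_card, Nat.card_congr (Subgroup.subgroupOfEquivOfLe hKR).toEquiv]; exact hKbc)
  refine ⟨T.map Rb.subtype, fun x => ⟨?_, fun hx => ?_⟩⟩
  · rintro ⟨y, hy, rfl⟩
    show PiNum π (orderOf (y : G ⧸ L))
    rw [Subgroup.orderOf_coe]
    exact (hT y).1 hy
  · have hxR : x ∈ Rb := by
      rw [← QuotientGroup.eq_one_iff, ← orderOf_eq_one_iff]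
      exact Nat.eq_one_of_dvd_coprimes (coprime_piNum hx hRidx) (orderOf_map_dvd (QuotientGroup.mk' Rb) x)
        (Subgroup.index_eq_card Rb ▸ orderOf_dvd_natCard _)
    exact ⟨⟨x, hxR⟩, (hT _).2 (by rwa [Subgroup.orderOf_mk]), rfl⟩

theorem piClosed_iff (π : Set ℕ) :
    PiClosed π G ↔ ((∃ (n : ℕ) (H : Fin (n + 1) → Subgroup G), H 0 = ⊥ ∧ H (Fin.last n) = ⊤ ∧
      Monotone H ∧ (∀ i, (H i).Normal) ∧
      ∀ i : Fin n, PiNum π ((H i.castSucc).relIndex (H i.succ)) ∨
        CoPiNum π ((H i.castSucc).relIndex (H i.succ))) ∧ HomCoPi π G) := by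
  constructor
  · intro h
    obtain ⟨K, hKn, hKπ, hKidx⟩ := h.exists_hall
    refine ⟨⟨2, ![⊥, K, ⊤], rfl, rfl, ?_, ?_, ?_⟩, ?_⟩
    · rw [Fin.monotone_iff_le_succ]
      intro i
      fin_cases i
      · exact bot_le
      · exact le_top
    · intro i
      fin_cases i <;> first | exact (inferInstance : (⊥ : Subgroup G).Normal) | exact hKn |
        exact (inferInstance : (⊤ : Subgroup G).Normal)
    · intro i
      fin_cases i
      · exact Or.inl (by simpa [Subgroup.relIndex_bot_left] using hKπ)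
      · exact Or.inr (by simpa [Subgroup.relIndex_top_right] using hKidx)
    · intro H hne hH
      set N := Subgroup.normalizer (H : Set G)
      refine coPiNum_of_dvd hKidx (dvd_trans ?_ (Subgroup.relIndex_dvd_index_of_normal (H := K) N))
      have hle : K ⊓ N ≤ Subgroup.centralizer (H : Set G) := by
        rintro k ⟨hk, hkN⟩
        rw [Subgroup.mem_centralizer_iff]
        intro y hy
        have h1 : y * k * y⁻¹ * k⁻¹ = 1 := by
          rw [← orderOf_eq_one_iff]
          refine Nat.eq_one_of_dvd_coprimes (coprime_piNum hKπ hH)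
            (Subgroup.orderOf_dvd_natCard K (mul_mem (hKn.conj_mem k hk y) (inv_mem hk)))
            (Subgroup.orderOf_dvd_natCard H ?_)
          rw [show y * k * y⁻¹ * k⁻¹ = y * (k * y⁻¹ * k⁻¹) by group]
          exact mul_mem hy ((Subgroup.mem_normalizer_iff.1 hkN _).1 (inv_mem hy))
        rw [mul_inv_eq_one, mul_inv_eq_iff_eq_mul] at h1
        exact h1
      rw [← Subgroup.inf_relIndex_right K N]
      exact Subgroup.relIndex_dvd_of_le_left N hle
  · rintro ⟨⟨n, H, h0, hlast, hmono, hnorm, hfac⟩, hhom⟩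
    have key : ∀ i : Fin (n + 1), PiClosed π (H i) := by
      intro i
      induction i using Fin.induction with
      | zero =>
        refine ⟨⊤, fun x => ⟨fun _ p hp hd => ?_, fun _ => Subgroup.mem_top x⟩⟩
        have hx : x = 1 := by
          obtain ⟨x, hx⟩ := x
          rw [h0, Subgroup.mem_bot] at hx
          exact Subtype.ext hx
        rw [hx, orderOf_one] at hd
        exact absurd hd hp.not_dvd_one
      | succ i ih =>
        set M := H i.succ
        have hle : H i.castSucc ≤ M := hmono (Fin.castSucc_le_succ i)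
        have := (hnorm i.castSucc).comap M.subtype
        have hK : PiClosed π ((H i.castSucc).subgroupOf M) := by
          obtain ⟨W, hW⟩ := ih
          let e := Subgroup.subgroupOfEquivOfLe hle
          refine ⟨W.comap e.toMonoidHom, fun x => ?_⟩
          rw [Subgroup.mem_comap, hW, MulEquiv.coe_toMonoidHom, MulEquiv.orderOf_eq]
        refine piClosed_extension (homCoPi_subgroup hhom M) ((H i.castSucc).subgroupOf M) hK ?_
        rcases hfac i with h | h
        · exact ⟨⊤, fun x => ⟨fun _ => piNum_of_dvd h (orderOf_dvd_natCard x), fun _ => Subgroup.mem_top x⟩⟩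
        · refine ⟨⊥, fun x => ⟨fun hx p hp hd => ?_, fun hx => ?_⟩⟩
          · rw [Subgroup.mem_bot.1 hx, orderOf_one] at hd
            exact absurd hd hp.not_dvd_one
          · rw [Subgroup.mem_bot, ← orderOf_eq_one_iff]
            exact Nat.eq_one_of_dvd_coprimes (coprime_piNum hx h) dvd_rfl (orderOf_dvd_natCard x)
    obtain ⟨W, hW⟩ := key (Fin.last n)
    refine ⟨W.map (H (Fin.last n)).subtype, fun x => ⟨?_, fun hx => ?_⟩⟩
    · rintro ⟨y, hy, rfl⟩
      show PiNum π (orderOf (y : G))
      rw [Subgroup.orderOf_coe]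
      exact (hW y).1 hy
    · exact ⟨⟨x, hlast ▸ Subgroup.mem_top x⟩, (hW _).2 (by rwa [Subgroup.orderOf_mk]), rfl⟩

end CfsgLib.Orders
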