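import Cfsg.Agent.Lib.Orders.Parts
import Cfsg.Agent.Lib.Core.MinNormal

/-!
# Real elements of odd order in solvable groups
-/

set_option autoImplicit false

namespace CfsgLib.Orders

universe u

open scoped Pointwise commutatorElement

theorem not_isConj_inv_of_normalizes_sylow_two (m : ℕ) {G : Type u} [Group G] [Finite G]
    [Group.IsSolvable G] (hm : Nat.card G = m) (S : Sylow 2 G) (x : G) (hx : x ≠ 1)
    (hodd : Odd (orderOf x)) (hnorm : x ∈ Subgroup.normalizer ((S : Subgroup G) : Set G)) :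
    ¬ IsConj x x⁻¹ := by
  induction m using Nat.strong_induction_on generalizing G with
  | _ m ih =>
    subst hm
    intro hreal
    have : Fact (Nat.Prime 2) := ⟨Nat.prime_two⟩
    have : Nontrivial G := nontrivial_of_ne x 1 hx
    obtain ⟨p, hp, hpne⟩ := Core.exists_pCore_ne_bot (G := G)
    set N := Cfsg.pCore p G
    have hNn : N.Normal := inferInstance
    have hNp : IsPGroup p N := Core.isPGroup_pCore p G
    let π := QuotientGroup.mk' N
    have hxN : x ∈ N := by
      by_contra hxN
      refine ih (Nat.card (G ⧸ N)) (Core.card_quotient_lt N hpne) rfl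
        (S.mapSurjective (QuotientGroup.mk'_surjective N)) (π x)
        (fun h => hxN ((QuotientGroup.eq_one_iff x).1 h)) ?_ ?_ ?_
      · exact hodd.of_dvd_nat (orderOf_map_dvd π x)
      · exact Subgroup.le_normalizer_map _ (Subgroup.mem_map_of_mem π hnorm)
      · rw [← map_inv]; exact π.map_isConj hreal
    have := Fact.mk hp
    have hp2 : p ≠ 2 := by
      rintro rfl
      obtain ⟨k, hk⟩ := IsPGroup.iff_orderOf.1 hNp ⟨x, hxN⟩
      rw [Subgroup.orderOf_mk] at hk
      rw [hk] at hodd
      rcases Nat.eq_zero_or_pos k with rfl | hk0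
      · exact hx (orderOf_eq_one_iff.1 (by rw [hk, pow_zero]))
      · exact absurd (Nat.even_pow.2 ⟨even_two, hk0.ne'⟩) (Nat.not_even_iff_odd.2 hodd)
    -- `S` centralizes `x`
    let C := Subgroup.centralizer ({x} : Set G)
    have hSC : (S : Subgroup G) ≤ C := fun s hs => by
      have h1 : x * s * x⁻¹ * s⁻¹ ∈ (S : Subgroup G) :=
        mul_mem ((Subgroup.mem_normalizer_iff.1 hnorm s).1 hs) (inv_mem hs)
      have h2 : x * s * x⁻¹ * s⁻¹ ∈ N := by
        rw [show x * s * x⁻¹ * s⁻¹ = x * (s * x⁻¹ * s⁻¹) by group]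
        exact mul_mem hxN (hNn.conj_mem _ (inv_mem hxN) s)
      have h3 : x * s * x⁻¹ * s⁻¹ = 1 := by
        have := (IsPGroup.disjoint_of_ne 2 p (Ne.symm hp2) (S : Subgroup G) N S.isPGroup' hNp).eq_bot
        rw [← Subgroup.mem_bot, ← this]
        exact ⟨h1, h2⟩
      rw [Subgroup.mem_centralizer_singleton_iff]
      exact (commutatorElement_eq_one_iff_mul_comm.1 h3).symm
    obtain ⟨g, hg⟩ := isConj_iff.1 hreal
    obtain ⟨u, v, -, hv, rfl, huv, ⟨b, hb⟩, hvo⟩ := exists_split Nat.prime_two g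
    have hinv2 : Commute ((u * v) ^ 2) x := by
      have : (u * v) ^ 2 * x * ((u * v) ^ 2)⁻¹ = x := by
        calc (u * v) ^ 2 * x * ((u * v) ^ 2)⁻¹
            = (u * v) * ((u * v) * x * (u * v)⁻¹) * (u * v)⁻¹ := by rw [sq]; group
          _ = (u * v) * x⁻¹ * (u * v)⁻¹ := by rw [hg]
          _ = ((u * v) * x * (u * v)⁻¹)⁻¹ := by group
          _ = x := by rw [hg, inv_inv]
      exact mul_inv_eq_iff_eq_mul.1 this
    have hvx : Commute v x := by
      obtain ⟨i, hi⟩ := Subgroup.mem_zpowers_iff.1 hv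
      refine commute_of_pow_commute hvo ?_
      rw [← hi, ← zpow_natCast, ← zpow_mul, mul_comm, zpow_mul, zpow_natCast]
      exact hinv2.zpow_left i
    have hu : u * x * u⁻¹ = x⁻¹ := by
      calc u * x * u⁻¹ = u * (v * x * v⁻¹) * u⁻¹ := by rw [hvx.eq, mul_inv_cancel_right]
        _ = u * v * x * (u * v)⁻¹ := by group
        _ = x⁻¹ := hg
    have huC : u ∈ Subgroup.normalizer (C : Set G) := by
      rw [Subgroup.mem_normalizer_iff]
      intro c
      simp only [C, Subgroup.mem_centralizer_singleton_iff]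
      constructor <;> intro hc
      · have hc' : Commute c x := hc
        calc u * c * u⁻¹ * x = u * c * u⁻¹ * (u * x * u⁻¹)⁻¹ := by rw [hu, inv_inv]
          _ = u * (c * x⁻¹) * u⁻¹ := by group
          _ = u * (x⁻¹ * c) * u⁻¹ := by rw [hc'.inv_right.eq]
          _ = (u * x * u⁻¹)⁻¹ * (u * c * u⁻¹) := by group
          _ = _ := by rw [hu, inv_inv]
      · have hc' : Commute (u * c * u⁻¹) x := hc
        have h5 := hc'.inv_right
        rw [← hu] at h5
        calc c * x = u⁻¹ * ((u * c * u⁻¹) * (u * x * u⁻¹)) * u := by group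
          _ = u⁻¹ * ((u * x * u⁻¹) * (u * c * u⁻¹)) * u := by rw [h5.eq]
          _ = x * c := by group
    -- `u` lies in `C` since `C` contains a Sylow 2-subgroup
    have huC' : u ∈ C := by
      have hcard := Core.card_sup_mul_card_inf (Subgroup.zpowers u) C (Subgroup.zpowers_le.2 huC)
      by_contra hu'
      have hlt : Subgroup.zpowers u ⊓ C < Subgroup.zpowers u :=
        lt_of_le_of_ne inf_le_left fun he => hu' ((he.ge (Subgroup.mem_zpowers u)).2)
      obtain ⟨j, hjb, hj⟩ := (Nat.dvd_prime_pow Nat.prime_two).1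
        ((hb ▸ Nat.card_zpowers u ▸ Subgroup.card_dvd_of_le inf_le_left :
          Nat.card (Subgroup.zpowers u ⊓ C : Subgroup G) ∣ 2 ^ b))
      have hlt' : j < b := by
        refine lt_of_le_of_ne hjb fun hjb' => hlt.ne (Subgroup.eq_of_le_of_card_ge hlt.le ?_)
        rw [hj, hjb', Nat.card_zpowers, hb]
      rw [Nat.card_zpowers, hb, hj] at hcard
      have h2 : 2 * Nat.card C ∣ Nat.card (Subgroup.zpowers u ⊔ C : Subgroup G) := by
        refine ⟨2 ^ (b - j - 1), Nat.eq_of_mul_eq_mul_right (Nat.two_pow_pos j) ?_⟩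
        calc Nat.card (Subgroup.zpowers u ⊔ C : Subgroup G) * 2 ^ j = 2 ^ b * Nat.card C := hcard
          _ = Nat.card C * (2 * 2 ^ (b - j - 1) * 2 ^ j) := by
              rw [← pow_succ', ← pow_add, mul_comm, show b - j - 1 + 1 + j = b by omega]
          _ = _ := by ring
      have h3 : Nat.card C * 2 ∣ Nat.card C * C.index := by
        rw [Subgroup.card_mul_index, mul_comm]
        exact h2.trans (Subgroup.card_subgroup_dvd_card _)
      exact S.not_dvd_index (((Nat.mul_dvd_mul_iff_left Nat.card_pos).1 h3).trans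
        (Subgroup.index_dvd_of_le hSC))
    have h4 : Commute u x := Subgroup.mem_centralizer_singleton_iff.1 huC'
    rw [h4.eq, mul_inv_cancel_right] at hu
    have h5 : x ^ 2 = 1 := by rw [sq]; nth_rewrite 1 [hu]; exact inv_mul_cancel x
    obtain ⟨t, ht⟩ := hodd
    apply hx
    have h6 := pow_orderOf_eq_one x
    rw [ht, pow_succ, pow_mul, h5, one_pow, one_mul] at h6
    exact h6

end CfsgLib.Orders
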