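import Cfsg.Agent.Lib.Orders.FrobeniusCount
import Cfsg.Agent.Lib.Core.UniqueOrderP
import Mathlib

/-!
# Groups in which the numbers of elements of each order take two values
-/

set_option autoImplicit false
set_option linter.all false

namespace CfsgLib.Orders.TwoCounts

universe u

variable {G : Type u} [Group G] [Finite G]

theorem exists_model_zero (H : Type u) [Group H] [Finite H] :
    ∃ (P : Type) (_ : Group P) (_ : Finite P), Nonempty (H ≃* P) := by
  haveI : Small.{0} H := inferInstance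
  exact ⟨Shrink.{0} H, inferInstance, inferInstance, ⟨Shrink.mulEquiv.symm⟩⟩

theorem card_pow_eq_one_eq_sum {m : ℕ} (hm : m ≠ 0) :
    Nat.card {x : G // x ^ m = 1} = ∑ d ∈ m.divisors, Nat.card {x : G // orderOf x = d} := by
  classical
  haveI := Fintype.ofFinite G
  simp only [Nat.card_eq_fintype_card, Fintype.card_subtype]
  rw [Finset.card_eq_sum_card_fiberwise (f := (orderOf : G → ℕ)) (t := m.divisors)]
  · refine Finset.sum_congr rfl fun d hd => congrArg Finset.card ?_
    ext x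
    simp only [Finset.mem_filter, Finset.mem_univ, true_and]
    exact ⟨fun h => h.2, fun h => ⟨orderOf_dvd_iff_pow_eq_one.1 (h.symm ▸ (Nat.mem_divisors.1 hd).1), h⟩⟩
  · intro x hx
    exact Nat.mem_divisors.2 ⟨orderOf_dvd_of_pow_eq_one (Finset.mem_filter.1 hx).2, hm⟩

theorem divisors_prime {p : ℕ} (hp : p.Prime) : p.divisors = {1, p} := by
  rw [hp.divisors]

theorem divisors_mul_primes {p q : ℕ} (hp : p.Prime) (hq : q.Prime) :
    (p * q).divisors = {1, p, q, p * q} := by
  ext d
  rw [Nat.mem_divisors]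
  simp only [Finset.mem_insert, Finset.mem_singleton]
  constructor
  · rintro ⟨h, -⟩
    obtain ⟨a, b, ha, hb, rfl⟩ := Nat.dvd_mul.1 h
    rcases (Nat.dvd_prime hp).1 ha with rfl | rfl <;> rcases (Nat.dvd_prime hq).1 hb with rfl | rfl <;> simp
  · refine fun h => ⟨?_, mul_ne_zero hp.ne_zero hq.ne_zero⟩
    rcases h with rfl | rfl | rfl | rfl
    · exact one_dvd _
    · exact dvd_mul_right _ _
    · exact dvd_mul_left _ _
    · exact dvd_rfl

theorem divisors_four_mul {p : ℕ} (hp : p.Prime) :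
    (4 * p).divisors = {1, 2, 4, p, 2 * p, 4 * p} := by
  ext d
  rw [Nat.mem_divisors]
  simp only [Finset.mem_insert, Finset.mem_singleton]
  constructor
  · rintro ⟨h, -⟩
    obtain ⟨a, b, ha, hb, rfl⟩ := Nat.dvd_mul.1 h
    obtain ⟨i, hi, rfl⟩ := (Nat.dvd_prime_pow Nat.prime_two).1 (show a ∣ 2 ^ 2 by simpa using ha)
    rcases (Nat.dvd_prime hp).1 hb with rfl | rfl <;> interval_cases i <;> simp
  · refine fun h => ⟨?_, mul_ne_zero (by norm_num) hp.ne_zero⟩
    rcases h with rfl | rfl | rfl | rfl | rfl | rfl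
    · exact one_dvd _
    · exact Dvd.dvd.mul_right (by norm_num) _
    · exact dvd_mul_right _ _
    · exact dvd_mul_left _ _
    · exact Dvd.intro 2 (by ring)
    · exact dvd_rfl

theorem structure_of_two_counts (n : ℕ) (hn : n ≠ 1)
    (h : ((fun m : ℕ => Nat.card {g : G // orderOf g = m}) '' Set.range (orderOf : G → ℕ)) = {1, n}) :
    (∃ p : ℕ, p.Prime ∧ IsPGroup p G ∧ 3 ≤ Nat.card G ∧ Monoid.exponent G = p) ∨
      Nonempty (G ≃* QuaternionGroup 2) ∨ (IsCyclic G ∧ Nat.card G = 4) ∨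
      (∃ (p : ℕ) (P : Type) (_ : Group P) (_ : Finite P), p.Prime ∧ p ≠ 2 ∧ IsPGroup p P ∧ Monoid.exponent P = p ∧
        Nonempty (G ≃* Multiplicative (ZMod 2) × P)) := by
  classical
  set f : ℕ → ℕ := fun m => Nat.card {g : G // orderOf g = m} with hf
  have hocc : ∀ x : G, f (orderOf x) = 1 ∨ f (orderOf x) = n := fun x => by
    have : f (orderOf x) ∈ ({1, n} : Set ℕ) := h ▸ Set.mem_image_of_mem f ⟨x, rfl⟩
    simpa using this
  have hpos : ∀ x : G, 0 < f (orderOf x) := fun x => Nat.card_pos_iff.2 ⟨⟨⟨x, rfl⟩⟩, inferInstance⟩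
  have hzero : ∀ m, (∀ x : G, orderOf x ≠ m) → f m = 0 := fun m hm => by
    haveI : IsEmpty {g : G // orderOf g = m} := ⟨fun g => hm g.1 g.2⟩
    exact Nat.card_of_isEmpty
  have hone : f 1 = 1 := Nat.card_eq_one_iff_unique.2
    ⟨⟨fun a b => Subtype.ext ((orderOf_eq_one_iff.1 a.2).trans (orderOf_eq_one_iff.1 b.2).symm)⟩, ⟨⟨1, orderOf_one⟩⟩⟩
  have hbig : ∀ x : G, orderOf x ≠ 1 → orderOf x ≠ 2 → f (orderOf x) = n := fun x h1 h2 => by
    refine (hocc x).resolve_left fun hx => ?_
    have hdvd := CfsgLib.Orders.totient_dvd_card_orderOf (G := G) (orderOf x)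
    rw [show Nat.card {g : G // orderOf g = orderOf x} = 1 from hx, Nat.dvd_one, Nat.totient_eq_one_iff] at hdvd
    omega
  have hphi : ∀ x : G, orderOf x ≠ 1 → orderOf x ≠ 2 → (orderOf x).totient ∣ n := fun x h1 h2 => by
    have := CfsgLib.Orders.totient_dvd_card_orderOf (G := G) (orderOf x)
    rwa [show Nat.card {g : G // orderOf g = orderOf x} = n from hbig x h1 h2] at this
  have hF : ∀ m, m ≠ 0 → m ∣ Nat.card G → m ∣ ∑ d ∈ m.divisors, f d := fun m hm hd =>
    card_pow_eq_one_eq_sum (G := G) hm ▸ CfsgLib.Orders.dvd_card_pow_eq_one m hd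
  have hodd : ∀ p, p.Prime → p ≠ 2 → p ∣ Nat.card G → f p = n ∧ p ∣ 1 + n := by
    intro p hp hp2 hpG
    haveI := Fact.mk hp
    obtain ⟨x, hx⟩ := exists_prime_orderOf_dvd_card' p hpG
    have hfp : f p = n := hx ▸ hbig x (hx ▸ hp.ne_one) (hx ▸ hp2)
    have := hF p hp.ne_zero hpG
    rw [divisors_prime hp, Finset.sum_pair hp.ne_one.symm, hone, hfp] at this
    exact ⟨hfp, this⟩
  have hnot : ∀ p, p.Prime → p ∣ 1 + n → ¬ p ∣ n := fun p hp h1 h2 =>
    hp.not_dvd_one ((Nat.dvd_add_left h2).1 h1)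
  have hsq : ∀ p, p.Prime → p ≠ 2 → ∀ x : G, orderOf x ≠ p ^ 2 := by
    intro p hp hp2 x hx
    have hpG : p ∣ Nat.card G := (dvd_pow_self p two_ne_zero).trans (hx ▸ orderOf_dvd_natCard x)
    have h4 : 4 ≤ p ^ 2 := Nat.pow_le_pow_left hp.two_le 2
    have h1 : (orderOf x).totient ∣ n := hphi x (by omega) (by omega)
    rw [hx, Nat.totient_prime_pow hp two_pos] at h1
    exact hnot p hp (hodd p hp hp2 hpG).2 ((Dvd.intro _ (by rw [show 2 - 1 = 1 from rfl, pow_one])).trans h1)
  have honeodd : ∀ p q, p.Prime → q.Prime → p ≠ 2 → q ≠ 2 → p ∣ Nat.card G → q ∣ Nat.card G → p = q := by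
    intro p q hp hq hp2 hq2 hpG hqG
    by_contra hpq
    have hd : p * q ∣ Nat.card G := ((Nat.coprime_primes hp hq).2 hpq).mul_dvd_of_dvd_of_dvd hpG hqG
    have hF' := hF (p * q) (mul_ne_zero hp.ne_zero hq.ne_zero) hd
    obtain ⟨hfp, hpn⟩ := hodd p hp hp2 hpG
    obtain ⟨hfq, -⟩ := hodd q hq hq2 hqG
    have h1p : (1 : ℕ) ≠ p * q := fun e => hp.ne_one (Nat.eq_one_of_mul_eq_one_right e.symm)
    have hppq : p ≠ p * q := fun e => hq.ne_one ((Nat.mul_eq_left hp.ne_zero).1 e.symm)
    have hqpq : q ≠ p * q := fun e => hp.ne_one ((Nat.mul_eq_right hq.ne_zero).1 e.symm)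
    rw [divisors_mul_primes hp hq, Finset.sum_insert (by simp [hp.ne_one.symm, hq.ne_one.symm, h1p]),
      Finset.sum_insert (by simp [hpq, hppq]), Finset.sum_pair hqpq, hone, hfp, hfq] at hF'
    have hp' : p ∣ 1 + (n + (n + f (p * q))) := (dvd_mul_right p q).trans hF'
    by_cases hx : ∃ x : G, orderOf x = p * q
    · obtain ⟨x, hx⟩ := hx
      have h4 : 4 ≤ p * q := Nat.mul_le_mul hp.two_le hq.two_le
      have hfpq : f (p * q) = n := hx ▸ hbig x (by omega) (by omega)
      rw [hfpq] at hp'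
      have h2 : p ∣ 3 * (1 + n) := Dvd.dvd.mul_left hpn 3
      have h3 : p ∣ 3 * (1 + n) - (1 + (n + (n + n))) := Nat.dvd_sub h2 hp'
      rw [show 3 * (1 + n) - (1 + (n + (n + n))) = 2 by omega] at h3
      exact hp2 ((Nat.prime_dvd_prime_iff_eq hp Nat.prime_two).1 h3)
    · push Not at hx
      rw [hzero _ hx] at hp'
      have h3 : p ∣ 2 * (1 + n) - (1 + (n + (n + 0))) := Nat.dvd_sub (Dvd.dvd.mul_left hpn 2) hp'
      rw [show 2 * (1 + n) - (1 + (n + (n + 0))) = 1 by omega] at h3
      exact hp.not_dvd_one h3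
  by_cases hall : ∀ x : G, orderOf x = 1 ∨ orderOf x = 2
  · -- exponent two
    have hpow : ∀ x : G, x ^ 2 = 1 := fun x => orderOf_dvd_iff_pow_eq_one.1 (by rcases hall x with e | e <;> rw [e]; norm_num)
    have hcard : Nat.card G = 1 + f 2 := by
      have := card_pow_eq_one_eq_sum (G := G) two_ne_zero
      rw [divisors_prime Nat.prime_two, Finset.sum_pair (by norm_num), Nat.card_congr (Equiv.subtypeUnivEquiv hpow)] at this
      exact this.trans (congrArg (· + f 2) hone)
    obtain ⟨m, ⟨x, rfl⟩, hx⟩ : n ∈ (fun m : ℕ => Nat.card {g : G // orderOf g = m}) '' Set.range (orderOf : G → ℕ) := by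
      rw [h]; simp
    have hx' : f (orderOf x) = n := hx
    have hx2 : orderOf x = 2 := (hall x).resolve_left fun e => hn (by rw [← hx', e, hone])
    refine Or.inl ⟨2, Nat.prime_two, fun g => ⟨1, by rw [pow_one]; exact hpow g⟩, ?_, ?_⟩
    · have := hpos x
      rw [hx2] at this hx'
      omega
    · refine Nat.dvd_antisymm (Monoid.exponent_dvd_of_forall_pow_eq_one hpow) (hx2 ▸ Monoid.order_dvd_exponent x)
  push Not at hall
  obtain ⟨x₀, hx01, hx02⟩ := hall
  have hneven : 2 ∣ n := by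
    have h3 : 3 ≤ orderOf x₀ := by have := orderOf_pos x₀; omega
    exact (Nat.totient_even h3).two_dvd.trans (hphi x₀ hx01 hx02)
  have hinv : ∀ x : G, orderOf x = 2 → f 2 = 1 := fun x hx => by
    refine (hx ▸ hocc x).resolve_right fun e => ?_
    have := hF 2 two_ne_zero (hx ▸ orderOf_dvd_natCard x)
    rw [divisors_prime Nat.prime_two, Finset.sum_pair (by norm_num), hone, e] at this
    omega
  -- primes dividing the order
  by_cases h2 : 2 ∣ Nat.card G
  swap
  · have hG1 : Nat.card G ≠ 1 := fun e => hx01 (Nat.dvd_one.1 (e ▸ orderOf_dvd_natCard x₀))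
    obtain ⟨p, hp, hpG⟩ := Nat.exists_prime_and_dvd hG1
    haveI := Fact.mk hp
    have hp2 : p ≠ 2 := fun e => h2 (e ▸ hpG)
    have hord : ∀ x : G, orderOf x ∣ p := by
      intro x
      rw [Nat.dvd_iff_prime_pow_dvd_dvd]
      intro q j hq hqj
      rcases Nat.eq_zero_or_pos j with rfl | hj
      · simp
      have hqG : q ∣ Nat.card G := (dvd_pow_self q hj.ne').trans (hqj.trans (orderOf_dvd_natCard x))
      have hq2 : q ≠ 2 := fun e => h2 (e ▸ hqG)
      have hqp := honeodd q p hq hp hq2 hp2 hqG hpG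
      subst hqp
      have hj1 : j < 2 := not_le.1 fun hj2 => hsq q hq hq2 (x ^ (orderOf x / q ^ 2))
        (orderOf_pow_orderOf_div (orderOf_pos x).ne' ((Nat.pow_dvd_pow q hj2).trans hqj))
      rw [show j = 1 by omega, pow_one]
    have hP : IsPGroup p G := fun x => ⟨1, by rw [pow_one]; exact orderOf_dvd_iff_pow_eq_one.1 (hord x)⟩
    refine Or.inl ⟨p, hp, hP, le_trans ?_ (Nat.le_of_dvd Nat.card_pos hpG), ?_⟩
    · have := hp.two_le; omega
    · refine Nat.dvd_antisymm (Monoid.exponent_dvd.2 hord) ?_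
      obtain ⟨y, hy⟩ := exists_prime_orderOf_dvd_card' p hpG
      exact hy ▸ Monoid.order_dvd_exponent y
  obtain ⟨z, hz⟩ := exists_prime_orderOf_dvd_card' (hp := ⟨Nat.prime_two⟩) 2 h2
  have hf2 : f 2 = 1 := hinv z hz
  have huniq : ∀ x : G, orderOf x = 2 → x = z := fun x hx => by
    obtain ⟨hs, -⟩ := Nat.card_eq_one_iff_unique.1 hf2
    exact congrArg Subtype.val (Subsingleton.elim (⟨x, hx⟩ : {g : G // orderOf g = 2}) ⟨z, hz⟩)
  by_cases hp : ∃ p, p.Prime ∧ p ≠ 2 ∧ p ∣ Nat.card G
  · obtain ⟨p, hp, hp2, hpG⟩ := hp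
    haveI := Fact.mk hp
    obtain ⟨hfp, hpn⟩ := hodd p hp hp2 hpG
    have hno4 : ∀ x : G, orderOf x ≠ 4 := by
      intro x hx
      have h4 : f 4 = n := hx ▸ hbig x (by omega) (by omega)
      have hd : 4 * p ∣ Nat.card G := Nat.Coprime.mul_dvd_of_dvd_of_dvd
        (((Nat.coprime_primes Nat.prime_two hp).2 hp2.symm).pow_left 2) (hx ▸ orderOf_dvd_natCard x) hpG
      have hF' := hF (4 * p) (mul_ne_zero (by norm_num) hp.ne_zero) hd
      have h5 := hp.two_le
      have hp4 : p ≠ 4 := fun e => by rw [e] at hp; norm_num at hp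
      rw [divisors_four_mul hp, Finset.sum_insert (by simp; omega), Finset.sum_insert (by simp; omega),
        Finset.sum_insert (by simp; omega), Finset.sum_insert (by simp; omega), Finset.sum_pair (by omega),
        hone, hf2, hfp, h4] at hF'
      have h2p : f (2 * p) = n := by
        obtain ⟨y, hy⟩ := exists_prime_orderOf_dvd_card' p hpG
        have hc : Commute z y := by
          have hz' : y * z * y⁻¹ = z := huniq _ (by
            rw [show orderOf (y * z * y⁻¹) = orderOf z from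
              orderOf_injective (MulAut.conj y).toMonoidHom (MulAut.conj y).injective z, hz])
          exact (mul_inv_eq_iff_eq_mul.1 hz').symm
        have ho := hc.orderOf_mul_eq_mul_orderOf_of_coprime (by rw [hz, hy]; exact (Nat.coprime_primes Nat.prime_two hp).2 hp2.symm)
        rw [hz, hy] at ho
        exact ho ▸ hbig (z * y) (by omega) (by omega)
      rw [h2p] at hF'
      have hp' : p ∣ 1 + (1 + (n + (n + (n + f (4 * p))))) := (dvd_mul_left p 4).trans hF'
      by_cases hx' : ∃ y : G, orderOf y = 4 * p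
      · obtain ⟨y, hy⟩ := hx'
        rw [show f (4 * p) = n from hy ▸ hbig y (by omega) (by omega)] at hp'
        have h3 : p ∣ 4 * (1 + n) - (1 + (1 + (n + (n + (n + n))))) := Nat.dvd_sub (Dvd.dvd.mul_left hpn 4) hp'
        rw [show 4 * (1 + n) - (1 + (1 + (n + (n + (n + n))))) = 2 by omega] at h3
        exact hp2 ((Nat.prime_dvd_prime_iff_eq hp Nat.prime_two).1 h3)
      · push Not at hx'
        rw [hzero _ hx'] at hp'
        have h3 : p ∣ 3 * (1 + n) - (1 + (1 + (n + (n + (n + 0))))) := Nat.dvd_sub (Dvd.dvd.mul_left hpn 3) hp'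
        rw [show 3 * (1 + n) - (1 + (1 + (n + (n + (n + 0))))) = 1 by omega] at h3
        exact hp.not_dvd_one h3
    have hord : ∀ x : G, orderOf x ∣ 2 * p := by
      intro x
      rw [Nat.dvd_iff_prime_pow_dvd_dvd]
      intro q j hq hqj
      rcases Nat.eq_zero_or_pos j with rfl | hj
      · simp
      have hqG : q ∣ Nat.card G := (dvd_pow_self q hj.ne').trans (hqj.trans (orderOf_dvd_natCard x))
      have hj1 : j = 1 := by
        by_contra hne
        have hq' := orderOf_pow_orderOf_div (orderOf_pos x).ne' ((Nat.pow_dvd_pow q (show 2 ≤ j by omega)).trans hqj)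
        by_cases hq2 : q = 2
        · subst hq2; exact hno4 _ hq'
        · exact hsq q hq hq2 _ hq'
      rw [hj1, pow_one]
      by_cases hq2 : q = 2
      · exact hq2 ▸ dvd_mul_right 2 p
      · exact (honeodd q p hq hp hq2 hp2 hqG hpG) ▸ dvd_mul_left q 2
    set Z := Subgroup.zpowers z
    have hZc : Nat.card Z = 2 := by rw [Nat.card_zpowers, hz]
    haveI hZn : Z.Normal := ⟨fun y hy g => by
      obtain ⟨i, rfl⟩ := Subgroup.mem_zpowers_iff.1 hy
      have hz' : g * z * g⁻¹ = z := huniq _ (by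
        rw [show orderOf (g * z * g⁻¹) = orderOf z from
          orderOf_injective (MulAut.conj g).toMonoidHom (MulAut.conj g).injective z, hz])
      rw [← conj_zpow, hz']
      exact Subgroup.zpow_mem _ (Subgroup.mem_zpowers z) i⟩
    have hq : IsPGroup p (G ⧸ Z) := fun y => by
      obtain ⟨y, rfl⟩ := QuotientGroup.mk'_surjective Z y
      refine ⟨1, ?_⟩
      rw [pow_one, ← map_pow]
      refine (QuotientGroup.eq_one_iff _).2 ?_
      by_cases h1 : y ^ p = 1
      · exact h1 ▸ one_mem _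
      · haveI := Fact.mk Nat.prime_two
        rw [huniq _ (orderOf_eq_prime (by rw [← pow_mul, mul_comm]; exact orderOf_dvd_iff_pow_eq_one.1 (hord y)) h1)]
        exact Subgroup.mem_zpowers z
    obtain ⟨b, hb⟩ := IsPGroup.iff_card.1 hq
    have hG : Nat.card G = 2 * p ^ b := by rw [Subgroup.card_eq_card_quotient_mul_card_subgroup Z, hb, hZc, mul_comm]
    obtain ⟨P⟩ : Nonempty (Sylow p G) := inferInstance
    have hPc : Nat.card (P : Subgroup G) = p ^ b := by
      rw [P.card_eq_multiplicity, hG, Nat.factorization_mul two_ne_zero (pow_ne_zero _ hp.ne_zero), Finsupp.add_apply,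
        Nat.Prime.factorization_pow hp, Finsupp.single_eq_same, Nat.factorization_eq_zero_of_not_dvd, zero_add]
      exact fun e => hp2 ((Nat.prime_dvd_prime_iff_eq hp Nat.prime_two).1 e)
    have hcomm : ∀ (i : Z) (a : (P : Subgroup G)), Commute (Z.subtype i) ((P : Subgroup G).subtype a) := by
      rintro ⟨i, hi⟩ a
      obtain ⟨t, rfl⟩ := Subgroup.mem_zpowers_iff.1 hi
      have hz' : (a : G) * z * (a : G)⁻¹ = z := huniq _ (by
        rw [show orderOf ((a : G) * z * (a : G)⁻¹) = orderOf z from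
          orderOf_injective (MulAut.conj (a : G)).toMonoidHom (MulAut.conj (a : G)).injective z, hz])
      exact Commute.zpow_left (show Commute z (a : G) from (mul_inv_eq_iff_eq_mul.1 hz').symm) t
    have hinj : Function.Injective (MonoidHom.noncommCoprod Z.subtype (P : Subgroup G).subtype hcomm) := by
      rw [MonoidHom.noncommCoprod_injective]
      refine ⟨Z.subtype_injective, (P : Subgroup G).subtype_injective, ?_⟩
      rw [Subgroup.range_subtype, Subgroup.range_subtype]
      refine Subgroup.disjoint_of_coprime_natCard ?_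
      rw [hZc, hPc]
      exact ((Nat.coprime_primes Nat.prime_two hp).2 hp2.symm).pow_right b
    have e1 : Z × (P : Subgroup G) ≃* G := MulEquiv.ofBijective _
      ((Nat.bijective_iff_injective_and_card _).2 ⟨hinj, by rw [Nat.card_prod, hZc, hPc, hG]⟩)
    obtain ⟨P₀, hP₀, hP₀f, ⟨e2⟩⟩ := exists_model_zero (P : Subgroup G)
    haveI := Fact.mk Nat.prime_two
    have e3 : Z ≃* Multiplicative (ZMod 2) := mulEquivOfPrimeCardEq (p := 2) hZc
      (by rw [Nat.card_congr Multiplicative.toAdd, Nat.card_zmod])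
    refine Or.inr (Or.inr (Or.inr ⟨p, P₀, hP₀, hP₀f, hp, hp2, P.isPGroup'.of_equiv e2, ?_,
      ⟨e1.symm.trans (e3.prodCongr e2)⟩⟩))
    rw [← Monoid.exponent_eq_of_mulEquiv e2]
    refine Nat.dvd_antisymm (Monoid.exponent_dvd.2 fun a => ?_) ?_
    · obtain ⟨k, hk⟩ := IsPGroup.iff_orderOf.1 P.isPGroup' a
      have h1 := hord (a : G)
      rw [Subgroup.orderOf_coe, hk] at h1
      rw [hk]
      exact (((Nat.coprime_primes hp Nat.prime_two).2 hp2).pow_left k).dvd_of_dvd_mul_left h1
    · obtain ⟨y, hy⟩ := exists_prime_orderOf_dvd_card' (G := (P : Subgroup G)) p (P.dvd_card_of_dvd_card hpG)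
      have := Monoid.order_dvd_exponent y
      rwa [hy] at this
  push Not at hp
  haveI := Fact.mk Nat.prime_two
  have hG2 : IsPGroup 2 G := IsPGroup.of_card (n := (Nat.card G).primeFactorsList.length)
    (Nat.eq_prime_pow_of_unique_prime_dvd Nat.card_pos.ne' fun {q} hq hd => by_contra fun hne => hp q hq hne hd)
  have hord : ∀ x : G, orderOf x ∣ 4 := by
    intro x
    obtain ⟨k, hk⟩ := IsPGroup.iff_orderOf.1 hG2 x
    rw [hk]
    have hk2 : k < 3 := by
      by_contra h3
      have h8 := orderOf_pow_orderOf_div (orderOf_pos x).ne' (hk ▸ Nat.pow_dvd_pow 2 (not_lt.1 h3) : 2 ^ 3 ∣ orderOf x)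
      have hn4 : 4 ∣ n := by
        have := hphi _ (by rw [h8]; norm_num) (by rw [h8]; norm_num)
        rwa [h8, show Nat.totient (2 ^ 3) = 4 by decide] at this
      have h4 := orderOf_pow_orderOf_div (orderOf_pos x).ne' (hk ▸ Nat.pow_dvd_pow 2 (show 2 ≤ k by omega) : 2 ^ 2 ∣ orderOf x)
      have hf4 : f 4 = n := by
        have := hbig _ (by rw [h4]; norm_num) (by rw [h4]; norm_num)
        rwa [h4] at this
      have := hF 4 (by norm_num) (by
        have := (h4 ▸ orderOf_dvd_natCard (x ^ (orderOf x / 2 ^ 2)) : 2 ^ 2 ∣ Nat.card G)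
        simpa using this)
      rw [show Nat.divisors 4 = {1, 2, 4} by decide, Finset.sum_insert (by decide), Finset.sum_pair (by decide),
        hone, hf2, hf4] at this
      omega
    exact (Nat.pow_dvd_pow 2 (show k ≤ 2 by omega) : 2 ^ k ∣ 2 ^ 2)
  rcases CfsgLib.Core.UniqueOrderP.isCyclic_or_quaternion_of_unique hG2 (fun H K hH hK => by
      have hmem : ∀ H : Subgroup G, Nat.card H = 2 → H = Subgroup.zpowers z := fun H hH => by
        obtain ⟨y, hy⟩ := exists_prime_orderOf_dvd_card' (G := H) 2 (hH ▸ dvd_rfl)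
        rw [← Subgroup.orderOf_coe] at hy
        refine (Subgroup.eq_of_le_of_card_ge (Subgroup.zpowers_le.2 (huniq _ hy ▸ y.2)) ?_).symm
        rw [hH, Nat.card_zpowers, hz]
      rw [hmem H hH, hmem K hK]) with hc | ⟨-, k, ⟨e⟩⟩
  · refine Or.inr (Or.inr (Or.inl ⟨hc, ?_⟩))
    obtain ⟨g, hg⟩ := hc.exists_generator
    have hgc : orderOf g = Nat.card G := orderOf_eq_card_of_forall_mem_zpowers hg
    have h4 : Nat.card G ∣ 2 ^ 2 := hgc ▸ hord g
    obtain ⟨i, hi, hi'⟩ := (Nat.dvd_prime_pow Nat.prime_two).1 h4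
    have h3 : orderOf x₀ ∣ Nat.card G := orderOf_dvd_natCard x₀
    have h3' := orderOf_pos x₀
    have := Nat.le_of_dvd Nat.card_pos h3
    interval_cases i <;> omega
  · have hexp : Monoid.exponent G ∣ 4 := Monoid.exponent_dvd.2 hord
    haveI : NeZero (2 ^ k) := ⟨pow_ne_zero k two_ne_zero⟩
    rw [Monoid.exponent_eq_of_mulEquiv e, QuaternionGroup.exponent] at hexp
    have hk : 2 ^ k ∣ 2 ^ 1 := (dvd_lcm_left _ _).trans (Nat.dvd_of_mul_dvd_mul_left two_pos (hexp : 2 * _ ∣ 2 * 2))
    have hk1 := (Nat.pow_dvd_pow_iff_le_right (by norm_num : 1 < 2)).1 hk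
    interval_cases k
    · refine Or.inr (Or.inr (Or.inl ?_))
      have hcard : Nat.card G = 4 := by
        rw [Nat.card_congr e.toEquiv, Nat.card_eq_fintype_card, QuaternionGroup.card]
        norm_num
      refine ⟨isCyclic_of_orderOf_eq_card (e.symm (QuaternionGroup.xa 0)) ?_, hcard⟩
      rw [hcard, show orderOf (e.symm (QuaternionGroup.xa 0)) = orderOf (QuaternionGroup.xa (0 : ZMod (2 * 2 ^ 0))) from
        orderOf_injective e.symm.toMonoidHom e.symm.injective _]
      exact QuaternionGroup.orderOf_xa 0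
    · exact Or.inr (Or.inl ⟨e⟩)

end CfsgLib.Orders.TwoCounts
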