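import Cfsg.Agent.Lib.SolvStruct.Supersolvable
import Mathlib.GroupTheory.OrderOfElement
import Mathlib.GroupTheory.Coset.Card

/-!
# Groups of the same order type
-/

set_option autoImplicit false

namespace CfsgLib.Orders

universe u v

/-- Two groups with the same number of solutions of `x ^ k = 1` for every `k`. -/
def SamePowCount (G : Type u) (H : Type v) [Group G] [Group H] : Prop :=
  ∀ k : ℕ, Nat.card {g : G // g ^ k = 1} = Nat.card {h : H // h ^ k = 1}

theorem samePowCount_of_orders {G : Type u} {H : Type v} [Group G] [Finite G] [Group H] [Finite H]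
    (hT : ∀ m : ℕ, Nat.card {g : G // orderOf g = m} = Nat.card {h : H // orderOf h = m}) :
    SamePowCount G H := by
  intro k
  let e : G ≃ H := Equiv.ofFiberEquiv (f := fun g : G => orderOf g) (g := fun h : H => orderOf h)
    fun c => (Finite.card_eq.1 (hT c)).some
  have he : ∀ g, orderOf (e g) = orderOf g := fun g => Equiv.ofFiberEquiv_map _ g
  refine Nat.card_congr (e.subtypeEquiv fun g => ?_)
  rw [← orderOf_dvd_iff_pow_eq_one, ← orderOf_dvd_iff_pow_eq_one, he]

theorem card_pow_eq_one_quotient {G : Type u} [Group G] [Finite G] (P : Subgroup G) [P.Normal]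
    {q : ℕ} (hmem : ∀ g : G, g ∈ P ↔ g ^ q = 1) (k : ℕ) :
    Nat.card {g : G // g ^ (k * q) = 1} = Nat.card P * Nat.card {x : G ⧸ P // x ^ k = 1} := by
  have e : {g : G // g ^ (k * q) = 1} ≃ (QuotientGroup.mk ⁻¹' {x : G ⧸ P | x ^ k = 1} : Set G) :=
    Equiv.subtypeEquivRight fun g => by
      show g ^ (k * q) = 1 ↔ ((g : G ⧸ P)) ^ k = 1
      rw [← QuotientGroup.mk_pow, QuotientGroup.eq_one_iff, hmem, pow_mul]
  rw [Nat.card_congr (e.trans (QuotientGroup.preimageMkEquivSubgroupProdSet P _)), Nat.card_prod]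
  rfl

theorem isSolvable_of_samePowCount {G : Type u} {H : Type v} [Group G] [Finite G] [Group H]
    [Finite H] (hT : SamePowCount G H) (hG : Cfsg.IsSupersolvable G) : Group.IsSolvable H := by
  induction hn : Nat.card G using Nat.strong_induction_on generalizing G H with
  | _ n ih =>
    subst hn
    have hcardH : Nat.card H = Nat.card G := by
      have h1 := hT (Nat.card G * Nat.card H)
      rwa [Nat.card_congr (Equiv.subtypeUnivEquiv fun g : G => by rw [pow_mul, pow_card_eq_one', one_pow]),
        Nat.card_congr (Equiv.subtypeUnivEquiv fun g : H => by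
          rw [mul_comm, pow_mul, pow_card_eq_one', one_pow]), eq_comm] at h1
    rcases subsingleton_or_nontrivial G with hs | hs
    · have : Subsingleton H := (Nat.card_eq_one_iff_unique.1 (hcardH.trans (Nat.card_of_subsingleton (1 : G)))).1
      exact Group.isSolvable_of_comm fun a b => Subsingleton.elim _ _
    obtain ⟨p, hpmem, hmax⟩ := (Nat.card G).primeFactors.exists_maximal
      (Nat.nonempty_primeFactors.mpr Finite.one_lt_card)
    obtain ⟨hp, hpdvd, -⟩ := Nat.mem_primeFactors.mp hpmem
    have : Fact p.Prime := ⟨hp⟩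
    have hmax' : ∀ q : ℕ, q.Prime → q ∣ Nat.card G → q ≤ p := fun q hq hd =>
      (le_total q p).elim id fun h => hmax (Nat.mem_primeFactors.mpr ⟨hq, hd, Nat.card_pos.ne'⟩) h
    obtain ⟨P⟩ : Nonempty (Sylow p G) := inferInstance
    obtain ⟨Q⟩ : Nonempty (Sylow p H) := inferInstance
    have hPn : (P : Subgroup G).Normal := SolvStruct.sylow_normal_of_largest_prime hG hmax' P
    set q := p ^ (Nat.card G).factorization p with hq
    have hPq : Nat.card (P : Subgroup G) = q := P.card_eq_multiplicity
    have hQq : Nat.card (Q : Subgroup H) = q := by rw [Q.card_eq_multiplicity, hcardH, hq]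
    have hpow : ∀ g : G, g ∈ (P : Subgroup G) ↔ g ^ q = 1 := by
      refine fun g => ⟨fun hg => hPq ▸ orderOf_dvd_iff_pow_eq_one.1
        (Subgroup.orderOf_dvd_natCard _ hg), fun hg => ?_⟩
      obtain ⟨a, -, ha⟩ := (Nat.dvd_prime_pow hp).1 (orderOf_dvd_of_pow_eq_one (hq ▸ hg))
      have hz : IsPGroup p (Subgroup.zpowers g) :=
        IsPGroup.of_card ((Nat.card_zpowers g).trans ha)
      have hle := IsPGroup.exists_le_sylow hz
      obtain ⟨R, hR⟩ := hle
      let _ := Sylow.unique_of_normal P hPn
      exact (Subsingleton.elim R P) ▸ hR (Subgroup.mem_zpowers g)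
    have hsub : ∀ g ∈ (Q : Subgroup H), g ^ q = 1 := fun g hg =>
      hQq ▸ orderOf_dvd_iff_pow_eq_one.1 (Subgroup.orderOf_dvd_natCard _ hg)
    have hQeq : ((Q : Subgroup H) : Set H) = {h : H | h ^ q = 1} := by
      refine Set.eq_of_subset_of_ncard_le hsub ?_ (Set.toFinite _)
      rw [← Nat.card_coe_set_eq, ← Nat.card_coe_set_eq]
      show Nat.card {h : H // h ^ q = 1} ≤ Nat.card (Q : Subgroup H)
      rw [← hT q, hQq]
      exact ((Nat.card_congr (Equiv.subtypeEquivRight hpow)).symm.trans hPq).le
    have hQpow : ∀ h : H, h ∈ (Q : Subgroup H) ↔ h ^ q = 1 := fun h => Set.ext_iff.1 hQeq h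
    have hQn : (Q : Subgroup H).Normal := ⟨fun h hh g => (hQpow _).2 (by
      rw [conj_pow, (hQpow h).1 hh, mul_one, mul_inv_cancel])⟩
    have hlt : Nat.card (G ⧸ (P : Subgroup G)) < Nat.card G := by
      rw [Subgroup.card_eq_card_quotient_mul_card_subgroup (P : Subgroup G)]
      refine lt_mul_of_one_lt_right Nat.card_pos (hPq ▸ Nat.one_lt_pow ?_ hp.one_lt)
      exact (hp.factorization_pos_of_dvd Nat.card_pos.ne' hpdvd).ne'
    have hq0 : q ≠ 0 := pow_ne_zero _ hp.ne_zero
    have hquot : SamePowCount (G ⧸ (P : Subgroup G)) (H ⧸ (Q : Subgroup H)) := fun k => by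
      have h1 := hT (k * q)
      rw [card_pow_eq_one_quotient (P : Subgroup G) hpow, card_pow_eq_one_quotient (Q : Subgroup H) hQpow,
        hPq, hQq] at h1
      exact Nat.eq_of_mul_eq_mul_left (Nat.pos_of_ne_zero hq0) h1
    have h2 := ih _ hlt hquot (SolvStruct.isSupersolvable_quotient hG _) rfl
    have h3 : Group.IsNilpotent (Q : Subgroup H) := Q.isPGroup'.isNilpotent
    have h4 : Group.IsSolvable (Q : Subgroup H) := IsNilpotent.to_isSolvable (h := h3)
    exact Group.isSolvable_of_ker_le_range (Q : Subgroup H).subtype (QuotientGroup.mk' (Q : Subgroup H))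
      (by rw [QuotientGroup.ker_mk', Subgroup.range_subtype])

end CfsgLib.Orders
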