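import Cfsg.Agent.Lib.Transfer.MaximalClass
import Cfsg.Agent.Lib.Core.UniqueOrderP
import Mathlib

/-!
# 2-groups in which noncyclic subgroups are self-centralizing
-/

set_option autoImplicit false
set_option linter.all false

namespace CfsgLib.Orders.SelfCentNoncyclic

open Subgroup

universe u

variable {G : Type u} [Group G] [Finite G]

theorem centralizer_le_of_class {n : ℕ} (hn : 3 ≤ n) (hG : Nat.card G = 2 ^ n)
    (hc : Group.nilpotencyClass G = n - 1) (H : Subgroup G) (hH : ¬ IsCyclic H) :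
    centralizer (H : Set G) ≤ H := by
  obtain ⟨a, b, ha, hb, hconj, -⟩ := CfsgLib.Transfer.shape_of_class hn hG hc
  haveI := Fact.mk Nat.prime_two
  set w := a ^ 2 ^ (n - 2) with hw
  have hcen := CfsgLib.Transfer.center_eq hn hG ha hb hconj
  have hw1 : w ≠ 1 := fun e => by
    have h1 := orderOf_dvd_of_pow_eq_one (n := 2 ^ (n - 2)) e
    rw [ha] at h1
    have := (Nat.pow_dvd_pow_iff_le_right (by norm_num : 1 < 2)).1 h1
    omega
  have hw2 : w ^ 2 = 1 := by
    rw [hw, ← pow_mul, ← pow_succ, show n - 2 + 1 = n - 1 by omega, ← ha, pow_orderOf_eq_one]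
  -- an element of `H` outside `⟨a⟩`
  obtain ⟨b', hb'H, hb'⟩ : ∃ b' ∈ H, b' ∉ zpowers a := by
    by_contra h
    push Not at h
    exact hH ((subgroupOfEquivOfLe (h : H ≤ zpowers a)).isCyclic.1 inferInstance)
  -- `w` lies in `H`
  have hwH : w ∈ H := by
    obtain ⟨v, hvH, hva, hv1⟩ : ∃ v, v ∈ H ∧ v ∈ zpowers a ∧ v ≠ 1 := by
      by_contra h
      push Not at h
      refine hH ⟨⟨b', hb'H⟩, fun ⟨x, hx⟩ => ?_⟩
      by_cases hxa : x ∈ zpowers a
      · refine ⟨0, Subtype.ext ?_⟩
        simp [h x hx hxa]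
      · have hmem : b'⁻¹ * x ∈ zpowers a :=
          (mul_mem_iff_of_index_two (CfsgLib.Transfer.index_zpowers_two (by omega) hG ha)).2
            (iff_of_false (by rwa [inv_mem_iff]) hxa)
        refine ⟨1, Subtype.ext ?_⟩
        have := inv_mul_eq_one.1 (h _ (mul_mem (inv_mem hb'H) hx) hmem)
        simp [this]
    obtain ⟨i, hi⟩ := (Nat.dvd_prime_pow Nat.prime_two).1 (hG ▸ orderOf_dvd_natCard v)
    have hi0 : i ≠ 0 := fun e => hv1 (orderOf_eq_one_iff.1 (by rw [hi.2, e, pow_zero]))
    set t := v ^ 2 ^ (i - 1)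
    have ht : orderOf t = 2 := by
      rw [orderOf_pow' _ (pow_ne_zero _ two_ne_zero), hi.2, Nat.gcd_eq_right (pow_dvd_pow 2 (by omega)),
        Nat.pow_div (by omega) two_pos, show i - (i - 1) = 1 by omega, pow_one]
    obtain ⟨m, hm⟩ := mem_powers_iff_mem_zpowers.2 (pow_mem hva _ : t ∈ zpowers a)
    have htw : t = w := by
      have h2 : a ^ (m * 2) = 1 := by rw [pow_mul, show a ^ m = t from hm, ← ht, pow_orderOf_eq_one]
      have h3 := orderOf_dvd_of_pow_eq_one h2
      rw [ha, show 2 ^ (n - 1) = 2 ^ (n - 2) * 2 by rw [← pow_succ]; congr 1; omega] at h3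
      obtain ⟨c, rfl⟩ := Nat.dvd_of_mul_dvd_mul_right two_pos h3
      have hwc : t = w ^ c := by rw [hw, ← pow_mul]; exact hm.symm
      rcases Nat.even_or_odd c with ⟨d, rfl⟩ | ⟨d, rfl⟩
      · exfalso
        rw [hwc, ← two_mul, pow_mul, hw2, one_pow, orderOf_one] at ht
        norm_num at ht
      · rw [hwc, pow_add, pow_mul, hw2, one_pow, one_mul, pow_one]
    exact htw ▸ pow_mem hvH _
  intro x hx
  have hxb : Commute b' x := mem_centralizer_iff.1 hx b' hb'H
  have key : ∀ j : ℕ, Commute b' (a ^ j) → a ^ j ∈ H := fun j hj => by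
    refine (zpowers_le.2 hwH) (hcen.le (mem_center_iff.2 fun g => ?_))
    have hg : g ∈ closure ({a, b'} : Set G) := (CfsgLib.Transfer.closure_ab (by omega) hG ha hb').ge (mem_top g)
    have hle : closure ({a, b'} : Set G) ≤ centralizer {a ^ j} := (closure_le _).2 (by
      rintro y (rfl | rfl)
      · exact mem_centralizer_singleton_iff.2 ((Commute.refl y).pow_right j).eq
      · exact mem_centralizer_singleton_iff.2 hj.eq)
    exact mem_centralizer_singleton_iff.1 (hle hg)
  obtain ⟨j, rfl | rfl⟩ := CfsgLib.Transfer.exists_pow_or (by omega) hG ha hb' x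
  · exact key j hxb
  · refine mul_mem hb'H (key j ?_)
    have := ((Commute.refl b').inv_right).mul_right hxb
    rwa [inv_mul_cancel_left] at this

theorem class_of_selfCentralizing {n : ℕ} (hG : Nat.card G = 2 ^ n) (hna : ¬ IsMulCommutative G)
    (h : ∀ H : Subgroup G, ¬ IsCyclic H → centralizer (H : Set G) ≤ H) :
    Group.nilpotencyClass G = n - 1 := by
  haveI := Fact.mk Nat.prime_two
  have hP : IsPGroup 2 G := IsPGroup.of_card hG
  by_cases huniq : ∀ H K : Subgroup G, Nat.card H = 2 → Nat.card K = 2 → H = K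
  · rcases CfsgLib.Core.UniqueOrderP.isCyclic_or_quaternion_of_unique hP huniq with hc | ⟨-, k, ⟨e⟩⟩
    · letI := IsCyclic.commGroup (α := G)
      exact absurd ⟨⟨mul_comm⟩⟩ hna
    haveI : NeZero (2 ^ k) := ⟨pow_ne_zero k two_ne_zero⟩
    have hcard : Nat.card G = 2 ^ (k + 2) := by
      rw [Nat.card_congr e.toEquiv, Nat.card_eq_fintype_card, QuaternionGroup.card, pow_add]; ring
    have hnk : n = k + 2 := Nat.pow_right_injective le_rfl (hG.symm.trans hcard)
    subst hnk
    rcases Nat.eq_zero_or_pos k with rfl | hk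
    · exact absurd ⟨⟨IsPGroup.commutative_of_card_eq_prime_sq hG⟩⟩ hna
    refine CfsgLib.Transfer.class_of_shape (k + 2) G (by omega) hG
      ⟨e.symm (QuaternionGroup.a 1), e.symm (QuaternionGroup.xa 0), ?_, ?_, Or.inl ?_, Or.inr ?_⟩
    · rw [show orderOf (e.symm (QuaternionGroup.a 1)) = orderOf (QuaternionGroup.a (1 : ZMod (2 * 2 ^ k))) from
        orderOf_injective e.symm.toMonoidHom e.symm.injective _, QuaternionGroup.orderOf_a_one,
        show k + 2 - 1 = k + 1 from rfl, pow_succ']
    · intro hmem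
      obtain ⟨i, hi⟩ := mem_powers_iff_mem_zpowers.2 hmem
      have h1 := congrArg e hi
      simp only [map_pow, MulEquiv.apply_symm_apply, QuaternionGroup.a_one_pow] at h1
      exact absurd h1 (by simp)
    · rw [← map_inv e.symm, ← map_mul, ← map_mul, ← map_inv e.symm]
      congr 1
      apply mul_inv_eq_of_eq_mul
      rw [eq_inv_mul_iff_mul_eq, QuaternionGroup.xa_mul_a, QuaternionGroup.a_mul_xa, zero_add, sub_self]
    · rw [← map_pow, ← map_pow]
      congr 1
      rw [QuaternionGroup.xa_sq, QuaternionGroup.a_one_pow]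
      congr 1
  push Not at huniq
  obtain ⟨H, K, hH, hK, hne⟩ := huniq
  -- a central involution
  haveI : Nontrivial G := by
    by_contra hc
    rw [not_nontrivial_iff_subsingleton] at hc
    exact hna ⟨⟨fun a b => Subsingleton.elim _ _⟩⟩
  obtain ⟨j, hj⟩ := IsPGroup.iff_card.1 (hP.to_subgroup (center G))
  haveI := hP.center_nontrivial
  have hdvd : 2 ∣ Nat.card (center G) := by
    rw [hj]; refine dvd_pow_self 2 fun e => ?_
    rw [e, pow_zero] at hj
    exact (Finite.one_lt_card (α := center G)).ne' hj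
  obtain ⟨⟨z, hzc⟩, hz⟩ := exists_prime_orderOf_dvd_card' 2 hdvd
  rw [orderOf_mk] at hz
  obtain ⟨L, hL, hLz⟩ : ∃ L : Subgroup G, Nat.card L = 2 ∧ L ≠ zpowers z := by
    by_cases e : H = zpowers z
    · exact ⟨K, hK, fun e' => hne (e.trans e'.symm)⟩
    · exact ⟨H, hH, e⟩
  obtain ⟨⟨y, hyL⟩, hy⟩ := exists_prime_orderOf_dvd_card' (G := L) 2 (hL ▸ dvd_rfl)
  rw [orderOf_mk] at hy
  have hyz : y ∉ zpowers z := fun hmem => hLz (by
    have h1 : zpowers y = L := eq_of_le_of_card_ge (zpowers_le.2 hyL) (by rw [hL, Nat.card_zpowers, hy])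
    rw [← h1]
    exact eq_of_le_of_card_ge (zpowers_le.2 hmem) (by rw [Nat.card_zpowers, Nat.card_zpowers, hy, hz]))
  have hcomm : Commute z y := (mem_center_iff.1 hzc y).symm
  set V := closure ({z, y} : Set G)
  haveI hVc : IsMulCommutative V := by
    refine isMulCommutative_closure ?_
    rintro p (rfl | rfl) q (rfl | rfl)
    · rfl
    · exact hcomm.eq
    · exact hcomm.eq.symm
    · rfl
  have hV2 : ∀ v : V, v ^ 2 = 1 := by
    rintro ⟨v, hv⟩
    refine Subtype.ext ?_
    show v ^ 2 = 1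
    induction hv using closure_induction with
    | mem x hx =>
      rcases hx with rfl | rfl
      · rw [← hz, pow_orderOf_eq_one]
      · rw [← hy, pow_orderOf_eq_one]
    | one => rw [one_pow]
    | mul a b ha hb iha ihb =>
      rw [(show Commute a b from congrArg Subtype.val (hVc.is_comm.comm ⟨a, ha⟩ ⟨b, hb⟩)).mul_pow, iha, ihb, one_mul]
    | inv a _ iha => rw [inv_pow, iha, inv_one]
  have hVcard : Nat.card V = 2 ^ 2 := by
    obtain ⟨i, hi⟩ := IsPGroup.iff_card.1 (hP.to_subgroup V)
    have hle : Nat.card V ≤ 4 := by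
      have hsub : ∀ v ∈ V, v ∈ ({1, z, y, z * y} : Set G) := by
        intro v hv
        haveI : (zpowers z).Normal := ⟨fun w hw g => by
          rw [mem_center_iff.1 ((zpowers_le.2 hzc) hw) g, mul_inv_cancel_right]; exact hw⟩
        have hV' : v ∈ zpowers z ⊔ zpowers y := (closure_le _).2 (by
          rintro t (rfl | rfl)
          · exact mem_sup_left (mem_zpowers _)
          · exact mem_sup_right (mem_zpowers _)) hv
        obtain ⟨_, ⟨m, rfl⟩, _, ⟨k, rfl⟩, rfl⟩ := mem_sup_of_normal_left.1 hV'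
        have hp : ∀ (t : G), orderOf t = 2 → ∀ m : ℤ, t ^ m = 1 ∨ t ^ m = t := fun t ht m => by
          rcases Int.even_or_odd m with ⟨d, rfl⟩ | ⟨d, rfl⟩
          · left; rw [← two_mul, zpow_mul, show t ^ (2 : ℤ) = 1 by rw [← pow_orderOf_eq_one t, ht]; norm_cast, one_zpow]
          · right; rw [zpow_add, zpow_mul, show t ^ (2 : ℤ) = 1 by rw [← pow_orderOf_eq_one t, ht]; norm_cast, one_zpow, one_mul, zpow_one]
        rcases hp z hz m with e | e <;> rcases hp y hy k with e' | e' <;> (simp only []; rw [e, e']; simp)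
      refine le_trans (Nat.card_le_card_of_injective (fun v : V => (⟨v.1, hsub v.1 v.2⟩ : ({1, z, y, z * y} : Set G)))
        fun v w e => Subtype.ext (congrArg Subtype.val e :)) ?_
      rw [Nat.card_coe_set_eq]
      exact (Set.ncard_insert_le _ _).trans (Nat.succ_le_succ ((Set.ncard_insert_le _ _).trans
        (Nat.succ_le_succ ((Set.ncard_insert_le _ _).trans (Nat.succ_le_succ (Set.ncard_singleton _).le)))))
    have h2 : 2 < Nat.card V := by
      by_contra hlt
      refine hyz ((eq_of_le_of_card_ge (zpowers_le.2 (subset_closure (by simp) : z ∈ V))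
        (by rw [Nat.card_zpowers, hz]; exact not_lt.1 hlt)).ge (subset_closure (by simp)))
    rw [hi] at hle h2 ⊢
    congr 1
    have h1 : 1 < i := (Nat.pow_lt_pow_iff_right one_lt_two).1 (by simpa using h2)
    have h3 : i ≤ 2 := (Nat.pow_le_pow_iff_right one_lt_two).1 (hle.trans (by norm_num))
    omega
  have hVnc : ¬ IsCyclic V := fun hc => by
    obtain ⟨g, hg⟩ := hc.exists_generator
    have h1 := orderOf_eq_card_of_forall_mem_zpowers hg
    have h2 : orderOf g ∣ 2 := orderOf_dvd_of_pow_eq_one (hV2 g)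
    rw [h1, hVcard] at h2
    norm_num at h2
  exact CfsgLib.Transfer.class_eq_of_self_centralizing n G hG V hVcard
    (le_antisymm (h V hVnc) (le_centralizer V))

theorem selfCentralizing_iff (hna : ¬ IsMulCommutative G) {n : ℕ} (hG : Nat.card G = 2 ^ n) :
    (∀ H : Subgroup G, ¬ IsCyclic ↥H → Subgroup.centralizer (H : Set G) ≤ H) ↔
      (⊤ : Subgroup G).lowerCentralSeries (n - 2) ≠ ⊥ := by
  haveI := Fact.mk Nat.prime_two
  haveI : Group.IsNilpotent G := (IsPGroup.of_card hG).isNilpotent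
  have hn : 3 ≤ n := by
    by_contra hlt
    refine hna ?_
    interval_cases n
    · haveI := (Nat.card_eq_one_iff_unique.1 hG).1
      exact ⟨⟨fun a b => Subsingleton.elim _ _⟩⟩
    · haveI : IsCyclic G := isCyclic_of_prime_card (p := 2) (by simpa using hG)
      letI := IsCyclic.commGroup (α := G)
      exact ⟨⟨mul_comm⟩⟩
    · exact ⟨⟨IsPGroup.commutative_of_card_eq_prime_sq hG⟩⟩
  rw [Ne, Subgroup.lowerCentralSeries_eq_bot_iff_nilpotencyClass_le, not_le]
  constructor
  · intro h
    rw [class_of_selfCentralizing hG hna h]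
    omega
  · intro h H hH
    exact centralizer_le_of_class hn hG
      (le_antisymm (CfsgLib.Transfer.class_le_pred n G hG (by omega)) (by omega)) H hH

end CfsgLib.Orders.SelfCentNoncyclic
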