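import Cfsg.Agent.Lib.Transfer.Fusion
import Cfsg.Agent.Lib.Transfer.Abelian
import Mathlib

/-!
# Groups in which every nonabelian subgroup is self-normalizing
-/

set_option autoImplicit false

open scoped commutatorElement

namespace CfsgLib.Orders.SelfNorm

universe u

variable {G : Type u} [Group G]

theorem abelian_of_normal (hS : ∀ H : Subgroup G, ¬ IsMulCommutative H → Subgroup.normalizer (H : Set G) = H)
    {N : Subgroup G} (hN : N.Normal) (hne : N ≠ ⊤) : IsMulCommutative N := by
  by_contra h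
  exact hne ((hS N h).symm.trans (Subgroup.normalizer_eq_top_iff.2 hN))

theorem comm_of_mem {H : Subgroup G} (h : IsMulCommutative H) {a b : G} (ha : a ∈ H) (hb : b ∈ H) : a * b = b * a :=
  congrArg Subtype.val (h.is_comm.comm ⟨a, ha⟩ ⟨b, hb⟩)

theorem le_centralizer_of_abelian {H K : Subgroup G} (h : IsMulCommutative H) (hK : K ≤ H) :
    H ≤ Subgroup.centralizer (K : Set G) := fun _ ha _ hb => comm_of_mem h (hK hb) ha

variable [Finite G]

theorem central_of_simple_quotient
    (hS : ∀ H : Subgroup G, ¬ IsMulCommutative H → Subgroup.normalizer (H : Set G) = H)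
    (M : Subgroup G) [M.Normal] (hM : M ≠ ⊤) (hmax : ∀ L : Subgroup G, L.Normal → M ≤ L → L = M ∨ L = ⊤)
    (hperf : commutator G = ⊤) : M ≤ Subgroup.center G := by
  classical
  by_contra hc
  have hCab : Subgroup.centralizer (M : Set G) ≠ ⊤ := fun h => hc fun m hm =>
    Subgroup.mem_center_iff.2 fun g => ((h.ge (Subgroup.mem_top g)) m hm).symm
  haveI : (Subgroup.centralizer (M : Set G)).Normal := inferInstance
  have hCM : Subgroup.centralizer (M : Set G) = M :=
    (hmax _ inferInstance (le_centralizer_of_abelian (abelian_of_normal hS inferInstance hM) le_rfl)).resolve_right hCab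
  haveI : Nontrivial (G ⧸ M) := QuotientGroup.nontrivial_iff.2 hM
  let π := QuotientGroup.mk' M
  set q := (Nat.card (G ⧸ M)).minFac
  have hq : q.Prime := Nat.minFac_prime Finite.one_lt_card.ne'
  haveI := Fact.mk hq
  obtain ⟨R⟩ : Nonempty (Sylow q (G ⧸ M)) := inferInstance
  haveI : Nontrivial R := by
    rw [← Finite.one_lt_card_iff_nontrivial]
    exact lt_of_lt_of_le hq.one_lt (Nat.le_of_dvd Nat.card_pos (R.dvd_card_of_dvd_card (Nat.minFac_dvd _)))
  haveI := R.isPGroup'.center_nontrivial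
  have hdvd : q ∣ Nat.card (Subgroup.center R) := by
    obtain ⟨k, hk⟩ := IsPGroup.iff_card.1 (R.isPGroup'.to_subgroup (Subgroup.center R))
    rw [hk]
    refine dvd_pow_self q fun h => ?_
    rw [h, pow_zero] at hk
    exact (Finite.one_lt_card (α := Subgroup.center R)).ne' hk
  obtain ⟨⟨⟨y, hyR⟩, hyc⟩, hy⟩ := exists_prime_orderOf_dvd_card' q hdvd
  rw [Subgroup.orderOf_mk, Subgroup.orderOf_mk] at hy
  set Y := Subgroup.zpowers y
  set L := Y.comap π
  have hL : ¬ IsMulCommutative L := by
    intro hab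
    obtain ⟨x, rfl⟩ := QuotientGroup.mk'_surjective M y
    have hML : M ≤ L := fun m hm => by
      show π m ∈ Y
      rw [show π m = 1 from (QuotientGroup.eq_one_iff m).2 hm]; exact one_mem _
    have hxM : x ∈ M := hCM.le (le_centralizer_of_abelian hab hML (Subgroup.mem_zpowers (π x) : x ∈ L))
    rw [show π x = 1 from (QuotientGroup.eq_one_iff x).2 hxM, orderOf_one] at hy
    exact hq.one_lt.ne hy
  have hRY : (R : Subgroup (G ⧸ M)) ≤ Y := by
    intro r hr
    have hry : r * y = y * r := congrArg Subtype.val (Subgroup.mem_center_iff.1 hyc ⟨r, hr⟩)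
    obtain ⟨g, rfl⟩ := QuotientGroup.mk'_surjective M r
    have hnorm : π g ∈ Subgroup.normalizer (Y : Set (G ⧸ M)) :=
      Subgroup.centralizer_le_normalizer _ (Subgroup.mem_centralizer_iff.2 fun z hz => by
        obtain ⟨i, rfl⟩ := Subgroup.mem_zpowers_iff.1 hz
        exact ((Commute.zpow_right (hry : Commute (π g) y) i).eq).symm)
    have hg : g ∈ Subgroup.normalizer (L : Set G) := by
      rw [Subgroup.mem_normalizer_iff]
      intro x
      show π x ∈ Y ↔ π (g * x * g⁻¹) ∈ Y
      rw [map_mul, map_mul, map_inv]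
      exact Subgroup.mem_normalizer_iff.1 hnorm (π x)
    rw [hS L hL] at hg
    exact hg
  have hRY' : (R : Subgroup (G ⧸ M)) = Y := le_antisymm hRY (Subgroup.zpowers_le.2 hyR)
  have hcyc : IsCyclic R := by
    have : IsCyclic (R : Subgroup (G ⧸ M)) := hRY' ▸ inferInstance
    exact this
  have hcomp := hcyc.isComplement' (rfl : (Nat.card (G ⧸ M)).minFac = q)
  set K := (MonoidHom.transferSylow R (hcyc.normalizer_le_centralizer rfl)).ker
  rcases hmax (K.comap π) inferInstance (fun m hm => by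
      show π m ∈ K
      rw [show π m = 1 from (QuotientGroup.eq_one_iff m).2 hm]; exact one_mem _) with h | h
  · have hK : K = ⊥ := by
      rw [Subgroup.eq_bot_iff_forall]
      intro z hz
      obtain ⟨x, rfl⟩ := QuotientGroup.mk'_surjective M z
      exact (QuotientGroup.eq_one_iff x).2 (h.le hz)
    rw [hK] at hcomp
    have hR : (R : Subgroup (G ⧸ M)) = ⊤ := Subgroup.isComplement'_bot_left.1 hcomp
    refine hM (top_le_iff.1 ?_)
    rw [← hperf, ← QuotientGroup.ker_mk' M]
    rw [commutator_def, Subgroup.commutator_le]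
    intro a _ b _
    show π ⁅a, b⁆ = 1
    rw [map_commutatorElement, commutatorElement_eq_one_iff_mul_comm]
    have ha : π a ∈ Y := hRY' ▸ hR ▸ Subgroup.mem_top _
    have hb : π b ∈ Y := hRY' ▸ hR ▸ Subgroup.mem_top _
    obtain ⟨i, hi⟩ := Subgroup.mem_zpowers_iff.1 ha
    obtain ⟨j, hj⟩ := Subgroup.mem_zpowers_iff.1 hb
    rw [← hi, ← hj, ← zpow_add, ← zpow_add, add_comm]
  · have hKtop : K = ⊤ := by
      rw [eq_top_iff]
      intro z _
      obtain ⟨x, rfl⟩ := QuotientGroup.mk'_surjective M z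
      exact h.ge (Subgroup.mem_top x)
    rw [hKtop] at hcomp
    have hR : (R : Subgroup (G ⧸ M)) = ⊥ := Subgroup.isComplement'_top_left.1 hcomp
    rw [hR, Subgroup.mem_bot] at hyR
    rw [hyR, orderOf_one] at hy
    exact hq.one_lt.ne hy

theorem isSolvable_or_isSimpleGroup
    (hS : ∀ H : Subgroup G, ¬ IsMulCommutative H → Subgroup.normalizer (H : Set G) = H) :
    Group.IsSolvable G ∨ IsSimpleGroup G := by
  classical
  by_cases hsol : Group.IsSolvable G
  · exact Or.inl hsol
  right
  have hperf : commutator G = ⊤ := by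
    by_contra h
    refine hsol ⟨⟨2, ?_⟩⟩
    have hab := abelian_of_normal hS inferInstance h
    rw [derivedSeries_succ, derivedSeries_one, Subgroup.commutator_eq_bot_iff_le_centralizer]
    exact le_centralizer_of_abelian hab le_rfl
  haveI : Nontrivial G := by
    by_contra h
    rw [not_nontrivial_iff_subsingleton] at h
    exact hsol inferInstance
  refine IsSimpleGroup.mk fun N hN => ?_
  by_contra hc
  push Not at hc
  obtain ⟨hN0, hN1⟩ := hc
  obtain ⟨M, ⟨hMn, hM1, hNM⟩, hMmax⟩ := Set.Finite.exists_maximal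
    (s := {M : Subgroup G | M.Normal ∧ M ≠ ⊤ ∧ N ≤ M}) (Set.toFinite _) ⟨N, hN, hN1, le_rfl⟩
  haveI := hMn
  have hmax : ∀ L : Subgroup G, L.Normal → M ≤ L → L = M ∨ L = ⊤ := fun L hL hML => by
    by_cases h : L = ⊤
    · exact Or.inr h
    · exact Or.inl (le_antisymm (hMmax ⟨hL, h, hNM.trans hML⟩ hML) hML)
  have hcen := central_of_simple_quotient hS M hM1 hmax hperf
  have hM0 : M ≠ ⊥ := fun h => hN0 (le_bot_iff.1 (h ▸ hNM))
  obtain ⟨p, hp, hpM⟩ : ∃ p, p.Prime ∧ p ∣ Nat.card M :=
    Nat.exists_prime_and_dvd (M.one_lt_card_iff_ne_bot.2 hM0).ne'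
  haveI := Fact.mk hp
  obtain ⟨⟨z, hzM⟩, hz⟩ := exists_prime_orderOf_dvd_card' p hpM
  rw [Subgroup.orderOf_mk] at hz
  obtain ⟨P⟩ : Nonempty (Sylow p G) := inferInstance
  haveI hZn : (Subgroup.zpowers z).Normal := ⟨fun x hx g => by
    rw [Subgroup.mem_center_iff.1 ((Subgroup.zpowers_le.2 (hcen hzM)) hx) g, mul_inv_cancel_right]; exact hx⟩
  have hzP : z ∈ (P : Subgroup G) := by
    have hpg : IsPGroup p (Subgroup.zpowers z) := IsPGroup.of_card (n := 1) (by rw [Nat.card_zpowers, hz, pow_one])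
    obtain ⟨Q, hQ⟩ := hpg.exists_le_sylow
    obtain ⟨g, rfl⟩ := MulAction.exists_smul_eq G P Q
    obtain ⟨w, hw, hwz⟩ := hQ (Subgroup.mem_zpowers z)
    have : w = z := by
      have h1 : g * w * g⁻¹ = z := hwz
      have h2 : g⁻¹ * z * g = w := by rw [← h1]; group
      rw [← h2, mul_assoc, ← Subgroup.mem_center_iff.1 (hcen hzM) g, inv_mul_cancel_left]
    exact this ▸ hw
  have hPna : ¬ IsMulCommutative (P : Subgroup G) := by
    intro hab
    haveI := hab
    have h := CfsgLib.Transfer.inf_commutator_inf_center_eq_bot (P : Subgroup G) (P.card_coprime_index)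
    have hmem : z ∈ ((P : Subgroup G) ⊓ commutator G ⊓ Subgroup.center G : Subgroup G) :=
      ⟨⟨hzP, hperf ▸ Subgroup.mem_top z⟩, hcen hzM⟩
    rw [h, Subgroup.mem_bot] at hmem
    rw [hmem, orderOf_one] at hz
    exact hp.one_lt.ne hz
  -- proper subgroups of `P` are abelian
  have hsub : ∀ Q : Subgroup G, Q ≤ (P : Subgroup G) → Q ≠ (P : Subgroup G) → IsMulCommutative Q := by
    intro Q hQ hne
    by_contra hna
    haveI : Group.IsNilpotent (P : Subgroup G) := P.isPGroup'.isNilpotent
    have hlt : Q.subgroupOf (P : Subgroup G) < ⊤ := lt_top_iff_ne_top.2 fun h =>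
      hne (le_antisymm hQ (Subgroup.subgroupOf_eq_top.1 h))
    obtain ⟨⟨g, hgP⟩, hg, hgQ⟩ := SetLike.exists_of_lt (Group.normalizerCondition_of_isNilpotent _ hlt)
    refine hgQ ?_
    rw [Subgroup.mem_subgroupOf, ← hS Q hna, Subgroup.mem_normalizer_iff]
    intro x
    refine ⟨fun hx => ?_, fun hx => ?_⟩
    · exact (Subgroup.mem_normalizer_iff.1 hg ⟨x, hQ hx⟩).1 hx
    · have hxP : x ∈ (P : Subgroup G) := by
        have h2 := mul_mem (mul_mem (inv_mem hgP) (hQ hx)) hgP
        simpa [mul_assoc] using h2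
      exact (Subgroup.mem_normalizer_iff.1 hg ⟨x, hxP⟩).2 hx
  have hnil : Cfsg.HasNormalPComplement p G := by
    rw [CfsgLib.Transfer.hasNormalPComplement_iff_centralizes P]
    intro R hR g hg hgp
    -- if the centralizer is nonabelian it is the whole normalizer
    have hstep : ∀ S : Subgroup G, ¬ IsMulCommutative (Subgroup.centralizer (S : Set G)) →
        ∀ a ∈ Subgroup.normalizer (S : Set G), a ∈ Subgroup.centralizer (S : Set G) := by
      intro S hna a ha
      rw [← hS _ hna, Subgroup.mem_normalizer_iff]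
      intro x
      have hconj : ∀ b ∈ Subgroup.normalizer (S : Set G), ∀ y ∈ Subgroup.centralizer (S : Set G),
          b * y * b⁻¹ ∈ Subgroup.centralizer (S : Set G) := fun b hb y hy s hs => by
        have hs' : b⁻¹ * s * b ∈ S := by
          have := (Subgroup.mem_normalizer_iff.1 (inv_mem hb) s).1 hs
          simpa using this
        have h1 := hy _ hs'
        calc s * (b * y * b⁻¹) = b * ((b⁻¹ * s * b) * y) * b⁻¹ := by group
          _ = b * (y * (b⁻¹ * s * b)) * b⁻¹ := by rw [h1]
          _ = b * y * b⁻¹ * s := by group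
      refine ⟨hconj a ha x, fun hx => ?_⟩
      have := hconj a⁻¹ (inv_mem ha) _ hx
      simpa [mul_assoc] using this
    have hgP : g ∈ (P : Subgroup G) → g = 1 := fun h => by
      obtain ⟨k, hk⟩ := IsPGroup.iff_card.1 P.isPGroup'
      have h1 := orderOf_dvd_natCard (⟨g, h⟩ : (P : Subgroup G))
      rw [Subgroup.orderOf_mk, hk] at h1
      have h2 := Nat.dvd_gcd dvd_rfl h1
      rw [Nat.Coprime.pow_right _ hgp, Nat.dvd_one, orderOf_eq_one_iff] at h2
      exact h2
    by_cases hRP : R = (P : Subgroup G)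
    · subst hRP
      rw [hS _ hPna] at hg
      rw [hgP hg]; exact one_mem _
    -- a maximal subgroup `Q` of `P` containing `R`
    obtain ⟨Q, ⟨hQP, hQne, hRQ⟩, hQmax⟩ := Set.Finite.exists_maximal
      (s := {Q : Subgroup G | Q ≤ (P : Subgroup G) ∧ Q ≠ (P : Subgroup G) ∧ R ≤ Q}) (Set.toFinite _) ⟨R, hR, hRP, le_rfl⟩
    have hQab := hsub Q hQP hQne
    have hQC : Q ≤ Subgroup.centralizer (R : Set G) := le_centralizer_of_abelian hQab hRQ
    by_cases hCab : IsMulCommutative (Subgroup.centralizer (R : Set G))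
    swap
    · exact hstep R hCab g hg
    -- the `p`-elements of an abelian group containing `Q` form `Q`
    have hpel : ∀ C : Subgroup G, IsMulCommutative C → Q ≤ C → ∀ c ∈ C, (∃ k : ℕ, c ^ p ^ k = 1) → c ∈ Q := by
      intro C hC hQC c hc hck
      let T : Subgroup G :=
        { carrier := {c | c ∈ C ∧ ∃ k : ℕ, c ^ p ^ k = 1}
          one_mem' := ⟨one_mem _, 0, one_pow _⟩
          mul_mem' := fun {a b} ha hb => ⟨mul_mem ha.1 hb.1, by
            obtain ⟨i, hi⟩ := ha.2
            obtain ⟨j, hj⟩ := hb.2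
            refine ⟨i + j, ?_⟩
            rw [Commute.mul_pow (comm_of_mem hC ha.1 hb.1), pow_add, pow_mul, hi, one_pow, one_mul,
              mul_comm, pow_mul, hj, one_pow]⟩
          inv_mem' := fun {a} ha => ⟨inv_mem ha.1, by
            obtain ⟨i, hi⟩ := ha.2; exact ⟨i, by rw [inv_pow, hi, inv_one]⟩⟩ }
      have hTp : IsPGroup p T := fun t => by
        obtain ⟨k, hk⟩ := t.2.2; exact ⟨k, Subtype.ext hk⟩
      have hQT : Q ≤ T := fun x hx => ⟨hQC hx, by
        obtain ⟨k, hk⟩ := P.isPGroup' ⟨x, hQP hx⟩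
        exact ⟨k, congrArg Subtype.val hk⟩⟩
      obtain ⟨P', hP'⟩ := hTp.exists_le_sylow
      by_contra hcQ
      have hltQT : Nat.card Q < Nat.card T := lt_of_le_of_ne (Subgroup.card_le_of_le hQT) fun h =>
        hcQ ((Subgroup.eq_of_le_of_card_ge hQT h.ge).ge (⟨hc, hck⟩ : c ∈ T))
      have hPP : Nat.card P' = Nat.card P := P'.card_eq_multiplicity.trans P.card_eq_multiplicity.symm
      have hTP : Nat.card (T : Subgroup G) = Nat.card (P : Subgroup G) := by
        obtain ⟨a, ha⟩ := IsPGroup.iff_card.1 (P.isPGroup'.to_le hQP)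
        obtain ⟨b, hb⟩ := IsPGroup.iff_card.1 hTp
        obtain ⟨c', hc'⟩ := IsPGroup.iff_card.1 P.isPGroup'
        have hab : a < b := (Nat.pow_lt_pow_iff_right hp.one_lt).1 (ha ▸ hb ▸ hltQT)
        have hbc : b ≤ c' := (Nat.pow_le_pow_iff_right hp.one_lt).1 (by
          rw [← hb, ← hc']
          exact (Subgroup.card_le_of_le hP').trans_eq hPP)
        have hac : c' ≤ a + 1 := by
          -- a maximal subgroup of a `p`-group has index `p`
          obtain ⟨K, hKc, hQK⟩ := Sylow.exists_subgroup_card_pow_succ (G := (P : Subgroup G)) (p := p) (n := a)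
            (H := Q.subgroupOf (P : Subgroup G))
            (by rw [hc']; exact Nat.pow_dvd_pow p (by omega))
            (by rw [Nat.card_congr (Subgroup.subgroupOfEquivOfLe hQP).toEquiv, ha])
          by_contra hlt
          have hK : K.map (P : Subgroup G).subtype ≤ Q := hQmax ⟨Subgroup.map_subtype_le _, fun h => by
              have h1 : Nat.card (K.map (P : Subgroup G).subtype) = p ^ (a + 1) := by
                rw [Subgroup.card_map_of_injective (Subgroup.subtype_injective _), hKc]
              rw [h, hc'] at h1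
              exact hlt (Nat.pow_right_injective hp.two_le h1).le,
            fun x hx => ⟨⟨x, hQP (hRQ hx)⟩, hQK (hRQ hx), rfl⟩⟩
            fun x hx => ⟨⟨x, hQP hx⟩, hQK hx, rfl⟩
          have h1 := Subgroup.card_le_of_le hK
          rw [Subgroup.card_map_of_injective (Subgroup.subtype_injective _), hKc, ha] at h1
          have := (Nat.pow_le_pow_iff_right hp.one_lt).1 h1
          omega
        rw [hb, hc']; congr 1; omega
      have hTP' : T = (P' : Subgroup G) :=
        Subgroup.eq_of_le_of_card_ge hP' (by rw [hTP]; exact le_of_eq hPP)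
      obtain ⟨σ, hσ⟩ := MulAction.exists_smul_eq G P P'
      refine hPna ⟨⟨fun a b => ?_⟩⟩
      have hm : ∀ a : (P : Subgroup G), σ * (a : G) * σ⁻¹ ∈ C := fun a => by
        have : σ * (a : G) * σ⁻¹ ∈ (P' : Subgroup G) := hσ ▸ ⟨(a : G), a.2, rfl⟩
        rw [← hTP'] at this
        exact this.1
      have h := comm_of_mem hC (hm a) (hm b)
      refine Subtype.ext ?_
      have h' : σ * ((a : G) * b) * σ⁻¹ = σ * ((b : G) * a) * σ⁻¹ := by
        calc σ * ((a : G) * b) * σ⁻¹ = σ * a * σ⁻¹ * (σ * b * σ⁻¹) := by group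
          _ = _ := h
          _ = _ := by group
      exact mul_left_cancel (mul_right_cancel h')
    have hnorm : ∀ a ∈ Subgroup.normalizer (R : Set G), ∀ x ∈ Q, a * x * a⁻¹ ∈ Q := by
      intro a ha x hx
      refine hpel _ hCab hQC _ (fun r hr => ?_) ?_
      · have hr' : a⁻¹ * r * a ∈ R := by
          have := (Subgroup.mem_normalizer_iff.1 (inv_mem ha) r).1 hr
          simpa using this
        have h1 := hQC hx _ hr'
        calc r * (a * x * a⁻¹) = a * ((a⁻¹ * r * a) * x) * a⁻¹ := by group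
          _ = a * (x * (a⁻¹ * r * a)) * a⁻¹ := by rw [h1]
          _ = a * x * a⁻¹ * r := by group
      · obtain ⟨k, hk⟩ := P.isPGroup' ⟨x, hQP hx⟩
        exact ⟨k, by rw [conj_pow, show x ^ p ^ k = 1 from congrArg Subtype.val hk, mul_one, mul_inv_cancel]⟩
    have hgQ : g ∈ Subgroup.normalizer (Q : Set G) := by
      rw [Subgroup.mem_normalizer_iff]
      refine fun x => ⟨hnorm g hg x, fun hx => ?_⟩
      have := hnorm g⁻¹ (inv_mem hg) _ hx
      simpa [mul_assoc] using this
    suffices hQc : g ∈ Subgroup.centralizer (Q : Set G) from fun r hr => hQc r (hRQ hr)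
    by_cases hCQ : IsMulCommutative (Subgroup.centralizer (Q : Set G))
    swap
    · exact hstep Q hCQ g hgQ
    set N := Subgroup.normalizer (Q : Set G)
    set C := (Subgroup.centralizer (Q : Set G)).subgroupOf N
    haveI hCn : C.Normal := ⟨fun x hx b s hs => by
      have hb := b.2
      have hs' : (b : G)⁻¹ * s * b ∈ Q := by
        have := (Subgroup.mem_normalizer_iff.1 (inv_mem hb) s).1 hs
        simpa using this
      have h1 : ((b : G)⁻¹ * s * b) * (x : G) = (x : G) * ((b : G)⁻¹ * s * b) := hx _ hs'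
      show s * ((b : G) * x * (b : G)⁻¹) = (b : G) * x * (b : G)⁻¹ * s
      calc s * ((b : G) * x * (b : G)⁻¹) = b * (((b : G)⁻¹ * s * b) * x) * (b : G)⁻¹ := by group
        _ = b * ((x : G) * ((b : G)⁻¹ * s * b)) * (b : G)⁻¹ := by rw [h1]
        _ = _ := by group⟩
    have hPN : (P : Subgroup G) ≤ N := by
      haveI : Group.IsNilpotent (P : Subgroup G) := P.isPGroup'.isNilpotent
      have hlt : Q.subgroupOf (P : Subgroup G) < ⊤ := lt_top_iff_ne_top.2 fun h =>
        hQne (le_antisymm hQP (Subgroup.subgroupOf_eq_top.1 h))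
      have hlt' := Group.normalizerCondition_of_isNilpotent _ hlt
      set Q' := (Subgroup.normalizer ((Q.subgroupOf (P : Subgroup G) : Subgroup _) : Set (P : Subgroup G))).map (P : Subgroup G).subtype
      have hQ'N : Q' ≤ N := by
        rintro _ ⟨y, hy, rfl⟩
        rw [Subgroup.mem_normalizer_iff]
        intro x
        refine ⟨fun hx => ?_, fun hx => ?_⟩
        · exact (Subgroup.mem_normalizer_iff.1 hy ⟨x, hQP hx⟩).1 hx
        · have hxP : x ∈ (P : Subgroup G) := by
            have h2 := mul_mem (mul_mem (inv_mem y.2) (hQP hx)) y.2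
            simpa [mul_assoc] using h2
          exact (Subgroup.mem_normalizer_iff.1 hy ⟨x, hxP⟩).2 hx
      by_cases hQ' : Q' = (P : Subgroup G)
      · exact hQ' ▸ hQ'N
      · exfalso
        have hQQ' : Q ≤ Q' := fun x hx => ⟨⟨x, hQP hx⟩, hlt'.le hx, rfl⟩
        have hle : Q' ≤ Q := hQmax ⟨Subgroup.map_subtype_le _, hQ', hRQ.trans hQQ'⟩ hQQ'
        refine hlt'.not_ge fun y hy => ?_
        exact hle ⟨y, hy, rfl⟩
    let π := QuotientGroup.mk' C
    let PN : Sylow p N := P.subtype hPN
    let W : Sylow p (N ⧸ C) := PN.mapSurjective (QuotientGroup.mk'_surjective C)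
    set L : Subgroup G := (((W : Subgroup (N ⧸ C)).comap π)).map N.subtype
    have hPL : (P : Subgroup G) ≤ L := fun x hx =>
      ⟨⟨x, hPN hx⟩, ⟨⟨x, hPN hx⟩, hx, rfl⟩, rfl⟩
    have hLna : ¬ IsMulCommutative L := fun h => hPna ⟨⟨fun a b => Subtype.ext (comm_of_mem h (hPL a.2) (hPL b.2))⟩⟩
    have hNW : Subgroup.normalizer ((W : Subgroup (N ⧸ C)) : Set (N ⧸ C)) ≤ (W : Subgroup (N ⧸ C)) := by
      intro y hy
      obtain ⟨b, rfl⟩ := QuotientGroup.mk'_surjective C y
      have hb : (b : G) ∈ Subgroup.normalizer (L : Set G) := by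
        rw [Subgroup.mem_normalizer_iff]
        intro x
        constructor
        · rintro ⟨⟨x, hxN⟩, hx, rfl⟩
          refine ⟨b * ⟨x, hxN⟩ * b⁻¹, ?_, rfl⟩
          show π (b * ⟨x, hxN⟩ * b⁻¹) ∈ (W : Subgroup (N ⧸ C))
          rw [map_mul, map_mul, map_inv]
          exact (Subgroup.mem_normalizer_iff.1 hy _).1 hx
        · rintro ⟨⟨z, hzN⟩, hz, hzx⟩
          have hxe : x = (b : G)⁻¹ * z * b := by
            have : z = (b : G) * x * (b : G)⁻¹ := hzx
            rw [this]; group
          refine ⟨b⁻¹ * ⟨z, hzN⟩ * b, ?_, hxe.symm⟩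
          show π (b⁻¹ * ⟨z, hzN⟩ * b) ∈ (W : Subgroup (N ⧸ C))
          rw [map_mul, map_mul, map_inv]
          refine (Subgroup.mem_normalizer_iff.1 hy _).2 ?_
          have : π b * ((π b)⁻¹ * π ⟨z, hzN⟩ * π b) * (π b)⁻¹ = π ⟨z, hzN⟩ := by group
          rw [this]; exact hz
      rw [hS L hLna] at hb
      obtain ⟨w, hw, hwb⟩ := hb
      exact (Subtype.ext hwb : w = b) ▸ hw
    have hWab : ∀ a ∈ (W : Subgroup (N ⧸ C)), ∀ b ∈ (W : Subgroup (N ⧸ C)), a * b = b * a := by
      have hmapW : (W : Subgroup (N ⧸ C)) = (PN : Subgroup N).map π := Sylow.coe_mapSurjective _ PN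
      intro a ha b hb
      rw [hmapW] at ha hb
      obtain ⟨⟨u, huN⟩, hu, rfl⟩ := ha
      obtain ⟨⟨v, hvN⟩, hv, rfl⟩ := hb
      rw [← commutatorElement_eq_one_iff_mul_comm, ← map_commutatorElement]
      refine (QuotientGroup.eq_one_iff _).2 ?_
      show ⁅u, v⁆ ∈ Subgroup.centralizer (Q : Set G)
      refine le_centralizer_of_abelian hQab le_rfl ?_
      -- `P / Q` is cyclic
      let Qp := Q.subgroupOf (P : Subgroup G)
      haveI : Qp.Normal := Subgroup.normal_subgroupOf_of_le_normalizer hPN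
      haveI : IsSimpleGroup ((P : Subgroup G) ⧸ Qp) := by
        haveI : Nontrivial ((P : Subgroup G) ⧸ Qp) :=
          QuotientGroup.nontrivial_iff.2 fun h => hQne (le_antisymm hQP (Subgroup.subgroupOf_eq_top.1 h))
        refine IsSimpleGroup.mk fun H hH => ?_
        set H' := (H.comap (QuotientGroup.mk' Qp)).map (P : Subgroup G).subtype
        have hQH : Q ≤ H' := fun x hx => ⟨⟨x, hQP hx⟩, by
          show QuotientGroup.mk' Qp ⟨x, hQP hx⟩ ∈ H
          rw [show QuotientGroup.mk' Qp ⟨x, hQP hx⟩ = 1 from (QuotientGroup.eq_one_iff _).2 hx]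
          exact one_mem _, rfl⟩
        by_cases hH' : H' = (P : Subgroup G)
        · right
          rw [eq_top_iff]
          intro y _
          obtain ⟨y, rfl⟩ := QuotientGroup.mk'_surjective Qp y
          obtain ⟨z, hz, hzy⟩ := hH'.ge y.2
          exact (Subtype.ext hzy : z = y) ▸ hz
        · left
          rw [Subgroup.eq_bot_iff_forall]
          intro y hy
          obtain ⟨y, rfl⟩ := QuotientGroup.mk'_surjective Qp y
          refine (QuotientGroup.eq_one_iff y).2 ?_
          exact hQmax ⟨Subgroup.map_subtype_le _, hH', hRQ.trans hQH⟩ hQH ⟨y, hy, rfl⟩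
      haveI : Group.IsSolvable (P : Subgroup G) :=
        haveI := P.isPGroup'.isNilpotent; inferInstance
      have hcomm := IsSimpleGroup.comm_iff_isSolvable.2 (inferInstance : Group.IsSolvable ((P : Subgroup G) ⧸ Qp))
      have h1 : QuotientGroup.mk' Qp ⁅(⟨u, hu⟩ : (P : Subgroup G)), ⟨v, hv⟩⁆ = 1 := by
        rw [map_commutatorElement, commutatorElement_eq_one_iff_mul_comm]; exact hcomm _ _
      have h2 : ⁅(⟨u, hu⟩ : (P : Subgroup G)), ⟨v, hv⟩⁆ ∈ Qp := (QuotientGroup.eq_one_iff _).1 h1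
      exact h2
    have hle : Subgroup.normalizer ((W : Subgroup (N ⧸ C)) : Set (N ⧸ C)) ≤
        Subgroup.centralizer ((W : Subgroup (N ⧸ C)) : Set (N ⧸ C)) :=
      hNW.trans fun a ha b hb => hWab b hb a ha
    have hcomp := MonoidHom.ker_transferSylow_isComplement' W hle
    set K := (MonoidHom.transferSylow W hle).ker
    set K' : Subgroup G := (K.comap π).map N.subtype
    have hK'N : ∀ b ∈ N, b ∈ Subgroup.normalizer (K' : Set G) := by
      have hconj : ∀ b : N, ∀ x ∈ K', (b : G) * x * (b : G)⁻¹ ∈ K' := by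
        rintro b _ ⟨w, hw, rfl⟩
        exact ⟨b * w * b⁻¹, (inferInstance : (K.comap π).Normal).conj_mem w hw b, rfl⟩
      intro b hb
      rw [Subgroup.mem_normalizer_iff]
      refine fun x => ⟨hconj ⟨b, hb⟩ x, fun hx => ?_⟩
      have := hconj (⟨b, hb⟩ : N)⁻¹ _ hx
      simpa [mul_assoc] using this
    by_cases hK'ab : IsMulCommutative K'
    swap
    · -- then `K'` is all of the normalizer
      have hgK : (⟨g, hgQ⟩ : N) ∈ K.comap π := by
        have := hK'N g hgQ
        rw [hS K' hK'ab] at this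
        obtain ⟨w, hw, hwg⟩ := this
        exact (Subtype.ext hwg : w = ⟨g, hgQ⟩) ▸ hw
      have hall : ∀ w ∈ (W : Subgroup (N ⧸ C)), w = 1 := by
        intro w hw
        obtain ⟨b, rfl⟩ := QuotientGroup.mk'_surjective C w
        have := hK'N b b.2
        rw [hS K' hK'ab] at this
        obtain ⟨w', hw', hwb⟩ := this
        have hbK : π b ∈ K := (Subtype.ext hwb : w' = b) ▸ hw'
        exact Subgroup.disjoint_def.1 hcomp.disjoint hbK hw
      -- so `P` centralizes `Q`, and has abelian image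
      exfalso
      refine hPna ?_
      have hPC : (P : Subgroup G) ≤ Subgroup.centralizer (Q : Set G) := fun x hx => by
        have h1 : π ⟨x, hPN hx⟩ = 1 := hall _ ⟨⟨x, hPN hx⟩, hx, rfl⟩
        exact ((QuotientGroup.eq_one_iff (⟨x, hPN hx⟩ : N)).1 h1 :)
      exact ⟨⟨fun a b => Subtype.ext (comm_of_mem hCQ (hPC a.2) (hPC b.2))⟩⟩
    -- `K'` is abelian and contains `C`, so centralizes `Q`
    have hQK : Q ≤ K' := fun x hx => ⟨⟨x, hPN (hQP hx)⟩, by
      show π ⟨x, hPN (hQP hx)⟩ ∈ K
      rw [show π ⟨x, hPN (hQP hx)⟩ = 1 from (QuotientGroup.eq_one_iff _).2 (le_centralizer_of_abelian hQab le_rfl hx)]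
      exact one_mem _, rfl⟩
    -- the image of `g` has order prime to `p`, so lies in `K`
    have hgK : π ⟨g, hgQ⟩ ∈ K := by
      obtain ⟨⟨k, w⟩, hkw⟩ := hcomp.2 (π ⟨g, hgQ⟩)
      have hw : MonoidHom.transferSylow W hle (π ⟨g, hgQ⟩) = 1 := by
        obtain ⟨e, he⟩ := W.isPGroup' (MonoidHom.transferSylow W hle (π ⟨g, hgQ⟩))
        have h1 : orderOf (MonoidHom.transferSylow W hle (π ⟨g, hgQ⟩)) ∣ p ^ e := orderOf_dvd_of_pow_eq_one he
        have h2 : orderOf (MonoidHom.transferSylow W hle (π ⟨g, hgQ⟩)) ∣ orderOf g := by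
          refine ((orderOf_map_dvd _ _).trans (orderOf_map_dvd π _)).trans ?_
          rw [Subgroup.orderOf_mk]
        have h3 := Nat.dvd_gcd h2 h1
        rw [Nat.Coprime.pow_right _ hgp, Nat.dvd_one, orderOf_eq_one_iff] at h3
        exact h3
      exact hw
    exact le_centralizer_of_abelian hK'ab hQK ⟨⟨g, hgQ⟩, hgK, rfl⟩
  obtain ⟨P', K, hKn, hK⟩ := hnil
  haveI := hKn
  have h1 : commutator G ≤ K := by
    have hsolQ : Group.IsSolvable (G ⧸ K) := by
      haveI : Group.IsNilpotent (P' : Subgroup G) := P'.isPGroup'.isNilpotent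
      have hsurj : Function.Surjective ((QuotientGroup.mk' K).comp (P' : Subgroup G).subtype) := fun y => by
        obtain ⟨y, rfl⟩ := QuotientGroup.mk'_surjective K y
        obtain ⟨⟨k, w⟩, hkw⟩ := hK.2 y
        refine ⟨w, ?_⟩
        rw [← hkw]
        show QuotientGroup.mk' K (w : G) = QuotientGroup.mk' K ((k : G) * w)
        rw [map_mul, show QuotientGroup.mk' K (k : G) = 1 from (QuotientGroup.eq_one_iff _).2 k.2, one_mul]
      exact Group.isSolvable_of_surjective hsurj
    by_contra hle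
    have hKt : K ≠ ⊤ := fun h => hle (h ▸ le_top)
    obtain ⟨⟨n, hn⟩⟩ := hsolQ
    have : ∀ j, derivedSeries G j = ⊤ := fun j => by
      induction j with
      | zero => rfl
      | succ j ih => rw [derivedSeries_succ, ih, ← commutator_def, hperf]
    have h2 := map_derivedSeries_le_derivedSeries (QuotientGroup.mk' K) n
    rw [hn, this, le_bot_iff, Subgroup.map_eq_bot_iff, QuotientGroup.ker_mk'] at h2
    exact hKt (top_le_iff.1 h2)
  rw [hperf, top_le_iff] at h1
  rw [h1] at hK
  have hP'bot : (P' : Subgroup G) = ⊥ := Subgroup.isComplement'_top_left.1 hK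
  have : p ∣ Nat.card P' := P'.dvd_card_of_dvd_card (hpM.trans M.card_subgroup_dvd_card)
  rw [show Nat.card P' = Nat.card (P' : Subgroup G) from rfl, hP'bot, Subgroup.card_bot, Nat.dvd_one] at this
  exact hp.one_lt.ne' this

end CfsgLib.Orders.SelfNorm
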