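import Cfsg.Agent.Lib.Core.Basic
import Mathlib.GroupTheory.Transfer
import Mathlib.GroupTheory.Schreier
import Cfsg.Prelude.Def_Transfer

/-!
# Normal complements for small abelian Sylow subgroups
-/

set_option autoImplicit false

namespace CfsgLib.Orders

universe u

theorem card_ker_powMonoidHom_eq {A : Type u} [CommGroup A] [Finite A] (p : ℕ) :
    Nat.card (powMonoidHom p : A →* A).ker = (powMonoidHom p : A →* A).range.index := by
  have h1 := (powMonoidHom p : A →* A).range.card_mul_index
  have h2 := (powMonoidHom p : A →* A).ker.card_mul_index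
  rw [Subgroup.index_ker, ← h1, mul_comm] at h2
  exact Nat.eq_of_mul_eq_mul_left Nat.card_pos h2

/-- An automorphism of prime order `q` of an abelian `p`-group with at most `p ^ r` solutions of
`x ^ p = 1` is trivial, if `q` divides no `p ^ i - 1`, `i ≤ r`. -/
theorem mulAut_eq_one_of_small {p q r : ℕ} [Fact p.Prime] [Fact q.Prime] (hqp : q ≠ p)
    (hq : ∀ i, 1 ≤ i → i ≤ r → ¬ q ∣ p ^ i - 1) {A : Type u} [CommGroup A] [Finite A]
    (hA : IsPGroup p A) (hΩ : Nat.card (powMonoidHom p : A →* A).ker ≤ p ^ r) (σ : MulAut A)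
    (hσ : σ ^ q = 1) : σ = 1 := by
  induction hn : Nat.card A using Nat.strong_induction_on generalizing A with
  | _ n ih =>
    subst hn
    rcases subsingleton_or_nontrivial A with hA1 | hA1
    · exact MulEquiv.ext fun x => Subsingleton.elim _ _
    set Ω := (powMonoidHom p : A →* A).ker
    have hp : p.Prime := Fact.out
    obtain ⟨d, hd⟩ := IsPGroup.iff_card.1 (hA.to_subgroup Ω)
    have hd1 : 1 ≤ d := by
      obtain ⟨k, hk⟩ := IsPGroup.iff_card.1 hA
      have hpA : p ∣ Nat.card A := by
        rcases Nat.eq_zero_or_pos k with rfl | hk0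
        · exact absurd (hk.trans (pow_zero p)) Finite.one_lt_card.ne'
        · exact hk ▸ dvd_pow_self p hk0.ne'
      obtain ⟨a, ha⟩ := exists_prime_orderOf_dvd_card' p hpA
      by_contra h0
      have : Ω = ⊥ := Subgroup.card_eq_one.1 (by rw [hd, show d = 0 by omega, pow_zero])
      have haΩ : a ∈ Ω := (MonoidHom.mem_ker).2 (by
        rw [powMonoidHom_apply, ← ha, pow_orderOf_eq_one])
      rw [this, Subgroup.mem_bot] at haΩ
      rw [haΩ, orderOf_one] at ha
      exact hp.one_lt.ne ha
    have hdr : d ≤ r := (Nat.pow_le_pow_iff_right hp.one_lt).1 (hd ▸ hΩ)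
    -- a fixed element of order `p`
    have hinvΩ : ∀ x ∈ Ω, σ x ∈ Ω := fun x hx => by
      rw [MonoidHom.mem_ker, powMonoidHom_apply] at hx ⊢
      rw [← map_pow, hx, map_one]
    obtain ⟨v, hvΩ, hv1, hvfix⟩ : ∃ v ∈ Ω, v ≠ 1 ∧ σ v = v := by
      by_contra hno
      push Not at hno
      letI : MulAction (Subgroup.zpowers σ) {x : A // x ^ p = 1 ∧ x ≠ 1} :=
        { smul := fun g x => ⟨(g : MulAut A) x.1, by rw [← map_pow, x.2.1, map_one],
            fun h => x.2.2 ((g : MulAut A).injective (h.trans (map_one _).symm))⟩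
          one_smul := fun x => Subtype.ext rfl
          mul_smul := fun a b x => Subtype.ext rfl }
      have hσq : IsPGroup q (Subgroup.zpowers σ) := by
        obtain ⟨i, -, hi⟩ := (Nat.dvd_prime_pow (Fact.out : q.Prime)).1
          (orderOf_dvd_of_pow_eq_one (show σ ^ q ^ 1 = 1 by rwa [pow_one]))
        exact IsPGroup.of_card ((Nat.card_zpowers σ).trans hi)
      have hm := hσq.card_modEq_card_fixedPoints {x : A // x ^ p = 1 ∧ x ≠ 1}
      have hempty : IsEmpty (MulAction.fixedPoints (Subgroup.zpowers σ) {x : A // x ^ p = 1 ∧ x ≠ 1}) :=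
        ⟨fun x => hno x.1.1 ((MonoidHom.mem_ker).2 x.1.2.1) x.1.2.2
          (congrArg Subtype.val (x.2 ⟨σ, Subgroup.mem_zpowers σ⟩))⟩
      have hzero : Nat.card (MulAction.fixedPoints (Subgroup.zpowers σ) {x : A // x ^ p = 1 ∧ x ≠ 1}) = 0 :=
        Nat.card_of_isEmpty
      rw [hzero, Nat.modEq_zero_iff_dvd] at hm
      classical
      have := Fintype.ofFinite A
      have hcount : Nat.card {x : A // x ^ p = 1 ∧ x ≠ 1} = p ^ d - 1 := by
        rw [← hd, Nat.card_eq_fintype_card, Fintype.card_subtype,
          show Nat.card Ω = (Finset.univ.filter fun x : A => x ^ p = 1).card by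
            rw [← Fintype.card_subtype, ← Nat.card_eq_fintype_card]; rfl,
          ← Finset.card_erase_of_mem (s := Finset.univ.filter fun x : A => x ^ p = 1) (a := (1 : A))
            (by simp)]
        congr 1
        ext x
        simp [and_comm]
      rw [hcount] at hm
      exact hq d hd1 hdr hm
    set Z := Subgroup.zpowers v
    have hvp : v ^ p = 1 := (MonoidHom.mem_ker).1 hvΩ
    have hvo : orderOf v = p := orderOf_eq_prime hvp hv1
    have hZmap : Z.map σ.toMonoidHom = Z := by
      rw [MonoidHom.map_zpowers]; exact congrArg _ hvfix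
    let τ : MulAut (A ⧸ Z) := QuotientGroup.congr Z Z σ hZmap
    have hτk : ∀ (k : ℕ) (x : A), (τ ^ k) (x : A ⧸ Z) = (((σ ^ k) x : A) : A ⧸ Z) := by
      intro k
      induction k with
      | zero => intro x; rfl
      | succ k ihk =>
        intro x
        rw [pow_succ, pow_succ, MulAut.mul_apply, MulAut.mul_apply]
        exact ihk (σ x)
    have hτ1 : τ = 1 := by
      refine ih _ (Core.card_quotient_lt Z (by rw [ne_eq, Subgroup.zpowers_eq_bot]; exact hv1))
        (A := A ⧸ Z) (hA.to_quotient Z) ?_ τ ?_ rfl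
      · refine le_trans ?_ hΩ
        rw [card_ker_powMonoidHom_eq, card_ker_powMonoidHom_eq]
        refine Nat.le_of_dvd (Nat.pos_of_ne_zero Subgroup.index_ne_zero_of_finite) ?_
        refine dvd_trans (Subgroup.index_dvd_of_le ?_)
          (Subgroup.index_map_dvd (f := QuotientGroup.mk' Z) _ (QuotientGroup.mk'_surjective Z))
        rintro _ ⟨_, ⟨y, rfl⟩, rfl⟩
        exact ⟨(y : A ⧸ Z), rfl⟩
      · refine MulEquiv.ext fun y => ?_
        induction y using QuotientGroup.induction_on with
        | H x => rw [hτk, hσ]; rfl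
    refine MulEquiv.ext fun x => ?_
    have hz : x⁻¹ * σ x ∈ Z := by
      rw [← QuotientGroup.eq]
      exact (DFunLike.congr_fun hτ1 (x : A ⧸ Z)).symm
    obtain ⟨i, hi⟩ := Subgroup.mem_zpowers_iff.1 hz
    have hk : ∀ k : ℕ, (σ ^ k) x = x * (x⁻¹ * σ x) ^ k := by
      intro k
      induction k with
      | zero => simp
      | succ k ihk =>
        have hfix : σ (x⁻¹ * σ x) = x⁻¹ * σ x := by rw [← hi, map_zpow, hvfix]
        rw [pow_succ', MulAut.mul_apply, ihk, map_mul, map_pow, hfix, pow_succ',
          ← mul_assoc x (x⁻¹ * σ x), mul_inv_cancel_left]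
    have h1 := hk q
    rw [hσ, MulAut.one_apply, left_eq_mul] at h1
    have h2 : (x⁻¹ * σ x) ^ p = 1 := by
      rw [← hi, ← zpow_natCast, ← zpow_mul, mul_comm, zpow_mul, zpow_natCast, hvp, one_zpow]
    have h3 := orderOf_eq_one_iff.1 (Nat.eq_one_of_dvd_coprimes
      ((Nat.coprime_primes (Fact.out : q.Prime) hp).2 hqp) (orderOf_dvd_of_pow_eq_one h1)
      (orderOf_dvd_of_pow_eq_one h2))
    rw [inv_mul_eq_one] at h3
    exact h3.symm

/-- Burnside: an abelian Sylow subgroup with small `Ω₁` and coprime automizer has a normal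
complement. -/
theorem hasNormalPComplement_of_small {G : Type u} [Group G] [Finite G] {p r : ℕ} [Fact p.Prime]
    (P : Sylow p G) [IsMulCommutative (P : Subgroup G)]
    (hΩ : Nat.card {x : (P : Subgroup G) // x ^ p = 1} ≤ p ^ r)
    (hq : ∀ q : ℕ, q.Prime → q ∣ Nat.card G → q ≠ p → ∀ i, 1 ≤ i → i ≤ r → ¬ q ∣ p ^ i - 1) :
    Cfsg.HasNormalPComplement p G := by
  letI : CommGroup (P : Subgroup G) :=
    { (inferInstance : Group (P : Subgroup G)) with
      mul_comm := fun a b => (inferInstance : IsMulCommutative (P : Subgroup G)).is_comm.comm a b }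
  have hP : Subgroup.normalizer ((P : Subgroup G) : Set G) ≤ Subgroup.centralizer ((P : Subgroup G) : Set G) := by
    by_contra hno
    set N := Subgroup.normalizer ((P : Subgroup G) : Set G)
    let φ := Subgroup.normalizerMonoidHom (P : Subgroup G)
    have hφ : φ.ker = (Subgroup.centralizer ((P : Subgroup G) : Set G)).subgroupOf N :=
      Subgroup.normalizerMonoidHom_ker _
    have hne : φ.range ≠ ⊥ := fun hb => hno fun g hg => by
      have : (⟨g, hg⟩ : N) ∈ φ.ker := by
        rw [MonoidHom.mem_ker]
        exact Subgroup.mem_bot.1 (hb ▸ ⟨_, rfl⟩)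
      rw [hφ, Subgroup.mem_subgroupOf] at this
      exact this
    obtain ⟨q, hqp', hqd⟩ := Nat.exists_prime_and_dvd (n := Nat.card φ.range)
      (fun h => hne (Subgroup.card_eq_one.1 h))
    have := Fact.mk hqp'
    obtain ⟨σ, hσ⟩ := exists_prime_orderOf_dvd_card' (G := φ.range) q hqd
    have hidx : Nat.card φ.range ∣ (P : Subgroup G).index := by
      rw [← Subgroup.index_ker, hφ]
      refine dvd_trans ?_ (Subgroup.index_dvd_of_le
        (show (P : Subgroup G) ≤ Subgroup.centralizer ((P : Subgroup G) : Set G) from fun x hx =>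
          Subgroup.mem_centralizer_iff.2 fun y hy => congrArg Subtype.val
            ((inferInstance : IsMulCommutative (P : Subgroup G)).is_comm.comm ⟨y, hy⟩ ⟨x, hx⟩)))
      exact Subgroup.relIndex_dvd_index_of_le (Subgroup.centralizer_le_normalizer _)
    have hne' : q ≠ p := fun h => P.not_dvd_index ((dvd_of_eq h.symm).trans (hqd.trans hidx))
    have hσ' : orderOf (σ : MulAut (P : Subgroup G)) = q := (Subgroup.orderOf_coe σ).trans hσ
    have h1 := mulAut_eq_one_of_small hne'
      (hq q hqp' ((hqd.trans hidx).trans (Subgroup.index_dvd_card _)) hne') P.isPGroup'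
      (by convert hΩ using 1; exact Nat.card_congr (Equiv.subtypeEquivRight fun x => by
        rw [MonoidHom.mem_ker, powMonoidHom_apply]))
      (σ : MulAut (P : Subgroup G)) (hσ' ▸ pow_orderOf_eq_one _)
    rw [h1, orderOf_one] at hσ'
    exact hqp'.one_lt.ne hσ'
  exact ⟨P, _, MonoidHom.normal_ker _, MonoidHom.ker_transferSylow_isComplement' P hP⟩

theorem card_sol_le_pow_rank {G : Type u} [Group G] [Finite G] {p : ℕ} [Fact p.Prime]
    (P : Subgroup G) [hab : IsMulCommutative P] :
    Nat.card {x : P // x ^ p = 1} ≤ p ^ Group.rank P := by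
  letI : CommGroup P :=
    { (inferInstance : Group P) with mul_comm := fun a b => hab.is_comm.comm a b }
  set R := (powMonoidHom p : P →* P).range
  have h1 : Nat.card {x : P // x ^ p = 1} = Nat.card (P ⧸ R) := by
    rw [← Subgroup.index_eq_card, ← card_ker_powMonoidHom_eq]
    exact Nat.card_congr (Equiv.subtypeEquivRight fun x => by rw [MonoidHom.mem_ker, powMonoidHom_apply])
  rw [h1]
  refine le_trans (Nat.le_of_dvd (pow_pos (Fact.out : p.Prime).pos _)
    (card_dvd_exponent_pow_rank' (P ⧸ R) (n := p) fun y => ?_)) (Nat.pow_le_pow_right (Fact.out : p.Prime).pos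
      (Group.rank_le_of_surjective (QuotientGroup.mk' R) (QuotientGroup.mk'_surjective R)))
  induction y using QuotientGroup.induction_on with
  | H x => rw [← QuotientGroup.mk_pow, QuotientGroup.eq_one_iff]; exact ⟨x, rfl⟩

/-- All but the largest prime have small abelian Sylow subgroups. -/
def SmallSylows (G : Type u) [Group G] : Prop :=
  ∀ p : ℕ, p.Prime → p ∣ Nat.card G → (∃ q : ℕ, q.Prime ∧ q ∣ Nat.card G ∧ p < q) →
    ∀ P : Sylow p G, IsMulCommutative (P : Subgroup G) ∧
      Nat.card {x : (P : Subgroup G) // x ^ p = 1} ≤ p ^ 2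

theorem isSolvable_of_smallSylows {G : Type u} [Group G] [Finite G] (h : SmallSylows G)
    (h12 : ¬ 12 ∣ Nat.card G) : Group.IsSolvable G := by
  induction hn : Nat.card G using Nat.strong_induction_on generalizing G with
  | _ n ih =>
    subst hn
    rcases subsingleton_or_nontrivial G with h1 | h1
    · exact Group.isSolvable_of_comm fun a b => Subsingleton.elim _ _
    set p := (Nat.card G).minFac
    have hp : p.Prime := Nat.minFac_prime Finite.one_lt_card.ne'
    have := Fact.mk hp
    obtain ⟨P⟩ : Nonempty (Sylow p G) := inferInstance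
    by_cases hbig : ∃ q : ℕ, q.Prime ∧ q ∣ Nat.card G ∧ p < q
    swap
    · push Not at hbig
      have hG : IsPGroup p G := IsPGroup.of_card (n := (Nat.card G).primeFactorsList.length)
        (Nat.eq_prime_pow_of_unique_prime_dvd Nat.card_pos.ne' fun {d} hd hdG =>
          le_antisymm (hbig d hd hdG) (Nat.minFac_le_of_dvd hd.two_le hdG))
      exact IsNilpotent.to_isSolvable (h := hG.isNilpotent)
    obtain ⟨hab, hΩ⟩ := h p hp (Nat.minFac_dvd _) hbig P
    have hcomp : Cfsg.HasNormalPComplement p G := by
      by_cases h4 : p = 2 ∧ 3 ∣ Nat.card G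
      · obtain ⟨hp2, h3⟩ := h4
        have hP2 : Nat.card (P : Subgroup G) ∣ p := by
          obtain ⟨k, hk⟩ := P.isPGroup'.exists_card_eq
          rw [hk]
          rcases Nat.lt_or_ge k 2 with hk2 | hk2
          · exact (pow_dvd_pow p (show k ≤ 1 by omega)).trans (pow_one p).dvd
          · exfalso
            have h4' : 4 ∣ Nat.card G := by
              refine dvd_trans ?_ (Subgroup.card_subgroup_dvd_card (P : Subgroup G))
              rw [hk, hp2]
              exact (show 4 = 2 ^ 2 by norm_num) ▸ pow_dvd_pow 2 hk2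
            exact h12 (Nat.Coprime.mul_dvd_of_dvd_of_dvd (by norm_num : Nat.Coprime 4 3) h4' h3)
        refine hasNormalPComplement_of_small (r := 1) P ?_ ?_
        · rw [pow_one]
          exact (Finite.card_subtype_le _).trans (Nat.le_of_dvd hp.pos hP2)
        · intro q hq _ hqp i hi1 hi2 hdvd
          rw [show i = 1 by omega, hp2] at hdvd
          norm_num at hdvd
          exact hq.ne_one hdvd
      · refine hasNormalPComplement_of_small (r := 2) P hΩ fun q hq hqG hqp i hi1 hi2 hdvd => ?_
        have hpq : p < q := lt_of_le_of_ne (Nat.minFac_le_of_dvd hq.two_le hqG) (Ne.symm hqp)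
        have hcase : i = 1 ∨ i = 2 := by omega
        rcases hcase with rfl | rfl
        · rw [pow_one] at hdvd
          have := Nat.le_of_dvd (by have := hp.two_le; omega) hdvd
          omega
        · rw [show p ^ 2 - 1 = (p + 1) * (p - 1) by rw [← Nat.sq_sub_sq, one_pow]] at hdvd
          rcases hq.dvd_mul.1 hdvd with h' | h'
          · have hq1 : q = p + 1 := le_antisymm (Nat.le_of_dvd (by omega) h') hpq
            rcases hp.eq_two_or_odd' with hp2 | hodd
            · exact h4 ⟨hp2, by rwa [hq1, hp2] at hqG⟩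
            · have he : Even q := hq1 ▸ hodd.add_one
              have := hq.even_iff.1 he
              have := hp.two_le
              omega
          · have := Nat.le_of_dvd (by have := hp.two_le; omega) h'
            omega
    obtain ⟨P', N, hN, hNP⟩ := hcomp
    have hcard : Nat.card N * Nat.card (P' : Subgroup G) = Nat.card G := hNP.card_mul
    have hNlt : Nat.card N < Nat.card G := by
      rw [← hcard]
      refine lt_mul_of_one_lt_right Nat.card_pos ?_
      rw [P'.card_eq_multiplicity]
      exact Nat.one_lt_pow (hp.factorization_pos_of_dvd Nat.card_pos.ne' (Nat.minFac_dvd _)).ne' hp.one_lt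
    have hNs : Group.IsSolvable N := by
      refine ih _ hNlt ?_ (fun hd => h12 (hd.trans (Subgroup.card_subgroup_dvd_card N))) rfl
      intro r hr hrN hex R
      obtain ⟨q, hq, hqN, hlt⟩ := hex
      have := Fact.mk hr
      obtain ⟨S, hS⟩ := (R.isPGroup'.map N.subtype).exists_le_sylow
      obtain ⟨hSab, hSΩ⟩ := h r hr (hrN.trans (Subgroup.card_subgroup_dvd_card N))
        ⟨q, hq, hqN.trans (Subgroup.card_subgroup_dvd_card N), hlt⟩ S
      let f : ↥(R : Subgroup N) → ↥(S : Subgroup G) := fun x => ⟨(x.1 : G), hS (Subgroup.mem_map_of_mem _ x.2)⟩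
      have hf : Function.Injective f := fun a b hab =>
        Subtype.ext (Subtype.ext (congrArg (fun y : (S : Subgroup G) => (y : G)) hab))
      refine ⟨⟨⟨fun a b => hf (Subtype.ext ?_)⟩⟩, le_trans ?_ hSΩ⟩
      · exact congrArg (fun y : (S : Subgroup G) => (y : G)) (hSab.is_comm.comm (f a) (f b))
      · refine Nat.card_le_card_of_injective (fun x => ⟨f x.1, Subtype.ext ?_⟩)
          fun a b hab => Subtype.ext (hf (congrArg Subtype.val hab))
        exact congrArg (fun y : (R : Subgroup N) => ((y : N) : G)) x.2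
    have hQ : IsPGroup p (G ⧸ N) := by
      obtain ⟨k, hk⟩ := P'.isPGroup'.exists_card_eq
      refine IsPGroup.of_card (n := k) ?_
      rw [← Subgroup.index_eq_card, hNP.symm.index_eq_card, hk]
    have hQs : Group.IsSolvable (G ⧸ N) := IsNilpotent.to_isSolvable (h := hQ.isNilpotent)
    exact Group.isSolvable_of_ker_le_range N.subtype (QuotientGroup.mk' N)
      (by rw [QuotientGroup.ker_mk', Subgroup.range_subtype])

end CfsgLib.Orders
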