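import Cfsg.Agent.Lib.Orders.SmallSpectrum
import Cfsg.Agent.Lib.Core.UniqueOrderP
import Cfsg.Agent.Lib.HallGen.Basic
import Mathlib.GroupTheory.GroupAction.Quotient

/-!
# Groups with element orders `1, 2, 3, 4`
-/

set_option autoImplicit false

namespace CfsgLib.Orders

universe u

open scoped Pointwise commutatorElement

section Ring

variable {R : Type u} [Ring R]

theorem anticomm_of_square_zero {A B : R} (hA : A * A = 0) (hB : B * B = 0)
    (hAB : (A + B + A * B) * (A + B + A * B) = 0) :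
    A * B * A = 0 ∧ A * B + B * A = 0 := by
  have hA' : ∀ X : R, A * (A * X) = 0 := fun X => by rw [← mul_assoc, hA, zero_mul]
  have hB' : ∀ X : R, B * (B * X) = 0 := fun X => by rw [← mul_assoc, hB, zero_mul]
  have h : A * B + B * A + A * B * A + B * (A * B) + A * B * (A * B) = 0 := by
    rw [← hAB]
    simp only [add_mul, mul_add, mul_assoc, hA, hB, hA', hB', mul_zero, add_zero, zero_add]
    abel
  have h1 : A * B * A + A * B * (A * B) = 0 := by
    have := congrArg (A * ·) h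
    simp only [mul_add, mul_assoc, hA', mul_zero, add_zero, zero_add] at this
    simp only [mul_assoc]
    exact this
  have h2 : A * B * (A * B) = 0 := by
    have := congrArg (· * B) h1
    simp only [add_mul, mul_assoc, hB, mul_zero, add_zero, zero_mul] at this
    simp only [mul_assoc]
    exact this
  rw [h2, add_zero] at h1
  refine ⟨h1, ?_⟩
  have h3 : B * (A * B) = 0 := by
    have h6 := congrArg (· * B) h
    simp only [add_mul, mul_assoc, hB, mul_zero, add_zero, zero_add, zero_mul] at h6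
    have h2' : A * (B * (A * B)) = 0 := by rw [← mul_assoc]; exact h2
    rw [h2', add_zero] at h6
    exact h6
  rw [h1, h2, h3] at h
  simpa using h

theorem inv_action_eq_neg (F Fi C : R) (hF : (F - 1) * (F - 1) = 0) (hinv : Fi * F = 1)
    (hC : (F - 1) * C * (F - 1) = 0) : F * (C * (Fi - 1)) = -(C * (F - 1)) := by
  obtain ⟨D, rfl⟩ : ∃ D, F = 1 + D := ⟨F - 1, (add_sub_cancel 1 F).symm⟩
  rw [add_sub_cancel_left] at hF hC ⊢
  have h5 : Fi = 1 - D := by
    have h3 : (1 + D) * (1 - D) = 1 := by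
      rw [mul_sub, mul_one, add_mul, one_mul, hF, add_zero, add_sub_cancel_right]
    calc Fi = Fi * ((1 + D) * (1 - D)) := by rw [h3, mul_one]
      _ = 1 - D := by rw [← mul_assoc, hinv, one_mul]
  subst h5
  rw [show (1 : R) - D - 1 = -D by abel, mul_neg, mul_neg, add_mul, one_mul, ← mul_assoc D, hC, add_zero]

end Ring

variable {G : Type u} [Group G]

/-- A group in which every element commutes with its conjugates satisfies `[a, b, c] ^ 3 = 1`. -/
theorem triple_pow_three (hE : ∀ x g : G, Commute x (g * x * g⁻¹)) (a b c : G) :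
    ⁅⁅a, b⁆, c⁆ ^ 3 = 1 := by
  have hEc : ∀ x g : G, Commute x ⁅x, g⁆ := by
    intro x g
    rw [show ⁅x, g⁆ = x * (g * x * g⁻¹)⁻¹ by rw [commutatorElement_def]; group]
    exact (Commute.refl x).mul_right (hE x g).inv_right
  have hinvc : ∀ w z : G, ⁅w⁻¹, z⁆ = ⁅w, z⁆⁻¹ := by
    intro w z
    rw [show ⁅w⁻¹, z⁆ = w⁻¹ * ⁅w, z⁆⁻¹ * w by
      rw [commutatorElement_def, commutatorElement_def w]; group,
      (hEc w z).inv_left.inv_right.eq, inv_mul_cancel_right]
  -- antisymmetry in the last two entries and invariance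
  have key : ∀ a b c : G, ⁅⁅a, c⁆, b⁆ = ⁅⁅a, b⁆, c⁆⁻¹ ∧ b * ⁅⁅a, b⁻¹⁆, c⁆ * b⁻¹ = ⁅⁅a, b⁆, c⁆⁻¹ := by
    intro a b c
    set N := Subgroup.normalClosure ({a} : Set G)
    have haN : a ∈ N := Subgroup.subset_normalClosure rfl
    have hcl : ∀ x ∈ Group.conjugatesOfSet ({a} : Set G), ∀ y ∈ Group.conjugatesOfSet ({a} : Set G),
        x * y = y * x := by
      intro x hx y hy
      rw [Group.mem_conjugatesOfSet_iff] at hx hy
      obtain ⟨x', hx', hx⟩ := hx
      obtain ⟨y', hy', hy⟩ := hy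
      rw [Set.mem_singleton_iff] at hx' hy'
      subst x'; subst y'
      obtain ⟨g, rfl⟩ := isConj_iff.1 hx
      obtain ⟨k, rfl⟩ := isConj_iff.1 hy
      have h1 := (hE a (g⁻¹ * k)).eq
      calc g * a * g⁻¹ * (k * a * k⁻¹) = g * (a * (g⁻¹ * k * a * (g⁻¹ * k)⁻¹)) * g⁻¹ := by group
        _ = k * a * k⁻¹ * (g * a * g⁻¹) := by rw [h1]; group
    have hNc : ∀ x y : N, x * y = y * x := fun x y => by
      have hle : N ≤ Subgroup.centralizer ((N : Subgroup G) : Set G) := by
        show Subgroup.closure _ ≤ _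
        rw [show ((N : Subgroup G) : Set G) = ((Subgroup.closure (Group.conjugatesOfSet ({a} : Set G)) : Subgroup G) : Set G) from rfl,
          Subgroup.centralizer_closure, Subgroup.closure_le]
        intro x hx
        exact Subgroup.mem_centralizer_iff.2 fun y hy => hcl y hy x hx
      exact Subtype.ext (Subgroup.mem_centralizer_iff.1 (hle y.2) x x.2)
    letI : CommGroup N := { (inferInstance : Group N) with mul_comm := hNc }
    let f : G → AddMonoid.End (Additive N) := fun g =>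
      AddMonoidHom.mk' (fun n => Additive.ofMul (⟨g * (Additive.toMul n : N) * g⁻¹,
        (Subgroup.normalClosure_normal).conj_mem _ (Additive.toMul n : N).2 g⟩ : N)) fun m n => by
          apply Additive.toMul.injective
          apply Subtype.ext
          show g * (((Additive.toMul m : N) * (Additive.toMul n : N) : N) : G) * g⁻¹ = _
          simp
    have hf : ∀ g h : G, f (g * h) = f g * f h := fun g h => by
      refine AddMonoidHom.ext fun n => Additive.toMul.injective (Subtype.ext ?_)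
      show g * h * ((Additive.toMul n : N) : G) * (g * h)⁻¹ = g * (h * ((Additive.toMul n : N) : G) * h⁻¹) * g⁻¹
      group
    have hone : f 1 = 1 := by
      refine AddMonoidHom.ext fun n => Additive.toMul.injective (Subtype.ext ?_)
      show (1 : G) * ((Additive.toMul n : N) : G) * (1 : G)⁻¹ = ((Additive.toMul n : N) : G)
      simp
    let D : G → AddMonoid.End (Additive N) := fun g => f g - 1
    have hcomm : ∀ (g : G) (n : Additive N),
        (((Additive.toMul (D g n) : N)) : G) = ⁅((Additive.toMul n : N) : G), g⁆⁻¹ := by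
      intro g n
      show ((Additive.toMul (f g n - n) : N) : G) = _
      rw [toMul_sub, Subgroup.coe_div]
      show g * ((Additive.toMul n : N) : G) * g⁻¹ / ((Additive.toMul n : N) : G) = _
      rw [div_eq_mul_inv, commutatorElement_def]
      group
    have hsq : ∀ g : G, D g * D g = 0 := fun g => by
      refine AddMonoidHom.ext fun n => Additive.toMul.injective (Subtype.ext ?_)
      show ((Additive.toMul (D g (D g n)) : N) : G) = 1
      rw [hcomm, inv_eq_one, commutatorElement_eq_one_iff_commute, hcomm]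
      refine Commute.inv_left ?_
      rw [← commutatorElement_inv]
      exact ((hEc g _).symm).inv_left
    have hanti : ∀ g h : G, D g * D h * D g = 0 ∧ D g * D h + D h * D g = 0 := fun g h => by
      refine anticomm_of_square_zero (hsq g) (hsq h) ?_
      have : D g + D h + D g * D h = D (g * h) := by
        show f g - 1 + (f h - 1) + (f g - 1) * (f h - 1) = f (g * h) - 1
        rw [hf]; simp only [sub_mul, mul_sub, one_mul, mul_one]; abel
      rw [this]; exact hsq _
    -- triple commutators as values of `D`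
    have htri : ∀ g h : G, ⁅⁅a, g⁆, h⁆ = ((Additive.toMul ((D h * D g) (Additive.ofMul ⟨a, haN⟩)) : N) : G) := by
      intro g h
      show _ = ((Additive.toMul (D h (D g (Additive.ofMul ⟨a, haN⟩))) : N) : G)
      rw [hcomm, hcomm]
      show _ = ⁅⁅a, g⁆⁻¹, h⁆⁻¹
      rw [hinvc, inv_inv]
    constructor
    · rw [htri, htri, eq_neg_of_add_eq_zero_left (hanti b c).2]
      rfl
    · have h1 : f b * (D c * D b⁻¹) = - (D c * D b) :=
        inv_action_eq_neg (f b) (f b⁻¹) (D c) (hsq b) (by rw [← hf, inv_mul_cancel, hone]) (hanti b c).1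
      rw [htri, htri]
      have h6 := congrArg (fun E : AddMonoid.End (Additive N) =>
        ((Additive.toMul (E (Additive.ofMul ⟨a, haN⟩)) : N) : G)) h1
      exact h6
  set T := ⁅⁅a, b⁆, c⁆
  have hflip : ∀ x y z : G, ⁅⁅y, x⁆, z⁆ = ⁅⁅x, y⁆, z⁆⁻¹ := by
    intro x y z
    rw [← commutatorElement_inv x y]
    exact hinvc _ z
  have hcyc : ∀ x y z : G, ⁅⁅y, z⁆, x⁆ = ⁅⁅x, y⁆, z⁆ := by
    intro x y z
    rw [(key y x z).1, hflip x y z, inv_inv]
  have h1 : ⁅⁅b, c⁆, a⁆ = T := hcyc a b c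
  have h2 : ⁅⁅c, a⁆, b⁆ = T := (hcyc b c a).trans h1
  -- Hall-Witt
  have hHW : b * ⁅⁅b⁻¹, a⁆, c⁆ * b⁻¹ * (c * ⁅⁅c⁻¹, b⁆, a⁆ * c⁻¹) * (a * ⁅⁅a⁻¹, c⁆, b⁆ * a⁻¹) = 1 := by
    simp only [commutatorElement_def]; group
  have hterm : ∀ x y z : G, y * ⁅⁅y⁻¹, x⁆, z⁆ * y⁻¹ = ⁅⁅x, y⁆, z⁆ := by
    intro x y z
    rw [hflip x y⁻¹ z]
    have := congrArg (·⁻¹) (key x y z).2
    simp only [mul_inv_rev, inv_inv] at this
    rw [← this]; group
  rw [hterm a b c, hterm b c a, hterm c a b, h1, h2] at hHW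
  rw [pow_succ, pow_succ, pow_one]
  exact hHW

/-- `z³ = (zx)³ = (z⁻¹x)³ = 1`: the conjugates of `x` under `⟨z⟩` commute and multiply to `1`. -/
theorem coset_relations {z x : G} (hz : z ^ 3 = 1) (hzx : (z * x) ^ 3 = 1) (hzx' : (z⁻¹ * x) ^ 3 = 1) :
    Commute x (z * x * z⁻¹) ∧ Commute x (z⁻¹ * x * z) ∧ (z * x * z⁻¹) * (z⁻¹ * x * z) = x⁻¹ := by
  have hz2 : z⁻¹ = z * z :=
    inv_eq_of_mul_eq_one_left (by rw [← sq, ← pow_succ]; exact hz)
  have e1 : (z * x * z⁻¹) * (z⁻¹ * x * z) * x = 1 := by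
    rw [pow_succ, pow_succ, pow_one] at hzx
    calc (z * x * z⁻¹) * (z⁻¹ * x * z) * x = z * x * (z⁻¹ * z⁻¹) * x * z * x := by group
      _ = z * x * z * x * (z * x) := by
        rw [show z⁻¹ * z⁻¹ = z by rw [← mul_inv_rev, ← hz2, inv_inv]]; group
      _ = 1 := by simpa only [mul_assoc] using hzx
  have e2 : (z⁻¹ * x * z) * (z * x * z⁻¹) * x = 1 := by
    rw [pow_succ, pow_succ, pow_one] at hzx'
    calc (z⁻¹ * x * z) * (z * x * z⁻¹) * x = z⁻¹ * x * (z * z) * x * z⁻¹ * x := by group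
      _ = z⁻¹ * x * z⁻¹ * x * (z⁻¹ * x) := by rw [← hz2]; group
      _ = 1 := by simpa only [mul_assoc] using hzx'
  set p := z * x * z⁻¹
  set q := z⁻¹ * x * z
  have h1 : p * q = x⁻¹ := eq_inv_of_mul_eq_one_left e1
  have h2 : q * p = x⁻¹ := eq_inv_of_mul_eq_one_left e2
  have hpq : Commute p q := h1.trans h2.symm
  have hx : x = q⁻¹ * p⁻¹ := by rw [← mul_inv_rev, h1, inv_inv]
  refine ⟨?_, ?_, h1⟩
  · rw [hx]; exact (hpq.inv_right.symm).mul_left ((Commute.refl p).inv_left)
  · rw [hx]; exact ((Commute.refl q).inv_left).mul_left hpq.inv_left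

/-- If all elements of `yF ∪ y⁻¹F` have order dividing `3`, `F` satisfies the second Engel condition. -/
theorem engel_of_order_three (F : Subgroup G) [F.Normal] {y : G}
    (hord : ∀ f ∈ F, (y * f) ^ 3 = 1 ∧ (y⁻¹ * f) ^ 3 = 1) :
    (∀ x ∈ F, ∀ g ∈ F, Commute x (g * x * g⁻¹)) ∧
      ∀ x ∈ F, Commute x (y * x * y⁻¹) ∧ Commute x (y⁻¹ * x * y) ∧
        (y * x * y⁻¹) * (y⁻¹ * x * y) = x⁻¹ := by
  have hn := (inferInstance : F.Normal)
  have hF : ∀ {g : G} (k : G), g ∈ F → k * g * k⁻¹ ∈ F := fun k hg => hn.conj_mem _ hg k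
  have hz : ∀ g ∈ F, ∀ x ∈ F, Commute x ((g * y) * x * (g * y)⁻¹) ∧ Commute x ((g * y)⁻¹ * x * (g * y)) := by
    intro g hg x hx
    have e1 : g * y = y * (y⁻¹ * g * y⁻¹⁻¹) := by group
    have hg' : y⁻¹ * g * y⁻¹⁻¹ ∈ F := hF _ hg
    have e2 : (g * y)⁻¹ = y⁻¹ * g⁻¹ := mul_inv_rev g y
    have h := coset_relations (z := g * y) (x := x) (by rw [e1]; exact (hord _ hg').1)
      (by rw [e1, mul_assoc y]; exact (hord _ (mul_mem hg' hx)).1)
      (by rw [e2, mul_assoc y⁻¹]; exact (hord _ (mul_mem (inv_mem hg) hx)).2)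
    exact ⟨h.1, h.2.1⟩
  have hbase : ∀ x ∈ F, Commute x (y * x * y⁻¹) ∧ Commute x (y⁻¹ * x * y) ∧
      (y * x * y⁻¹) * (y⁻¹ * x * y) = x⁻¹ := fun x hx =>
    coset_relations (by simpa using (hord 1 (one_mem F)).1) (hord x hx).1 (hord x hx).2
  refine ⟨fun x hx g hg => ?_, hbase⟩
  have conj : ∀ {a b : G}, Commute a b → ∀ k : G, Commute (k * a * k⁻¹) (k * b * k⁻¹) :=
    fun {a b} h k => by
      show k * a * k⁻¹ * (k * b * k⁻¹) = k * b * k⁻¹ * (k * a * k⁻¹)
      calc k * a * k⁻¹ * (k * b * k⁻¹) = k * (a * b) * k⁻¹ := by group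
        _ = _ := by rw [h.eq]; group
  have c1 : Commute (g * x * g⁻¹) (y * x * y⁻¹) := by
    have h := conj (hz g⁻¹ (inv_mem hg) x hx).1 g
    rwa [show g * (g⁻¹ * y * x * (g⁻¹ * y)⁻¹) * g⁻¹ = y * x * y⁻¹ by group] at h
  have c2 : Commute (g * x * g⁻¹) (y⁻¹ * x * y) := by
    have hg' : y * g⁻¹ * y⁻¹ ∈ F := hF _ (inv_mem hg)
    have h := conj (hz _ (inv_mem hg') x hx).2 g
    rwa [show g * (((y * g⁻¹ * y⁻¹)⁻¹ * y)⁻¹ * x * ((y * g⁻¹ * y⁻¹)⁻¹ * y)) * g⁻¹ = y⁻¹ * x * y by group] at h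
  have h := (c1.mul_right c2)
  rw [(hbase x hx).2.2] at h
  exact (by simpa using h.inv_right : Commute (g * x * g⁻¹) x).symm

/-- A finite `2`-group in which elements commute with their conjugates has class at most `2`. -/
theorem triple_eq_one (hE : ∀ x g : G, Commute x (g * x * g⁻¹)) (h2 : IsPGroup 2 G) (a b c : G) :
    ⁅⁅a, b⁆, c⁆ = 1 := by
  obtain ⟨k, hk⟩ := h2 ⁅⁅a, b⁆, c⁆
  exact orderOf_eq_one_iff.1 (Nat.eq_one_of_dvd_coprimes ((by decide : Nat.Coprime 2 3).pow_left k)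
    (orderOf_dvd_of_pow_eq_one hk) (orderOf_dvd_of_pow_eq_one (triple_pow_three hE a b c)))

theorem nilpotencyClass_le_two_of_triple [Group.IsNilpotent G] (h : ∀ a b c : G, ⁅⁅a, b⁆, c⁆ = 1) :
    Group.nilpotencyClass G ≤ 2 := by
  rw [← lowerCentralSeries_eq_bot_iff_nilpotencyClass_le, eq_bot_iff]
  refine Subgroup.commutator_le.2 fun g hg c _ => Subgroup.mem_bot.2 ?_
  have hle : Subgroup.lowerCentralSeries (⊤ : Subgroup G) 1 ≤ Subgroup.center G := by
    refine Subgroup.commutator_le.2 fun a _ b _ => Subgroup.mem_center_iff.2 fun c => ?_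
    exact (commutatorElement_eq_one_iff_commute.1 (h a b c)).eq.symm
  exact commutatorElement_eq_one_iff_commute.2 (Subgroup.mem_center_iff.1 (hle hg) c).symm

/-- The action of `S₃` on a `2`-group of class `2` forces the group to be elementary abelian. -/
theorem elementary_of_dihedral_action (F : Subgroup G) [F.Normal] {y t : G}
    (hy : y ^ 3 = 1) (ht : t * t = 1) (hinv : t * y * t⁻¹ = y⁻¹)
    (hfpf : ∀ f ∈ F, Commute y f → f = 1)
    (hF4 : ∀ f ∈ F, f ^ 4 = 1)
    (hrel : ∀ x ∈ F, Commute x (y * x * y⁻¹) ∧ Commute x (y⁻¹ * x * y) ∧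
        (y * x * y⁻¹) * (y⁻¹ * x * y) = x⁻¹)
    (htri : ∀ a ∈ F, ∀ b ∈ F, ∀ c ∈ F, ⁅⁅a, b⁆, c⁆ = 1)
    (ht4 : ∀ f ∈ F, (t * f) ^ 4 = 1) (hty4 : ∀ f ∈ F, (t * y * f) ^ 4 = 1) :
    Cfsg.IsElementaryAbelian 2 F := by
  have hn := (inferInstance : F.Normal)
  have htinv : t⁻¹ = t := inv_eq_of_mul_eq_one_left ht
  let Z : Subgroup G := (Subgroup.center F).map F.subtype
  have hZn : Z.Normal := ConjAct.normal_of_characteristic_of_normal
  have hZ : ∀ z : G, z ∈ Z ↔ z ∈ F ∧ ∀ f ∈ F, Commute z f := by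
    intro z
    simp only [Z, Subgroup.mem_map, Subgroup.mem_center_iff, Subgroup.coe_subtype]
    constructor
    · rintro ⟨w, hw, rfl⟩
      exact ⟨w.2, fun f hf => (congrArg Subtype.val (hw ⟨f, hf⟩)).symm⟩
    · rintro ⟨hzF, hc⟩
      exact ⟨⟨z, hzF⟩, fun g => Subtype.ext (hc g g.2).symm.eq, rfl⟩
  have hconjm : ∀ k : G, ∀ a b : G, k * (a * b) * k⁻¹ = (k * a * k⁻¹) * (k * b * k⁻¹) := by
    intros; group
  have hconjc : ∀ {a b : G} (k : G), Commute a b → Commute (k * a * k⁻¹) (k * b * k⁻¹) := by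
    intro a b k h
    show k * a * k⁻¹ * (k * b * k⁻¹) = k * b * k⁻¹ * (k * a * k⁻¹)
    rw [← hconjm, ← hconjm, h.eq]
  -- the centre has exponent two
  have hsqpow : ∀ {a : G}, a * a = 1 → a⁻¹ = a := fun h => inv_eq_of_mul_eq_one_left h
  have hZ2 : ∀ w ∈ Z, w * w = 1 := by
    intro w hw
    have hwF := ((hZ w).1 hw).1
    have key : ∀ s : G, s * s = 1 → (s * w) ^ 4 = 1 → s * (w * w) * s⁻¹ = (w * w)⁻¹ := by
      intro s hs h4
      have hwc : Commute (s * w * s⁻¹) w :=
        (((hZ w).1 hw).2 _ (hn.conj_mem _ hwF s)).symm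
      have e1 : (s * w) ^ 2 = (s * w * s⁻¹) * w := by
        rw [sq, hsqpow hs]; simp only [mul_assoc]
      have e2 : (s * w) ^ 4 = (s * (w * w) * s⁻¹) * (w * w) := by
        rw [show (4 : ℕ) = 2 + 2 from rfl, pow_add, e1, hconjm]
        calc s * w * s⁻¹ * w * (s * w * s⁻¹ * w) = s * w * s⁻¹ * (w * (s * w * s⁻¹)) * w := by group
          _ = _ := by rw [← hwc.eq]; group
      exact eq_inv_of_mul_eq_one_left (e2.symm.trans h4)
    have hts : t * y * (t * y) = 1 := by
      calc t * y * (t * y) = (t * y * t⁻¹) * y := by rw [htinv]; group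
        _ = 1 := by rw [hinv, inv_mul_cancel]
    have h1 := key t ht (ht4 w hwF)
    have h2 := key (t * y) hts (hty4 w hwF)
    have h3 : y * (w * w) * y⁻¹ = w * w := by
      have h4 : t * (y * (w * w) * y⁻¹) * t⁻¹ = t * (w * w) * t⁻¹ := by
        rw [h1, ← h2]; group
      exact mul_left_cancel (mul_right_cancel h4)
    exact hfpf _ (mul_mem hwF hwF) (mul_inv_eq_iff_eq_mul.1 h3)
  have hsq : ∀ u ∈ F, u * u ∈ Z := by
    intro u hu
    refine (hZ _).2 ⟨mul_mem hu hu, fun f hf => ?_⟩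
    have hc : ⁅u, f⁆ ∈ Z := (hZ _).2 ⟨by
      rw [commutatorElement_def]
      exact mul_mem (hn.conj_mem _ hf u) (inv_mem hf),
      fun g hg => commutatorElement_eq_one_iff_commute.1 (htri u hu f hf g hg)⟩
    set k := ⁅u, f⁆ with hk
    have e : u * f = k * (f * u) := by rw [hk, commutatorElement_def]; group
    have ek : Commute u k := (((hZ k).1 hc).2 u hu).symm
    show u * u * f = f * (u * u)
    calc u * u * f = u * (k * (f * u)) := by rw [mul_assoc, e]
      _ = k * (u * f) * u := by rw [← mul_assoc, ek.eq]; group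
      _ = (k * k) * (f * (u * u)) := by rw [e]; group
      _ = f * (u * u) := by rw [hZ2 k hc, one_mul]
  -- elements fixed by `t` modulo the centre
  let U : Set G := {u | u ∈ F ∧ u⁻¹ * (t * u * t⁻¹) ∈ Z}
  have hZU : ∀ z ∈ Z, z ∈ U := fun z hz =>
    ⟨((hZ z).1 hz).1, mul_mem (inv_mem hz) (hZn.conj_mem _ hz t)⟩
  have hU2 : ∀ u ∈ U, u * u = 1 := by
    rintro u ⟨huF, huz⟩
    set z := u⁻¹ * (t * u * t⁻¹) with hzdef
    set f := y * u * y⁻¹ with hfdef
    have hfF : f ∈ F := hn.conj_mem _ huF y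
    have hz' : y⁻¹ * z * y⁻¹⁻¹ ∈ Z := hZn.conj_mem _ huz y⁻¹
    set z' := y⁻¹ * z * y⁻¹⁻¹ with hz'def
    obtain ⟨hc1, hc2, hprod⟩ := hrel u huF
    have e1 : t * f * t⁻¹ = y⁻¹ * u * y * z' := by
      rw [hfdef, hz'def, hzdef]
      calc t * (y * u * y⁻¹) * t⁻¹ = (t * y * t⁻¹) * (t * u * t⁻¹) * (t * y * t⁻¹)⁻¹ := by group
        _ = _ := by rw [hinv]; group
    have hgF : y⁻¹ * u * y ∈ F := by simpa using hn.conj_mem _ huF y⁻¹
    have e2 : (t * f) ^ 2 = u⁻¹ * z' := by
      have hzf : Commute z' f := ((hZ _).1 hz').2 f hfF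
      have hfg : Commute f (y⁻¹ * u * y) := by
        have h := hconjc y⁻¹ (hrel f hfF).2.1
        rw [hfdef] at h ⊢
        have h5 : y⁻¹ * u * y = y⁻¹ * (y⁻¹ * (y * u * y⁻¹) * y) * y⁻¹⁻¹ := by group
        have h6 : y * u * y⁻¹ = y * u * y⁻¹ := rfl
        have h7 : Commute u (y⁻¹ * u * y) := hc2
        have h8 : (y * u * y⁻¹) = u⁻¹ * (y⁻¹ * u * y)⁻¹ := by rw [← hprod]; group
        rw [h8]
        exact (h7.inv_left).mul_left ((Commute.refl _).inv_left)
      calc (t * f) ^ 2 = (t * f * t⁻¹) * f := by rw [sq, htinv]; group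
        _ = y⁻¹ * u * y * (z' * f) := by rw [e1]; group
        _ = f * (y⁻¹ * u * y) * z' := by rw [hzf.eq, ← mul_assoc, hfg.eq]
        _ = u⁻¹ * z' := by rw [hfdef, hprod]
    have h4 := ht4 f hfF
    rw [show (4 : ℕ) = 2 + 2 from rfl, pow_add, e2] at h4
    have hzu : Commute z' u⁻¹ := (((hZ _).1 hz').2 u huF).inv_right
    have h5 : u⁻¹ * u⁻¹ * (z' * z') = 1 := by
      rw [← h4]
      calc u⁻¹ * u⁻¹ * (z' * z') = u⁻¹ * (u⁻¹ * z') * z' := by group
        _ = u⁻¹ * (z' * u⁻¹) * z' := by rw [hzu.eq]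
        _ = _ := by group
    rw [hZ2 z' hz', mul_one, ← mul_inv_rev, inv_eq_one] at h5
    exact h5
  have hUmul : ∀ u ∈ U, ∀ v ∈ U, u * v ∈ U := by
    rintro u ⟨hu, hu'⟩ v ⟨hv, hv'⟩
    refine ⟨mul_mem hu hv, ?_⟩
    have e : (u * v)⁻¹ * (t * (u * v) * t⁻¹) = (v⁻¹ * (u⁻¹ * (t * u * t⁻¹)) * v⁻¹⁻¹) * (v⁻¹ * (t * v * t⁻¹)) := by
      group
    rw [e]
    exact mul_mem (hZn.conj_mem _ hu' _) hv'
  have hUc : ∀ u ∈ U, ∀ v ∈ U, Commute u v := by
    intro u hu v hv
    have h1 := hsqpow (hU2 _ (hUmul u hu v hv))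
    rw [mul_inv_rev, hsqpow (hU2 _ hu), hsqpow (hU2 _ hv)] at h1
    exact h1.symm
  -- `U` commutes with its conjugate by `y`
  have hB : ∀ u ∈ U, ∀ w ∈ U, Commute u (y * w * y⁻¹) := by
    have hBt : ∀ u ∈ U, ∀ w ∈ U, t * ⁅u, y * w * y⁻¹⁆ * t⁻¹ = ⁅u, y * w * y⁻¹⁆ := by
      intro u hu w hw
      have hwF := hw.1
      set f := y * w * y⁻¹ with hfdef
      have hfF : f ∈ F := hn.conj_mem _ hwF y
      set z₁ := u⁻¹ * (t * u * t⁻¹) with hz1
      set z₂ := w⁻¹ * (t * w * t⁻¹) with hz2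
      have hz2' : y⁻¹ * z₂ * y⁻¹⁻¹ ∈ Z := hZn.conj_mem _ hw.2 y⁻¹
      set z₃ := y⁻¹ * z₂ * y⁻¹⁻¹ with hz3
      have e1 : t * u * t⁻¹ = u * z₁ := by rw [hz1]; group
      have e2 : t * f * t⁻¹ = f⁻¹ * w⁻¹ * z₃ := by
        obtain ⟨-, -, hprod⟩ := hrel w hwF
        calc t * f * t⁻¹ = (t * y * t⁻¹) * (t * w * t⁻¹) * (t * y * t⁻¹)⁻¹ := by rw [hfdef]; group
          _ = (y⁻¹ * w * y) * z₃ := by rw [hinv, hz3, hz2]; group
          _ = f⁻¹ * w⁻¹ * z₃ := by rw [hfdef, ← hprod]; group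
      have hwi : w⁻¹ = w := hsqpow (hU2 w hw)
      have hfi : f⁻¹ = f := by rw [hfdef]; rw [mul_inv_rev, mul_inv_rev, inv_inv, hwi, mul_assoc]
      rw [hwi, hfi] at e2
      have hcu : Commute u w := hUc u hu w hw
      have hz1c : ∀ g ∈ F, Commute z₁ g := ((hZ _).1 hu.2).2
      have hz3c : ∀ g ∈ F, Commute z₃ g := ((hZ _).1 hz2').2
      have e3 : t * ⁅u, f⁆ * t⁻¹ = ⁅u * z₁, f * w * z₃⁆ := by
        rw [← e1, ← e2, commutatorElement_def, commutatorElement_def]; group
      have hstrip : ∀ a ∈ F, ∀ b ∈ F, ∀ z z' : G, (∀ g ∈ F, Commute z g) → (∀ g ∈ F, Commute z' g) →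
          Commute z z' → ⁅a * z, b * z'⁆ = ⁅a, b⁆ := by
        intro a ha b hb z z' hz hz' hzz
        rw [commutatorElement_def, commutatorElement_def]
        calc a * z * (b * z') * (a * z)⁻¹ * (b * z')⁻¹
            = a * (z * b) * z' * z⁻¹ * a⁻¹ * z'⁻¹ * b⁻¹ := by group
          _ = a * b * (z * z') * z⁻¹ * a⁻¹ * z'⁻¹ * b⁻¹ := by rw [(hz b hb).eq]; group
          _ = a * b * (z' * a⁻¹) * z'⁻¹ * b⁻¹ := by rw [hzz.eq]; group
          _ = a * b * a⁻¹ * b⁻¹ := by rw [(hz' _ (inv_mem ha)).eq]; group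
      rw [e3, hstrip u hu.1 (f * w) (mul_mem hfF hwF) z₁ z₃ hz1c hz3c (hz1c z₃ ((hZ _).1 hz2').1)]
      rw [commutatorElement_def, commutatorElement_def, mul_inv_rev]
      calc u * (f * w) * u⁻¹ * (w⁻¹ * f⁻¹) = u * f * (w * u⁻¹) * w⁻¹ * f⁻¹ := by group
        _ = u * f * u⁻¹ * f⁻¹ := by rw [← hcu.inv_left.eq]; group
    intro u hu w hw
    rw [← commutatorElement_eq_one_iff_commute]
    set b := ⁅u, y * w * y⁻¹⁆ with hbdef
    have hbF : b ∈ F := by
      rw [hbdef, commutatorElement_def]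
      exact mul_mem (hn.conj_mem _ (hn.conj_mem _ hw.1 y) u) (inv_mem (hn.conj_mem _ hw.1 y))
    have hbZ : b ∈ Z := (hZ _).2 ⟨hbF,
      fun g hg => commutatorElement_eq_one_iff_commute.1 (htri u hu.1 _ (hn.conj_mem _ hw.1 y) g hg)⟩
    have hb2 : b⁻¹ = b := hsqpow (hZ2 b hbZ)
    -- `y b y⁻¹ = [w, y u y⁻¹]`
    have hyb : y * b * y⁻¹ = ⁅w, y * u * y⁻¹⁆ := by
      obtain ⟨-, -, hprod⟩ := hrel w hw.1
      have hwi : w⁻¹ = w := hsqpow (hU2 w hw)
      set p := y * u * y⁻¹ with hp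
      set f := y * w * y⁻¹ with hf
      have e2 : y * f * y⁻¹ = f * w := by
        have h5 : y * (y * w * y⁻¹) * y⁻¹ = y⁻¹ * w * y := by
          have hy2 : y⁻¹ = y * y := inv_eq_of_mul_eq_one_left (by rw [← sq, ← pow_succ]; exact hy)
          have hyy : y⁻¹ * y⁻¹ = y := by rw [← mul_inv_rev, ← hy2, inv_inv]
          calc y * (y * w * y⁻¹) * y⁻¹ = (y * y) * w * (y⁻¹ * y⁻¹) := by group
            _ = _ := by rw [← hy2, hyy]
        rw [hf, h5]
        have h6 : y⁻¹ * w * y = (y * w * y⁻¹)⁻¹ * w⁻¹ := eq_inv_mul_iff_mul_eq.2 hprod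
        have h7 : (y * w * y⁻¹)⁻¹ = y * w * y⁻¹ := by
          rw [mul_inv_rev, mul_inv_rev, inv_inv, hwi, mul_assoc]
        rw [h6, h7, hwi]
      have hpf : Commute p f := hconjc y (hUc u hu w hw)
      have hpw : ⁅p, w⁆ = ⁅w, p⁆ := by
        rw [← commutatorElement_inv w p]
        refine hsqpow (hZ2 _ ((hZ _).2 ⟨?_, fun g hg => commutatorElement_eq_one_iff_commute.1
          (htri w hw.1 p (hn.conj_mem _ hu.1 y) g hg)⟩))
        rw [commutatorElement_def]
        exact mul_mem (hn.conj_mem _ (hn.conj_mem _ hu.1 y) w) (inv_mem (hn.conj_mem _ hu.1 y))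
      rw [hbdef, commutatorElement_def, hconjm, hconjm, hconjm, ← hpw, commutatorElement_def]
      have hcw : Commute f (p * w * p⁻¹ * w⁻¹) := by
        rw [← commutatorElement_def]
        exact (commutatorElement_eq_one_iff_commute.1
          (htri p (hn.conj_mem _ hu.1 y) w hw.1 f (hn.conj_mem _ hw.1 y))).symm
      calc p * (y * f * y⁻¹) * (y * u⁻¹ * y⁻¹) * (y * f⁻¹ * y⁻¹)
          = p * (f * w) * p⁻¹ * (y * f * y⁻¹)⁻¹ := by
            rw [show y * f⁻¹ * y⁻¹ = (y * f * y⁻¹)⁻¹ by group, e2, hp]; group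
        _ = f * (p * w * p⁻¹ * w⁻¹) * f⁻¹ := by rw [e2, ← mul_assoc p f w, hpf.eq]; group
        _ = _ := by rw [hcw.eq]; group
    have h1 : t * b * t⁻¹ = b := hBt u hu w hw
    have h2 : t * (y * b * y⁻¹) * t⁻¹ = y * b * y⁻¹ := by rw [hyb]; exact hBt w hw u hu
    refine hfpf b hbF ?_
    have h3 : y⁻¹ * b * y = y * b * y⁻¹ := by
      rw [← h2]
      calc y⁻¹ * b * y = (t * y * t⁻¹) * (t * b * t⁻¹) * (t * y * t⁻¹)⁻¹ := by rw [hinv, h1]; group
        _ = _ := by group
    -- hence `y²` and so `y` centralises `b`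
    have hy2 : y⁻¹ = y * y := inv_eq_of_mul_eq_one_left (by rw [← sq, ← pow_succ]; exact hy)
    have hyy : y⁻¹ * y⁻¹ = y := by rw [← mul_inv_rev, ← hy2, inv_inv]
    have h4 : y * b * y⁻¹ = b := by
      calc y * b * y⁻¹ = y⁻¹ * b * y := h3.symm
        _ = (y * y) * b * (y⁻¹ * y⁻¹) := by rw [← hy2, hyy]
        _ = y * (y * b * y⁻¹) * y⁻¹ := by group
        _ = y * (y⁻¹ * b * y) * y⁻¹ := by rw [h3]
        _ = b := by group
    exact mul_inv_eq_iff_eq_mul.1 h4
  -- generation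
  let S : Set G := U ∪ (fun u => y * u * y⁻¹) '' U
  have hScomm : ∀ a ∈ S, ∀ b ∈ S, Commute a b := by
    rintro a (ha | ⟨a', ha', rfl⟩) b (hb | ⟨b', hb', rfl⟩)
    · exact hUc a ha b hb
    · exact hB a ha b' hb'
    · exact (hB b hb a' ha').symm
    · exact hconjc y (hUc a' ha' b' hb')
  have hS2 : ∀ a ∈ S, a * a = 1 := by
    rintro a (ha | ⟨a', ha', rfl⟩)
    · exact hU2 a ha
    · show y * a' * y⁻¹ * (y * a' * y⁻¹) = 1
      rw [← hconjm, hU2 a' ha', mul_one, mul_inv_cancel]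
  have hgen : F ≤ Subgroup.closure S := by
    intro f hf
    let π : G →* G ⧸ Z := QuotientGroup.mk' Z
    have hπc : ∀ a ∈ F, ∀ b ∈ F, Commute (π a) (π b) := fun a ha b hb => by
      refine commutatorElement_eq_one_iff_commute.1 ?_
      rw [← map_commutatorElement]
      refine (QuotientGroup.eq_one_iff _).2 ((hZ _).2 ⟨?_, fun g hg =>
        commutatorElement_eq_one_iff_commute.1 (htri a ha b hb g hg)⟩)
      rw [commutatorElement_def]
      exact mul_mem (hn.conj_mem _ hb a) (inv_mem hb)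
    -- `v x = x · t x t⁻¹` lies in `U`
    have hv : ∀ x ∈ F, x * (t * x * t⁻¹) ∈ U := by
      intro x hx
      refine ⟨mul_mem hx (hn.conj_mem _ hx t), ?_⟩
      rw [show (x * (t * x * t⁻¹))⁻¹ * (t * (x * (t * x * t⁻¹)) * t⁻¹) =
        (t * x * t⁻¹)⁻¹ * x⁻¹ * (t * x * t⁻¹) * ((t * t) * x * (t * t)⁻¹) by group, ht, one_mul, inv_one,
        mul_one]
      refine (QuotientGroup.eq_one_iff _).1 ?_
      show π ((t * x * t⁻¹)⁻¹ * x⁻¹ * (t * x * t⁻¹) * x) = 1
      simp only [map_mul π, map_inv π]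
      rw [show π t * π x * (π t)⁻¹ = π (t * x * t⁻¹) by simp]
      rw [mul_assoc, mul_assoc, (hπc _ (hn.conj_mem _ hx t) _ hx).eq]
      group
    have hyS : ∀ u ∈ U, ∀ k : ℕ, k ≤ 2 → y ^ k * u * (y ^ k)⁻¹ ∈ Subgroup.closure S := by
      intro u hu k hk
      rcases (show k = 0 ∨ k = 1 ∨ k = 2 by omega) with rfl | rfl | rfl
      · rw [pow_zero, one_mul, inv_one, mul_one]; exact Subgroup.subset_closure (Or.inl hu)
      · rw [pow_one]; exact Subgroup.subset_closure (Or.inr ⟨u, hu, rfl⟩)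
      · obtain ⟨-, -, hprod⟩ := hrel u hu.1
        have hy2 : y⁻¹ = y ^ 2 := inv_eq_of_mul_eq_one_left (by rw [← pow_succ]; exact hy)
        rw [← hy2, inv_inv, show y⁻¹ * u * y = (y * u * y⁻¹)⁻¹ * u⁻¹ by rw [← hprod]; group]
        exact mul_mem (inv_mem (Subgroup.subset_closure (Or.inr ⟨u, hu, rfl⟩)))
          (inv_mem (Subgroup.subset_closure (Or.inl hu)))
    have hx : ∀ k : G, k⁻¹ * f * k⁻¹⁻¹ ∈ F := fun k => hn.conj_mem _ hf k⁻¹
    let v : G → G := fun k => k * ((k⁻¹ * f * k⁻¹⁻¹) * (t * (k⁻¹ * f * k⁻¹⁻¹) * t⁻¹)) * k⁻¹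
    have hvk : ∀ k : ℕ, k ≤ 2 → v (y ^ k) ∈ Subgroup.closure S := fun k hk =>
      hyS _ (hv _ (hx _)) k hk
    -- `v k = f · (k t k⁻¹) f (k t k⁻¹)⁻¹`
    have hvform : ∀ k, v k = f * ((k * t * k⁻¹) * f * (k * t * k⁻¹)⁻¹) := fun k => by
      show k * _ * k⁻¹ = _
      group
    have hy2 : y⁻¹ = y ^ 2 := inv_eq_of_mul_eq_one_left (by rw [← pow_succ]; exact hy)
    have hkt : ∀ k : G, t * k * t⁻¹ = k⁻¹ → k * t * k⁻¹ = t * (k⁻¹ * k⁻¹) := fun k hk => by
      calc k * t * k⁻¹ = t * (t⁻¹ * k * t) * k⁻¹ := by group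
        _ = t * (t * k * t⁻¹) * k⁻¹ := by rw [htinv]
        _ = _ := by rw [hk, mul_assoc]
    have hy' : t * y⁻¹ * t⁻¹ = y⁻¹⁻¹ := by
      calc t * y⁻¹ * t⁻¹ = (t * y * t⁻¹)⁻¹ := by group
        _ = _ := by rw [hinv]
    have ev : ∀ k, π (v k) = π f * π ((k * t * k⁻¹) * f * (k * t * k⁻¹)⁻¹) := fun k => by
      rw [hvform, map_mul]
    set A0 := t * f * t⁻¹ with hA0
    set A1 := y⁻¹⁻¹ * t * y⁻¹ * f * (y⁻¹⁻¹ * t * y⁻¹)⁻¹ with hA1
    set A2 := y⁻¹ * t * y⁻¹⁻¹ * f * (y⁻¹ * t * y⁻¹⁻¹)⁻¹ with hA2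
    have hprodA : A0 * A1 * A2 = 1 := by
      obtain ⟨hc1, hc2, hprod⟩ := hrel f hf
      have hyy : y⁻¹ * y⁻¹ = y := by rw [← mul_inv_rev, ← sq, ← hy2, inv_inv]
      have hyy' : y * y = y⁻¹ := by rw [hy2, sq]
      have e1 : A1 = t * (y * f * y⁻¹) * t⁻¹ := by
        rw [hA1, inv_inv, hkt y hinv, hyy]; group
      have e2 : A2 = t * (y⁻¹ * f * y) * t⁻¹ := by
        rw [hA2, hkt y⁻¹ hy', inv_inv, hyy']; group
      rw [e1, e2, hA0, ← hconjm, ← hconjm, mul_assoc f, hprod, mul_inv_cancel, mul_one, mul_inv_cancel]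
    have hF0 : A0 ∈ F := hn.conj_mem _ hf t
    have hF1 : A1 ∈ F := hn.conj_mem _ hf _
    have hF2 : A2 ∈ F := hn.conj_mem _ hf _
    set P := v (y ^ 0) * v (y ^ 1) * v (y ^ 2) with hP
    have hPcl : P ∈ Subgroup.closure S :=
      mul_mem (mul_mem (hvk 0 (by norm_num)) (hvk 1 (by norm_num))) (hvk 2 le_rfl)
    have hπP : π P = π f := by
      have e0 : π (v (y ^ 0)) = π f * π A0 := by rw [ev]; simp [hA0]
      have e1 : π (v (y ^ 1)) = π f * π A1 := by rw [ev, hA1, inv_inv, pow_one]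
      have e2 : π (v (y ^ 2)) = π f * π A2 := by rw [ev, hA2, ← hy2]
      rw [hP, map_mul, map_mul, e0, e1, e2]
      have hff : π f * π f = 1 := by rw [← map_mul]; exact (QuotientGroup.eq_one_iff _).2 (hsq f hf)
      have c0 : Commute (π f) (π A0) := hπc f hf _ hF0
      have c01 : Commute (π f) (π A0 * π A1) := c0.mul_right (hπc f hf _ hF1)
      calc π f * π A0 * (π f * π A1) * (π f * π A2)
          = π f * (π A0 * π f) * (π A1 * π f) * π A2 := by group
        _ = (π f * π f) * (π A0 * π A1 * π f) * π A2 := by rw [← c0.eq]; group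
        _ = π f * (π A0 * π A1 * π A2) := by rw [hff, one_mul, ← c01.eq]; group
        _ = π f := by rw [← map_mul, ← map_mul, hprodA, map_one, mul_one]
    have hz : P⁻¹ * f ∈ Z := QuotientGroup.eq.1 hπP
    have : f = P * (P⁻¹ * f) := by group
    rw [this]
    exact mul_mem hPcl (Subgroup.subset_closure (Or.inl (hZU _ hz)))
  have hcc : ∀ a ∈ Subgroup.closure S, ∀ b ∈ Subgroup.closure S, Commute a b := by
    have hle : Subgroup.closure S ≤ Subgroup.centralizer (S : Set G) :=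
      (Subgroup.closure_le _).2 fun a ha => Subgroup.mem_centralizer_iff.2 fun b hb => (hScomm b hb a ha).eq
    intro a ha b hb
    have hle2 : Subgroup.closure S ≤ Subgroup.centralizer (Subgroup.closure S : Set G) :=
      (Subgroup.closure_le _).2 fun c hc => Subgroup.mem_centralizer_iff.2 fun d hd =>
        ((Subgroup.mem_centralizer_iff.1 (hle hd)) c hc).symm
    exact ((Subgroup.mem_centralizer_iff.1 (hle2 hb)) a ha)
  refine ⟨⟨⟨fun a b => Subtype.ext (hcc _ (hgen a.2) _ (hgen b.2)).eq⟩⟩, fun f hf => ?_⟩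
  rw [sq]
  have hfS := hgen hf
  clear hf
  induction hfS using Subgroup.closure_induction with
  | mem x hx => exact hS2 x hx
  | one => exact mul_one 1
  | mul x y hx hy ihx ihy =>
    rw [mul_assoc, ← mul_assoc y, (hcc y hy x hx).eq, mul_assoc x y y, ihy, mul_one, ihx]
  | inv x hx ih => rw [← mul_inv_rev, ih, inv_one]

/-- A group of order six with a non-central involution is symmetric of degree three. -/
theorem perm_three_of_card_six (hG : Nat.card G = 6) {y t : G} (ht : orderOf t = 2) (hy : y * t ≠ t * y) :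
    Nonempty (G ≃* Equiv.Perm (Fin 3)) := by
  have : Finite G := Nat.finite_of_card_ne_zero (by rw [hG]; norm_num)
  set H := Subgroup.zpowers t
  have hH : Nat.card H = 2 := by rw [Nat.card_zpowers, ht]
  have hq : Nat.card (G ⧸ H) = 3 := by
    have h := Subgroup.card_eq_card_quotient_mul_card_subgroup H
    rw [hG, hH] at h; omega
  have hmem : ∀ g ∈ H, g = 1 ∨ g = t := by
    intro g hg
    obtain ⟨n, hn⟩ := Subgroup.mem_zpowers_iff.1 hg
    rw [← zpow_mod_orderOf, ht] at hn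
    rcases Int.emod_two_eq_zero_or_one n with h | h <;> rw [show ((2 : ℕ) : ℤ) = 2 from rfl, h] at hn
    · exact Or.inl (by rw [← hn, zpow_zero])
    · exact Or.inr (by rw [← hn, zpow_one])
  have hker : Function.Injective (MulAction.toPermHom G (G ⧸ H)) := by
    rw [← MonoidHom.ker_eq_bot_iff, ← Subgroup.normalCore_eq_ker, eq_bot_iff]
    intro g hg
    rcases hmem g (H.normalCore_le hg) with h | h
    · exact Subgroup.mem_bot.2 h
    · subst h
      exfalso
      rcases hmem _ (H.normalCore_le ((H.normalCore_normal).conj_mem _ hg y)) with h | h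
      · rw [mul_inv_eq_one] at h
        have h' : g = 1 := mul_eq_left.1 h
        rw [h', orderOf_one] at ht
        omega
      · exact hy (mul_inv_eq_iff_eq_mul.1 h)
  have hbij : Function.Bijective (MulAction.toPermHom G (G ⧸ H)) := by
    rw [Nat.bijective_iff_injective_and_card, Nat.card_perm, hq, hG]
    exact ⟨hker, rfl⟩
  exact ⟨(MulEquiv.ofBijective _ hbij).trans (Finite.equivFinOfCardEq hq).permCongrHom⟩

theorem orders_one_to_four [Finite G] (h : Set.range (orderOf : G → ℕ) = {k : ℕ | 1 ≤ k ∧ k ≤ 4}) :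
    ∃ (N : Subgroup G) (_ : N.Normal),
      (IsPGroup 2 ↥N ∧ Monoid.exponent ↥N = 4 ∧ Group.nilpotencyClass ↥N ≤ 2 ∧ N.index = 3) ∨
      (Cfsg.IsElementaryAbelian 2 N ∧ Nonempty (G ⧸ N ≃* Equiv.Perm (Fin 3))) ∨
      (Cfsg.IsElementaryAbelian 3 N ∧ ((IsCyclic (G ⧸ N) ∧ N.index = 4) ∨ Nonempty (G ⧸ N ≃* QuaternionGroup 2))) := by
  have : Fact (Nat.Prime 2) := ⟨Nat.prime_two⟩
  have : Fact (Nat.Prime 3) := ⟨Nat.prime_three⟩
  have hle : ∀ g : G, 1 ≤ orderOf g ∧ orderOf g ≤ 4 := fun g => by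
    have : orderOf g ∈ Set.range (orderOf : G → ℕ) := ⟨g, rfl⟩
    rwa [h] at this
  have hex : ∀ k : ℕ, 1 ≤ k → k ≤ 4 → ∃ g : G, orderOf g = k := fun k h1 h2 => by
    have : k ∈ Set.range (orderOf : G → ℕ) := by rw [h]; exact ⟨h1, h2⟩
    exact this
  obtain ⟨t₀, ht₀⟩ := hex 2 (by norm_num) (by norm_num)
  obtain ⟨y₀, hy₀⟩ := hex 3 (by norm_num) (by norm_num)
  obtain ⟨x₀, hx₀⟩ := hex 4 (by norm_num) le_rfl
  have hsplit : ∀ g : G, orderOf g = 3 ∨ orderOf g ∣ 4 := fun g => by
    have := hle g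
    rcases (show orderOf g = 1 ∨ orderOf g = 2 ∨ orderOf g = 3 ∨ orderOf g = 4 by omega) with h1 | h1 | h1 | h1 <;>
      simp [h1]
  -- no commuting elements of orders `3` and `2` or `4`
  have hno : ∀ a b : G, orderOf b = 3 → Commute a b → orderOf a ∣ 4 → a = 1 := fun a b hb hc ha => by
    have h6 := hc.orderOf_mul_eq_mul_orderOf_of_coprime
      (by rw [hb]; exact (by decide : Nat.Coprime 4 3).coprime_dvd_left ha)
    have := (hle (a * b)).2
    rw [h6, hb] at this
    exact orderOf_eq_one_iff.1 (by have := (hle a).1; omega)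
  have hprimes : ∀ r : ℕ, r.Prime → r ∣ Nat.card G → r = 2 ∨ r = 3 := fun r hr hd => by
    have := Fact.mk hr
    obtain ⟨x, hx⟩ := exists_prime_orderOf_dvd_card' r hd
    have h4 := hx ▸ (hle x).2
    have := hr.two_le
    by_contra hc
    exact (by decide : ¬ Nat.Prime 4) ((show r = 4 by omega) ▸ hr)
  have hsol : Group.IsSolvable G := by
    refine Burnside.isSolvable_of_card_eq Nat.prime_two Nat.prime_three
      (a := (Nat.card G).factorization 2) (b := (Nat.card G).factorization 3) ?_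
    refine Nat.eq_of_factorization_eq Nat.card_pos.ne' (by positivity) fun r => ?_
    rw [Nat.factorization_mul (by positivity) (by positivity), Nat.Prime.factorization_pow Nat.prime_two,
      Nat.Prime.factorization_pow Nat.prime_three, Finsupp.add_apply]
    by_cases hr : r.Prime ∧ r ∣ Nat.card G
    · rcases hprimes r hr.1 hr.2 with rfl | rfl <;> simp
    · have h0 : (Nat.card G).factorization r = 0 := by
        rw [not_and_or] at hr
        rcases hr with hr | hr
        · exact Nat.factorization_eq_zero_of_not_prime _ hr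
        · exact Nat.factorization_eq_zero_of_not_dvd hr
      have h2 : 2 ∣ Nat.card G := ht₀ ▸ orderOf_dvd_natCard t₀
      have h3 : 3 ∣ Nat.card G := hy₀ ▸ orderOf_dvd_natCard y₀
      have hr2 : r ≠ 2 := fun he => hr ⟨he ▸ Nat.prime_two, he ▸ h2⟩
      have hr3 : r ≠ 3 := fun he => hr ⟨he ▸ Nat.prime_three, he ▸ h3⟩
      rw [h0, Finsupp.single_eq_of_ne hr2, Finsupp.single_eq_of_ne hr3, add_zero]
  set F := Cfsg.fittingSubgroup G
  have hFn : F.Normal := Components.fitting_normal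
  have hFnil : Group.IsNilpotent F := Components.fitting_isNilpotent
  have hC : Subgroup.centralizer (F : Set G) ≤ F := Components.centralizer_fitting_le_of_isSolvable
  have hFne : F ≠ ⊥ := fun hb => by
    have h1 : t₀ ∈ F := hC (Subgroup.mem_centralizer_iff.2 fun y hy => by
      rw [SetLike.mem_coe, hb, Subgroup.mem_bot] at hy
      rw [hy, one_mul, mul_one])
    rw [hb, Subgroup.mem_bot] at h1
    rw [h1, orderOf_one] at ht₀
    omega
  have hcomm : ∀ a ∈ F, ∀ b ∈ F, (orderOf a).Coprime (orderOf b) → Commute a b := fun a ha b hb hco =>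
    congrArg Subtype.val (OddLocal.commute_of_coprime_orderOf hFnil (x := (⟨a, ha⟩ : F)) (y := ⟨b, hb⟩)
      (by rwa [Subgroup.orderOf_mk, Subgroup.orderOf_mk])).eq
  let π : G →* G ⧸ F := QuotientGroup.mk' F
  have hπd : ∀ g : G, orderOf (π g) ∣ orderOf g := fun g => orderOf_map_dvd π g
  have hπF : ∀ g : G, π g = 1 ↔ g ∈ F := fun g => QuotientGroup.eq_one_iff g
  by_cases h3F : ∃ f ∈ F, orderOf f = 3
  · -- `F` has exponent `3`
    obtain ⟨f₀, hf₀, hf₀3⟩ := h3F
    have hF3 : ∀ f ∈ F, f ^ 3 = 1 := fun f hf => by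
      rcases hsplit f with h1 | h1
      · rw [← h1, pow_orderOf_eq_one]
      · rw [hno f f₀ hf₀3 (hcomm f hf f₀ hf₀ (by
          rw [hf₀3]; exact (by decide : Nat.Coprime 4 3).coprime_dvd_left h1)) h1, one_pow]
    have hfpf : ∀ t : G, orderOf t = 2 → ∀ f ∈ F, Commute t f → f = 1 := fun t ht f hf hc => by
      by_contra hf1
      have h1 := hno t f (orderOf_eq_prime (hF3 f hf) hf1) hc (by rw [ht]; norm_num)
      rw [h1, orderOf_one] at ht
      omega
    have hinv := inverts_of_fpf_involution F ht₀ (hfpf t₀ ht₀)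
    have hel : Cfsg.IsElementaryAbelian 3 F := ⟨⟨⟨fun a b => Subtype.ext (by
      have ha := hinv a a.2
      have hb := hinv b b.2
      have hab := hinv _ (mul_mem a.2 b.2)
      have h1 : t₀ * ((a : G) * b) * t₀⁻¹ = (t₀ * a * t₀⁻¹) * (t₀ * b * t₀⁻¹) := by group
      rw [ha, hb, hab, mul_inv_rev] at h1
      show (a : G) * b = (b : G) * a
      have h2 := congrArg (·⁻¹) h1
      simp only [mul_inv_rev, inv_inv] at h2
      exact h2)⟩⟩, hF3⟩
    refine ⟨F, hFn, Or.inr (Or.inr ⟨hel, ?_⟩)⟩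
    -- every element outside `F` is a `2`-element
    have hall : ∀ g : G, orderOf (π g) ∣ 4 := by
      intro g
      rcases hsplit g with h1 | h1
      swap
      · exact (hπd g).trans h1
      by_cases hg : g ∈ F
      · rw [(hπF g).2 hg, orderOf_one]; exact one_dvd _
      exfalso
      have h2 : t₀⁻¹ * (g * t₀ * g⁻¹) ∈ F := involution_coset F hC hfpf ht₀ (by
        rw [show orderOf (g * t₀ * g⁻¹) = orderOf t₀ from
          orderOf_injective (MulAut.conj g).toMonoidHom (MulAut.conj g).injective t₀, ht₀])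
      set f := t₀⁻¹ * (g * t₀ * g⁻¹) with hf
      set a := f ^ 2 with ha
      have haF : a ∈ F := pow_mem h2 2
      have ha3 : a * a = f := by
        rw [ha, ← pow_add, show 2 + 2 = 3 + 1 by norm_num, pow_add, hF3 f h2, one_mul, pow_one]
      have h3 : a * (g * t₀ * g⁻¹) * a⁻¹ = t₀ := by
        have hia := hinv a haF
        have hg' : g * t₀ * g⁻¹ = t₀ * f := by rw [hf, mul_inv_cancel_left]
        have h4 : a * t₀ = t₀ * a⁻¹ := by
          have ht2 : t₀ * t₀ = 1 := by rw [← sq, ← ht₀, pow_orderOf_eq_one]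
          calc a * t₀ = (t₀ * t₀) * a * t₀ := by rw [ht2, one_mul]
            _ = t₀ * (t₀ * a * t₀⁻¹) := by rw [inv_eq_of_mul_eq_one_left ht2]; group
            _ = t₀ * a⁻¹ := by rw [hia]
        rw [hg', ← mul_assoc, h4, mul_assoc t₀, mul_assoc t₀, ← ha3]
        group
      have hn : Commute t₀ (a * g) := by
        show t₀ * (a * g) = a * g * t₀
        conv_lhs => rw [← h3]
        group
      have hag : π (a * g) = π g := by rw [map_mul, (hπF a).2 haF, one_mul]
      rcases hsplit (a * g) with h5 | h5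
      · have h6 := hno t₀ (a * g) h5 hn (by rw [ht₀]; norm_num)
        rw [h6, orderOf_one] at ht₀
        omega
      · exact hg ((hπF g).1 (orderOf_eq_one_iff.1 (Nat.eq_one_of_dvd_coprimes (by decide : Nat.Coprime 3 4)
          (h1 ▸ hπd g) ((hag ▸ hπd (a * g)).trans h5))))
    -- the quotient is a Sylow `2`-subgroup
    have hq2 : IsPGroup 2 (G ⧸ F) := fun z => by
      induction z using QuotientGroup.induction_on with
      | H g => exact ⟨2, orderOf_dvd_iff_pow_eq_one.1 (hall g)⟩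
    obtain ⟨T⟩ : Nonempty (Sylow 2 G) := inferInstance
    obtain ⟨j, hj⟩ := IsPGroup.iff_card.1 hq2
    obtain ⟨i, hi⟩ : ∃ i, Nat.card F = 3 ^ i := IsPGroup.iff_card.1 fun f =>
      ⟨1, Subtype.ext (by rw [pow_one]; exact hF3 f f.2)⟩
    obtain ⟨k, hk⟩ := T.isPGroup'.exists_card_eq
    have hTF : ∀ g : G, g ∈ (T : Subgroup G) → g ∈ F → g = 1 := fun g hgT hgF =>
      orderOf_eq_one_iff.1 (Nat.eq_one_of_dvd_coprimes ((by decide : Nat.Coprime 2 3).pow k i)
        (hk ▸ Subgroup.orderOf_dvd_natCard _ hgT) (hi ▸ Subgroup.orderOf_dvd_natCard _ hgF))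
    have hinj : Function.Injective (π.comp (T : Subgroup G).subtype) := by
      rw [injective_iff_map_eq_one]
      exact fun g hg => Subtype.ext (hTF g g.2 ((hπF _).1 hg))
    have hcards : Nat.card (G ⧸ F) = Nat.card T := by
      refine Nat.dvd_antisymm ?_ (Subgroup.card_dvd_of_injective _ hinj)
      have h1 : Nat.card (G ⧸ F) ∣ Nat.card (T : Subgroup G) * (T : Subgroup G).index := by
        rw [Subgroup.card_mul_index, ← Subgroup.index_eq_card]; exact F.index_dvd_card
      refine Nat.Coprime.dvd_of_dvd_mul_right ?_ h1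
      rw [hj]
      exact ((Nat.prime_two.coprime_iff_not_dvd.2 T.not_dvd_index)).pow_left j
    have hbij : Function.Bijective (π.comp (T : Subgroup G).subtype) :=
      (Nat.bijective_iff_injective_and_card _).2 ⟨hinj, hcards.symm⟩
    let e : (T : Subgroup G) ≃* G ⧸ F := MulEquiv.ofBijective _ hbij
    have huniq : ∀ H K : Subgroup (T : Subgroup G), Nat.card H = 2 → Nat.card K = 2 → H = K := by
      intro H K hH hK
      have key : ∀ A : Subgroup (T : Subgroup G), Nat.card A = 2 →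
          ∃ a ∈ A, orderOf (a : G) = 2 ∧ Subgroup.zpowers a = A := by
        intro A hA
        obtain ⟨a, ha⟩ := exists_prime_orderOf_dvd_card' (G := A) 2 (by rw [hA])
        refine ⟨a, a.2, by rw [Subgroup.orderOf_coe, Subgroup.orderOf_coe, ha], ?_⟩
        exact Subgroup.eq_of_le_of_card_ge (Subgroup.zpowers_le.2 a.2)
          (by rw [hA, Nat.card_zpowers, Subgroup.orderOf_coe, ha])
      obtain ⟨a, -, ha2, rfl⟩ := key H hH
      obtain ⟨b, -, hb2, rfl⟩ := key K hK
      have h1 := hTF _ (mul_mem (inv_mem a.2) b.2) (involution_coset F hC hfpf ha2 hb2)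
      rw [inv_mul_eq_one] at h1
      rw [Subtype.ext h1]
    obtain ⟨x, hx⟩ : ∃ x : G ⧸ F, orderOf x = 4 := by
      refine ⟨π x₀, orderOf_eq_prime_pow (p := 2) (n := 1) ?_ (by rw [← map_pow, show 2 ^ (1 + 1) = orderOf x₀ by rw [hx₀]; norm_num, pow_orderOf_eq_one, map_one])⟩
      rw [← map_pow, pow_one, hπF]
      intro hmem
      have h2 : orderOf (x₀ ^ 2) = 2 := by rw [orderOf_pow, hx₀]; decide
      have h3 := hF3 _ hmem
      have h4 := orderOf_dvd_of_pow_eq_one h3
      rw [h2] at h4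
      omega
    have hexp : ∀ g : G ⧸ F, orderOf g ∣ 4 := fun g => by
      induction g using QuotientGroup.induction_on with
      | H g => exact hall g
    rcases Core.UniqueOrderP.isCyclic_or_quaternion_of_unique T.isPGroup' huniq with hc | ⟨-, n, ⟨eq⟩⟩
    · have hcq : IsCyclic (G ⧸ F) := isCyclic_of_surjective e e.surjective
      refine Or.inl ⟨hcq, ?_⟩
      obtain ⟨g, hg⟩ := hcq.exists_generator
      rw [Subgroup.index_eq_card]
      refine Nat.dvd_antisymm ?_ (hx ▸ orderOf_dvd_natCard x)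
      rw [← orderOf_eq_card_of_forall_mem_zpowers hg]
      exact hexp g
    · rcases n with _ | _ | n
      · have hc1 : IsCyclic (QuaternionGroup (2 ^ 0)) := QuaternionGroup.quaternionGroup_one_isCyclic
        have hcq : IsCyclic (G ⧸ F) := isCyclic_of_surjective (eq.symm.trans e) (eq.symm.trans e).surjective
        refine Or.inl ⟨hcq, ?_⟩
        rw [Subgroup.index_eq_card, ← Nat.card_congr (eq.symm.trans e).toEquiv, Nat.card_eq_fintype_card,
          QuaternionGroup.card]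
        norm_num
      · exact Or.inr ⟨e.symm.trans eq⟩
      · exfalso
        have h1 := hexp (e (eq.symm (QuaternionGroup.a 1)))
        rw [MulEquiv.orderOf_eq, MulEquiv.orderOf_eq, QuaternionGroup.orderOf_a_one] at h1
        have h2 := Nat.le_of_dvd (by norm_num) h1
        have h3 : 2 ^ 2 ≤ 2 ^ (n + 1 + 1) := Nat.pow_le_pow_right (by norm_num) (by omega)
        omega
  · -- `F` is a `2`-group
    push Not at h3F
    have hF4 : ∀ f ∈ F, f ^ 4 = 1 := fun f hf =>
      orderOf_dvd_iff_pow_eq_one.1 ((hsplit f).resolve_left (h3F f hf))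
    have hFp : IsPGroup 2 F := fun f => ⟨2, Subtype.ext (hF4 f f.2)⟩
    have hfpf : ∀ a : G, orderOf a = 3 → ∀ f ∈ F, Commute a f → f = 1 := fun a ha f hf hc =>
      hno f a ha hc.symm ((hsplit f).resolve_left (h3F f hf))
    have h3nF : ∀ a : G, orderOf a = 3 → a ∉ F := fun a ha hm => h3F a hm ha
    -- Sylow `3`-subgroups have order `3`
    obtain ⟨Q⟩ : Nonempty (Sylow 3 G) := inferInstance
    have hQcard : Nat.card (Q : Subgroup G) = 3 := by
      have hQ3 : ∀ a ∈ (Q : Subgroup G), a ≠ 1 → orderOf a = 3 := by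
        intro a ha ha1
        obtain ⟨j, hj⟩ := Q.isPGroup'.exists_card_eq
        refine (hsplit a).resolve_right fun h4 => ha1 (orderOf_eq_one_iff.1 ?_)
        exact Nat.eq_one_of_dvd_coprimes ((by decide : Nat.Coprime 4 3).pow_right j) h4
          (hj ▸ Subgroup.orderOf_dvd_natCard _ ha)
      have hQfpf : ∀ a ∈ (Q : Subgroup G), a ≠ 1 → F ⊓ Subgroup.centralizer {a} = ⊥ := by
        intro a ha ha1
        rw [eq_bot_iff]
        rintro f ⟨hf, hfc⟩
        exact Subgroup.mem_bot.2 (hfpf a (hQ3 a ha ha1) f hf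
          (Subgroup.mem_centralizer_singleton_iff.1 hfc).symm)
      obtain ⟨i, hi⟩ := Q.isPGroup'.exists_card_eq
      have hi1 : 1 ≤ i := by
        by_contra h0
        have h3 : 3 ∣ Nat.card (Q : Subgroup G) := Q.dvd_card_of_dvd_card (hy₀ ▸ orderOf_dvd_natCard y₀)
        rw [hi, show i = 0 by omega] at h3
        omega
      by_contra hne
      have hi2 : 2 ≤ i := by
        by_contra h0
        exact hne (by rw [hi, show i = 1 by omega, pow_one])
      obtain ⟨E, hE⟩ := Sylow.exists_subgroup_card_pow_prime (G := (Q : Subgroup G)) 3 (n := 2)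
        (hi ▸ pow_dvd_pow 3 hi2)
      have hE' : Nat.card (E.map (Q : Subgroup G).subtype) = 3 ^ 2 := by
        rw [Subgroup.card_map_of_injective (Q : Subgroup G).subtype_injective, hE]
      have hcyc := Core.FPF.isCyclic_of_card_prime_sq (K := F) (Core.le_normalizer_of_normal (Q : Subgroup G) F)
        hQfpf hFne (Subgroup.map_subtype_le E) Nat.prime_three hE'
      obtain ⟨g, hg⟩ := hcyc.exists_generator
      have hgo : orderOf (g : G) = 9 := by
        rw [Subgroup.orderOf_coe, orderOf_eq_card_of_forall_mem_zpowers hg, hE']; norm_num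
      have := (hle (g : G)).2
      omega
    -- the second Engel condition on `F` and its consequences
    have hord : ∀ y : G, orderOf y = 3 → ∀ f ∈ F, (y * f) ^ 3 = 1 ∧ (y⁻¹ * f) ^ 3 = 1 := by
      have key : ∀ y : G, orderOf y = 3 → ∀ f ∈ F, (y * f) ^ 3 = 1 := fun y hy f hf => by
        rcases hsplit (y * f) with h1 | h1
        · rw [← h1, pow_orderOf_eq_one]
        · exfalso
          have h2 : π (y * f) = π y := by rw [map_mul, (hπF f).2 hf, mul_one]
          exact h3nF y hy ((hπF y).1 (orderOf_eq_one_iff.1 (Nat.eq_one_of_dvd_coprimes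
            (by decide : Nat.Coprime 3 4) (hy ▸ hπd y) ((h2 ▸ hπd (y * f)).trans h1))))
      exact fun y hy f hf => ⟨key y hy f hf, key y⁻¹ (by rw [orderOf_inv, hy]) f hf⟩
    obtain ⟨hEng, -⟩ := engel_of_order_three F (hord y₀ hy₀)
    have htriple : ∀ a b c : F, ⁅⁅a, b⁆, c⁆ = 1 :=
      triple_eq_one (fun x g => Subtype.ext (hEng x x.2 g g.2).eq) hFp
    have htri : ∀ a ∈ F, ∀ b ∈ F, ∀ c ∈ F, ⁅⁅a, b⁆, c⁆ = 1 := fun a ha b hb c hc => by
      have h1 := congrArg F.subtype (htriple ⟨a, ha⟩ ⟨b, hb⟩ ⟨c, hc⟩)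
      rwa [map_commutatorElement, map_commutatorElement, map_one] at h1
    have hclass : Group.nilpotencyClass F ≤ 2 := nilpotencyClass_le_two_of_triple htriple
    -- the quotient
    set K := Cfsg.fittingSubgroup (G ⧸ F) with hKdef
    have hKn : K.Normal := Components.fitting_normal
    have hKnil : Group.IsNilpotent K := Components.fitting_isNilpotent
    have hKC : Subgroup.centralizer (K : Set (G ⧸ F)) ≤ K := Components.centralizer_fitting_le_of_isSolvable
    have hO2 : ∀ z ∈ K, orderOf z ∣ 4 → z = 1 := by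
      intro z hz hz4
      obtain ⟨k, -, hk⟩ := (Nat.dvd_prime_pow Nat.prime_two).1 (show orderOf z ∣ 2 ^ 2 from hz4)
      have hmem := HallGen.mem_pCore_of_mem_nilpotent_normal hKn hKnil hz hk
      have hP : (Cfsg.pCore 2 (G ⧸ F)).comap π ≤ F := by
        have hN2 : (Cfsg.pCore 2 (G ⧸ F)).Normal := HallGen.pCore_normal' 2
        have : (Subgroup.comap π (Cfsg.pCore 2 (G ⧸ F))).Normal := hN2.comap π
        refine Components.le_fitting this ?_
        have hp : IsPGroup 2 ((Cfsg.pCore 2 (G ⧸ F)).comap π) :=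
          (HallGen.isPGroup_pCore 2).comap_of_ker_isPGroup π (by rw [QuotientGroup.ker_mk']; exact hFp)
        exact hp.isNilpotent
      induction z using QuotientGroup.induction_on with
      | H g => exact (hπF g).2 (hP hmem)
    have hq3 : ∀ z : G ⧸ F, orderOf z = 3 ∨ orderOf z ∣ 4 := fun z => by
      induction z using QuotientGroup.induction_on with
      | H g =>
        rcases hsplit g with h1 | h1
        · rcases (Nat.dvd_prime Nat.prime_three).1 (h1 ▸ hπd g) with h2 | h2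
          · exact Or.inr (by rw [show orderOf (g : G ⧸ F) = 1 from h2]; exact one_dvd _)
          · exact Or.inl h2
        · exact Or.inr ((hπd g).trans h1)
    have hK3 : ∀ z ∈ K, z ≠ 1 → orderOf z = 3 := fun z hz hz1 =>
      (hq3 z).resolve_right fun h4 => hz1 (hO2 z hz h4)
    have hyπ : orderOf (π y₀) = 3 := by
      refine ((Nat.dvd_prime Nat.prime_three).1 (hy₀ ▸ hπd y₀)).resolve_left fun h1 => ?_
      exact h3nF y₀ hy₀ ((hπF y₀).1 (orderOf_eq_one_iff.1 h1))
    have hKcard : Nat.card K = 3 := by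
      have hp : IsPGroup 3 K := fun z => ⟨1, by
        by_cases hz : z = 1
        · rw [hz, one_pow]
        · exact Subtype.ext (by
            rw [Subgroup.coe_pow, pow_one, Subgroup.coe_one,
              ← hK3 z z.2 (fun h1 => hz (Subtype.ext h1)), pow_orderOf_eq_one])⟩
      obtain ⟨i, hi⟩ := IsPGroup.iff_card.1 hp
      have hd : Nat.card K ∣ Nat.card (Q : Subgroup G) * (Q : Subgroup G).index := by
        rw [Subgroup.card_mul_index]
        exact (Subgroup.card_subgroup_dvd_card K).trans (Subgroup.card_quotient_dvd_card F)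
      have hd3 : Nat.card K ∣ 3 := by
        rw [← hQcard]
        refine Nat.Coprime.dvd_of_dvd_mul_right ?_ hd
        rw [hi]
        exact ((Nat.prime_three.coprime_iff_not_dvd.2 Q.not_dvd_index)).pow_left i
      refine ((Nat.dvd_prime Nat.prime_three).1 hd3).resolve_left fun h1 => ?_
      have h2 : π y₀ ∈ K := hKC (Subgroup.mem_centralizer_iff.2 fun w hw => by
        rw [SetLike.mem_coe, Subgroup.eq_bot_of_card_eq K h1, Subgroup.mem_bot] at hw
        rw [hw, one_mul, mul_one])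
      rw [Subgroup.eq_bot_of_card_eq K h1, Subgroup.mem_bot] at h2
      rw [h2, orderOf_one] at hyπ
      omega
    obtain ⟨⟨k, hk⟩, hkgen⟩ := (isCyclic_of_prime_card (α := K) hKcard).exists_generator
    have hk3 : k ^ 3 = 1 := by
      have h1 : (⟨k, hk⟩ : K) ^ 3 = 1 := by rw [← hKcard]; exact pow_card_eq_one'
      exact congrArg Subtype.val h1
    have hKz : ∀ w ∈ K, ∃ n : ℤ, k ^ n = w := fun w hw => by
      obtain ⟨n, hn⟩ := Subgroup.mem_zpowers_iff.1 (hkgen ⟨w, hw⟩)
      exact ⟨n, by simpa using congrArg Subtype.val hn⟩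
    have hkK : ∀ g : G ⧸ F, g ∉ K → g * k * g⁻¹ = k⁻¹ := by
      intro g hg
      obtain ⟨n, hn⟩ := hKz _ (hKn.conj_mem k hk g)
      rw [← hn]
      have hmod : k ^ n = k ^ (n % 3) := by
        conv_lhs => rw [← Int.mul_ediv_add_emod n 3, zpow_add, zpow_mul]
        rw [show k ^ (3 : ℤ) = 1 by exact_mod_cast hk3, one_zpow, one_mul]
      have h0 := Int.emod_nonneg n (show (3 : ℤ) ≠ 0 by norm_num)
      have h1 := Int.emod_lt_of_pos n (show (0 : ℤ) < 3 by norm_num)
      rcases (show n % 3 = 0 ∨ n % 3 = 1 ∨ n % 3 = 2 by omega) with h2 | h2 | h2 <;> rw [hmod, h2]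
      · exfalso
        rw [hmod, h2, zpow_zero] at hn
        have hk1 : k = 1 := conj_eq_one_iff.1 hn.symm
        have hall : ∀ w ∈ K, w = 1 := fun w hw => by
          obtain ⟨m, hm⟩ := hKz w hw
          rw [← hm, hk1, one_zpow]
        rw [(Subgroup.eq_bot_iff_forall K).2 hall, Subgroup.card_bot] at hKcard
        omega
      · exfalso
        rw [hmod, h2, zpow_one] at hn
        refine hg (hKC (Subgroup.mem_centralizer_iff.2 fun w hw => ?_))
        obtain ⟨m, hm⟩ := hKz w hw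
        rw [← hm]
        exact ((Commute.zpow_right (mul_inv_eq_iff_eq_mul.1 hn.symm : Commute g k) m).symm).eq
      · refine eq_inv_of_mul_eq_one_left ?_
        rw [← zpow_add_one]
        exact_mod_cast hk3
    by_cases hKtop : K = ⊤
    · -- index three
      have hidx : F.index = 3 := by rw [Subgroup.index_eq_card, ← Subgroup.card_top, ← hKtop, hKcard]
      refine ⟨F, hFn, Or.inl ⟨hFp, ?_, hclass, hidx⟩⟩
      have hx₀F : x₀ ∈ F := by
        refine (hπF x₀).1 (orderOf_eq_one_iff.1 (Nat.eq_one_of_dvd_coprimes (by decide : Nat.Coprime 4 3)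
          (hx₀ ▸ hπd x₀) ?_))
        rw [← hidx, Subgroup.index_eq_card]
        exact orderOf_dvd_natCard _
      refine Nat.dvd_antisymm (Monoid.exponent_dvd_of_forall_pow_eq_one fun f => Subtype.ext (hF4 f f.2)) ?_
      have h1 := Monoid.order_dvd_exponent (⟨x₀, hx₀F⟩ : F)
      rwa [Subgroup.orderOf_mk, hx₀] at h1
    · -- index six
      obtain ⟨z, hz⟩ : ∃ z : G ⧸ F, z ∉ K := by
        by_contra hc
        push Not at hc
        exact hKtop ((Subgroup.eq_top_iff' K).2 hc)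
      have hKidx : K.index = 2 := by
        refine Subgroup.index_eq_two_iff.2 ⟨z, fun b => ?_⟩
        by_cases hb : b ∈ K
        · exact Or.inr ⟨hb, fun hbz => hz ((Subgroup.mul_mem_cancel_left K hb).1 hbz)⟩
        · refine Or.inl ⟨hKC (Subgroup.mem_centralizer_iff.2 fun w hw => ?_), hb⟩
          obtain ⟨m, hm⟩ := hKz w hw
          rw [← hm]
          refine ((Commute.zpow_right ?_ m).symm).eq
          refine mul_inv_eq_iff_eq_mul.1 ?_
          calc b * z * k * (b * z)⁻¹ = b * (z * k * z⁻¹) * b⁻¹ := by group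
            _ = (b * k * b⁻¹)⁻¹ := by rw [hkK z hz]; group
            _ = k := by rw [hkK b hb, inv_inv]
      have hcard6 : Nat.card (G ⧸ F) = 6 := by rw [← K.card_mul_index, hKcard, hKidx]
      -- lift: an involution inverting an element of order three
      set M := K.comap π with hM
      have hMn : M.Normal := hKn.comap π
      obtain ⟨P⟩ : Nonempty (Sylow 3 M) := inferInstance
      set Y := (P : Subgroup M).map M.subtype with hY
      have hY3 : Nat.card Y = 3 := by
        rw [hY, Subgroup.card_map_of_injective M.subtype_injective]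
        obtain ⟨i, hi⟩ := P.isPGroup'.exists_card_eq
        have hy0M : 3 ∣ Nat.card M := by
          have hd : Nat.card K = Nat.card (M.map π) := by
            rw [hM, Subgroup.map_comap_eq_self_of_surjective (QuotientGroup.mk'_surjective F)]
          rw [← hKcard, hd]
          exact Subgroup.card_map_dvd M π
        have hd1 : Nat.card (P : Subgroup M) ∣ Nat.card (Q : Subgroup G) * (Q : Subgroup G).index := by
          rw [Subgroup.card_mul_index]
          exact (Subgroup.card_subgroup_dvd_card _).trans (Subgroup.card_subgroup_dvd_card M)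
        refine Nat.dvd_antisymm ?_ (P.dvd_card_of_dvd_card hy0M)
        refine (Nat.Coprime.dvd_of_dvd_mul_right ?_ hd1).trans hQcard.dvd
        rw [hi]
        exact ((Nat.prime_three.coprime_iff_not_dvd.2 Q.not_dvd_index)).pow_left i
      obtain ⟨⟨y, hyY⟩, hygen⟩ := (isCyclic_of_prime_card (α := Y) hY3).exists_generator
      have hy : orderOf y = 3 := by
        rw [← Subgroup.orderOf_mk y hyY, orderOf_eq_card_of_forall_mem_zpowers hygen, hY3]
      have hyM : π y ∈ K := by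
        obtain ⟨m, -, hm⟩ := Subgroup.mem_map.1 hyY
        rw [← hm]; exact m.2
      have hNM : Subgroup.normalizer (Y : Set G) ⊔ M = ⊤ := Sylow.normalizer_sup_eq_top P
      obtain ⟨t, htN, htM⟩ : ∃ t ∈ Subgroup.normalizer (Y : Set G), t ∉ M := by
        by_contra hc
        push Not at hc
        rw [sup_eq_right.2 hc, eq_top_iff] at hNM
        refine hz ?_
        induction z using QuotientGroup.induction_on with
        | H g => exact hNM (Subgroup.mem_top g)
      have hπy : π y ≠ 1 := fun h1 => h3nF y hy ((hπF y).1 h1)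
      have htinv : t * y * t⁻¹ = y⁻¹ := by
        have h1 : t * y * t⁻¹ ∈ Y := (Subgroup.mem_normalizer_iff.1 htN y).1 hyY
        obtain ⟨n, hn⟩ := Subgroup.mem_zpowers_iff.1 (hygen ⟨_, h1⟩)
        have hn' : y ^ n = t * y * t⁻¹ := by simpa using congrArg Subtype.val hn
        have h2 := congrArg π hn'
        obtain ⟨m, hm⟩ := hKz _ hyM
        have hty : π (t * y * t⁻¹) = π y⁻¹ := by
          rw [map_mul, map_mul, map_inv, map_inv, ← hm, ← conj_zpow, hkK (π t) htM, inv_zpow]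
        rw [hty, map_zpow, map_inv, ← zpow_neg_one, zpow_eq_zpow_iff_modEq] at h2
        rw [← hn', ← zpow_neg_one, zpow_eq_zpow_iff_modEq, hy]
        rwa [show orderOf (π y) = 3 from ((Nat.dvd_prime Nat.prime_three).1 (hy ▸ hπd y)).resolve_left
          fun h3 => hπy (orderOf_eq_one_iff.1 h3)] at h2
      have hπt : π t ∉ K := htM
      have hout : ∀ g : G, π g ∉ K → orderOf g ∣ 4 := fun g hg => by
        refine (hsplit g).resolve_left fun h3 => hg ?_
        have hd : π g ^ K.index ∈ K := Subgroup.pow_index_mem K (π g)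
        rw [hKidx] at hd
        have hg3 : π g ^ 3 = 1 := by rw [← map_pow, ← h3, pow_orderOf_eq_one, map_one]
        have e : π g = (π g ^ 2) ^ 2 := by
          rw [← pow_mul, show 2 * 2 = 3 + 1 by norm_num, pow_add, hg3, one_mul, pow_one]
        rw [e]
        exact pow_mem hd 2
      have ht2 : t * t = 1 := by
        have h4 := hout t hπt
        have hc : Commute (t * t) y := by
          show t * t * y = y * (t * t)
          calc t * t * y = t * (t * y * t⁻¹) * t⁻¹ * (t * t) := by group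
            _ = t * y⁻¹ * t⁻¹ * (t * t) := by rw [htinv]
            _ = (t * y * t⁻¹)⁻¹ * (t * t) := by group
            _ = y * (t * t) := by rw [htinv, inv_inv]
        exact hno (t * t) y hy hc (orderOf_dvd_of_pow_eq_one (by
          rw [← sq, ← pow_mul]; exact orderOf_dvd_iff_pow_eq_one.1 (h4.trans (by norm_num))))
      have ht4 : ∀ g : G, π g ∉ K → ∀ f ∈ F, (g * f) ^ 4 = 1 := fun g hg f hf =>
        orderOf_dvd_iff_pow_eq_one.1 (hout _ (by rwa [map_mul, (hπF f).2 hf, mul_one]))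
      have htyK : π (t * y) ∉ K := by
        rw [map_mul]
        exact fun h1 => hπt ((Subgroup.mul_mem_cancel_right K hyM).1 h1)
      have hel := elementary_of_dihedral_action F (by rw [← hy, pow_orderOf_eq_one]) ht2 htinv (hfpf y hy) hF4
        (engel_of_order_three F (hord y hy)).2 htri (ht4 t hπt) (ht4 (t * y) htyK)
      refine ⟨F, hFn, Or.inr (Or.inl ⟨hel, perm_three_of_card_six hcard6 (y := π y) (t := π t) ?_ ?_⟩)⟩
      · exact orderOf_eq_prime (by rw [← map_pow, sq, ht2, map_one]) fun h1 => hπt (h1 ▸ one_mem K)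
      · intro hc
        have h2 : π (t * y * t⁻¹) = π y⁻¹ := by rw [htinv]
        rw [map_mul, map_mul, map_inv, map_inv, ← hc, mul_inv_cancel_right] at h2
        have h3 : π y ^ 2 = 1 := by rw [sq]; exact mul_eq_one_iff_eq_inv.2 h2
        exact hπy (orderOf_eq_one_iff.1 (Nat.eq_one_of_dvd_coprimes (by decide : Nat.Coprime 3 2)
          (hy ▸ hπd y) (orderOf_dvd_of_pow_eq_one h3)))

end CfsgLib.Orders
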