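import Cfsg.Agent.Lib.Core.FPFAutomorphism
import Cfsg.Agent.Lib.PLocal.NormalPComplementThms
import Cfsg.Agent.Lib.OddLocal.FittingHall
import Mathlib.GroupTheory.SemidirectProduct

/-!
# Splitting automorphisms of prime order (Hughes–Thompson–Kegel)
-/

set_option autoImplicit false

namespace CfsgLib.Orders

universe u

open scoped Pointwise

open Subgroup

/-- Averaging: if the twisted norms vanish, `v ^ |K|` is fixed by `K`. -/
theorem fixed_pow_card_of_norms {H V : Type*} [Group H] [Finite H] [CommGroup V] (φ : H →* MulAut V)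
    (K : Subgroup H) (a : H) (p : ℕ) (hp : 0 < p) (f : ℕ → K → K) (h0 : ∀ k, f 0 k = 1)
    (hf : ∀ i ∈ Finset.range p, i ≠ 0 → Function.Bijective (f i))
    (hnorm : ∀ (k : K) (v : V), ∏ i ∈ Finset.range p, φ ((f i k : H) * a ^ i) v = 1) (v : V) :
    ∀ k ∈ K, φ k (v ^ Nat.card K) = v ^ Nat.card K := by
  classical
  haveI := Fintype.ofFinite K
  intro k hk
  have hfix : ∀ w : V, φ k (∏ x : K, φ (x : H) w) = ∏ x : K, φ (x : H) w := by
    intro w
    rw [map_prod]
    refine Fintype.prod_equiv (Equiv.mulLeft (⟨k, hk⟩ : K)) _ _ fun x => ?_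
    show φ k (φ (x : H) w) = φ (k * x) w
    rw [map_mul]; rfl
  have hcol : ∀ i ∈ Finset.range p, i ≠ 0 →
      φ k (∏ x : K, φ ((f i x : H) * a ^ i) v) = ∏ x : K, φ ((f i x : H) * a ^ i) v := by
    intro i hi hi0
    have e : (∏ x : K, φ ((f i x : H) * a ^ i) v) = ∏ x : K, φ (x : H) (φ (a ^ i) v) := by
      refine Fintype.prod_bijective (f i) (hf i hi hi0) _ _ fun x => ?_
      rw [map_mul]; rfl
    rw [e, hfix]
  have htot : (∏ i ∈ Finset.range p, ∏ x : K, φ ((f i x : H) * a ^ i) v) = 1 := by
    rw [Finset.prod_comm]; exact Finset.prod_eq_one fun x _ => hnorm x v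
  rw [← Finset.mul_prod_erase _ _ (Finset.mem_range.2 hp)] at htot
  have h1 : (∏ x : K, φ ((f 0 x : H) * a ^ 0) v) = v ^ Nat.card K := by
    simp [h0, Nat.card_eq_fintype_card]
  rw [h1] at htot
  have h2 : φ k (∏ i ∈ (Finset.range p).erase 0, ∏ x : K, φ ((f i x : H) * a ^ i) v) =
      ∏ i ∈ (Finset.range p).erase 0, ∏ x : K, φ ((f i x : H) * a ^ i) v := by
    rw [map_prod]
    exact Finset.prod_congr rfl fun i hi => hcol i (Finset.mem_of_mem_erase hi) (Finset.ne_of_mem_erase hi)
  rw [eq_inv_of_mul_eq_one_left htot, map_inv, h2]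

/-- Powers of `v u` for `v` in an abelian normal subgroup. -/
theorem mul_pow_abelian {X : Type u} [Group X] (V : Subgroup X) [V.Normal] [IsMulCommutative V]
    (v : V) (u : X) : ∀ n : ℕ, open scoped IsMulCommutative in
      ((v : X) * u) ^ n = ((∏ i ∈ Finset.range n, (MulAut.conjNormal : X →* MulAut V) (u ^ i) v : V) : X) * u ^ n := by
  open scoped IsMulCommutative in
  intro n
  induction n with
  | zero => simp
  | succ n ih =>
    rw [pow_succ', ih, Finset.prod_range_succ']
    simp only [pow_zero, map_one, MulAut.one_apply]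
    rw [mul_comm (∏ k ∈ Finset.range n, (MulAut.conjNormal : X →* MulAut V) (u ^ (k + 1)) v) v, Subgroup.coe_mul]
    have e : (∏ k ∈ Finset.range n, (MulAut.conjNormal : X →* MulAut V) (u ^ (k + 1)) v) =
        MulAut.conjNormal u (∏ k ∈ Finset.range n, (MulAut.conjNormal : X →* MulAut V) (u ^ k) v) := by
      rw [map_prod]
      refine Finset.prod_congr rfl fun k _ => ?_
      rw [pow_succ', map_mul]; rfl
    rw [e, MulAut.conjNormal_apply, pow_succ']
    group

/-- `G` is normal in `X` and all elements of the coset `G a` have order dividing `p`. -/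
theorem isNilpotent_of_coset_pow {p : ℕ} (hp : p.Prime) (n : ℕ) :
    ∀ (X : Type u) [Group X] [Finite X] (G : Subgroup X) [G.Normal] (a : X), Nat.card G = n →
      (∀ g ∈ G, (g * a) ^ p = 1) → Group.IsNilpotent G := by
  induction n using Nat.strong_induction_on with
  | _ n ih =>
  intro X _ _ G hGn a hn ha
  subst hn
  haveI := Fact.mk hp
  have ha1 : a ^ p = 1 := by simpa using ha 1 (one_mem G)
  -- subgroups normalised by some element of `G a`
  have hsub : ∀ H : Subgroup X, H ≤ G → H ≠ G → a ∈ normalizer (H : Set X) → Group.IsNilpotent H := by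
    intro H hHG hne haH
    haveI : (H.subgroupOf (normalizer (H : Set X))).Normal := normal_in_normalizer
    have e := subgroupOfEquivOfLe (le_normalizer : H ≤ normalizer (H : Set X))
    haveI := ih (Nat.card H) (lt_of_le_of_ne (Nat.le_of_dvd Nat.card_pos (card_dvd_of_le hHG))
      fun h => hne (eq_of_le_of_card_ge hHG h.ge)) (normalizer (H : Set X))
      (H.subgroupOf (normalizer (H : Set X))) ⟨a, haH⟩ (Nat.card_congr e.toEquiv)
      fun g hg => Subtype.ext (ha g (hHG hg))
    exact Group.nilpotent_of_mulEquiv e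
  -- quotients
  have hquo : ∀ N : Subgroup X, N ≤ G → N ≠ ⊥ → G ≤ normalizer (N : Set X) → a ∈ normalizer (N : Set X) →
      ∀ [(N.subgroupOf G).Normal], Group.IsNilpotent (G ⧸ N.subgroupOf G) := by
    intro N hNG hne hGN haN _
    let L := normalizer (N : Set X)
    let N' := N.subgroupOf L
    haveI : N'.Normal := normal_in_normalizer
    let π : L →* L ⧸ N' := QuotientGroup.mk' N'
    let G' := (G.subgroupOf L).map π
    haveI : G'.Normal := Subgroup.Normal.map inferInstance π (QuotientGroup.mk'_surjective N')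
    let f : G →* G' := (π.subgroupMap (G.subgroupOf L)).comp (subgroupOfEquivOfLe hGN).symm.toMonoidHom
    have hfs : Function.Surjective f :=
      (π.subgroupMap_surjective _).comp (subgroupOfEquivOfLe hGN).symm.surjective
    have hker : f.ker = N.subgroupOf G := by
      ext g
      rw [MonoidHom.mem_ker, Subgroup.mem_subgroupOf, Subtype.ext_iff]
      exact (QuotientGroup.eq_one_iff (N := N') (⟨(g : X), hGN g.2⟩ : L))
    have hlt : Nat.card G' < Nat.card G := by
      refine lt_of_le_of_ne (Nat.card_le_card_of_surjective f hfs) fun he => ?_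
      have hbij : Function.Bijective f :=
        (Nat.bijective_iff_surjective_and_card f).2 ⟨hfs, he.symm⟩
      have h1 : N.subgroupOf G = ⊥ := hker ▸ f.ker_eq_bot_iff.2 hbij.1
      rw [Subgroup.subgroupOf_eq_bot, disjoint_iff, inf_eq_left.2 hNG] at h1
      exact hne h1
    haveI := ih _ hlt (L ⧸ N') G' (π ⟨a, haN⟩) rfl (by
      rintro _ ⟨g, hg, rfl⟩
      rw [← map_mul, ← map_pow, show (g * ⟨a, haN⟩) ^ p = 1 from Subtype.ext (ha g hg), map_one])
    exact Group.nilpotent_of_mulEquiv
      ((QuotientGroup.quotientMulEquivOfEq hker.symm).trans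
        (QuotientGroup.quotientKerEquivOfSurjective f hfs)).symm
  let φ : MulAut G := MulAut.conjNormal a
  have hφp : φ ^ p = 1 := by
    show (MulAut.conjNormal a : MulAut G) ^ p = 1
    rw [← map_pow, ha1, map_one]
  have hfix : ∀ x : G, φ x = x → x ^ p = 1 := by
    intro x hx
    have hc : Commute (x : X) a :=
      (mul_inv_eq_iff_eq_mul.1 ((MulAut.conjNormal_apply a x).symm.trans (congrArg Subtype.val hx))).symm
    have h1 := ha x x.2
    rw [hc.mul_pow, ha1, mul_one] at h1
    exact Subtype.ext h1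
  by_cases hpG : p ∣ Nat.card G
  swap
  · refine Core.FPFAut.isNilpotent_of_fpf
      (fun K _ _ q _ hq P h => PLocal.hasNormalPComplement_glauberman hq P h) φ (fun x hx => ?_) hp hφp
    exact orderOf_eq_one_iff.1 (Nat.eq_one_of_dvd_coprimes
      ((hp.coprime_iff_not_dvd.2 hpG)) (orderOf_dvd_of_pow_eq_one (hfix x hx)) (orderOf_dvd_natCard x))
  by_cases hp2 : p = 2
  · subst hp2
    have hinv : ∀ x : G, φ x = x⁻¹ := fun x => by
      refine Subtype.ext ?_
      show a * (x : X) * a⁻¹ = (x : X)⁻¹
      have h1 := ha x x.2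
      rw [sq] at h1 ha1
      rw [inv_eq_of_mul_eq_one_left ha1]
      exact eq_inv_of_mul_eq_one_right (by simpa only [mul_assoc] using h1)
    haveI : IsMulCommutative G := ⟨⟨fun x y => by
      have h1 := map_mul φ x y
      rw [hinv, hinv, hinv, mul_inv_rev] at h1
      have h2 := congrArg (·⁻¹) h1
      simpa using h2⟩⟩
    letI : CommGroup G := { (inferInstance : Group G) with mul_comm := fun x y => mul_comm' x y }
    infer_instance
  have hcharN : ∀ (C : Subgroup G) [C.Characteristic],
      (C.map G.subtype).Normal := fun C _ => ConjAct.normal_of_characteristic_of_normal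
  have hquoC : ∀ (C : Subgroup G) [C.Characteristic], C ≠ ⊥ → Group.IsNilpotent (G ⧸ C) := by
    intro C _ hC
    have e : (C.map G.subtype).subgroupOf G = C := by
      rw [Subgroup.subgroupOf]; exact comap_map_eq_self_of_injective G.subtype_injective C
    haveI : ((C.map G.subtype).subgroupOf G).Normal := e.symm ▸ (inferInstance : C.Normal)
    haveI := hcharN C
    haveI := hquo (C.map G.subtype) (map_subtype_le C)
      (fun h => hC ((map_eq_bot_iff_of_injective _ G.subtype_injective).1 h))
      (by rw [normalizer_eq_top]; exact le_top) (by rw [normalizer_eq_top]; exact mem_top a)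
    exact Group.nilpotent_of_mulEquiv (QuotientGroup.quotientMulEquivOfEq e)
  -- solvability
  have hsol : Group.IsSolvable G := by
    by_cases hO : Cfsg.pCore p G = ⊥
    swap
    · haveI := hquoC _ hO
      haveI : Group.IsNilpotent (Cfsg.pCore p G) := (CfsgLib.Core.isPGroup_pCore p G).isNilpotent
      exact Group.isSolvable_of_ker_le_range (Cfsg.pCore p G).subtype (QuotientGroup.mk' (Cfsg.pCore p G))
        (by rw [QuotientGroup.ker_mk', range_subtype])
    have hA : IsPGroup p (zpowers φ) := fun x => ⟨1, by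
      obtain ⟨k, hk⟩ := mem_zpowers_iff.1 x.2
      refine Subtype.ext ?_
      rw [Subgroup.coe_pow, pow_one, ← hk, ← zpow_natCast, ← zpow_mul, mul_comm, zpow_mul, zpow_natCast, hφp,
        one_zpow, Subgroup.coe_one]⟩
    haveI : Fintype (zpowers φ) := Fintype.ofFinite _
    obtain ⟨P, hPfix⟩ := hA.nonempty_fixed_point_of_prime_not_dvd_card (α := Sylow p G)
      (not_dvd_card_sylow p G)
    have hP : (P : Subgroup G).map φ.toMonoidHom = P := by
      have := congrArg (fun Q : Sylow p G => (Q : Subgroup G)) (hPfix ⟨φ, mem_zpowers φ⟩)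
      exact this
    generalize hW : Cfsg.centerThompsonAOf (P : Subgroup G) = W
    have hWb : W ≠ ⊥ := hW ▸ PLocal.centerThompsonA_ne_bot P.2 (P.ne_bot_of_dvd_card hpG)
    have hWi : W.map φ.toMonoidHom = W := by
      have hd : Disjoint (P : Subgroup G) φ.toMonoidHom.ker := by
        rw [disjoint_iff, (MonoidHom.ker_eq_bot_iff φ.toMonoidHom).mpr φ.injective, inf_bot_eq]
      rw [← hW, PLocal.centerThompsonA_map _ _ hd, hP]
    have hN : normalizer (W : Set G) ≠ ⊤ := by
      intro htop
      haveI := normalizer_eq_top_iff.mp htop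
      refine hWb (eq_bot_iff.2 (hO ▸ ?_))
      exact le_sSup ⟨inferInstance, hW ▸ P.2.to_le (PLocal.centerThompsonA_le _)⟩
    have hNmap := Core.FPFAut.map_normalizer hWi
    set N := normalizer (W : Set G)
    have haN : a ∈ normalizer ((N.map G.subtype : Subgroup X) : Set X) := by
      rw [Subgroup.mem_normalizer_iff]
      intro x
      constructor
      · rintro ⟨y, hy, rfl⟩
        exact ⟨φ y, hNmap ▸ ⟨y, hy, rfl⟩, MulAut.conjNormal_apply a y⟩
      · rintro ⟨y, hy, he⟩
        rw [← hNmap] at hy
        obtain ⟨z, hz, rfl⟩ := hy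
        have : a * (z : X) * a⁻¹ = a * x * a⁻¹ := (MulAut.conjNormal_apply a z).symm.trans he
        exact ⟨z, hz, mul_left_cancel (mul_right_cancel this)⟩
    haveI := hsub (N.map G.subtype) (map_subtype_le N) (fun h => hN (by
      have : N.map G.subtype = (⊤ : Subgroup G).map G.subtype := by rw [h, ← MonoidHom.range_eq_map, range_subtype]
      exact map_injective G.subtype_injective this)) haN
    haveI : Group.IsNilpotent N :=
      Group.nilpotent_of_mulEquiv (N.equivMapOfInjective G.subtype G.subtype_injective).symm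
    have hnpc : Cfsg.HasNormalPComplement p G := PLocal.hasNormalPComplement_glauberman hp2 P
      (hW.symm ▸ Core.FPFAut.hasNormalPComplement_of_isNilpotent p)
    set R := Cfsg.pResidual p G
    have hcop := Transfer.hasNormalPComplement_iff_coprime.mp hnpc
    have hRt : R ≠ ⊤ := by
      intro h
      rw [show Cfsg.pResidual p G = R from rfl, h, card_top] at hcop
      exact hp.not_dvd_one (hcop.symm.dvd_of_dvd_mul_right (by simpa using hpG))
    have haR : a ∈ normalizer ((R.map G.subtype : Subgroup X) : Set X) := by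
      have hRi : R.map φ.toMonoidHom = R := Transfer.map_pResidual_mulEquiv φ
      rw [Subgroup.mem_normalizer_iff]
      intro x
      constructor
      · rintro ⟨y, hy, rfl⟩
        exact ⟨φ y, hRi ▸ ⟨y, hy, rfl⟩, MulAut.conjNormal_apply a y⟩
      · rintro ⟨y, hy, he⟩
        rw [← hRi] at hy
        obtain ⟨z, hz, rfl⟩ := hy
        have : a * (z : X) * a⁻¹ = a * x * a⁻¹ := (MulAut.conjNormal_apply a z).symm.trans he
        exact ⟨z, hz, mul_left_cancel (mul_right_cancel this)⟩
    haveI := hsub (R.map G.subtype) (map_subtype_le R) (fun h => hRt (by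
      have : R.map G.subtype = (⊤ : Subgroup G).map G.subtype := by rw [h, ← MonoidHom.range_eq_map, range_subtype]
      exact map_injective G.subtype_injective this)) haR
    haveI : Group.IsNilpotent R :=
      Group.nilpotent_of_mulEquiv (R.equivMapOfInjective G.subtype G.subtype_injective).symm
    haveI : Group.IsNilpotent (G ⧸ R) := (Transfer.isPGroup_quotient_pResidual).isNilpotent
    exact Group.isSolvable_of_ker_le_range R.subtype (QuotientGroup.mk' R)
      (by rw [QuotientGroup.ker_mk', range_subtype])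
  haveI := hsol
  haveI : Nontrivial G := Finite.one_lt_card_iff_nontrivial.1
    (lt_of_lt_of_le hp.one_lt (Nat.le_of_dvd Nat.card_pos hpG))
  obtain ⟨q, hq, hb⟩ := Core.exists_pCore_ne_bot (G := G)
  haveI := Fact.mk hq
  set V := (Subgroup.center (Cfsg.pCore q G)).map (Cfsg.pCore q G).subtype with hVdef
  haveI hVch : V.Characteristic := by
    refine characteristic_iff_le_map.2 fun e => ?_
    rintro _ ⟨⟨z, hz⟩, hzc, rfl⟩
    have hO : (Cfsg.pCore q G).map e.toMonoidHom = Cfsg.pCore q G :=
      characteristic_iff_map_eq.1 inferInstance e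
    obtain ⟨w, hw, hwz⟩ : z ∈ (Cfsg.pCore q G).map e.toMonoidHom := by rw [hO]; exact hz
    refine ⟨w, ⟨⟨w, hw⟩, Subgroup.mem_center_iff.2 fun g => ?_, rfl⟩, hwz⟩
    have hg : e g ∈ Cfsg.pCore q G := hO.le ⟨g, g.2, rfl⟩
    have h1 := congrArg Subtype.val (Subgroup.mem_center_iff.1 hzc ⟨e g, hg⟩)
    refine Subtype.ext (e.injective ?_)
    rw [Subgroup.coe_mul, Subgroup.coe_mul, map_mul, map_mul, show e w = z from hwz]
    exact h1
  have hVq : IsPGroup q V := (CfsgLib.Core.isPGroup_pCore q G).to_le (map_subtype_le _)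
  haveI hVab : IsMulCommutative V := ⟨⟨by
    rintro ⟨_, x, hx, rfl⟩ ⟨_, y, hy, rfl⟩
    exact Subtype.ext (show (x : G) * y = y * x from congrArg Subtype.val (Subgroup.mem_center_iff.1 hy x))⟩⟩
  have hVb : V ≠ ⊥ := by
    haveI : Nontrivial (Cfsg.pCore q G) := (nontrivial_iff_ne_bot _).mpr hb
    rw [hVdef, Ne, map_eq_bot_iff_of_injective _ (Cfsg.pCore q G).subtype_injective]
    exact (CfsgLib.Core.isPGroup_pCore q G).bot_lt_center.ne'
  haveI := hquoC V hVb
  refine ((Group.isNilpotent_of_finite_tfae (G := G)).out 0 3).mpr fun s hs S => ?_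
  haveI := hs
  have hSV : ((S : Subgroup G) ⊔ V).Normal ∧ ∀ x ∈ (S : Subgroup G) ⊔ V, φ x ∈ (S : Subgroup G) ⊔ V := by
    have h := (Group.isNilpotent_of_finite_tfae (G := G ⧸ V)).out 0 3
    haveI := h.mp inferInstance s inferInstance (S.mapSurjective (QuotientGroup.mk'_surjective V))
    have heq : (S : Subgroup G) ⊔ V = ((S.mapSurjective (QuotientGroup.mk'_surjective V) :
        Sylow s (G ⧸ V)) : Subgroup (G ⧸ V)).comap (QuotientGroup.mk' V) := by
      rw [Sylow.coe_mapSurjective, comap_map_eq, QuotientGroup.ker_mk']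
    refine ⟨by rw [heq]; infer_instance, fun x hx => ?_⟩
    have hVi : V.map φ.toMonoidHom = V := characteristic_iff_map_eq.1 inferInstance φ
    let ψ : MulAut (G ⧸ V) := QuotientGroup.congr V V φ hVi
    haveI := Sylow.characteristic_of_normal (S.mapSurjective (QuotientGroup.mk'_surjective V)) inferInstance
    have hS := characteristic_iff_map_eq.1
      (this : ((S.mapSurjective (QuotientGroup.mk'_surjective V) : Sylow s (G ⧸ V)) : Subgroup (G ⧸ V)).Characteristic) ψ
    rw [heq, mem_comap] at hx ⊢
    rw [← hS]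
    exact ⟨_, hx, rfl⟩
  obtain ⟨hMn, hMinv⟩ := hSV
  set M := (S : Subgroup G) ⊔ V with hM
  by_cases hMtop : M = ⊤
  swap
  · -- a proper invariant normal subgroup containing `S`
    have haM : a ∈ normalizer ((M.map G.subtype : Subgroup X) : Set X) := by
      rw [Subgroup.mem_normalizer_iff]
      intro x
      have hfin : ∀ y, y ∈ M → ∃ z ∈ M, φ z = y := fun y hy => by
        obtain ⟨z, hz⟩ := (Finite.injective_iff_surjective.1
          (fun u v h => Subtype.ext (φ.injective (congrArg Subtype.val h)) :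
            Function.Injective fun u : M => (⟨φ u, hMinv u u.2⟩ : M))) ⟨y, hy⟩
        exact ⟨z, z.2, congrArg Subtype.val hz⟩
      constructor
      · rintro ⟨y, hy, rfl⟩
        exact ⟨φ y, hMinv y hy, MulAut.conjNormal_apply a y⟩
      · rintro ⟨y, hy, he⟩
        obtain ⟨z, hz, rfl⟩ := hfin y hy
        have : a * (z : X) * a⁻¹ = a * x * a⁻¹ := (MulAut.conjNormal_apply a z).symm.trans he
        exact ⟨z, hz, mul_left_cancel (mul_right_cancel this)⟩
    haveI := hsub (M.map G.subtype) (map_subtype_le M) (fun h => hMtop (by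
      have : M.map G.subtype = (⊤ : Subgroup G).map G.subtype := by rw [h, ← MonoidHom.range_eq_map, range_subtype]
      exact map_injective G.subtype_injective this)) haM
    haveI : Group.IsNilpotent M :=
      Group.nilpotent_of_mulEquiv (M.equivMapOfInjective G.subtype G.subtype_injective).symm
    have hSM : (S : Subgroup G) ≤ M := le_sup_left
    haveI : ((S.subtype hSM : Sylow s M) : Subgroup M).Normal := by
      have h3 := (Group.isNilpotent_of_finite_tfae (G := M)).out 0 3
      exact h3.mp inferInstance s inferInstance (S.subtype hSM)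
    haveI := Sylow.characteristic_of_normal (S.subtype hSM) inferInstance
    haveI := hMn
    have h := ConjAct.normal_of_characteristic_of_normal (H := M) (K := ((S.subtype hSM : Sylow s M) : Subgroup M))
    rwa [Sylow.coe_subtype, subgroupOf_map_subtype, inf_eq_left.2 hSM] at h
  -- now `G = S V`
  by_cases hsq : s = q
  · subst hsq
    rw [sup_eq_left.mpr (hVq.le_sylow_of_normal S)] at hM
    rw [← hM, hMtop]; infer_instance
  -- an element of `G a` normalising `S`
  obtain ⟨g, hg⟩ := MulAction.exists_smul_eq G (φ • S) S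
  set b := (g : X) * a with hb'
  have hbp : ∀ y ∈ G, (y * b) ^ p = 1 := fun y hy => by
    rw [hb', ← mul_assoc]; exact ha _ (mul_mem hy g.2)
  have hb1 : b ^ p = 1 := by simpa using hbp 1 (one_mem G)
  have hbS : ∀ y ∈ (S : Subgroup G), (MulAut.conjNormal b : MulAut G) y ∈ (S : Subgroup G) := by
    intro y hy
    have h1 : g * φ y * g⁻¹ ∈ (S : Subgroup G) := by
      have h2 : g * φ y * g⁻¹ ∈ ((g • (φ • S) : Sylow s G) : Subgroup G) := by
        rw [Sylow.coe_subgroup_smul]
        exact ⟨φ y, ⟨y, hy, rfl⟩, rfl⟩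
      rwa [hg] at h2
    convert h1 using 1
    refine Subtype.ext ?_
    rw [MulAut.conjNormal_apply, Subgroup.coe_mul, Subgroup.coe_mul, MulAut.conjNormal_apply, hb', coe_inv]
    group
  set S' := (S : Subgroup G).map G.subtype with hS'
  set V' := V.map G.subtype with hV'
  haveI : V'.Normal := hcharN V
  haveI : IsMulCommutative V' := by
    rw [hV']; exact Subgroup.map_isMulCommutative _ _
  have hV'G : V' ≤ G := map_subtype_le _
  obtain ⟨i, hi⟩ := S.isPGroup'.exists_card_eq
  obtain ⟨j, hj⟩ := hVq.exists_card_eq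
  have hS'c : Nat.card S' = s ^ i := by rw [hS', card_map_of_injective G.subtype_injective, hi]
  have hV'c : Nat.card V' = q ^ j := by rw [hV', card_map_of_injective G.subtype_injective, hj]
  open scoped IsMulCommutative in
  let θ : X →* MulAut V' := MulAut.conjNormal
  open scoped IsMulCommutative in
  have hnorm : ∀ u : X, (∀ v : V', ((v : X) * u) ^ p = 1) → u ^ p = 1 →
      ∀ v : V', ∏ i ∈ Finset.range p, θ (u ^ i) v = 1 := by
    intro u hu hup v
    have h1 := mul_pow_abelian V' v u p
    rw [hu v, hup, mul_one] at h1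
    exact Subtype.ext h1.symm
  have hS'b : ∀ y ∈ S', b * y * b⁻¹ ∈ S' := by
    rintro _ ⟨y, hy, rfl⟩
    exact ⟨_, hbS y hy, MulAut.conjNormal_apply b y⟩
  -- it is enough that `S` centralises `V`
  suffices hcent : ∀ y ∈ S', ∀ v ∈ V', Commute y v by
    refine ⟨fun x hx z => ?_⟩
    obtain ⟨c, hc, d, hd, rfl⟩ :=
      Subgroup.mem_sup_of_normal_right.1 (show z ∈ (S : Subgroup G) ⊔ V from hM ▸ hMtop ▸ mem_top z)
    have h1 : Commute x d := Subtype.ext (hcent _ ⟨x, hx, rfl⟩ _ ⟨d, hd, rfl⟩)
    rw [show c * d * x * (c * d)⁻¹ = c * (d * x * d⁻¹) * c⁻¹ by group,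
      show d * x * d⁻¹ = x by rw [← h1.eq, mul_inv_cancel_right]]
    exact mul_mem (mul_mem hc hx) (inv_mem hc)
  by_cases hsp : s = p
  · -- `V` has order prime to `p`
    subst hsp
    by_cases hSb : S' = ⊥
    · intro y hy v _
      rw [hSb, mem_bot] at hy
      rw [hy]; exact Commute.one_left v
    set B := zpowers b with hB
    have hBp : IsPGroup s B := fun x => ⟨1, by
      obtain ⟨k, hk⟩ := mem_zpowers_iff.1 x.2
      refine Subtype.ext ?_
      rw [Subgroup.coe_pow, pow_one, ← hk, ← zpow_natCast, ← zpow_mul, mul_comm, zpow_mul, zpow_natCast, hb1,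
        one_zpow, Subgroup.coe_one]⟩
    have hbN : b ∈ normalizer (S' : Set X) :=
      Subgroup.mem_normalizer_fintype (S := (S' : Set X)) hS'b
    set T := S' ⊔ B with hT
    have hTp : IsPGroup s T := (S.isPGroup'.map G.subtype).to_sup_of_normal_left' hBp (zpowers_le.2 hbN)
    haveI : (S'.subgroupOf T).Normal :=
      normal_subgroupOf_of_le_normalizer (sup_le le_normalizer (zpowers_le.2 hbN))
    have hne : S'.subgroupOf T ≠ ⊥ := by
      rw [Ne, subgroupOf_eq_bot, disjoint_iff, inf_eq_left.2 le_sup_left]; exact hSb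
    obtain ⟨⟨zT, hzS, hzc⟩, hz1⟩ := ne_bot_iff_exists_ne_one.1 (PGroups.inf_center_ne_bot hTp hne)
    obtain ⟨k, hk⟩ := IsPGroup.iff_orderOf.1 hTp zT
    rcases Nat.eq_zero_or_pos k with rfl | hk0
    · exact absurd (Subtype.ext (orderOf_eq_one_iff.1 (by simpa using hk))) hz1
    set w := zT ^ s ^ (k - 1) with hw
    have hwo : orderOf w = s := by
      rw [hw, orderOf_pow' _ (pow_ne_zero _ hp.ne_zero), hk, Nat.gcd_eq_right (pow_dvd_pow s (Nat.sub_le k 1)),
        Nat.pow_div (Nat.sub_le k 1) hp.pos, Nat.sub_sub_self hk0, pow_one]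
    set z : X := (w : X) with hz
    have hzS' : z ∈ S' := mem_subgroupOf.1 (pow_mem hzS _)
    have hzcomm : ∀ t ∈ T, Commute z t := fun t ht =>
      (congrArg Subtype.val (Subgroup.mem_center_iff.1 (pow_mem hzc (s ^ (k - 1))) ⟨t, ht⟩)).symm
    have hzo : orderOf z = s := by rw [hz, Subgroup.orderOf_coe, hwo]
    have hzb : Commute z b := hzcomm b (mem_sup_right (mem_zpowers b))
    have hzV : ∀ v ∈ V', Commute z v := by
      open scoped IsMulCommutative in
      intro v hv
      have hzp : ∀ x : zpowers z, x ^ s = 1 := fun x => by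
        rw [← hzo, ← Nat.card_zpowers]; exact pow_card_eq_one'
      have h := fixed_pow_card_of_norms θ (zpowers z) b s hp.pos (fun i x => x ^ i) (fun x => pow_zero x)
        (fun i hi hi0 => by
          refine Finite.injective_iff_bijective.1 fun x y hxy => ?_
          have hcop : Nat.Coprime i (Nat.card (zpowers z)) := by
            rw [Nat.card_zpowers, hzo, Nat.coprime_comm]
            exact hp.coprime_iff_not_dvd.2 fun hd => hi0 (Nat.eq_zero_of_dvd_of_lt hd (Finset.mem_range.1 hi))
          exact (powCoprime hcop.symm).injective hxy)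
        (fun x v => by
          have hxb : Commute (x : X) b := by
            obtain ⟨m, hm⟩ := mem_zpowers_iff.1 x.2
            rw [← hm]; exact hzb.zpow_left m
          have h1 : ∀ i : ℕ, ((x ^ i : zpowers z) : X) * b ^ i = ((x : X) * b) ^ i := fun i => by
            rw [hxb.mul_pow, Subgroup.coe_pow]
          simp only [h1]
          have hxG : (x : X) ∈ G := by
            obtain ⟨m, hm⟩ := mem_zpowers_iff.1 x.2
            rw [← hm]; exact zpow_mem (map_subtype_le _ hzS') m
          exact hnorm _ (fun v => by rw [← mul_assoc]; exact hbp _ (mul_mem (hV'G v.2) hxG)) (hbp _ hxG) v)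
        ⟨v, hv⟩ z (mem_zpowers z)
      rw [Nat.card_zpowers, hzo, map_pow] at h
      have hcop : (Nat.card V').Coprime s := by
        rw [hV'c]; exact ((Nat.coprime_primes hq hp).2 (Ne.symm hsq)).pow_left j
      have h2 : θ z ⟨v, hv⟩ = ⟨v, hv⟩ := (powCoprime hcop).injective h
      exact mul_inv_eq_iff_eq_mul.1 ((MulAut.conjNormal_apply z (⟨v, hv⟩ : V')).symm.trans (congrArg Subtype.val h2))
    -- `z` is central in `G`
    have hzG : z ∈ G := map_subtype_le _ hzS'
    have hzcen : ∀ x ∈ G, Commute z x := by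
      intro x hx
      obtain ⟨c, hc, d, hd, hcd⟩ := Subgroup.mem_sup_of_normal_right.1
        (show (⟨x, hx⟩ : G) ∈ (S : Subgroup G) ⊔ V from hM ▸ hMtop ▸ mem_top _)
      rw [show x = (c : X) * (d : X) from (congrArg Subtype.val hcd).symm]
      exact (hzcomm _ (mem_sup_left ⟨c, hc, rfl⟩)).mul_right (hzV _ ⟨d, hd, rfl⟩)
    set Z := zpowers z with hZ
    have hZne : Z ≠ ⊥ := by
      rw [hZ, Ne, zpowers_eq_bot]; intro h; rw [h, orderOf_one] at hzo; exact hp.ne_one hzo.symm
    have hZcomm : ∀ x : X, (∀ w ∈ Z, Commute w x) → x ∈ normalizer (Z : Set X) := fun x hx =>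
      Subgroup.mem_normalizer_fintype (S := (Z : Set X)) fun w hw => by
        rw [show x * w * x⁻¹ = w by rw [← (hx w hw).eq, mul_inv_cancel_right]]; exact hw
    have hZc : ∀ x, Commute z x → ∀ w ∈ Z, Commute w x := fun x hx w hw => by
      obtain ⟨m, rfl⟩ := mem_zpowers_iff.1 hw; exact hx.zpow_left m
    have haZ : a ∈ normalizer (Z : Set X) := by
      refine hZcomm a (hZc a ?_)
      have : a = (g : X)⁻¹ * b := by rw [hb', inv_mul_cancel_left]
      rw [this]; exact ((hzcen _ g.2).inv_right).mul_right hzb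
    haveI : (Z.subgroupOf G).Normal := ⟨fun w hw x => by
      have h1 : Commute (w : X) (x : X) := hZc x (hzcen x x.2) _ hw
      rw [show x * w * x⁻¹ = w from Subtype.ext (by
        rw [Subgroup.coe_mul, Subgroup.coe_mul, ← h1.eq, coe_inv, mul_inv_cancel_right])]
      exact hw⟩
    haveI := hquo Z (zpowers_le.2 hzG) hZne (fun x hx => hZcomm x (hZc x (hzcen x hx))) haZ
    haveI : Group.IsNilpotent G :=
      Subgroup.isNilpotent_of_ker_le_center (QuotientGroup.mk' (Z.subgroupOf G))
        (by
          rw [QuotientGroup.ker_mk']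
          intro w hw
          exact Subgroup.mem_center_iff.2 fun x => Subtype.ext (hZc x (hzcen x x.2) _ hw).eq.symm)
    intro y hy v hv
    obtain ⟨y, hy, rfl⟩ := hy
    obtain ⟨v, hv, rfl⟩ := hv
    have hcop : (orderOf y).Coprime (orderOf v) := by
      refine Nat.Coprime.coprime_dvd_left (hi ▸ Subgroup.orderOf_dvd_natCard _ hy) ?_
      exact Nat.Coprime.coprime_dvd_right (hj ▸ Subgroup.orderOf_dvd_natCard _ hv)
        (((Nat.coprime_primes hp hq).2 hsq).pow i j)
    exact (OddLocal.commute_of_coprime_orderOf inferInstance hcop).map G.subtype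
  · -- `S` has order prime to `p`, hence `V` is a `p`-group
    open scoped IsMulCommutative in
    intro y hy v hv
    have hqp : q = p := by
      have h1 : p ∣ Nat.card (S : Subgroup G) * Nat.card V := by
        refine hpG.trans ?_
        rw [← Subgroup.card_top (G := G), ← hMtop, hM]
        exact Core.card_sup_dvd (S : Subgroup G) V (Core.le_normalizer_of_normal _ _)
      rw [hi, hj] at h1
      rcases hp.dvd_mul.1 h1 with h | h
      · exact absurd ((Nat.prime_dvd_prime_iff_eq hp hs.out).1 (hp.dvd_of_dvd_pow h)).symm hsp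
      · exact ((Nat.prime_dvd_prime_iff_eq hp hq).1 (hp.dvd_of_dvd_pow h)).symm
    subst hqp
    have hfpS : ∀ x ∈ S', Commute b x → x = 1 := by
      intro x hx hc
      have h1 := hbp x (map_subtype_le _ hx)
      rw [hc.symm.mul_pow, hb1, mul_one] at h1
      exact orderOf_eq_one_iff.1 (Nat.eq_one_of_dvd_coprimes ((Nat.coprime_primes hs.out hp).2 hsp |>.pow_left i)
        (hS'c ▸ Subgroup.orderOf_dvd_natCard _ hx) (orderOf_dvd_of_pow_eq_one h1))
    have hpow : ∀ (m : ℕ) (x : X), x ∈ S' → b ^ m * x * (b ^ m)⁻¹ ∈ S' := by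
      intro m
      induction m with
      | zero => intro x hx; simpa using hx
      | succ m ihm => intro x hx; have h1 := hS'b _ (ihm x hx); rw [pow_succ']; simpa [mul_assoc] using h1
    let f : ℕ → S' → S' := fun m x =>
      ⟨(x : X) * (b ^ m * (x : X)⁻¹ * (b ^ m)⁻¹), S'.mul_mem x.2 (hpow m _ (inv_mem x.2))⟩
    have hfb : ∀ m ∈ Finset.range q, m ≠ 0 → Function.Bijective (f m) := by
      intro m hm hm0
      refine Finite.injective_iff_bijective.1 fun x w hxw => ?_
      have h1 : (x : X) * (b ^ m * (x : X)⁻¹ * (b ^ m)⁻¹) = (w : X) * (b ^ m * (w : X)⁻¹ * (b ^ m)⁻¹) :=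
        congrArg Subtype.val hxw
      have h2 : Commute (b ^ m) ((w : X)⁻¹ * x) := by
        have h3 := congrArg (fun z => (w : X)⁻¹ * z * b ^ m * x) h1
        simp only [mul_assoc, inv_mul_cancel_left, inv_mul_cancel, mul_one] at h3
        exact (by simpa [mul_assoc] using h3 : (w : X)⁻¹ * x * b ^ m = b ^ m * ((w : X)⁻¹ * x)).symm
      have hcop : Nat.Coprime m (orderOf b) := by
        refine Nat.Coprime.coprime_dvd_right (orderOf_dvd_of_pow_eq_one hb1) ?_
        rw [Nat.coprime_comm]
        exact hp.coprime_iff_not_dvd.2 fun hd => hm0 (Nat.eq_zero_of_dvd_of_lt hd (Finset.mem_range.1 hm))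
      obtain ⟨r, hr⟩ := exists_pow_eq_self_of_coprime hcop
      exact Subtype.ext (inv_mul_eq_one.1 (hfpS _ (S'.mul_mem (S'.inv_mem w.2) x.2) (hr ▸ h2.pow_left r))).symm
    have h := fixed_pow_card_of_norms θ S' b q hp.pos f (fun x => Subtype.ext (by simp [f])) hfb
      (fun x v => by
        have h1 : ∀ m : ℕ, ((f m x : S') : X) * b ^ m = ((x : X) * b * (x : X)⁻¹) ^ m := fun m => by
          rw [conj_pow]; simp [f, mul_assoc]
        simp only [h1]
        have hxb : (x : X) * b * (x : X)⁻¹ = ((x : X) * (b * (x : X)⁻¹ * b⁻¹)) * b := by group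
        have hxG : (x : X) * (b * (x : X)⁻¹ * b⁻¹) ∈ G :=
          mul_mem (map_subtype_le _ x.2) (hGn.conj_mem _ (inv_mem (map_subtype_le _ x.2)) b)
        refine hnorm _ (fun v => ?_) ?_ v
        · rw [hxb, ← mul_assoc]; exact hbp _ (mul_mem (hV'G v.2) hxG)
        · rw [hxb]; exact hbp _ hxG)
      ⟨v, hv⟩ y hy
    rw [map_pow] at h
    have hcop : (Nat.card V').Coprime (Nat.card S') := by
      rw [hV'c, hS'c]; exact ((Nat.coprime_primes hp hs.out).2 (Ne.symm hsp)).pow j i
    have h2 : θ y ⟨v, hv⟩ = ⟨v, hv⟩ := (powCoprime hcop).injective h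
    exact mul_inv_eq_iff_eq_mul.1 ((MulAut.conjNormal_apply y (⟨v, hv⟩ : V')).symm.trans (congrArg Subtype.val h2))

/-- A finite group with a splitting automorphism of prime order is nilpotent. -/
theorem isNilpotent_of_splitting {G : Type u} [Group G] [Finite G] (α : MulAut G) (hp : (orderOf α).Prime)
    (hsplit : ∀ x : G, (((List.range (orderOf α)).map (fun i : ℕ => (α ^ i) x)).prod = 1)) :
    Group.IsNilpotent G := by
  haveI : Finite (G ⋊[MonoidHom.id (MulAut G)] MulAut G) := Finite.of_equiv _ SemidirectProduct.equivProd.symm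
  let ι : G →* G ⋊[MonoidHom.id (MulAut G)] MulAut G := SemidirectProduct.inl
  let a : G ⋊[MonoidHom.id (MulAut G)] MulAut G := SemidirectProduct.inr α
  have hG : ι.range.Normal := by
    rw [show ι.range = SemidirectProduct.rightHom.ker from SemidirectProduct.range_inl_eq_ker_rightHom]
    infer_instance
  have key : ∀ (x : G) (n : ℕ), (ι x * a) ^ n =
      ι (((List.range n).map (fun i : ℕ => (α ^ i) x)).prod) * a ^ n := by
    intro x n
    induction n with
    | zero => simp
    | succ n ih =>
      rw [pow_succ (ι x * a), ih, List.range_succ, List.map_append, List.prod_append, List.map_singleton,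
        List.prod_singleton, map_mul ι, pow_succ a]
      show ι _ * a ^ n * (ι x * a) = ι _ * ι ((MonoidHom.id (MulAut G) (α ^ n)) x) * (a ^ n * a)
      rw [show ι ((MonoidHom.id (MulAut G) (α ^ n)) x) = a ^ n * ι x * (a ^ n)⁻¹ by
        simp only [ι, a, ← map_pow, ← map_inv]; exact SemidirectProduct.inl_aut (α ^ n) x]
      group
  haveI := hG
  haveI := isNilpotent_of_coset_pow hp (Nat.card ι.range) _ ι.range a rfl (by
    rintro _ ⟨x, rfl⟩
    rw [key, hsplit, map_one, one_mul, ← map_pow, pow_orderOf_eq_one, map_one])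
  exact Group.nilpotent_of_mulEquiv (MonoidHom.ofInjective (f := ι) SemidirectProduct.inl_injective).symm

end CfsgLib.Orders
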