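import Cfsg.Agent.Lib.Core.Basic
import Cfsg.Agent.Lib.Core.UniqueOrderP
import Mathlib.Data.Nat.Choose.Lucas
import Mathlib.GroupTheory.GroupAction.SubMulAction.Combination

/-!
# The number of subgroups of a given prime power order
-/

set_option autoImplicit false

namespace CfsgLib.Orders

universe u

open scoped Pointwise

theorem choose_pred_modEq_one {p : ℕ} (hp : p.Prime) (β : ℕ) {m : ℕ} (hm : 0 < m) :
    (p ^ β * m - 1).choose (p ^ β - 1) ≡ 1 [MOD p] := by
  have := Fact.mk hp
  induction β with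
  | zero => simp [Nat.ModEq]
  | succ β ih =>
    refine Choose.choose_modEq_choose_mod_mul_choose_div_nat.trans ?_
    have key : ∀ k : ℕ, 0 < k → (p * k - 1) % p = p - 1 ∧ (p * k - 1) / p = k - 1 := by
      intro k hk
      have h1 : p * k - 1 = (p - 1) + p * (k - 1) := by
        obtain ⟨j, rfl⟩ := Nat.exists_eq_succ_of_ne_zero hk.ne'
        have := hp.pos
        simp only [Nat.mul_succ, Nat.add_one_sub_one, Nat.succ_eq_add_one]
        omega
      rw [h1, Nat.add_mul_mod_self_left, Nat.add_mul_div_left _ _ hp.pos,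
        Nat.mod_eq_of_lt (Nat.sub_lt hp.pos Nat.one_pos),
        Nat.div_eq_of_lt (Nat.sub_lt hp.pos Nat.one_pos), zero_add]
      exact ⟨rfl, rfl⟩
    rw [pow_succ', mul_assoc, (key _ (Nat.mul_pos (pow_pos hp.pos _) hm)).1,
      (key _ (Nat.mul_pos (pow_pos hp.pos _) hm)).2, (key _ (pow_pos hp.pos _)).1,
      (key _ (pow_pos hp.pos _)).2, Nat.choose_self, one_mul]
    exact ih

section Count

variable {G : Type u} [Group G] [Finite G]

theorem card_stabilizer_dvd [DecidableEq G] {q : ℕ} (S : Set.powersetCard G q) :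
    Nat.card (MulAction.stabilizer G S) ∣ q ∧
    (Nat.card (MulAction.stabilizer G S) = q → ∀ x ∈ S,
      ∀ y, y ∈ S ↔ y * x⁻¹ ∈ MulAction.stabilizer G S) := by
  have := Fintype.ofFinite G
  set K := MulAction.stabilizer G S
  let T : Set G := {y | y⁻¹ ∈ S}
  have hstab : ∀ k ∈ K, ∀ y ∈ S, k * y ∈ S := by
    intro k hk y hy
    have : k • y ∈ k • S := by
      rw [← Set.powersetCard.mem_coe_iff, Set.powersetCard.coe_smul]
      exact Finset.smul_mem_smul_finset (Set.powersetCard.mem_coe_iff.2 hy)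
    rwa [MulAction.mem_stabilizer_iff.1 hk] at this
  have hT : QuotientGroup.mk ⁻¹' ((fun y : G => (y : G ⧸ K)) '' T) = T := by
    ext y
    refine ⟨?_, fun hy => ⟨y, hy, rfl⟩⟩
    rintro ⟨z, hz, hzy⟩
    have h1 : z⁻¹ * y ∈ K := QuotientGroup.eq.1 hzy
    have h2 := hstab _ (inv_mem h1) _ hz
    show y⁻¹ ∈ S
    simpa using h2
  have hcardT : Nat.card T = q := by
    have h : Nat.card T = Nat.card {y : G // y ∈ S} := Nat.card_congr ((Equiv.inv G).subtypeEquiv fun y => Iff.rfl)
    rw [h, Nat.card_congr (Equiv.subtypeEquivRight (q := fun y => y ∈ (S : Finset G))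
      fun y => Set.powersetCard.mem_coe_iff.symm), Nat.card_eq_finsetCard, Set.powersetCard.card_eq]
  have hprod : q = Nat.card K * Nat.card ((fun y : G => (y : G ⧸ K)) '' T : Set (G ⧸ K)) := by
    rw [← hcardT, ← Nat.card_prod, ← Nat.card_congr (QuotientGroup.preimageMkEquivSubgroupProdSet K _)]
    congr 1
    rw [hT]
  refine ⟨Dvd.intro _ hprod.symm, fun hK x hx y => ?_⟩
  have hone : Nat.card ((fun y : G => (y : G ⧸ K)) '' T : Set (G ⧸ K)) ≤ 1 := by
    rw [hK] at hprod
    rcases Nat.eq_zero_or_pos q with h0 | h0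
    · exact absurd (hK.trans h0) Nat.card_pos.ne'
    · exact ((Nat.mul_eq_left h0.ne').1 hprod.symm).le
  constructor
  · intro hy
    have := Finite.card_le_one_iff_subsingleton.1 hone
    have h2 := congrArg Subtype.val (this.elim ⟨_, ⟨x⁻¹, by simpa [T] using hx, rfl⟩⟩
      ⟨_, ⟨y⁻¹, by simpa [T] using hy, rfl⟩⟩)
    have h3 := inv_mem (QuotientGroup.eq.1 h2)
    simpa using h3
  · intro hy
    simpa using hstab _ hy x hx

theorem card_subgroups_modEq_one {p β : ℕ} (hp : p.Prime) (hdiv : p ^ β ∣ Nat.card G) :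
    Nat.card {H : Subgroup G // Nat.card H = p ^ β} ≡ 1 [MOD p] := by
  classical
  have := Fintype.ofFinite G
  obtain ⟨m, hm⟩ := hdiv
  have hm0 : 0 < m := Nat.pos_of_ne_zero fun h => by simp [h] at hm
  set q := p ^ β
  have hq : 0 < q := pow_pos hp.pos _
  let Ω := ↥(Set.powersetCard G q)
  -- the good part
  let Good := {S : Ω // Nat.card (MulAction.stabilizer G S) = q}
  let Bad := {S : Ω // Nat.card (MulAction.stabilizer G S) ≠ q}
  have hgood : Nat.card Good = Nat.card {H : Subgroup G // Nat.card H = q} * m := by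
    have hcos : ∀ H : {H : Subgroup G // Nat.card H = q}, Nat.card (G ⧸ H.1) = m := fun H => by
      refine Nat.eq_of_mul_eq_mul_right hq ?_
      rw [mul_comm m, ← hm, Subgroup.card_eq_card_quotient_mul_card_subgroup H.1, H.2]
    haveI := Fintype.ofFinite {H : Subgroup G // Nat.card H = q}
    have hsig : Nat.card (Σ H : {H : Subgroup G // Nat.card H = q}, G ⧸ H.1) =
        Nat.card {H : Subgroup G // Nat.card H = q} * m := by
      rw [Nat.card_sigma, Finset.sum_congr rfl (fun H _ => hcos H), Finset.sum_const,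
        Finset.card_univ, smul_eq_mul, Nat.card_eq_fintype_card]
    rw [← hsig]
    let mkS : (Σ H : {H : Subgroup G // Nat.card H = q}, G ⧸ H.1) → Ω := fun a =>
      ⟨(Set.toFinite {y : G | (y : G ⧸ a.1.1) = a.2}).toFinset, by
        show Finset.card _ = q
        rw [← Set.ncard_eq_toFinset_card, ← Nat.card_coe_set_eq]
        have h := Nat.card_congr (QuotientGroup.preimageMkEquivSubgroupProdSet a.1.1 {a.2})
        rw [Nat.card_prod, Nat.card_unique (α := ({a.2} : Set _)), mul_one, a.1.2] at h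
        exact h⟩
    have hmem : ∀ a y, y ∈ mkS a ↔ (y : G ⧸ a.1.1) = a.2 := fun a y => by
      rw [← Set.powersetCard.mem_coe_iff]; simp [mkS]
    have hstab : ∀ a, Nat.card (MulAction.stabilizer G (mkS a)) = q := by
      intro a
      obtain ⟨x, hx⟩ := QuotientGroup.mk_surjective a.2
      obtain ⟨hd, -⟩ := card_stabilizer_dvd (mkS a)
      refine le_antisymm (Nat.le_of_dvd hq hd) ?_
      have hle : MulAut.conj x • a.1.1 ≤ MulAction.stabilizer G (mkS a) := by
        intro k hk
        rw [Core.mem_conj_smul_iff] at hk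
        have hsub : ∀ y, y ∈ mkS a → k * y ∈ mkS a := by
          intro y hy
          rw [hmem] at hy ⊢
          rw [← hx, QuotientGroup.eq] at hy ⊢
          have := mul_mem (mul_mem hy (inv_mem hk)) (one_mem a.1.1)
          have he : (k * y)⁻¹ * x = y⁻¹ * x * (x⁻¹ * k * x)⁻¹ * 1 := by group
          rw [he]; exact this
        rw [MulAction.mem_stabilizer_iff]
        refine Set.powersetCard.eq_iff_subset.2 fun y hy => ?_
        rw [Set.powersetCard.coe_smul, Finset.mem_smul_finset] at hy
        obtain ⟨z, hz, rfl⟩ := hy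
        exact Set.powersetCard.mem_coe_iff.2 (hsub z (Set.powersetCard.mem_coe_iff.1 hz))
      calc q = Nat.card (MulAut.conj x • a.1.1 : Subgroup G) := by rw [Core.card_conj_smul, a.1.2]
        _ ≤ _ := Nat.le_of_dvd Nat.card_pos (Subgroup.card_dvd_of_le hle)
    refine (Nat.card_congr (Equiv.ofBijective (fun a => (⟨mkS a, hstab a⟩ : Good)) ⟨?_, ?_⟩)).symm
    · intro a b hab
      have h : ∀ y : G, (y : G ⧸ a.1.1) = a.2 ↔ (y : G ⧸ b.1.1) = b.2 := fun y => by
        rw [← hmem, ← hmem, show mkS a = mkS b from congrArg Subtype.val hab]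
      obtain ⟨x, hx⟩ := QuotientGroup.mk_surjective a.2
      have hxb := (h x).1 hx
      have hH : a.1 = b.1 := by
        refine Subtype.ext (Subgroup.ext fun z => ?_)
        have := h (x * z)
        rw [← hx, ← hxb, QuotientGroup.eq, QuotientGroup.eq] at this
        simpa using this
      obtain ⟨Ha, ca⟩ := a
      obtain ⟨Hb, cb⟩ := b
      subst hH
      simp only at hx hxb
      rw [← hx, ← hxb]
    · rintro ⟨S, hS⟩
      obtain ⟨x, hx⟩ : ∃ x, x ∈ S := by
        obtain ⟨x, hx⟩ := Finset.card_pos.1 ((Set.powersetCard.card_eq S).symm ▸ hq)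
        exact ⟨x, Set.powersetCard.mem_coe_iff.1 hx⟩
      set K := MulAction.stabilizer G S
      let H : {H : Subgroup G // Nat.card H = q} := ⟨MulAut.conj x⁻¹ • K, by rw [Core.card_conj_smul]; exact hS⟩
      refine ⟨⟨H, (x : G ⧸ H.1)⟩, Subtype.ext (SetLike.ext fun y => ?_)⟩
      show y ∈ mkS ⟨H, (x : G ⧸ H.1)⟩ ↔ y ∈ S
      rw [hmem, QuotientGroup.eq, Core.mem_conj_smul_iff, (card_stabilizer_dvd S).2 hS x hx y]
      have he : x⁻¹⁻¹ * (y⁻¹ * x) * x⁻¹ = (y * x⁻¹)⁻¹ := by group
      rw [he, inv_mem_iff]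
  -- the bad part
  have hbad : p * m ∣ Nat.card Bad := by
    have hconst : ∀ (g : G) (S : Ω), Nat.card (MulAction.stabilizer G (g • S)) =
        Nat.card (MulAction.stabilizer G S) := fun g S => by
      rw [MulAction.stabilizer_smul_eq_stabilizer_map_conj]
      exact Subgroup.card_map_of_injective (MulAut.conj g).injective
    letI : MulAction G Bad :=
      { smul := fun g S => ⟨g • S.1, by rw [hconst]; exact S.2⟩
        one_smul := fun S => Subtype.ext (one_smul G S.1)
        mul_smul := fun a b S => Subtype.ext (mul_smul a b S.1) }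
    rw [Nat.card_congr (MulAction.selfEquivSigmaOrbits G Bad)]
    haveI := Fintype.ofFinite (MulAction.orbitRel.Quotient G Bad)
    rw [Nat.card_sigma]
    refine Finset.dvd_sum fun o _ => ?_
    generalize Quotient.out o = S
    have h1 : Nat.card (MulAction.orbit G S) * Nat.card (MulAction.stabilizer G S.1) = q * m := by
      have hst : MulAction.stabilizer G S.1 = MulAction.stabilizer G S := by
        ext g
        rw [MulAction.mem_stabilizer_iff, MulAction.mem_stabilizer_iff]
        exact ⟨fun h => Subtype.ext h, fun h => congrArg Subtype.val h⟩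
      rw [hst, ← Nat.card_prod, Nat.card_congr (MulAction.orbitProdStabilizerEquivGroup G S), hm]
    obtain ⟨i, hi, hi'⟩ := (Nat.dvd_prime_pow hp).1 (card_stabilizer_dvd S.1).1
    have hlt : i < β := lt_of_le_of_ne hi fun h => S.2 (hi'.trans (by rw [h]))
    rw [hi'] at h1
    have h2 : Nat.card (MulAction.orbit G S) = p ^ (β - i) * m := by
      refine Nat.eq_of_mul_eq_mul_right (pow_pos hp.pos i) (h1.trans ?_)
      rw [mul_right_comm, ← pow_add, Nat.sub_add_cancel hi]
    rw [h2]
    exact Nat.mul_dvd_mul_right (dvd_pow_self p (by omega)) m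
  have htot : Nat.card Ω = (q * m - 1).choose (q - 1) * m := by
    rw [Set.powersetCard.card, hm]
    refine Nat.eq_of_mul_eq_mul_left hq ?_
    have h := Nat.add_one_mul_choose_eq (q * m - 1) (q - 1)
    have h1 : q * m - 1 + 1 = q * m := Nat.sub_add_cancel (Nat.mul_pos hq hm0)
    rw [h1, Nat.sub_add_cancel hq] at h
    rw [mul_comm q ((q * m).choose q), ← h]; ring
  have hsplit : Nat.card Ω = Nat.card Good + Nat.card Bad := by
    rw [← Nat.card_sum]; exact Nat.card_congr (Equiv.sumCompl _).symm
  obtain ⟨c, hc⟩ := hbad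
  rw [hsplit, hgood, hc] at htot
  have h3 : Nat.card {H : Subgroup G // Nat.card H = q} + p * c = (q * m - 1).choose (q - 1) :=
    Nat.eq_of_mul_eq_mul_right hm0 (by rw [← htot]; ring)
  have h4 := choose_pred_modEq_one hp β hm0
  rw [← h3] at h4
  refine Nat.ModEq.trans ?_ h4
  simp [Nat.ModEq]

theorem card_normal_subgroups_modEq_one {p m s : ℕ} (hp : p.Prime) (hG : Nat.card G = p ^ m)
    (hs : s ≤ m) : Nat.card {H : Subgroup G // H.Normal ∧ Nat.card H = p ^ s} ≡ 1 [MOD p] := by
  have := Fact.mk hp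
  letI : MulAction G {H : Subgroup G // Nat.card H = p ^ s} :=
    { smul := fun g H => ⟨MulAut.conj g • H.1, by rw [Core.card_conj_smul]; exact H.2⟩
      one_smul := fun H => Subtype.ext (Core.conj_one_smul H.1)
      mul_smul := fun a b H => Subtype.ext ((Core.conj_smul_conj_smul a b H.1).symm) }
  have h := (IsPGroup.of_card hG).card_modEq_card_fixedPoints {H : Subgroup G // Nat.card H = p ^ s}
  refine Nat.ModEq.trans ?_ (h.symm.trans (card_subgroups_modEq_one hp (hG ▸ pow_dvd_pow p hs)))
  refine congrArg (· % p) (Nat.card_congr ?_)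
  exact
    { toFun := fun H => ⟨⟨H.1, H.2.2⟩, fun g => Subtype.ext (by
        show MulAut.conj g • H.1 = H.1
        haveI := H.2.1
        exact Subgroup.Normal.conj_smul_eq_self g H.1)⟩
      invFun := fun H => ⟨H.1.1, ⟨fun n hn g => by
        have h2 : MulAut.conj g • H.1.1 = H.1.1 := congrArg Subtype.val (H.2 g)
        rw [← h2, Core.mem_conj_smul_iff]
        convert hn using 1
        group⟩, H.1.2⟩
      left_inv := fun H => rfl
      right_inv := fun H => rfl }

end Count

end CfsgLib.Orders
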