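import Cfsg.Agent.Lib.Core.Hall
import Cfsg.Agent.Lib.Orders.ThreeCounts
import Mathlib

/-!
# Groups whose Sylow numbers are all `1` or prime powers are solvable

The prime of the Sylow number pairs the primes; a central element of a Sylow subgroup then has a class of
prime power size, against Burnside.
-/

set_option autoImplicit false
set_option linter.all false

namespace CfsgLib.Orders.SylowCounts

open Subgroup
open scoped Pointwise commutatorElement

universe u

/-- every Sylow number is `1` or a prime power -/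
def PP (G : Type u) [Group G] : Prop :=
  ∀ (r : ℕ) [Fact r.Prime], Nat.card (Sylow r G) = 1 ∨ IsPrimePow (Nat.card (Sylow r G))

theorem pp_of_dvd {n d : ℕ} (h : n = 1 ∨ IsPrimePow n) (hd : d ∣ n) : d = 1 ∨ IsPrimePow d := by
  rcases h with rfl | h
  · exact Or.inl (Nat.dvd_one.1 hd)
  · exact (eq_or_ne d 1).imp_right fun h1 => h.dvd hd h1

variable {G : Type u} [Group G] [Finite G]

theorem card_sylow_eq {r : ℕ} [Fact r.Prime] (P : Sylow r G) :
    Nat.card (Sylow r G) = (normalizer ((P : Subgroup G) : Set G)).index := P.card_eq_index_normalizer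

theorem card_sylow_dvd_of_normal (N : Subgroup G) [N.Normal] (r : ℕ) [Fact r.Prime] :
    Nat.card (Sylow r N) ∣ Nat.card (Sylow r G) := by
  obtain ⟨Q⟩ := (inferInstance : Nonempty (Sylow r N))
  obtain ⟨P, hP⟩ := Q.exists_comap_subtype_eq
  set Q' := (Q : Subgroup N).map N.subtype
  set H := normalizer (Q' : Set G)
  have hQ' : Q' = N ⊓ (P : Subgroup G) := by
    rw [show Q' = (Q : Subgroup N).map N.subtype from rfl, ← hP, map_comap_eq, N.range_subtype]
  have hle : normalizer ((P : Subgroup G) : Set G) ≤ H := by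
    intro g hg
    refine mem_normalizer_iff.2 fun x => ?_
    rw [hQ', mem_inf, mem_inf]
    exact and_congr ⟨fun hx => (inferInstance : N.Normal).conj_mem x hx g, fun hx => by
      have := (inferInstance : N.Normal).conj_mem _ hx g⁻¹
      simpa [mul_assoc] using this⟩ (mem_normalizer_iff.1 hg x)
  have hN : normalizer ((Q : Subgroup N) : Set N) = H.subgroupOf N := by
    ext x
    rw [mem_subgroupOf, mem_normalizer_iff, mem_normalizer_iff]
    constructor
    · intro h y
      constructor
      · rintro ⟨z, hz, rfl⟩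
        exact ⟨_, (h z).1 hz, rfl⟩
      · rintro ⟨z, hz, hzy⟩
        refine ⟨x⁻¹ * z * x, (h _).2 ?_, ?_⟩
        · rw [show x * (x⁻¹ * z * x) * x⁻¹ = z by group]
          exact hz
        · have hzy' : (z : G) = (x : G) * y * (x : G)⁻¹ := hzy
          show (x : G)⁻¹ * z * x = y
          rw [hzy']; group
    · intro h y
      have h1 : ∀ z : N, (z : G) ∈ Q' ↔ z ∈ (Q : Subgroup N) := fun z =>
        ⟨fun ⟨w, hw, e⟩ => N.subtype_injective e ▸ hw, fun hz => mem_map_of_mem _ hz⟩
      rw [← h1, ← h1]
      exact h y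
  rw [card_sylow_eq Q, card_sylow_eq P, hN]
  refine dvd_trans ?_ (Subgroup.index_dvd_of_le hle)
  refine dvd_of_eq ?_ |>.trans (dvd_refl _)
  -- the Frattini factorisation
  have htop : H ⊔ N = ⊤ := Sylow.normalizer_sup_eq_top Q
  have h2 : N.relIndex H = N.index := by
    rw [← relIndex_sup_right (H := H) (K := N), htop, relIndex_top_right]
  have h3 : Nat.card (H ⊓ N : Subgroup G) * H.relIndex N = Nat.card N := by
    rw [← Nat.card_congr (subgroupOfEquivOfLe (inf_le_right : H ⊓ N ≤ N)).toEquiv, ← inf_relIndex_right H N]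
    exact ((H ⊓ N).subgroupOf N).card_mul_index
  have h4 : Nat.card (H ⊓ N : Subgroup G) * N.relIndex H = Nat.card H := by
    rw [inf_comm, ← Nat.card_congr (subgroupOfEquivOfLe (inf_le_right : N ⊓ H ≤ H)).toEquiv, ← inf_relIndex_right N H]
    exact ((N ⊓ H).subgroupOf H).card_mul_index
  show H.relIndex N = H.index
  refine Nat.eq_of_mul_eq_mul_left (Nat.card_pos (α := H)) ?_
  rw [H.card_mul_index, ← N.card_mul_index, ← h3, ← h4, h2]
  ring

theorem card_sylow_dvd_of_quotient (N : Subgroup G) [N.Normal] (r : ℕ) [Fact r.Prime] :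
    Nat.card (Sylow r (G ⧸ N)) ∣ Nat.card (Sylow r G) := by
  obtain ⟨P⟩ := (inferInstance : Nonempty (Sylow r G))
  rw [card_sylow_eq (P.mapSurjective (QuotientGroup.mk'_surjective N)), card_sylow_eq P,
    Sylow.coe_mapSurjective]
  exact (Subgroup.index_dvd_of_le (le_normalizer_map (QuotientGroup.mk' N))).trans
    (Subgroup.index_map_dvd _ (QuotientGroup.mk'_surjective N))

theorem simple_case [IsSimpleGroup G] (h : PP G) : Group.IsSolvable G := by
  classical
  by_contra hns
  have h3 : 3 ≤ (Nat.card G).primeFactors.card := by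
    by_contra h
    exact hns (CfsgLib.Orders.ThreeCounts.isSolvable_of_small (by omega))
  -- the prime of a Sylow number
  have hpr : ∀ r : ℕ, r.Prime → r ∣ Nat.card G → ∃ p a : ℕ, p.Prime ∧ p ≠ r ∧ p ∣ Nat.card G ∧
      ∀ R : Sylow r G, (normalizer ((R : Subgroup G) : Set G)).index = p ^ a := by
    intro r hr hrG
    haveI := Fact.mk hr
    obtain ⟨R⟩ := (inferInstance : Nonempty (Sylow r G))
    rcases h r with h1 | ⟨p, a, hp, ha, he⟩
    · exfalso
      rw [card_sylow_eq R, index_eq_one] at h1
      rcases (normalizer_eq_top_iff.1 h1).eq_bot_or_eq_top with e | e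
      · exact R.ne_bot_of_dvd_card hrG e
      · refine hns ?_
        have h2 := R.2
        rw [e] at h2
        haveI := (h2.of_equiv Subgroup.topEquiv).isNilpotent
        infer_instance
    · have hp' := hp.nat_prime
      refine ⟨p, a, hp', fun e => ?_, ?_, fun R' => by rw [← card_sylow_eq R', he]⟩
      · have := card_sylow_modEq_one r G
        rw [← he, e] at this
        unfold Nat.ModEq at this
        rw [Nat.pow_mod, Nat.mod_self, zero_pow ha.ne', Nat.zero_mod, Nat.one_mod_eq_one.2 hr.ne_one] at this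
        exact zero_ne_one this
      · refine dvd_trans ?_ (normalizer ((R : Subgroup G) : Set G)).index_dvd_card
        rw [← card_sylow_eq R, ← he]
        exact dvd_pow_self p ha.ne'
  choose pr ex hprp hprne hprd hprn using hpr
  -- a conjugate inside a normalizer of prime to `r` index
  have hin : ∀ (r : ℕ) [Fact r.Prime] (H : Subgroup G), ¬ r ∣ H.index → ∃ R : Sylow r G, (R : Subgroup G) ≤ H := by
    intro r _ H hH
    obtain ⟨R0⟩ := (inferInstance : Nonempty (Sylow r H))
    refine ⟨Sylow.ofCard ((R0 : Subgroup H).map H.subtype) ?_, by rw [Sylow.coe_ofCard]; exact map_subtype_le _⟩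
    rw [card_map_of_injective H.subtype_injective, R0.card_eq_multiplicity]
    congr 1
    rw [← H.card_mul_index, Nat.factorization_mul Nat.card_pos.ne' index_ne_zero_of_finite, Finsupp.add_apply,
      Nat.factorization_eq_zero_of_not_dvd hH, add_zero]
  have hndvd : ∀ {a b e : ℕ}, a.Prime → b.Prime → a ≠ b → ¬ a ∣ b ^ e := fun ha hb hne hd =>
    hne ((Nat.prime_dvd_prime_iff_eq ha hb).1 (ha.dvd_of_dvd_pow hd))
  -- the pairing is an involution
  have hinv : ∀ r hr hrG, pr (pr r hr hrG) (hprp r hr hrG) (hprd r hr hrG) = r := by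
    intro r hr hrG
    by_contra hne
    set p := pr r hr hrG
    haveI := Fact.mk hr
    haveI := Fact.mk (hprp r hr hrG)
    obtain ⟨P⟩ := (inferInstance : Nonempty (Sylow p G))
    obtain ⟨R, hR⟩ := hin r (normalizer ((P : Subgroup G) : Set G)) (by
      rw [hprn p (hprp r hr hrG) (hprd r hr hrG) P]
      exact hndvd hr (hprp p (hprp r hr hrG) (hprd r hr hrG)) (Ne.symm hne))
    set U : Subgroup G := (R : Subgroup G) ⊔ (P : Subgroup G)
    have hUn : normalClosure ((R : Subgroup G) : Set G) ≤ U := by
      refine (closure_le U).2 fun x hx => ?_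
      obtain ⟨y, hy, hyx⟩ := Group.mem_conjugatesOfSet_iff.1 hx
      obtain ⟨g, hg⟩ := isConj_iff.1 hyx
      have hco : (P : Subgroup G).index.Coprime (normalizer ((R : Subgroup G) : Set G)).index := by
        rw [hprn r hr hrG R]
        exact (Nat.Coprime.pow_left (ex r hr hrG) ((Nat.Prime.coprime_iff_not_dvd (hprp r hr hrG)).2 P.not_dvd_index)).symm
      obtain ⟨w, hw, n, hn, rfl⟩ := CfsgLib.Core.exists_mul_of_coprime_index hco g
      rw [← hg, show w * n * y * (w * n)⁻¹ = w * (n * y * n⁻¹) * w⁻¹ by group]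
      exact mul_mem (mul_mem (mem_sup_right hw) (mem_sup_left ((mem_normalizer_iff.1 hn y).1 hy)))
        (inv_mem (mem_sup_right hw))
    rcases (normalClosure_normal (s := ((R : Subgroup G) : Set G))).eq_bot_or_eq_top with e | e
    · exact R.ne_bot_of_dvd_card hrG (le_bot_iff.1 (e ▸ Subgroup.le_normalClosure))
    · have hU : U = ⊤ := top_le_iff.1 (e ▸ hUn)
      refine hns (CfsgLib.Orders.ThreeCounts.isSolvable_of_small ?_)
      have hsub : (Nat.card G).primeFactors ⊆ {r, p} := by
        intro q hq
        have hq' := Nat.prime_of_mem_primeFactors hq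
        have hd : q ∣ Nat.card (R : Subgroup G) * Nat.card (P : Subgroup G) := by
          have h1 : Nat.card U ∣ Nat.card (R : Subgroup G) * Nat.card (P : Subgroup G) := by
            rw [CfsgLib.Core.card_sup_of_disjoint (R : Subgroup G) (P : Subgroup G) hR (disjoint_iff.1
              (Subgroup.disjoint_of_coprime_natCard (by
                rw [R.card_eq_multiplicity, P.card_eq_multiplicity]
                exact Nat.coprime_pow_primes _ _ hr (hprp r hr hrG) (hprne r hr hrG).symm)))]
          rw [hU, card_top] at h1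
          exact (Nat.dvd_of_mem_primeFactors hq).trans h1
        rcases hq'.dvd_mul.1 hd with h' | h'
        · rw [R.card_eq_multiplicity] at h'
          rw [(Nat.prime_dvd_prime_iff_eq hq' hr).1 (hq'.dvd_of_dvd_pow h')]
          exact Finset.mem_insert_self _ _
        · rw [P.card_eq_multiplicity] at h'
          rw [(Nat.prime_dvd_prime_iff_eq hq' (hprp r hr hrG)).1 (hq'.dvd_of_dvd_pow h')]
          exact Finset.mem_insert_of_mem (Finset.mem_singleton_self _)
      exact (Finset.card_le_card hsub).trans Finset.card_le_two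
  obtain ⟨r, hrmem⟩ := Finset.card_pos.1 (show 0 < (Nat.card G).primeFactors.card by omega)
  have hr := Nat.prime_of_mem_primeFactors hrmem
  have hrG := Nat.dvd_of_mem_primeFactors hrmem
  haveI := Fact.mk hr
  obtain ⟨R⟩ := (inferInstance : Nonempty (Sylow r G))
  set p := pr r hr hrG
  -- other Sylow subgroups centralise `R`
  have hcen : ∀ q : ℕ, q.Prime → q ∣ Nat.card G → q ≠ r → q ≠ p →
      ∃ Q : Sylow q G, (Q : Subgroup G) ≤ centralizer ((R : Subgroup G) : Set G) := by
    intro q hq hqG hqr hqp
    haveI := Fact.mk hq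
    obtain ⟨Q, hQ⟩ := hin q (normalizer ((R : Subgroup G) : Set G)) (by
      rw [hprn r hr hrG R]; exact hndvd hq (hprp r hr hrG) hqp)
    refine ⟨Q, ?_⟩
    set t := pr q hq hqG
    have htr : t ≠ r := by
      intro e
      refine hqp ?_
      have h1 := hinv q hq hqG
      simp only [show pr q hq hqG = r from e] at h1
      exact h1.symm
    have htp : t ≠ p := by
      intro e
      refine hqr ?_
      have h1 := hinv q hq hqG
      simp only [show pr q hq hqG = p from e] at h1
      rw [← h1]
      exact hinv r hr hrG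
    obtain ⟨R', hR'⟩ := hin r (normalizer ((Q : Subgroup G) : Set G)) (by
      rw [hprn q hq hqG Q]; exact hndvd hr (hprp q hq hqG) htr.symm)
    obtain ⟨g, hg⟩ := MulAction.exists_smul_eq G R R'
    have hco : (normalizer ((Q : Subgroup G) : Set G)).index.Coprime (normalizer ((R : Subgroup G) : Set G)).index := by
      rw [hprn q hq hqG Q, hprn r hr hrG R]
      exact Nat.coprime_pow_primes _ _ (hprp q hq hqG) (hprp r hr hrG) htp
    obtain ⟨n, hn, m, hm, rfl⟩ := CfsgLib.Core.exists_mul_of_coprime_index hco g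
    have hRQ : (R : Subgroup G) ≤ normalizer ((Q : Subgroup G) : Set G) := by
      intro x hx
      have h1 : n * x * n⁻¹ ∈ (R' : Subgroup G) := by
        rw [← hg, mul_smul, Sylow.smul_eq_iff_mem_normalizer.2 hm, Sylow.coe_subgroup_smul,
          CfsgLib.Core.mem_conj_smul_iff]
        simpa [mul_assoc] using hx
      have h2 := (normalizer ((Q : Subgroup G) : Set G)).mul_mem ((normalizer ((Q : Subgroup G) : Set G)).mul_mem ((normalizer ((Q : Subgroup G) : Set G)).inv_mem hn) (hR' h1)) hn
      rwa [show n⁻¹ * (n * x * n⁻¹) * n = x by group] at h2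
    intro x hx
    refine mem_centralizer_iff.2 fun y hy => ?_
    have h1 : ⁅y, x⁆ ∈ (R : Subgroup G) ⊓ (Q : Subgroup G) := by
      refine ⟨?_, ?_⟩
      · rw [commutatorElement_def, show y * x * y⁻¹ * x⁻¹ = y * (x * y⁻¹ * x⁻¹) by group]
        exact (R : Subgroup G).mul_mem hy ((mem_normalizer_iff.1 (hQ hx) _).1 ((R : Subgroup G).inv_mem hy))
      · rw [commutatorElement_def]
        exact (Q : Subgroup G).mul_mem ((mem_normalizer_iff.1 (hRQ hy) _).1 hx) ((Q : Subgroup G).inv_mem hx)
    rw [disjoint_iff.1 (Subgroup.disjoint_of_coprime_natCard (by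
      rw [R.card_eq_multiplicity, Q.card_eq_multiplicity]
      exact Nat.coprime_pow_primes _ _ hr hq hqr.symm))] at h1
    exact commutatorElement_eq_one_iff_mul_comm.1 (mem_bot.1 h1)
  haveI : Nontrivial (R : Subgroup G) := ((R : Subgroup G).nontrivial_iff_ne_bot).2 (R.ne_bot_of_dvd_card hrG)
  haveI := R.2.center_nontrivial
  obtain ⟨⟨⟨z, hzR⟩, hzc⟩, hz1⟩ := exists_ne (1 : center (R : Subgroup G))
  have hz : z ≠ 1 := fun e => hz1 (Subtype.ext (Subtype.ext e))
  set C := centralizer ({z} : Set G)
  have hfull : ∀ q : ℕ, q.Prime → q ≠ p → ¬ q ∣ C.index := by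
    intro q hq hqp hd
    haveI := Fact.mk hq
    have hqG : q ∣ Nat.card G := hd.trans C.index_dvd_card
    obtain ⟨Q, hQ⟩ : ∃ Q : Sylow q G, (Q : Subgroup G) ≤ C := by
      by_cases hqr : q = r
      · subst hqr
        exact ⟨R, fun a ha => mem_centralizer_singleton_iff.2 (congrArg Subtype.val (mem_center_iff.1 hzc ⟨a, ha⟩))⟩
      · obtain ⟨Q, hQ⟩ := hcen q hq hqG hqr hqp
        exact ⟨Q, fun a ha => mem_centralizer_singleton_iff.2 ((mem_centralizer_iff.1 (hQ ha) z hzR).symm)⟩
    exact Q.not_dvd_index (hd.trans (Subgroup.index_dvd_of_le hQ))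
  have hpow := Nat.eq_prime_pow_of_unique_prime_dvd (n := C.index) (p := p) index_ne_zero_of_finite
    fun {q} hq hd => by_contra fun hne => hfull q hq hne hd
  have hprime := CfsgLib.Burnside.prime_card_of_prime_pow_class (hprp r hr hrG) hz hpow
  rw [hprime.primeFactors, Finset.card_singleton] at h3
  omega

theorem isSolvable : ∀ (n : ℕ) (G : Type u) [Group G] [Finite G], Nat.card G = n → PP G → Group.IsSolvable G := by
  intro n
  induction n using Nat.strong_induction_on with
  | _ n ih =>
    intro G _ _ hn h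
    rcases subsingleton_or_nontrivial G with hs | hs
    · infer_instance
    by_cases hsimp : IsSimpleGroup G
    · exact simple_case h
    obtain ⟨N, hN, hN1, hN2⟩ : ∃ N : Subgroup G, N.Normal ∧ N ≠ ⊥ ∧ N ≠ ⊤ := by
      by_contra hno
      push Not at hno
      exact hsimp ⟨fun N hN => or_iff_not_imp_left.2 (hno N hN)⟩
    have h1 : Nat.card N < n := hn ▸ lt_of_le_of_ne (Nat.le_of_dvd Nat.card_pos (card_subgroup_dvd_card N))
      fun e => hN2 (Subgroup.eq_top_of_card_eq N e)
    have h2 : Nat.card (G ⧸ N) < n := by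
      rw [← hn, Subgroup.card_eq_card_quotient_mul_card_subgroup N]
      exact lt_mul_of_one_lt_right Nat.card_pos (one_lt_card_iff_ne_bot N |>.2 hN1)
    haveI := ih _ h1 N rfl fun r _ => pp_of_dvd (h r) (card_sylow_dvd_of_normal N r)
    haveI := ih _ h2 (G ⧸ N) rfl fun r _ => pp_of_dvd (h r) (card_sylow_dvd_of_quotient N r)
    exact (Group.isSolvable_iff_subgroup_quotient N).2 ⟨inferInstance, inferInstance⟩

end CfsgLib.Orders.SylowCounts
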