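import Cfsg.Agent.Lib.Orders.ThreeCounts
import Cfsg.Agent.Lib.Core.FPF
import Cfsg.Agent.Lib.Core.MinNormal

/-!
# Groups of order `p^i q^j` with elements of prime order only
-/

set_option autoImplicit false
set_option linter.all false

namespace CfsgLib.Orders.ThreeCounts

open Subgroup
open scoped IsMulCommutative Pointwise

universe u

variable {G : Type u} [Group G] [Finite G]

/-- the twisted norm -/
theorem mul_pow_eq_prod {V : Subgroup G} [V.Normal] [IsMulCommutative V] (u : V) (w : G) (k : ℕ) :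
    ((u : G) * w) ^ k = ((∏ j ∈ Finset.range k, (MulAut.conjNormal (w ^ j)) u : V) : G) * w ^ k := by
  induction k with
  | zero => simp
  | succ k ih =>
    rw [pow_succ, ih, Finset.prod_range_succ, Subgroup.coe_mul, MulAut.conjNormal_apply, pow_succ]
    group

theorem prod_conj_invariant {V : Subgroup G} [V.Normal] [IsMulCommutative V] (z : G) (q : ℕ) (hq : z ^ q = 1) (u : V) :
    MulAut.conjNormal z (∏ k ∈ Finset.range q, (MulAut.conjNormal (z ^ k)) u) =
      ∏ k ∈ Finset.range q, (MulAut.conjNormal (z ^ k)) u := by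
  have h1 : MulAut.conjNormal z (∏ k ∈ Finset.range q, (MulAut.conjNormal (z ^ k)) u) =
      ∏ k ∈ Finset.range q, (MulAut.conjNormal (z ^ (k + 1))) u := by
    rw [map_prod]
    exact Finset.prod_congr rfl fun k _ => by rw [pow_succ', map_mul]; rfl
  have h2 := Finset.prod_range_succ (fun k => (MulAut.conjNormal (z ^ k)) u) q
  have h3 := Finset.prod_range_succ' (fun k => (MulAut.conjNormal (z ^ k)) u) q
  rw [hq] at h2
  rw [pow_zero] at h3
  rw [h1]
  exact mul_right_cancel (h3.symm.trans h2)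

/-- a `p`-element normalising a subgroup of order `q` acting fixed point freely gives an element of order `p²` -/
theorem no_normalizing {p q : ℕ} (hp : p.Prime) (hq : q.Prime) (hpq : p ≠ q) (V : Subgroup G) [V.Normal]
    [IsMulCommutative V] (hV : IsPGroup p V) (hVexp : ∀ v ∈ V, v ^ p = 1) (hVne : V ≠ ⊥) (y w : G)
    (hy : orderOf y = q) (hw : orderOf w = p) (hn : ∀ j : ℕ, w ^ j * y * (w ^ j)⁻¹ ∈ Subgroup.zpowers y)
    (h2 : ∀ x : G, orderOf x ≠ p ^ 2) (hno : ∀ a b : G, orderOf a = p → orderOf b = q → ¬ Commute a b) : False := by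
  classical
  haveI := Fact.mk hp
  haveI := Fact.mk hq
  obtain ⟨⟨u, hu⟩, hu1⟩ := V.ne_bot_iff_exists_ne_one.1 hVne
  have hu1' : u ≠ 1 := fun h => hu1 (Subtype.ext h)
  set U : V := ⟨u, hu⟩
  have hyq : y ^ q = 1 := hy ▸ pow_orderOf_eq_one y
  -- every twisted norm vanishes
  have hnorm : ∀ k : ℕ, (∏ j ∈ Finset.range p, (MulAut.conjNormal ((y ^ k * w * (y ^ k)⁻¹) ^ j)) U : V) = 1 := by
    intro k
    set w' := y ^ k * w * (y ^ k)⁻¹
    have hw' : w' ^ p = 1 := by
      rw [conj_pow, ← hw, pow_orderOf_eq_one]; group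
    have h := mul_pow_eq_prod U w' p
    rw [hw', mul_one] at h
    set N := (∏ j ∈ Finset.range p, (MulAut.conjNormal (w' ^ j)) U : V)
    have hNp : ((u * w') ^ p) ^ p = 1 := by
      rw [show (u * w') ^ p = (N : G) from h]
      exact hVexp _ N.2
    have hdvd : orderOf (u * w') ∣ p ^ 2 := orderOf_dvd_of_pow_eq_one (by rw [sq, pow_mul]; exact hNp)
    obtain ⟨i, hi, he⟩ := (Nat.dvd_prime_pow hp).1 hdvd
    have hi1 : i ≤ 1 := by
      by_contra hc
      exact h2 _ (by rw [he, show i = 2 by omega])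
    have hp1 : (u * w') ^ p = 1 := orderOf_dvd_iff_pow_eq_one.1 (he ▸ (pow_dvd_pow p hi1).trans (pow_one p).dvd)
    exact Subtype.ext (h.symm.trans hp1)
  have htot : ∏ k ∈ Finset.range q, (∏ j ∈ Finset.range p, (MulAut.conjNormal ((y ^ k * w * (y ^ k)⁻¹) ^ j)) U : V) = 1 :=
    Finset.prod_eq_one fun k _ => hnorm k
  rw [Finset.prod_comm] at htot
  obtain ⟨p', hp'⟩ : ∃ p', p = p' + 1 := ⟨p - 1, by have := hp.pos; omega⟩
  rw [hp', Finset.prod_range_succ'] at htot
  rw [Finset.prod_eq_one (s := Finset.range p') fun j hj => ?_, one_mul] at htot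
  · simp only [pow_zero, map_one, MulAut.one_apply, Finset.prod_const, Finset.card_range] at htot
    have h1 : u ^ q = 1 := congrArg Subtype.val htot
    have h2' := Nat.dvd_gcd (orderOf_dvd_of_pow_eq_one (hVexp u hu)) (orderOf_dvd_of_pow_eq_one h1)
    rw [(Nat.coprime_primes hp hq).2 hpq, Nat.dvd_one, orderOf_eq_one_iff] at h2'
    exact hu1' h2'
  · -- a nontrivial translate
    have hjp : j + 1 < p := by rw [Finset.mem_range] at hj; omega
    set W := w ^ (j + 1)
    set c := W⁻¹ * y * W with hc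
    have hcy : c ∈ Subgroup.zpowers y := by
      have h := hn ((orderOf w) - (j + 1))
      rw [show w ^ (orderOf w - (j + 1)) = W⁻¹ from eq_inv_of_mul_eq_one_left (by
        rw [← pow_add, show orderOf w - (j + 1) + (j + 1) = orderOf w by omega, pow_orderOf_eq_one]), inv_inv] at h
      exact h
    obtain ⟨s, hs⟩ := Subgroup.mem_zpowers_iff.1 hcy
    set z := c * y⁻¹ with hz
    have hzc : Commute c y⁻¹ := by rw [← hs]; exact ((Commute.refl y).zpow_left s).inv_right
    have hterm : ∀ k : ℕ, (y ^ k * w * (y ^ k)⁻¹) ^ (j + 1) = W * z ^ k := fun k => by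
      have e : c ^ k = W⁻¹ * y ^ k * W := by
        have := conj_pow (a := W⁻¹) (b := y) (i := k)
        rwa [inv_inv] at this
      rw [conj_pow, hz, hzc.mul_pow, inv_pow, e]
      show y ^ k * W * (y ^ k)⁻¹ = W * (W⁻¹ * y ^ k * W * (y ^ k)⁻¹)
      group
    have hzy : z ∈ Subgroup.zpowers y := mul_mem hcy (inv_mem (mem_zpowers y))
    have hzq : z ^ q = 1 := by
      obtain ⟨t, ht⟩ := Subgroup.mem_zpowers_iff.1 hzy
      rw [← ht, ← zpow_natCast, ← zpow_mul, mul_comm, zpow_mul, zpow_natCast, hyq, one_zpow]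
    have hz1 : z ≠ 1 := by
      intro h
      have hco : (j + 1).Coprime (orderOf w) := by
        rw [hw, Nat.coprime_comm]
        exact hp.coprime_iff_not_dvd.2 fun h => by have := Nat.le_of_dvd (Nat.succ_pos j) h; omega
      have hcW : Commute y W := by
        rw [hz, mul_inv_eq_one, hc] at h
        show y * W = W * y
        nth_rewrite 2 [← h]
        group
      obtain ⟨t, ht⟩ := exists_pow_eq_self_of_coprime hco
      exact hno w y hw hy (ht ▸ (hcW.pow_right t).symm)
    have hzo : orderOf z = q := orderOf_eq_prime hzq hz1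
    set M := ∏ k ∈ Finset.range q, (MulAut.conjNormal (z ^ k)) U
    have hM : M = 1 := by
      by_contra hM
      have hfix := prod_conj_invariant z q hzq U
      have hMo : orderOf (M : G) = p := orderOf_eq_prime (hVexp _ M.2) fun h => hM (Subtype.ext h)
      refine hno _ _ hMo hzo ?_
      have := congrArg Subtype.val hfix
      rw [MulAut.conjNormal_apply] at this
      exact (mul_inv_eq_iff_eq_mul.1 this).symm
    calc ∏ k ∈ Finset.range q, (MulAut.conjNormal ((y ^ k * w * (y ^ k)⁻¹) ^ (j + 1))) U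
        = ∏ k ∈ Finset.range q, MulAut.conjNormal W ((MulAut.conjNormal (z ^ k)) U) :=
          Finset.prod_congr rfl fun k _ => by rw [hterm k, map_mul]; rfl
      _ = MulAut.conjNormal W M := (map_prod _ _ _).symm
      _ = 1 := by rw [hM, map_one]

/-- such a group is Frobenius with complement of prime order -/
theorem exists_complement {p q : ℕ} (hp : p.Prime) (hq : q.Prime) (hpq : p ≠ q)
    (hpG : p ∣ Nat.card G) (hqG : q ∣ Nat.card G) (hs : (Nat.card G).primeFactors ⊆ {p, q})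
    (hp2 : ∀ x : G, orderOf x ≠ p ^ 2) (hq2 : ∀ x : G, orderOf x ≠ q ^ 2)
    (hno : ∀ a b : G, orderOf a = p → orderOf b = q → ¬ Commute a b) :
    ∃ C : Subgroup G, Cfsg.IsFrobeniusComplement C ∧ (Nat.card ↥C).Prime := by
  classical
  have hsolv : Group.IsSolvable G :=
    CfsgLib.Burnside.isSolvable_of_card_eq hp hq (eq_mul_pow Nat.card_pos.ne' hp hq hpq hs)
  haveI : Nontrivial G := by
    haveI := Fact.mk hp
    obtain ⟨x, hx⟩ := exists_prime_orderOf_dvd_card' p hpG
    exact ⟨⟨x, 1, fun h => hp.ne_one (by rw [← hx, h, orderOf_one])⟩⟩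
  obtain ⟨V, hVn, hVne, hVmin⟩ := CfsgLib.Components.exists_minimal_normal (G := G)
  haveI := hVn
  obtain ⟨r, hr, hVp, hVc, hVexp⟩ := CfsgLib.Core.isPGroup_of_minimal_normal V inferInstance hVne
    (fun K hK hKV => hVmin K hK hKV)
  wlog hrp : r = p generalizing p q
  · have hrG : r ∈ (Nat.card G).primeFactors := by
      haveI := Fact.mk hr
      refine Nat.mem_primeFactors.2 ⟨hr, ?_, Nat.card_pos.ne'⟩
      haveI : Nontrivial V := V.nontrivial_iff_ne_bot.2 hVne
      obtain ⟨i, hi⟩ := IsPGroup.iff_card.1 hVp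
      rcases i with _ | i
      · exact absurd hi (by rw [pow_zero]; exact Finite.one_lt_card.ne')
      · exact (hi ▸ dvd_pow_self r (Nat.succ_ne_zero i)).trans V.card_subgroup_dvd_card
    rcases Finset.mem_insert.1 (hs hrG) with e | e
    · exact absurd e hrp
    · exact this hq hp hpq.symm hqG hpG (hs.trans (Finset.pair_comm p q).le) hq2 hp2
        (fun a b ha hb hc => hno b a hb ha hc.symm) (Finset.mem_singleton.1 e)
  rw [hrp] at hr hVp hVexp
  haveI := Fact.mk hp
  haveI := Fact.mk hq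
  haveI := hVc
  obtain ⟨Q⟩ := (Sylow.nonempty : Nonempty (Sylow q G))
  have hQexp : ∀ x ∈ (Q : Subgroup G), x ≠ 1 → orderOf x = q := by
    intro x hx hx1
    obtain ⟨i, hi⟩ := IsPGroup.iff_orderOf.1 Q.isPGroup' ⟨x, hx⟩
    rw [Subgroup.orderOf_mk] at hi
    rcases (show i = 0 ∨ i = 1 ∨ 2 ≤ i by omega) with rfl | rfl | h
    · exact absurd (orderOf_eq_one_iff.1 (by simpa using hi)) hx1
    · simpa using hi
    · exact absurd (by rw [orderOf_pow_of_dvd (pow_ne_zero _ hq.ne_zero) (hi ▸ pow_dvd_pow q (by omega)), hi,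
        Nat.pow_div (by omega) hq.pos, show i - (i - 2) = 2 by omega]) (hq2 (x ^ q ^ (i - 2)))
  have hQne : (Q : Subgroup G) ≠ ⊥ := Q.ne_bot_of_dvd_card hqG
  obtain ⟨⟨y, hyQ⟩, hy1⟩ := (Q : Subgroup G).ne_bot_iff_exists_ne_one.1 hQne
  have hy : orderOf y = q := hQexp y hyQ fun h => hy1 (Subtype.ext h)
  have hfpf : ∀ a ∈ (Q : Subgroup G), a ≠ 1 → V ⊓ centralizer {a} = ⊥ := by
    intro a ha ha1
    rw [eq_bot_iff]
    rintro v ⟨hv, hc⟩
    rw [mem_bot]
    by_contra hv1
    exact hno v a (orderOf_eq_prime (hVexp v hv) hv1) (hQexp a ha ha1) (mem_centralizer_singleton_iff.1 hc)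
  have hQy : (Q : Subgroup G) = zpowers y := by
    refine le_antisymm (fun x hx => ?_) (zpowers_le.2 hyQ)
    by_cases hx1 : x = 1
    · exact hx1 ▸ one_mem _
    have := CfsgLib.Core.FPF.subgroup_order_prime_unique (by rw [normalizer_eq_top]; exact le_top) hfpf hVne le_rfl hq
      Q.isPGroup' (zpowers_le.2 hx) (zpowers_le.2 hyQ) (by rw [Nat.card_zpowers, hQexp x hx hx1])
      (by rw [Nat.card_zpowers, hy])
    exact this ▸ mem_zpowers x
  have hQc : Nat.card (Q : Subgroup G) = q := by rw [hQy, Nat.card_zpowers, hy]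
  set N := normalizer ((Q : Subgroup G) : Set G)
  by_cases hpN : p ∣ Nat.card N
  · exfalso
    obtain ⟨⟨w, hwN⟩, hwo⟩ := exists_prime_orderOf_dvd_card' p hpN
    rw [Subgroup.orderOf_mk] at hwo
    refine no_normalizing hp hq hpq V hVp hVexp hVne y w hy hwo (fun j => ?_) hp2 hno
    rw [← hQy]
    exact (mem_normalizer_iff.1 (N.pow_mem hwN j) y).1 hyQ
  · have hNQ : N = (Q : Subgroup G) := by
      refine (eq_of_le_of_card_ge le_normalizer ?_).symm
      have hd : Nat.card N ∣ Nat.card G := N.card_subgroup_dvd_card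
      rw [eq_mul_pow Nat.card_pos.ne' hp hq hpq hs] at hd
      have h2 := (((hp.coprime_iff_not_dvd.2 hpN).symm).pow_right _).dvd_of_dvd_mul_left hd
      rw [← Q.card_eq_multiplicity] at h2
      exact Nat.le_of_dvd Nat.card_pos h2
    refine ⟨Q, ⟨hQne, fun h => ?_, fun g hg => ?_⟩, by rw [hQc]; exact hq⟩
    · rw [h, Subgroup.card_top] at hQc
      exact hpq ((Nat.prime_dvd_prime_iff_eq hp hq).1 (hQc ▸ hpG))
    · by_contra hne
      have hcard : Nat.card ↥(MulAut.conj g • (Q : Subgroup G)) = q := by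
        exact ((Nat.card_congr (Subgroup.equivSMul (MulAut.conj g) (Q : Subgroup G)).toEquiv).symm).trans hQc
      have heq : (Q : Subgroup G) = MulAut.conj g • (Q : Subgroup G) := by
        have h1 : (Q : Subgroup G) ⊓ MulAut.conj g • (Q : Subgroup G) = (Q : Subgroup G) := by
          refine eq_of_le_of_card_ge inf_le_left ?_
          rcases (Nat.dvd_prime hq).1 (hQc ▸ card_dvd_of_le (inf_le_left : (Q : Subgroup G) ⊓ MulAut.conj g • (Q : Subgroup G) ≤ Q)) with h | h
          · exact absurd (Subgroup.card_eq_one.1 h) hne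
          · rw [h, hQc]
        exact eq_of_le_of_card_ge (inf_eq_left.1 h1) (by rw [hcard, hQc])
      exact hg (hNQ ▸ CfsgLib.Core.mem_normalizer_iff_conj_smul_eq.2 heq.symm)

/-- the odd case -/
theorem odd_structure (hodd : Odd (Nat.card G))
    (h : (((fun m : ℕ => Nat.card {g : G // orderOf g = m}) '' Set.range (orderOf : G → ℕ))).ncard = 3) :
    (Nat.card G).primeFactors.card ≤ 2 ∧
      ((Nat.card G).primeFactors.card = 2 →
        (∀ (p : ℕ) [Fact p.Prime] (P : Sylow p G), p ∣ Nat.card G → Monoid.exponent ↥(P : Subgroup G) = p) ∧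
        ∃ C : Subgroup G, Cfsg.IsFrobeniusComplement C ∧ (Nat.card ↥C).Prime) := by
  classical
  obtain ⟨a, b, hab, hx⟩ := values h
  have hV := val_of_values hab hx
  have h2 : ¬ 2 ∣ Nat.card G := fun hd => (Nat.not_even_iff_odd.2 hodd) (even_iff_two_dvd.2 hd)
  have h4 : ¬ 4 ∣ Nat.card G := fun hd => h2 ((by norm_num : (2 : ℕ) ∣ 4).trans hd)
  have hodds : oddPrimes G = (Nat.card G).primeFactors :=
    Finset.erase_eq_of_notMem fun hm => h2 (Nat.dvd_of_mem_primeFactors hm)
  have hshare := no_share_small hV h4 fun hd => absurd hd h2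
  refine ⟨hodds ▸ card_le_two hV hshare, fun hc => ?_⟩
  obtain ⟨p, q, hne, hs⟩ := Finset.card_eq_two.1 hc
  have hpm : p ∈ oddPrimes G := by rw [hodds, hs]; simp
  have hqm : q ∈ oddPrimes G := by rw [hodds, hs]; simp
  wlog hle : cnt G p ≤ cnt G q generalizing p q
  · exact this q p hne.symm (hs.trans (Finset.pair_comm p q)) hqm hpm (le_of_not_ge hle)
  obtain ⟨hp, hp2, hpG⟩ := mem_oddPrimes.1 hpm
  obtain ⟨hq, hq2, hqG⟩ := mem_oddPrimes.1 hqm
  have hlt : cnt G p < cnt G q := lt_of_le_of_ne hle (hshare p hpm q hqm hne)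
  have hPv := (cnt_prime hV hp hp2 hpG).1
  have hQv := (cnt_prime hV hq hq2 hqG).1
  have ea : cnt G p = a := by rcases hPv with e | e <;> rcases hQv with e' | e' <;> omega
  have eb : cnt G q = b := by rcases hPv with e | e <;> rcases hQv with e' | e' <;> omega
  obtain ⟨hqa, hpb, hpq0⟩ := pair hV hp hp2 hpG hq hq2 hqG hne ea eb
  have hpa : ¬ p ∣ a := ea ▸ not_dvd_of_prime hV hp hp2 hpG
  have hqb : ¬ q ∣ b := eb ▸ not_dvd_of_prime hV hq hq2 hqG
  have hno : ∀ u v : G, orderOf u = p → orderOf v = q → ¬ Commute u v := by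
    intro u v hu hv hc
    have h1 : orderOf (u * v) = p * q := by
      rw [hc.orderOf_mul_eq_mul_orderOf_of_coprime (by rw [hu, hv]; exact (Nat.coprime_primes hp hq).2 hne), hu, hv]
    have := cnt_pos (u * v)
    rw [h1, hpq0] at this
    exact lt_irrefl 0 this
  -- no elements of order a prime square
  have hsq : ∀ r t : ℕ, r.Prime → t.Prime → r ≠ 2 → r ≠ t → t ∣ Nat.card G →
      (∀ u v : G, orderOf u = r → orderOf v = t → ¬ Commute u v) → ∀ x : G, orderOf x = r ^ 2 →
      r ∣ cnt G (r ^ 2) ∧ t ∣ cnt G (r ^ 2) := by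
    intro r t hr ht hr2 hrt htG hrtno x hx
    refine ⟨dvd_trans ?_ (totient_dvd_cnt (r ^ 2)), ?_⟩
    · rw [Nat.totient_prime_pow hr two_pos]
      exact Dvd.intro _ (by rw [show 2 - 1 = 1 from rfl, pow_one])
    · by_contra hnd
      haveI := Fact.mk ht
      obtain ⟨v, hv⟩ := exists_prime_orderOf_dvd_card' t htG
      obtain ⟨x', hx', hc⟩ := exists_commute ht hnd hv
      refine hrtno (x' ^ r) v ?_ hv (hc.pow_left r)
      rw [orderOf_pow_of_dvd hr.ne_zero (hx' ▸ dvd_pow_self r two_ne_zero), hx', sq, Nat.mul_div_cancel _ hr.pos]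
  have hp2' : ∀ x : G, orderOf x ≠ p ^ 2 := by
    intro x hx'
    obtain ⟨h1, h2⟩ := hsq p q hp hq hp2 hne hqG hno x hx'
    rcases hV.2 (p ^ 2) (by nlinarith [hp.two_le]) with e | e | e
    · have := cnt_pos x; rw [hx', e] at this; exact lt_irrefl 0 this
    · exact hpa (e ▸ h1)
    · exact hqb (e ▸ h2)
  have hq2' : ∀ x : G, orderOf x ≠ q ^ 2 := by
    intro x hx'
    obtain ⟨h1, h2⟩ := hsq q p hq hp hq2 hne.symm hpG (fun u v hu hv hc => hno v u hv hu hc.symm) x hx'
    rcases hV.2 (q ^ 2) (by nlinarith [hq.two_le]) with e | e | e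
    · have := cnt_pos x; rw [hx', e] at this; exact lt_irrefl 0 this
    · exact hpa (e ▸ h2)
    · exact hqb (e ▸ h1)
  refine ⟨fun r hr P hrG => ?_, exists_complement hp hq hne hpG hqG hs.le hp2' hq2' hno⟩
  have hrpq : ∀ x : G, orderOf x ≠ r ^ 2 := by
    have : r ∈ ({p, q} : Finset ℕ) := hs ▸ Nat.mem_primeFactors.2 ⟨hr.out, hrG, Nat.card_pos.ne'⟩
    rcases Finset.mem_insert.1 this with rfl | e
    · exact hp2'
    · rw [Finset.mem_singleton.1 e]; exact hq2'
  refine Nat.dvd_antisymm (Monoid.exponent_dvd_of_forall_pow_eq_one fun x => ?_) ?_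
  · obtain ⟨i, hi⟩ := IsPGroup.iff_orderOf.1 P.isPGroup' x
    have hi1 : i ≤ 1 := by
      by_contra h
      refine hrpq ((x : G) ^ r ^ (i - 2)) ?_
      rw [orderOf_pow_of_dvd (pow_ne_zero _ hr.out.ne_zero) (by rw [Subgroup.orderOf_coe, hi]; exact pow_dvd_pow r (by omega)),
        Subgroup.orderOf_coe, hi, Nat.pow_div (by omega) hr.out.pos, show i - (i - 2) = 2 by omega]
    exact orderOf_dvd_iff_pow_eq_one.1 (hi ▸ (pow_dvd_pow r hi1).trans (pow_one r).dvd)
  · obtain ⟨x, hx⟩ := exists_prime_orderOf_dvd_card' (G := (P : Subgroup G)) r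
      (by rw [P.card_eq_multiplicity]; exact dvd_pow_self r (hr.out.factorization_pos_of_dvd Nat.card_pos.ne' hrG).ne')
    calc r = orderOf x := hx.symm
      _ ∣ _ := Monoid.order_dvd_exponent x

end CfsgLib.Orders.ThreeCounts
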