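import Mathlib

/-!
# Two primes between `k` and `2k`

* `exists_two_primes`: for `6 ≤ k` the interval `(k, 2k]` contains two different primes.
-/

set_option autoImplicit false
set_option linter.all false

namespace CfsgLib.Orders.TwoBertrand

open Nat

theorem centralBinom_le (n : ℕ) (hn : 2 < n)
    (huniq : ∀ p q : ℕ, p.Prime → q.Prime → n < p → p ≤ 2 * n → n < q → q ≤ 2 * n → p = q) :
    centralBinom n ≤ (2 * n) * ((2 * n) ^ sqrt (2 * n) * 4 ^ (2 * n / 3)) := by
  classical
  have hpos : 0 < n := by omega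
  have h2 : 1 ≤ 2 * n := by omega
  obtain ⟨f, hf⟩ : ∃ f : ℕ → ℕ, ∀ x, f x = x ^ (centralBinom n).factorization x :=
    ⟨_, fun x => rfl⟩
  let big : Finset ℕ := {p ∈ Finset.range (2 * n + 1) | p.Prime ∧ n < p}
  let S : Finset ℕ := {p ∈ Finset.range (2 * n / 3 + 1) | p.Prime}
  have hdisj : Disjoint S big := by
    rw [Finset.disjoint_left]
    intro x hx hx'
    have h1 := Finset.mem_range.1 (Finset.mem_filter.1 hx).1
    have h3 := (Finset.mem_filter.1 hx').2.2
    omega
  have hprod : centralBinom n = ∏ p ∈ S ∪ big, f p := by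
    simp only [hf]
    refine (Eq.trans ?_ n.prod_pow_factorization_centralBinom).symm
    apply Finset.prod_subset
    · intro x hx
      rcases Finset.mem_union.1 hx with h | h
      · have h1 := Finset.mem_range.1 (Finset.mem_filter.1 h).1
        exact Finset.mem_range.2 (by omega)
      · exact (Finset.mem_filter.1 h).1
    · intro x hx hx'
      rw [Finset.mem_union, not_or] at hx'
      rw [Finset.mem_range] at hx
      by_cases hp : x.Prime
      · have h1 : ¬ x < 2 * n / 3 + 1 := fun h =>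
          hx'.1 (Finset.mem_filter.2 ⟨Finset.mem_range.2 h, hp⟩)
        have h3 : ¬ n < x := fun h =>
          hx'.2 (Finset.mem_filter.2 ⟨Finset.mem_range.2 hx, hp, h⟩)
        rw [factorization_centralBinom_of_two_mul_self_lt_three_mul hn (by omega) (by omega),
          Nat.pow_zero]
      · rw [factorization_eq_zero_of_not_prime n.centralBinom hp, Nat.pow_zero]
  rw [hprod, Finset.prod_union hdisj, mul_comm]
  refine Nat.mul_le_mul ?_ ?_
  · rcases big.eq_empty_or_nonempty with h | ⟨p, hp⟩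
    · rw [h, Finset.prod_empty]
      exact h2
    · have hs : big = {p} := by
        refine Finset.eq_singleton_iff_unique_mem.2 ⟨hp, fun q hq => ?_⟩
        simp only [big, Finset.mem_filter, Finset.mem_range] at hp hq
        exact huniq q p hq.2.1 hp.2.1 hq.2.2 (by omega) hp.2.2 (by omega)
      rw [hs, Finset.prod_singleton, hf]
      exact pow_factorization_choose_le (by omega)
  · rw [← Finset.prod_filter_mul_prod_filter_not S (· ≤ sqrt (2 * n))]
    refine Nat.mul_le_mul ?_ ?_
    · refine (Finset.prod_le_prod' fun p _ => (?_ : f p ≤ 2 * n)).trans ?_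
      · rw [hf]; exact pow_factorization_choose_le (by omega)
      have hc : (Finset.Icc 1 (sqrt (2 * n))).card = sqrt (2 * n) := by
        rw [card_Icc, Nat.add_sub_cancel]
      rw [Finset.prod_const]
      refine pow_right_mono₀ h2 ((Finset.card_le_card fun x hx => ?_).trans hc.le)
      obtain ⟨h1, h3⟩ := Finset.mem_filter.1 hx
      exact Finset.mem_Icc.mpr ⟨(Finset.mem_filter.1 h1).2.one_lt.le, h3⟩
    · refine le_trans ?_ (primorial_le_four_pow (2 * n / 3))
      refine (Finset.prod_le_prod' fun p hp => (?_ : f p ≤ p)).trans ?_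
      · obtain ⟨h1, h3⟩ := Finset.mem_filter.1 hp
        rw [hf]
        refine (pow_right_mono₀ (Finset.mem_filter.1 h1).2.one_lt.le ?_).trans (pow_one p).le
        exact Nat.factorization_choose_le_one (sqrt_lt'.mp <| not_le.1 h3)
      refine Finset.prod_le_prod_of_subset_of_one_le' (Finset.filter_subset _ _) ?_
      exact fun p hp _ => (Finset.mem_filter.1 hp).2.one_lt.le

theorem pow_bound (h : ℕ) (h8 : 8 ≤ h) : 6 * h * (2 ^ h + 2) + 6 ≤ 2 ^ (2 * h - 2) := by
  induction h, h8 using Nat.le_induction with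
  | base => norm_num
  | succ h h8 ih =>
    have e1 : 2 ^ (2 * (h + 1) - 2) = 4 * 2 ^ (2 * h - 2) := by
      rw [show 2 * (h + 1) - 2 = 2 * h - 2 + 2 by omega, pow_add, mul_comm]
      norm_num
    have e2 : 2 ^ (h + 1) = 2 * 2 ^ h := by rw [pow_succ, mul_comm]
    rw [e1, e2]
    have h1 : 256 ≤ 2 ^ h := le_trans (by norm_num) (Nat.pow_le_pow_right (by norm_num) h8)
    have h3 : 8 * (2 ^ h) ≤ h * 2 ^ h := Nat.mul_le_mul_right _ h8
    nlinarith

theorem main_inequality {n : ℕ} (hn : 8192 ≤ n) :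
    n * ((2 * n) * ((2 * n) ^ sqrt (2 * n) * 4 ^ (2 * n / 3))) ≤ 4 ^ n := by
  have hj : 13 ≤ Nat.log 2 n :=
    (Nat.le_log_iff_pow_le (by norm_num) (by omega)).2 (le_trans (by norm_num) hn)
  obtain ⟨j, hjdef⟩ : ∃ j, j = Nat.log 2 n := ⟨_, rfl⟩
  rw [← hjdef] at hj
  have hlow : 2 ^ j ≤ n := hjdef ▸ Nat.pow_log_le_self 2 (by omega)
  have hupp : n < 2 ^ (j + 1) := hjdef ▸ Nat.lt_pow_succ_log_self (by norm_num) n
  obtain ⟨h, hh⟩ : ∃ h, h = (j + 3) / 2 := ⟨_, rfl⟩
  have h2n : 2 * n ≤ 2 ^ (j + 2) := by rw [pow_succ]; omega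
  have hs : sqrt (2 * n) ≤ 2 ^ h := by
    refine Nat.le_of_lt (sqrt_lt'.2 (lt_of_lt_of_le (by omega : 2 * n < 2 * 2 ^ (j + 1)) ?_))
    rw [← pow_succ', ← pow_mul]
    exact Nat.pow_le_pow_right (by norm_num) (by omega)
  have hexp : (j + 2) * (sqrt (2 * n) + 2) ≤ 2 * (n - 2 * n / 3) := by
    have h1 := pow_bound h (by omega)
    have h3 : (j + 2) * (sqrt (2 * n) + 2) ≤ 2 * h * (2 ^ h + 2) :=
      Nat.mul_le_mul (by omega) (by omega)
    have h4 : 2 ^ (2 * h - 2) ≤ 2 * 2 ^ j := by
      rw [← pow_succ']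
      exact Nat.pow_le_pow_right (by norm_num) (by omega)
    have h5 : 6 * h * (2 ^ h + 2) = 3 * (2 * h * (2 ^ h + 2)) := by ring
    omega
  calc n * ((2 * n) * ((2 * n) ^ sqrt (2 * n) * 4 ^ (2 * n / 3)))
      ≤ (2 * n) * ((2 * n) * ((2 * n) ^ sqrt (2 * n) * 4 ^ (2 * n / 3))) :=
        Nat.mul_le_mul_right _ (by omega)
    _ = (2 * n) ^ (sqrt (2 * n) + 2) * 4 ^ (2 * n / 3) := by ring
    _ ≤ (2 ^ (j + 2)) ^ (sqrt (2 * n) + 2) * 4 ^ (2 * n / 3) :=
        Nat.mul_le_mul_right _ (Nat.pow_le_pow_left h2n _)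
    _ ≤ 2 ^ (2 * (n - 2 * n / 3)) * 4 ^ (2 * n / 3) := by
        rw [← pow_mul]
        exact Nat.mul_le_mul_right _ (Nat.pow_le_pow_right (by norm_num) hexp)
    _ = 4 ^ n := by
        rw [pow_mul, show (2 : ℕ) ^ 2 = 4 by norm_num, ← pow_add]
        congr 1
        omega

theorem step {k : ℕ} (a b c : ℕ) (hb : b.Prime) (hc : c.Prime) (hbc : b < c) (hcov : c ≤ 2 * a)
    (H : k < a → ∃ p q : ℕ, p.Prime ∧ q.Prime ∧ k < p ∧ p < q ∧ q ≤ 2 * k) (hk : k < b) :
    ∃ p q : ℕ, p.Prime ∧ q.Prime ∧ k < p ∧ p < q ∧ q ≤ 2 * k := by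
  rcases lt_or_ge k a with h | h
  · exact H h
  · exact ⟨b, c, hb, hc, hk, hbc, by omega⟩

theorem exists_two_primes (k : ℕ) (hk : 6 ≤ k) :
    ∃ p q : ℕ, p.Prime ∧ q.Prime ∧ k < p ∧ p < q ∧ q ≤ 2 * k := by
  rcases lt_or_ge k 8713 with h | h
  · revert h
    refine step 5003 8713 9973 (by norm_num1) (by norm_num1) (by norm_num1) (by norm_num1) ?_
    refine step 4357 5003 8713 (by norm_num1) (by norm_num1) (by norm_num1) (by norm_num1) ?_
    refine step 2503 4357 5003 (by norm_num1) (by norm_num1) (by norm_num1) (by norm_num1) ?_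
    refine step 2179 2503 4357 (by norm_num1) (by norm_num1) (by norm_num1) (by norm_num1) ?_
    refine step 1259 2179 2503 (by norm_num1) (by norm_num1) (by norm_num1) (by norm_num1) ?_
    refine step 1093 1259 2179 (by norm_num1) (by norm_num1) (by norm_num1) (by norm_num1) ?_
    refine step 631 1093 1259 (by norm_num1) (by norm_num1) (by norm_num1) (by norm_num1) ?_
    refine step 547 631 1093 (by norm_num1) (by norm_num1) (by norm_num1) (by norm_num1) ?_
    refine step 317 547 631 (by norm_num1) (by norm_num1) (by norm_num1) (by norm_num1) ?_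
    refine step 277 317 547 (by norm_num1) (by norm_num1) (by norm_num1) (by norm_num1) ?_
    refine step 163 277 317 (by norm_num1) (by norm_num1) (by norm_num1) (by norm_num1) ?_
    refine step 139 163 277 (by norm_num1) (by norm_num1) (by norm_num1) (by norm_num1) ?_
    refine step 83 139 163 (by norm_num1) (by norm_num1) (by norm_num1) (by norm_num1) ?_
    refine step 73 83 139 (by norm_num1) (by norm_num1) (by norm_num1) (by norm_num1) ?_
    refine step 43 73 83 (by norm_num1) (by norm_num1) (by norm_num1) (by norm_num1) ?_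
    refine step 37 43 73 (by norm_num1) (by norm_num1) (by norm_num1) (by norm_num1) ?_
    refine step 23 37 43 (by norm_num1) (by norm_num1) (by norm_num1) (by norm_num1) ?_
    refine step 19 23 37 (by norm_num1) (by norm_num1) (by norm_num1) (by norm_num1) ?_
    refine step 13 19 23 (by norm_num1) (by norm_num1) (by norm_num1) (by norm_num1) ?_
    refine step 11 13 19 (by norm_num1) (by norm_num1) (by norm_num1) (by norm_num1) ?_
    refine step 7 11 13 (by norm_num1) (by norm_num1) (by norm_num1) (by norm_num1) ?_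
    intro h7
    exact ⟨7, 11, by norm_num1, by norm_num1, h7, by norm_num1, by omega⟩
  · by_contra hne
    push Not at hne
    have huniq : ∀ p q : ℕ, p.Prime → q.Prime → k < p → p ≤ 2 * k → k < q → q ≤ 2 * k → p = q := by
      intro p q hp hq hp1 hp2 hq1 hq2
      rcases lt_trichotomy p q with hlt | heq | hgt
      · have := hne p q hp hq hp1 hlt; omega
      · exact heq
      · have := hne q p hq hp hq1 hgt; omega
    have h1 := Nat.four_pow_lt_mul_centralBinom k (by omega)
    have h2 := Nat.mul_le_mul_left k (centralBinom_le k (by omega) huniq)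
    have h3 := main_inequality (n := k) (by omega)
    omega

end CfsgLib.Orders.TwoBertrand
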