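import Cfsg.Agent.Lib.Orders.TwoPrimeMixed
import Cfsg.Agent.Lib.PGroups.FrattiniModule
import Cfsg.Agent.Lib.Core.PLengthTwoMaximal
import Cfsg.Agent.Lib.Char.Burnside
import Cfsg.Agent.Lib.Components.Char
import Cfsg.Agent.Lib.LocalEven.Generation
import Cfsg.Agent.Lib.Signalizer.Involutions

/-!
# The configuration `|G|_2 = p + 1` with `Mixed p 2 G`

A simple group in the boundary case with Sylow `p`-subgroups abelian: the `p`-part `Pt t` of an
involution centralizer coincides with that of the centralizer of a Sylow `2`-subgroup, as soon as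
some proper subgroup contains all of them together with the transitive `p`-element.
-/

set_option autoImplicit false
set_option linter.all false

namespace CfsgLib.Orders.Mixed

open Cfsg Subgroup
open scoped Pointwise

universe u

variable {G : Type u} [Group G] [Finite G] {p : ℕ} [hp : Fact p.Prime] {Q : Subgroup G} {x : G}

/-- A minimal counterexample in the boundary case. -/
structure Config (p : ℕ) (Q : Subgroup G) (x : G) : Prop where
  hp2 : p ≠ 2
  simple : ∀ N : Subgroup G, N.Normal → N = ⊥ ∨ N = ⊤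
  mixed : Mixed p 2 G
  small : ∀ H : Subgroup G, H ≠ ⊤ → 2 ∣ Nat.card H →
    ∀ r : ℕ, r.Prime → r ∣ Nat.card H → r = p ∨ r = 2
  hQ : ∃ b : ℕ, Nat.card Q = 2 ^ b
  cardQ : Nat.card Q = p + 1
  index : ¬ 2 ∣ Q.index
  sq : ∀ u ∈ Q, u * u = 1
  comm : ∀ u ∈ Q, ∀ v ∈ Q, u * v = v * u
  xN : x ∈ normalizer (Q : Set G)
  xp : ∃ k : ℕ, orderOf x = p ^ k
  trans : ∀ u ∈ Q, ∀ v ∈ Q, u ≠ 1 → v ≠ 1 → ∃ k : ℕ, x ^ k * u * (x ^ k)⁻¹ = v
  abel : ∀ A : Subgroup G, IsPGroup p A → ∀ a ∈ A, ∀ b ∈ A, a * b = b * a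
  other : ∃ r : ℕ, r.Prime ∧ r ∣ Nat.card G ∧ r ≠ p ∧ r ≠ 2

variable (C : Config p Q x)
include C

theorem Config.isPGroup : IsPGroup 2 Q := by
  obtain ⟨b, hb⟩ := C.hQ
  exact IsPGroup.of_card hb

theorem Config.two_dvd : 2 ∣ Nat.card Q := by
  rw [C.cardQ]
  obtain ⟨m, hm⟩ := hp.out.odd_of_ne_two C.hp2
  exact ⟨m + 1, by omega⟩

theorem Config.four_le : 4 ≤ Nat.card Q := by
  rw [C.cardQ]
  have := hp.out.two_le
  have := C.hp2
  omega

theorem Config.exists_mem : ∃ t, t ∈ Q ∧ t ≠ 1 := by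
  have h : Q ≠ ⊥ := fun e => by have := C.four_le; rw [e, Subgroup.card_bot] at this; omega
  obtain ⟨⟨t, ht⟩, ht1⟩ := Subgroup.ne_bot_iff_exists_ne_one.1 h
  exact ⟨t, ht, fun e => ht1 (Subtype.ext e)⟩

theorem Config.orderOf_mem {t : G} (ht : t ∈ Q) (ht1 : t ≠ 1) : orderOf t = 2 :=
  CfsgLib.Signalizer.orderOf_eq_two_of ht1 (C.sq t ht)

theorem Config.exists_conj_mem {S : Subgroup G} (hS : IsPGroup 2 S) :
    ∃ h : G, ∀ s ∈ S, h * s * h⁻¹ ∈ Q := by
  haveI : Fact (Nat.Prime 2) := ⟨Nat.prime_two⟩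
  obtain ⟨S', hSS'⟩ := hS.exists_le_sylow
  obtain ⟨h, hh⟩ := MulAction.exists_smul_eq G S' (C.isPGroup.toSylow C.index)
  refine ⟨h, fun s hs => ?_⟩
  have h1 : (MulAut.conj h • (S' : Subgroup G)) = Q := by
    rw [← Sylow.pointwise_smul_def, ← Sylow.smul_def, hh]; rfl
  rw [← h1]
  exact ⟨s, hSS' hs, rfl⟩

theorem Config.card_le {S : Subgroup G} (hS : IsPGroup 2 S) : Nat.card S ≤ p + 1 := by
  haveI : Fact (Nat.Prime 2) := ⟨Nat.prime_two⟩
  obtain ⟨h, hh⟩ := C.exists_conj_mem hS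
  rw [← C.cardQ]
  refine Nat.card_le_card_of_injective (fun s : S => (⟨h * s * h⁻¹, hh s s.2⟩ : Q)) fun a b e => ?_
  have := congrArg Subtype.val e
  simpa using this

theorem Config.comm_two {S : Subgroup G} (hS : IsPGroup 2 S) {a b : G} (ha : a ∈ S) (hb : b ∈ S) :
    a * b = b * a := by
  obtain ⟨h, hh⟩ := C.exists_conj_mem hS
  have := C.comm _ (hh a ha) _ (hh b hb)
  apply (MulAut.conj h).injective
  simpa [mul_assoc] using this

theorem Config.conj_involution {s t : G} (hs : orderOf s = 2) (ht : t ∈ Q) (ht1 : t ≠ 1) :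
    ∃ h : G, h * s * h⁻¹ = t := by
  haveI : Fact (Nat.Prime 2) := ⟨Nat.prime_two⟩
  obtain ⟨h, hh⟩ := C.exists_conj_mem (S := zpowers s)
    (IsPGroup.of_card (n := 1) (by rw [Nat.card_zpowers, hs, pow_one]))
  have hne : h * s * h⁻¹ ≠ 1 := fun e => by
    rw [conj_eq_one_iff.1 e, orderOf_one] at hs; omega
  obtain ⟨k, hk⟩ := C.trans _ (hh s (mem_zpowers s)) t ht hne ht1
  exact ⟨x ^ k * h, by rw [← hk]; group⟩

theorem Config.not_top_of_involution {s : G} (hs : orderOf s = 2) :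
    centralizer ({s} : Set G) ≠ ⊤ := by
  intro htop
  obtain ⟨r, hr, hrG, hrp, hr2⟩ := C.other
  have hn : (zpowers s).Normal := ⟨fun a ha g => by
    have hsc : Commute g s := mem_centralizer_singleton_iff.1 (htop ▸ mem_top g)
    obtain ⟨j, rfl⟩ := mem_zpowers_iff.1 ha
    rw [(hsc.zpow_right j).eq, mul_inv_cancel_right]
    exact ⟨j, rfl⟩⟩
  rcases C.simple _ hn with h | h
  · rw [zpowers_eq_bot] at h; rw [h, orderOf_one] at hs; omega
  · have h2 : Nat.card G = 2 := by rw [← Subgroup.card_top, ← h, Nat.card_zpowers, hs]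
    rw [h2] at hrG
    exact hr2 ((Nat.prime_dvd_prime_iff_eq hr Nat.prime_two).1 hrG)

/-- Elements of odd order of proper subgroups of even order are `p`-elements. -/
theorem Config.pElement_of_odd {H : Subgroup G} (hH : H ≠ ⊤) (h2 : 2 ∣ Nat.card H) {y : G}
    (hy : y ∈ H) (hodd : (orderOf y).Coprime 2) : ∃ k : ℕ, orderOf y = p ^ k := by
  refine ⟨_, Nat.eq_prime_pow_of_unique_prime_dvd (orderOf_pos y).ne' fun {r} hr hrd => ?_⟩
  refine (C.small H hH h2 r hr (hrd.trans (Subgroup.orderOf_dvd_natCard H hy))).resolve_right ?_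
  rintro rfl
  exact absurd (hodd.coprime_dvd_left hrd) (by decide)

theorem Config.coprime_two_of_pElement {y : G} (hy : ∃ k : ℕ, orderOf y = p ^ k) :
    (orderOf y).Coprime 2 := by
  obtain ⟨k, hk⟩ := hy
  rw [hk]
  exact ((Nat.coprime_primes hp.out Nat.prime_two).2 C.hp2).pow_left k

/-- A subgroup centralizing an involution has a normal `2`-complement. -/
theorem Config.complement {t : G} (ht : orderOf t = 2) {H : Subgroup G}
    (hH : H ≤ centralizer ({t} : Set G)) (htH : t ∈ H) : HasNormalPComplement 2 H := by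
  haveI : Fact (Nat.Prime 2) := ⟨Nat.prime_two⟩
  obtain ⟨S⟩ : Nonempty (Sylow 2 H) := inferInstance
  refine CfsgLib.Transfer.hasNormalPComplement_of_centralizes S fun U hU g hg hgq => ?_
  by_contra hnc
  set U' := U.map H.subtype with hU'
  have hU'2 : IsPGroup 2 U' := (S.2.to_le hU).map _
  have hg' : (g : G) ∈ normalizer (U' : Set G) :=
    Subgroup.le_normalizer_map H.subtype ⟨g, hg, rfl⟩
  have hnc' : (g : G) ∉ centralizer (U' : Set G) := fun hc => hnc (mem_centralizer_iff.2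
    fun w hw => Subtype.ext (mem_centralizer_iff.1 hc (w : G) ⟨w, hw, rfl⟩))
  have hU1 : U' ≠ ⊥ := fun e => hnc' (by
    rw [e, mem_centralizer_iff]; intro w hw
    rw [SetLike.mem_coe, Subgroup.mem_bot] at hw; subst hw; simp)
  have hgp := C.mixed.orderOf_normalizing C.hp2 hU'2 hU1 hg' (by rwa [Subgroup.orderOf_coe])
  obtain ⟨hd, hlt, hmod⟩ := fixed_card hg' hgp hnc'
  have hle := C.card_le hU'2
  have h2 := Nat.le_of_dvd (by omega) ((Nat.modEq_iff_dvd' hlt.le).1 hmod.symm)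
  have h0 : 0 < Nat.card (U' ⊓ centralizer ({(g : G)} : Set G) : Subgroup G) := Nat.card_pos
  have hf1 : Nat.card (U' ⊓ centralizer ({(g : G)} : Set G) : Subgroup G) = 1 := by omega
  -- `t` normalizes `U'`, so lies in it
  have htc : ∀ h ∈ H, Commute h t := fun h hh => mem_centralizer_singleton_iff.1 (hH hh)
  have hnorm : zpowers t ≤ normalizer (U' : Set G) := by
    rw [zpowers_le]
    refine mem_normalizer_iff.2 fun w => ⟨fun hw => ?_, fun hw => ?_⟩
    · rw [← (htc w (map_subtype_le _ hw)).eq, mul_inv_cancel_right]; exact hw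
    · have h1 := (htc _ (map_subtype_le _ hw)).eq
      have h2 : t * w * t⁻¹ = w := by
        have h3 := congrArg (fun v => t⁻¹ * v) h1
        simpa [mul_assoc] using h3.symm
      rwa [h2] at hw
  have hsup : IsPGroup 2 (zpowers t ⊔ U' : Subgroup G) :=
    (IsPGroup.of_card (n := 1) (by rw [Nat.card_zpowers, ht, pow_one]) :
      IsPGroup 2 (zpowers t)).to_sup_of_normal_right' hU'2 hnorm
  have heq : U' = zpowers t ⊔ U' := Subgroup.eq_of_le_of_card_ge le_sup_right (by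
    have := C.card_le hsup; omega)
  have htU : t ∈ U' ⊓ centralizer ({(g : G)} : Set G) :=
    ⟨heq ▸ mem_sup_left (mem_zpowers t), mem_centralizer_singleton_iff.2 (htc g g.2).symm.eq⟩
  rw [Subgroup.card_eq_one.1 hf1, Subgroup.mem_bot] at htU
  rw [htU, orderOf_one] at ht
  omega

omit C in
/-- The part of odd order of the centralizer of an involution. -/
def Pt (t : G) : Subgroup G :=
  (pResidual 2 ↥(centralizer ({t} : Set G))).map (centralizer ({t} : Set G)).subtype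

theorem Config.mem_Pt {t y : G} (ht : orderOf t = 2) :
    y ∈ Pt t ↔ Commute y t ∧ ∃ k : ℕ, orderOf y = p ^ k := by
  haveI : Fact (Nat.Prime 2) := ⟨Nat.prime_two⟩
  have hc := C.complement ht (H := centralizer ({t} : Set G)) le_rfl
    (mem_centralizer_singleton_iff.2 rfl)
  have h2 : 2 ∣ Nat.card (centralizer ({t} : Set G)) :=
    ht ▸ Subgroup.orderOf_dvd_natCard _ (mem_centralizer_singleton_iff.2 rfl)
  constructor
  · rintro ⟨w, hw, rfl⟩
    refine ⟨mem_centralizer_singleton_iff.1 w.2,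
      C.pElement_of_odd (C.not_top_of_involution ht) h2 w.2 ?_⟩
    show (orderOf (w : G)).Coprime 2
    rw [Subgroup.orderOf_coe]
    exact (CfsgLib.Transfer.mem_pResidual_iff_coprime hc).1 hw
  · rintro ⟨hyt, hyp⟩
    refine ⟨⟨y, mem_centralizer_singleton_iff.2 hyt.eq⟩,
      (CfsgLib.Transfer.mem_pResidual_iff_coprime hc).2 ?_, rfl⟩
    rw [← Subgroup.orderOf_coe]
    exact C.coprime_two_of_pElement hyp

theorem Config.isPGroup_Pt {t : G} (ht : orderOf t = 2) : IsPGroup p (Pt t) := fun y => by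
  obtain ⟨-, k, hk⟩ := (C.mem_Pt ht).1 y.2
  exact ⟨k, Subtype.ext (by rw [SubmonoidClass.coe_pow, ← hk, pow_orderOf_eq_one]; rfl)⟩

theorem Config.mem_Pt_conj {t y : G} (ht : orderOf t = 2) (g : G) (hy : y ∈ Pt t) :
    g * y * g⁻¹ ∈ Pt (g * t * g⁻¹) := by
  obtain ⟨h1, k, hk⟩ := (C.mem_Pt ht).1 hy
  refine (C.mem_Pt (by rw [CfsgLib.Signalizer.orderOf_conj, ht])).2 ⟨?_, k, ?_⟩
  · exact (h1.map (MulAut.conj g).toMonoidHom : _)
  · rw [CfsgLib.Signalizer.orderOf_conj, hk]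

omit C in
/-- The `p`-part of the centralizer of `Q`. -/
def cQ (Q : Subgroup G) : Subgroup G := ⨅ t ∈ {t : G | t ∈ Q ∧ t ≠ 1}, Pt t

theorem Config.mem_cQ {y : G} :
    y ∈ cQ Q ↔ (∀ t ∈ Q, Commute y t) ∧ ∃ k : ℕ, orderOf y = p ^ k := by
  rw [cQ]
  simp only [Subgroup.mem_iInf, Set.mem_setOf_eq]
  constructor
  · intro h
    refine ⟨fun t ht => ?_, ?_⟩
    · rcases eq_or_ne t 1 with rfl | ht1
      · exact Commute.one_right y
      · exact ((C.mem_Pt (C.orderOf_mem ht ht1)).1 (h t ⟨ht, ht1⟩)).1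
    · obtain ⟨t, ht, ht1⟩ := C.exists_mem
      exact ((C.mem_Pt (C.orderOf_mem ht ht1)).1 (h t ⟨ht, ht1⟩)).2
  · rintro ⟨h1, h2⟩ t ⟨ht, ht1⟩
    exact (C.mem_Pt (C.orderOf_mem ht ht1)).2 ⟨h1 t ht, h2⟩

theorem Config.cQ_le {t : G} (ht : t ∈ Q) (ht1 : t ≠ 1) : cQ Q ≤ Pt t :=
  fun y hy => (C.mem_Pt (C.orderOf_mem ht ht1)).2 ⟨(C.mem_cQ.1 hy).1 t ht, (C.mem_cQ.1 hy).2⟩

/-- The key lemma: a proper subgroup containing `Q`, `x` and all the `Pt t` pins everything down. -/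
theorem Config.pin {M : Subgroup G} (hM : M ≠ ⊤) (hQM : Q ≤ M) (hxM : x ∈ M)
    (hPM : ∀ t ∈ Q, t ≠ 1 → Pt t ≤ M) :
    (∀ t ∈ Q, t ≠ 1 → Pt t = cQ Q) ∧ (Cfsg.pCore p M).map M.subtype = cQ Q ∧
      (∀ y ∈ cQ Q, Commute x y) ∧ M ≤ normalizer (Q : Set G) ∧
      M ≤ normalizer (cQ Q : Set G) := by
  haveI : Fact (Nat.Prime 2) := ⟨Nat.prime_two⟩
  have h2M : 2 ∣ Nat.card M := C.two_dvd.trans (card_dvd_of_le hQM)
  have hsolv : Group.IsSolvable M := by
    have h := C.small M hM h2M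
    have hc : Nat.card M = p ^ (Nat.card M).factorization p * 2 ^ (Nat.card M).factorization 2 := by
      refine Nat.eq_of_factorization_eq Nat.card_pos.ne'
        (mul_ne_zero (pow_ne_zero _ hp.out.ne_zero) (pow_ne_zero _ two_ne_zero)) fun r => ?_
      rw [Nat.factorization_mul (pow_ne_zero _ hp.out.ne_zero) (pow_ne_zero _ two_ne_zero),
        Nat.Prime.factorization_pow hp.out, Nat.Prime.factorization_pow Nat.prime_two,
        Finsupp.add_apply, Finsupp.single_apply, Finsupp.single_apply]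
      rcases eq_or_ne r p with rfl | hrp
      · simp [C.hp2.symm]
      rcases eq_or_ne r 2 with rfl | hr2
      · simp [C.hp2]
      rw [if_neg hrp.symm, if_neg hr2.symm, add_zero]
      by_cases hr : r.Prime
      · exact Nat.factorization_eq_zero_of_not_dvd fun hd => (h r hr hd).elim hrp hr2
      · exact Nat.factorization_eq_zero_of_not_prime _ hr
    exact CfsgLib.Burnside.isSolvable_of_card_eq hp.out Nat.prime_two hc
  set F₀ := Cfsg.pCore p M with hF₀
  haveI : F₀.Normal := CfsgLib.Components.pCore_normal p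
  set π := QuotientGroup.mk' F₀ with hπ
  haveI hsolv' : Group.IsSolvable (M ⧸ F₀) :=
    solvable_of_surjective (QuotientGroup.mk'_surjective F₀)
  set T := Cfsg.pPrimeCore p (M ⧸ F₀) with hT
  haveI : T.Normal := (CfsgLib.Components.pPrimeCore_normal p)
  have hdual : centralizer (T : Set (M ⧸ F₀)) ≤ T :=
    CfsgLib.PGroups.centralizer_pPrimeCore_le (CfsgLib.Core.isPSolvable_of_isSolvable hsolv')
      (CfsgLib.Core.pCore_quotient_pCore p M)
  -- `T` is a `2`-group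
  have hT2 : IsPGroup 2 T := by
    refine IsPGroup.of_card (Nat.eq_prime_pow_of_unique_prime_dvd Nat.card_pos.ne'
      fun {r} hr hrd => ?_)
    refine (C.small M hM h2M r hr (hrd.trans ((Subgroup.card_subgroup_dvd_card T).trans
      (Subgroup.card_quotient_dvd_card F₀)))).resolve_left ?_
    rintro rfl
    exact hp.out.coprime_iff_not_dvd.1
      (CfsgLib.Core.coprime_card_pPrimeCore r (M ⧸ F₀)).symm hrd
  have hidxQ : ¬ 2 ∣ (Q.subgroupOf M).index := by
    intro hd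
    refine C.index (hd.trans ?_)
    rw [← Subgroup.relIndex, ← Subgroup.relIndex_mul_index hQM]
    exact dvd_mul_right _ _
  let SQ : Sylow 2 M := (C.isPGroup.comap_of_injective M.subtype M.subtype_injective :
    IsPGroup 2 (Q.subgroupOf M)).toSylow hidxQ
  let SQ' : Sylow 2 (M ⧸ F₀) := SQ.mapSurjective (QuotientGroup.mk'_surjective F₀)
  have hSQ' : (SQ' : Subgroup (M ⧸ F₀)) = (Q.subgroupOf M).map π := rfl
  have hcommQ' : ∀ a ∈ (SQ' : Subgroup (M ⧸ F₀)), ∀ b ∈ (SQ' : Subgroup (M ⧸ F₀)),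
      a * b = b * a := by
    rw [hSQ']
    rintro _ ⟨a, ha, rfl⟩ _ ⟨b, hb, rfl⟩
    rw [← map_mul, ← map_mul]
    exact congrArg π (Subtype.ext (C.comm _ ha _ hb))
  have hTle : T ≤ (SQ' : Subgroup (M ⧸ F₀)) := IsPGroup.le_sylow_of_normal hT2 SQ'
  have hTeq : T = (SQ' : Subgroup (M ⧸ F₀)) := le_antisymm hTle fun a ha =>
    hdual (mem_centralizer_iff.2 fun b hb => hcommQ' b (hTle hb) a ha)
  -- injectivity on `Q`
  have hinj : ∀ a : M, (a : G) ∈ Q → π a = 1 → a = 1 := by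
    intro a ha h1
    have h2 : a ∈ F₀ := (QuotientGroup.eq_one_iff a).1 h1
    obtain ⟨k, hk⟩ := (CfsgLib.Core.isPGroup_pCore p M) ⟨a, h2⟩
    have hk' : (a : G) ^ p ^ k = 1 := by
      have := congrArg (fun w : F₀ => ((w : M) : G)) hk
      simpa using this
    rcases eq_or_ne (a : G) 1 with h | h
    · exact Subtype.ext h
    have h3 : orderOf (a : G) ∣ p ^ k := orderOf_dvd_of_pow_eq_one hk'
    rw [C.orderOf_mem ha h] at h3
    exact absurd ((Nat.prime_dvd_prime_iff_eq Nat.prime_two hp.out).1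
      (Nat.prime_two.dvd_of_dvd_pow h3)).symm C.hp2
  -- the `Pt t` lie in `F₀`
  have hPF : ∀ t ∈ Q, t ≠ 1 → ∀ y : M, (y : G) ∈ Pt t → y ∈ F₀ := by
    intro t ht ht1 y hy
    obtain ⟨hyt, k, hk⟩ := (C.mem_Pt (C.orderOf_mem ht ht1)).1 hy
    rw [← QuotientGroup.eq_one_iff]
    show π y = 1
    have hyo : ∃ j : ℕ, orderOf (π y) = p ^ j := by
      have h1 : orderOf (π y) ∣ p ^ k := by
        rw [← hk, Subgroup.orderOf_coe]; exact orderOf_map_dvd π y
      obtain ⟨j, -, hj⟩ := (Nat.dvd_prime_pow hp.out).1 h1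
      exact ⟨j, hj⟩
    have hyT : π y ∈ centralizer (T : Set (M ⧸ F₀)) := by
      by_contra hnc
      obtain ⟨hd, hlt, hmod⟩ := fixed_card (U := T)
        (le_trans le_top (normalizer_eq_top_iff.2 inferInstance).ge (mem_top _)) hyo hnc
      have hle : Nat.card T ≤ p + 1 := by
        rw [hTeq, hSQ']
        refine le_trans (Nat.le_of_dvd Nat.card_pos (Subgroup.card_map_dvd _ π)) ?_
        rw [Nat.card_congr (subgroupOfEquivOfLe hQM).toEquiv, C.cardQ]
      have h2 := Nat.le_of_dvd (by omega) ((Nat.modEq_iff_dvd' hlt.le).1 hmod.symm)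
      have h0 : 0 < Nat.card (T ⊓ centralizer ({π y} : Set (M ⧸ F₀)) : Subgroup _) := Nat.card_pos
      have hf : Nat.card (T ⊓ centralizer ({π y} : Set (M ⧸ F₀)) : Subgroup _) = 1 := by omega
      have hmem : π ⟨t, hQM ht⟩ ∈ T ⊓ centralizer ({π y} : Set (M ⧸ F₀)) := by
        refine ⟨hTeq ▸ (hSQ' ▸ ⟨_, ht, rfl⟩), mem_centralizer_singleton_iff.2 ?_⟩
        rw [← map_mul, ← map_mul]
        exact congrArg π (Subtype.ext hyt.symm.eq)
      rw [Subgroup.card_eq_one.1 hf, Subgroup.mem_bot] at hmem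
      exact ht1 (congrArg Subtype.val (hinj ⟨t, hQM ht⟩ ht hmem))
    obtain ⟨j, hj⟩ := hyo
    obtain ⟨i, hi⟩ := IsPGroup.iff_card.1 hT2
    have h3 : orderOf (π y) ∣ 2 ^ i := hi ▸ Subgroup.orderOf_dvd_natCard T (hdual hyT)
    rw [← orderOf_eq_one_iff]
    rw [hj] at h3 ⊢
    exact Nat.eq_one_of_dvd_coprimes
      ((Nat.Coprime.pow_left j ((Nat.coprime_primes hp.out Nat.prime_two).2 C.hp2)).pow_right i)
      dvd_rfl h3
  -- `x` centralizes `F₀`
  have hxF : ∀ y : M, y ∈ F₀ → Commute x (y : G) := by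
    intro y hy
    have hA : IsPGroup p ((zpowers (⟨x, hxM⟩ : M) ⊔ F₀).map M.subtype : Subgroup G) := by
      refine IsPGroup.map (IsPGroup.to_sup_of_normal_right ?_ (CfsgLib.Core.isPGroup_pCore p M)) _
      obtain ⟨k, hk⟩ := C.xp
      exact IsPGroup.of_card (n := k) (by rw [Nat.card_zpowers, ← hk, ← Subgroup.orderOf_coe])
    exact C.abel _ hA x ⟨⟨x, hxM⟩, mem_sup_left (mem_zpowers _), rfl⟩ y
      ⟨y, mem_sup_right hy, rfl⟩
  have hPt : ∀ t ∈ Q, t ≠ 1 → Pt t = cQ Q := by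
    intro t ht ht1
    refine le_antisymm (fun y hy => C.mem_cQ.2 ⟨fun s hs => ?_,
      ((C.mem_Pt (C.orderOf_mem ht ht1)).1 hy).2⟩) (C.cQ_le ht ht1)
    rcases eq_or_ne s 1 with rfl | hs1
    · exact Commute.one_right y
    obtain ⟨k, hk⟩ := C.trans t ht s hs ht1 hs1
    have hyx : Commute (x ^ k) y :=
      (hxF ⟨y, hPM t ht ht1 hy⟩ (hPF t ht ht1 ⟨y, hPM t ht ht1 hy⟩ hy)).pow_left k
    have h := C.mem_Pt_conj (C.orderOf_mem ht ht1) (x ^ k) hy
    rw [hk, hyx.eq, mul_inv_cancel_right] at h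
    exact ((C.mem_Pt (C.orderOf_mem hs hs1)).1 h).1
  obtain ⟨t₀, ht₀, ht₀1⟩ := C.exists_mem
  have hF : F₀.map M.subtype = cQ Q := by
    refine le_antisymm ?_ fun y hy => ?_
    · haveI : IsMulCommutative Q := ⟨⟨fun a b => Subtype.ext (C.comm _ a.2 _ b.2)⟩⟩
      refine CfsgLib.LocalEven.le_of_centralizers_le (p := 2) (A := Q)
        (fun a ha => by rw [pow_two, C.sq a ha]) (by have := C.four_le; omega) ?_ ?_ ?_
      · intro q hq
        exact Subgroup.le_normalizer_map M.subtype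
          ⟨⟨q, hQM hq⟩, by rw [normalizer_eq_top_iff.2 (inferInstance : F₀.Normal)]; exact mem_top _,
            rfl⟩
      · intro hd
        obtain ⟨i, hi⟩ := IsPGroup.iff_card.1 ((CfsgLib.Core.isPGroup_pCore p M).map M.subtype)
        rw [hi] at hd
        exact C.hp2 ((Nat.prime_dvd_prime_iff_eq Nat.prime_two hp.out).1
          (Nat.prime_two.dvd_of_dvd_pow hd)).symm
      · intro a ha ha1 w hw
        rw [← hPt a ha ha1]
        refine (C.mem_Pt (C.orderOf_mem ha ha1)).2 ⟨mem_centralizer_singleton_iff.1 hw.2, ?_⟩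
        obtain ⟨i, hi⟩ := IsPGroup.iff_orderOf.1
          ((CfsgLib.Core.isPGroup_pCore p M).map M.subtype) ⟨w, hw.1⟩
        exact ⟨i, by rwa [← Subgroup.orderOf_coe] at hi⟩
    · rw [← hPt t₀ ht₀ ht₀1] at hy
      exact ⟨⟨y, hPM t₀ ht₀ ht₀1 hy⟩, hPF t₀ ht₀ ht₀1 _ hy, rfl⟩
  refine ⟨hPt, hF, fun y hy => ?_, fun m hm => ?_, fun m hm => ?_⟩
  · rw [← hF] at hy
    obtain ⟨w, hw, rfl⟩ := hy
    exact hxF w hw
  · -- `Q` is the set of involutions of the normal subgroup `F₀ Q`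
    have key : ∀ m : M, ∀ q ∈ Q, (m : G) * q * (m : G)⁻¹ ∈ Q := by
      intro m q hq
      have h1 : π (m * ⟨q, hQM hq⟩ * m⁻¹) ∈ (SQ' : Subgroup (M ⧸ F₀)) := by
        rw [← hTeq, map_mul, map_mul, map_inv]
        exact Subgroup.Normal.conj_mem inferInstance _ (hTeq ▸ (hSQ' ▸ ⟨_, hq, rfl⟩)) _
      rw [hSQ'] at h1
      obtain ⟨w, hw, hwe⟩ := h1
      have hd : w⁻¹ * (m * ⟨q, hQM hq⟩ * m⁻¹) ∈ F₀ := QuotientGroup.eq.1 hwe
      have hd' : (w : G)⁻¹ * ((m : G) * q * (m : G)⁻¹) ∈ cQ Q := hF ▸ ⟨_, hd, rfl⟩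
      obtain ⟨hc, hpo⟩ := C.mem_cQ.1 hd'
      have hwQ : (w : G) ∈ Q := hw
      set c := (m : G) * q * (m : G)⁻¹ with hcdef
      set d := (w : G)⁻¹ * c with hdd
      have hc2 : c * c = 1 := by
        calc c * c = (m : G) * (q * q) * (m : G)⁻¹ := by rw [hcdef]; group
          _ = 1 := by rw [C.sq q hq, mul_one, mul_inv_cancel]
      have hd2 : d * d = 1 := by
        have hwd : Commute (w : G) d := (hc _ hwQ).symm
        have h : (w : G) * d = c := by rw [hdd, mul_inv_cancel_left]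
        calc d * d = ((w : G) * (w : G)) * (d * d) := by rw [C.sq _ hwQ, one_mul]
          _ = ((w : G) * d) * ((w : G) * d) := by rw [hwd.mul_mul_mul_comm]
          _ = 1 := by rw [h, hc2]
      have hd1 : d = 1 := by
        by_contra hne
        have := C.coprime_two_of_pElement hpo
        rw [CfsgLib.Signalizer.orderOf_eq_two_of hne hd2] at this
        exact absurd this (by decide)
      rw [hdd, inv_mul_eq_one] at hd1
      exact hd1 ▸ hwQ
    refine mem_normalizer_iff.2 fun q => ⟨fun hq => key ⟨m, hm⟩ q hq, fun hq => ?_⟩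
    have := key ⟨m, hm⟩⁻¹ _ hq
    simpa [mul_assoc] using this
  · rw [← hF]
    exact Subgroup.le_normalizer_map M.subtype
      ⟨⟨m, hm⟩, by rw [normalizer_eq_top_iff.2 (inferInstance : F₀.Normal)]; exact mem_top _, rfl⟩

end CfsgLib.Orders.Mixed
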