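import Cfsg.Agent.Lib.Orders.TwoPrimeReal
import Cfsg.Agent.Lib.Perm.PrimeOrderCount

/-!
# The configuration `|G|_2 = p + 1`: counting pairs of involutions

Basic counts, and the impossibility of the case where every involution centralizer is a Sylow
`2`-subgroup.
-/

set_option autoImplicit false
set_option linter.all false

namespace CfsgLib.Orders.Mixed

open Cfsg Subgroup
open scoped Pointwise

universe u

variable {G : Type u} [Group G] [Finite G] {p : ℕ} [hp : Fact p.Prime] {Q : Subgroup G} {x : G}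

variable (C : Config p Q x)
include C

theorem Config.card_centralizer {z : G} (hz : z ∈ Q) (hz1 : z ≠ 1) :
    Nat.card (centralizer ({z} : Set G)) = Nat.card Q * Nat.card (Pt z) := by
  haveI : Fact (Nat.Prime 2) := ⟨Nat.prime_two⟩
  set K := centralizer ({z} : Set G) with hK
  have hzo := C.orderOf_mem hz hz1
  have hc := C.complement hzo (H := K) le_rfl (mem_centralizer_singleton_iff.2 rfl)
  set N := pResidual 2 K with hN
  obtain ⟨b, hb⟩ := IsPGroup.iff_card.1 (CfsgLib.Transfer.isPGroup_quotient_pResidual (p := 2) (G := K))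
  have hmul := N.card_mul_index
  rw [Subgroup.index_eq_card] at hmul
  have hQK : Q ≤ K := fun q hq => mem_centralizer_singleton_iff.2 (C.comm q hq z hz)
  have hPt : Nat.card (Pt z) = Nat.card N :=
    Subgroup.card_map_of_injective K.subtype_injective
  obtain ⟨a, ha⟩ := C.hQ
  have hbQ : 2 ^ b ∣ Nat.card K := ⟨Nat.card N, by rw [← hb, mul_comm]; exact hmul.symm⟩
  obtain ⟨S, hS⟩ := Sylow.exists_subgroup_card_pow_prime 2 hbQ
  have hle : 2 ^ b ≤ p + 1 := by
    rw [← hS, ← Subgroup.card_map_of_injective K.subtype_injective]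
    exact C.card_le ((IsPGroup.of_card hS).map _)
  have hdvd : 2 ^ a ∣ 2 ^ b := by
    refine (Nat.Coprime.dvd_of_dvd_mul_left (k := 2 ^ a) (m := Nat.card N) ?_ ?_)
    · exact ((CfsgLib.Transfer.hasNormalPComplement_iff_coprime.mp hc).symm.pow_left a)
    · rw [← hb, hmul, ← ha]; exact card_dvd_of_le hQK
  have heq : 2 ^ b = Nat.card Q := by
    have := Nat.le_of_dvd (pow_pos two_pos b) hdvd
    have := C.cardQ
    omega
  rw [hPt, ← heq, ← hmul, ← hb, mul_comm]

theorem Config.card_Pt_eq {z w : G} (hz : z ∈ Q) (hz1 : z ≠ 1) (hw : w ∈ Q) (hw1 : w ≠ 1) :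
    Nat.card (Pt z) = Nat.card (Pt w) := by
  have key : ∀ a b : G, a ∈ Q → a ≠ 1 → b ∈ Q → b ≠ 1 → Nat.card (Pt a) ≤ Nat.card (Pt b) := by
    intro a b ha ha1 hb hb1
    obtain ⟨k, hk⟩ := C.trans a ha b hb ha1 hb1
    refine Nat.card_le_card_of_injective
      (fun y : Pt a => (⟨x ^ k * y * (x ^ k)⁻¹,
        hk ▸ C.mem_Pt_conj (C.orderOf_mem ha ha1) (x ^ k) y.2⟩ : Pt b)) fun u v e => ?_
    have := congrArg Subtype.val e
    simpa using this
  exact le_antisymm (key z w hz hz1 hw hw1) (key w z hw hw1 hz hz1)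

/-- `|C(z)|` times the number of involutions is `|G|`. -/
theorem Config.card_mul_involutions {z : G} (hz : z ∈ Q) (hz1 : z ≠ 1) :
    Nat.card {s : G // orderOf s = 2} * Nat.card (centralizer ({z} : Set G)) = Nat.card G := by
  rw [← CfsgLib.Perm.card_isConj_mul_card_centralizer z]
  congr 1
  refine Nat.card_congr (Equiv.subtypeEquivRight fun s => ⟨fun hs => ?_, fun h => ?_⟩)
  · obtain ⟨h, hh⟩ := C.conj_involution hs hz hz1
    exact isConj_comm.1 (isConj_iff.2 ⟨h, hh⟩)
  · obtain ⟨g, rfl⟩ := isConj_iff.1 h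
    exact C.orderOf_conj_two (C.orderOf_mem hz hz1) g

theorem Config.two_dvd_card : 2 ∣ Nat.card G := C.two_dvd.trans (Subgroup.card_subgroup_dvd_card Q)

/-- Not all involution centralizers are Sylow `2`-subgroups. -/
theorem Config.false_of_Pt_eq_bot (hP0 : ∀ t ∈ Q, t ≠ 1 → Pt t = ⊥) : False := by
  haveI : Fact (Nat.Prime 2) := ⟨Nat.prime_two⟩
  obtain ⟨t₀, ht₀, ht₀1⟩ := C.exists_mem
  have hcent : ∀ z ∈ Q, z ≠ 1 → centralizer ({z} : Set G) = Q := by
    intro z hz hz1
    refine (Subgroup.eq_of_le_of_card_ge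
      (fun q hq => mem_centralizer_singleton_iff.2 (C.comm q hq z hz)) ?_).symm
    rw [C.card_centralizer hz hz1, hP0 z hz hz1, Subgroup.card_bot, mul_one]
  have hTI : InvTI Q := fun z hz hz1 s hs hsz => by
    rw [← hcent z hz hz1]; exact mem_centralizer_singleton_iff.2 hsz
  -- no `p`-element commutes with an involution
  have hno : ∀ z m : G, orderOf z = 2 → Commute m z → (∃ k : ℕ, orderOf m = p ^ k) → m = 1 := by
    intro z m hz hmz ⟨k, hk⟩
    obtain ⟨h, hh⟩ := C.conj_involution hz ht₀ ht₀1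
    have : h * m * h⁻¹ ∈ Pt t₀ := (C.mem_Pt (C.orderOf_mem ht₀ ht₀1)).2
      ⟨hh ▸ (commute_conj_iff h m z).2 hmz, k, by rw [CfsgLib.Signalizer.orderOf_conj, hk]⟩
    rw [hP0 t₀ ht₀ ht₀1, Subgroup.mem_bot] at this
    exact conj_eq_one_iff.1 this
  have hreal : ∀ s m : G, orderOf s = 2 → s * m * s⁻¹ = m⁻¹ → m ≠ 1 →
      (∃ k : ℕ, orderOf m = p ^ k) → ∃ P : Sylow p G, (P : Subgroup G) = centralizer ({m} : Set G) ∧
        s ∈ normalizer ((P : Subgroup G) : Set G) := by
    intro s m hs hinv hm1 hmp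
    refine C.centralizer_sylow hs hinv hmp fun h2 => ?_
    obtain ⟨z, hz⟩ := exists_prime_orderOf_dvd_card' 2 h2
    exact hm1 (hno z m (by rw [Subgroup.orderOf_coe, hz])
      (mem_centralizer_singleton_iff.1 z.2 : Commute (z : G) m).symm hmp)
  -- an involution normalizing a Sylow subgroup inverts it
  have hinvert : ∀ (P : Sylow p G) (s : G), orderOf s = 2 →
      s ∈ normalizer ((P : Subgroup G) : Set G) →
      ∀ a ∈ (P : Subgroup G), s * a * s⁻¹ = a⁻¹ := by
    intro P s hs hN a ha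
    have hb : s * a * s⁻¹ ∈ (P : Subgroup G) := (mem_normalizer_iff.1 hN a).1 ha
    have hab := (P : Subgroup G).mul_mem ha hb
    have h1 : a * (s * a * s⁻¹) = 1 := by
      refine hno s _ hs ?_ ?_
      · show a * (s * a * s⁻¹) * s = s * (a * (s * a * s⁻¹))
        have hc := C.abel _ P.2 a ha _ hb
        calc a * (s * a * s⁻¹) * s = a * (s * a) := by group
          _ = s * ((s⁻¹ * a * s) * a) := by group
          _ = s * ((s * a * s⁻¹) * a) := by rw [CfsgLib.Signalizer.involution_inv hs]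
          _ = s * (a * (s * a * s⁻¹)) := by rw [← hc]
      · obtain ⟨j, hj⟩ := IsPGroup.iff_orderOf.1 P.2 ⟨_, hab⟩
        exact ⟨j, by rwa [← Subgroup.orderOf_coe] at hj⟩
    exact eq_inv_of_mul_eq_one_right h1
  obtain ⟨s₀, t₁, hs₀, ht₁, hst⟩ := C.exists_noncommuting
  have hinv₀ := CfsgLib.Signalizer.conj_mul_eq_inv hs₀ ht₁
  have hm₀ : s₀ * t₁ ≠ 1 := by
    intro e
    refine hst ?_
    rw [← inv_eq_of_mul_eq_one_right e, CfsgLib.Signalizer.involution_inv hs₀]
  obtain ⟨P₀, hP₀C, hs₀N⟩ := hreal s₀ _ hs₀ hinv₀ hm₀ (C.pair_pElement hTI hs₀ ht₁ hst)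
  have hm₀P : s₀ * t₁ ∈ (P₀ : Subgroup G) := hP₀C ▸ mem_centralizer_singleton_iff.2 rfl
  have hodd : ∀ (P : Sylow p G) (a : G), a ∈ (P : Subgroup G) → orderOf a ≠ 2 := by
    intro P a ha h2
    obtain ⟨j, hj⟩ := IsPGroup.iff_orderOf.1 P.2 ⟨a, ha⟩
    rw [← Subgroup.orderOf_coe] at hj
    exact absurd (C.coprime_two_of_pElement ⟨j, hj⟩) (by rw [h2]; decide)
  -- involutions of `N(P₀)`
  have hA : ∀ s : G, (orderOf s = 2 ∧ s ∈ normalizer ((P₀ : Subgroup G) : Set G)) ↔
      ∃ a ∈ (P₀ : Subgroup G), s = s₀ * a := by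
    intro s
    constructor
    · rintro ⟨hs, hsN⟩
      refine ⟨s₀⁻¹ * s, ?_, by group⟩
      rw [hP₀C, mem_centralizer_singleton_iff]
      have h1 := hinvert P₀ s hs hsN _ hm₀P
      have h2 : s * (s₀ * t₁) * s⁻¹ = s₀ * (s₀ * t₁) * s₀⁻¹ := h1.trans hinv₀.symm
      have h3 := congrArg (fun w => s₀⁻¹ * w * s) h2
      simpa [mul_assoc] using h3
    · rintro ⟨a, ha, rfl⟩
      refine ⟨CfsgLib.Signalizer.orderOf_eq_two_of ?_ ?_, mul_mem hs₀N (le_normalizer ha)⟩
      · intro e
        refine hodd P₀ a ha ?_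
        rw [← inv_eq_of_mul_eq_one_right e, orderOf_inv, hs₀]
      · have h1 := hinvert P₀ s₀ hs₀ hs₀N a ha
        calc s₀ * a * (s₀ * a) = (s₀ * a * s₀⁻¹) * (s₀ * s₀) * a := by group
          _ = 1 := by rw [h1, CfsgLib.Signalizer.involution_sq hs₀, mul_one, inv_mul_cancel]
  set w := Nat.card (P₀ : Subgroup G) with hw
  -- the normalizer
  have hN : Nat.card (normalizer ((P₀ : Subgroup G) : Set G)) = 2 * w := by
    have hle : normalizer ((P₀ : Subgroup G) : Set G) = zpowers s₀ ⊔ (P₀ : Subgroup G) := by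
      refine le_antisymm (fun y hy => ?_) (sup_le (zpowers_le.2 hs₀N) le_normalizer)
      obtain ⟨a, ha, hya⟩ := (hA (y * s₀ * y⁻¹)).1
        ⟨C.orderOf_conj_two hs₀ y, mul_mem (mul_mem hy hs₀N) (inv_mem hy)⟩
      -- squaring is surjective on `P₀`
      obtain ⟨⟨b, hb⟩, hb2⟩ := (Finite.injective_iff_surjective
        (f := fun b : (P₀ : Subgroup G) => (b * b)⁻¹)).1 (by
          intro b c e
          have e' : b * b = c * c := inv_injective e
          have h1 : (b⁻¹ * c) * (b⁻¹ * c) = 1 := by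
            have hbc : Commute b c := Subtype.ext (C.abel _ P₀.2 _ b.2 _ c.2)
            rw [(hbc.inv_left).symm.mul_mul_mul_comm, ← mul_inv_rev, ← e', inv_mul_cancel]
          by_contra hne
          refine hodd P₀ ((b⁻¹ * c : (P₀ : Subgroup G)) : G) (b⁻¹ * c).2 ?_
          rw [Subgroup.orderOf_coe]
          exact CfsgLib.Signalizer.orderOf_eq_two_of (fun e => hne (inv_mul_eq_one.1 e)) h1) ⟨a, ha⟩
      have hb2' : (b * b)⁻¹ = a := congrArg Subtype.val hb2
      have hbs : b * s₀ * b⁻¹ = s₀ * a := by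
        calc b * s₀ * b⁻¹ = (s₀ * s₀) * (b * s₀ * b⁻¹) := by
              rw [CfsgLib.Signalizer.involution_sq hs₀, one_mul]
          _ = s₀ * (s₀ * b * s₀⁻¹) * b⁻¹ := by
              rw [CfsgLib.Signalizer.involution_inv hs₀]; group
          _ = s₀ * a := by
              rw [hinvert P₀ s₀ hs₀ hs₀N b hb, ← hb2', mul_inv_rev, mul_assoc]
      set c := b⁻¹ * y with hc
      have hcs : Commute c s₀ := by
        have h1 : y * s₀ * y⁻¹ = b * s₀ * b⁻¹ := hya.trans hbs.symm
        have h2 := congrArg (fun v => b⁻¹ * v * y) h1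
        show c * s₀ = s₀ * c
        simpa [hc, mul_assoc] using h2
      obtain ⟨h, hh⟩ := C.conj_involution hs₀ ht₀ ht₀1
      have hcQ : h * c * h⁻¹ ∈ Q := by
        rw [← hcent t₀ ht₀ ht₀1, mem_centralizer_singleton_iff, ← hh]
        exact ((commute_conj_iff h c s₀).2 hcs).eq
      have hy' : y = b * c := by rw [hc, mul_inv_cancel_left]
      rw [hy']
      refine mul_mem (mem_sup_right hb) ?_
      rcases eq_or_ne c 1 with hc1 | hc1
      · rw [hc1]; exact one_mem _
      obtain ⟨a', ha', hca⟩ := (hA c).1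
        ⟨by rw [← CfsgLib.Signalizer.orderOf_conj h]
            exact C.orderOf_mem hcQ fun e => hc1 (conj_eq_one_iff.1 e),
          mul_mem (inv_mem (le_normalizer hb)) hy⟩
      rw [hca]
      exact mul_mem (mem_sup_left (mem_zpowers s₀)) (mem_sup_right ha')
    rw [hle, CfsgLib.Core.card_sup_of_coprime _ _ (zpowers_le.2 hs₀N) ?_, Nat.card_zpowers, hs₀]
    obtain ⟨i, hi⟩ := IsPGroup.iff_card.1 P₀.2
    rw [Nat.card_zpowers, hs₀, hi]
    exact ((Nat.coprime_primes Nat.prime_two hp.out).2 C.hp2.symm).pow_right i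
  -- the involutions
  let I := {s : G // orderOf s = 2}
  have hcomm : Nat.card {st : I × I // Commute (st.1 : G) (st.2 : G)} = Nat.card I * p := by
    have hfib : ∀ s : I, Nat.card {t : I // Commute (s : G) (t : G)} = p := by
      intro s
      obtain ⟨h, hh⟩ := C.conj_involution s.2 ht₀ ht₀1
      have e : {t : I // Commute (s : G) (t : G)} ≃ {u : Q // u ≠ 1} :=
        { toFun := fun t => ⟨⟨h * (t.1 : G) * h⁻¹, hTI t₀ ht₀ ht₀1 _
              (C.orderOf_conj_two t.1.2 h) (hh ▸ ((commute_conj_iff h _ _).2 t.2).symm)⟩,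
            fun e => CfsgLib.Signalizer.involution_ne_one t.1.2
              (conj_eq_one_iff.1 (congrArg Subtype.val e))⟩
          invFun := fun u => ⟨⟨h⁻¹ * (u.1 : G) * h, by
              have := C.orderOf_conj_two (C.orderOf_mem u.1.2 fun e => u.2 (Subtype.ext e)) h⁻¹
              simpa using this⟩, by
            have := (commute_conj_iff h⁻¹ t₀ (u.1 : G)).2 (C.comm t₀ ht₀ _ u.1.2)
            rw [← hh] at this
            simpa [mul_assoc] using this⟩
          left_inv := fun t => Subtype.ext (Subtype.ext (by simp [mul_assoc]))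
          right_inv := fun u => Subtype.ext (Subtype.ext (by simp [mul_assoc])) }
      rw [Nat.card_congr e]
      classical
      have := Fintype.ofFinite Q
      rw [Nat.card_eq_fintype_card, Fintype.card_subtype_compl, Fintype.card_subtype_eq,
        ← Nat.card_eq_fintype_card, C.cardQ]
      omega
    rw [Nat.card_congr (Equiv.subtypeProdEquivSigmaSubtype fun s t : I => Commute (s : G) (t : G))]
    haveI := Fintype.ofFinite I
    rw [Nat.card_sigma, Finset.sum_congr rfl (fun s _ => hfib s), Finset.sum_const, Finset.card_univ,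
      smul_eq_mul, Nat.card_eq_fintype_card]
  -- pairs with real product
  let F : Type u := Σ P : Sylow p G, {s : I // (s : G) ∈ normalizer ((P : Subgroup G) : Set G)} ×
      {m : (P : Subgroup G) // m ≠ 1}
  have hmul : ∀ a : F, orderOf ((a.2.1.1 : G) * (a.2.2.1 : G)) = 2 ∧
      ¬ Commute (a.2.1.1 : G) ((a.2.1.1 : G) * (a.2.2.1 : G)) := by
    rintro ⟨P, ⟨⟨s, hs⟩, hsN⟩, ⟨⟨m, hm⟩, hm1⟩⟩
    have hm1' : m ≠ 1 := fun e => hm1 (Subtype.ext e)
    have h1 := hinvert P s hs hsN m hm
    refine ⟨CfsgLib.Signalizer.orderOf_eq_two_of (fun e => ?_) ?_, fun hc => ?_⟩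
    · refine hodd P m hm ?_
      have e' : s * m = 1 := e
      rw [← inv_eq_of_mul_eq_one_right e', orderOf_inv, hs]
    · show s * m * (s * m) = 1
      calc s * m * (s * m) = (s * m * s⁻¹) * (s * s) * m := by group
        _ = 1 := by rw [h1, CfsgLib.Signalizer.involution_sq hs, mul_one, inv_mul_cancel]
    · have hcm : Commute s m := by
        have := ((Commute.refl s).inv_right).mul_right hc
        simpa using this
      obtain ⟨j, hj⟩ := IsPGroup.iff_orderOf.1 P.2 ⟨m, hm⟩
      rw [← Subgroup.orderOf_coe] at hj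
      exact hm1' (C.eq_one_of_commute_inverts hcm h1 ⟨j, hj⟩)
  have hNC : Nat.card {st : I × I // ¬ Commute (st.1 : G) (st.2 : G)} = Nat.card F := by
    refine (Nat.card_congr (Equiv.ofBijective (fun a : F =>
      (⟨(a.2.1.1, ⟨_, (hmul a).1⟩), (hmul a).2⟩ :
        {st : I × I // ¬ Commute (st.1 : G) (st.2 : G)})) ⟨?_, ?_⟩)).symm
    · rintro ⟨P, ⟨s, hsN⟩, ⟨m, hm1⟩⟩ ⟨P', ⟨s', hsN'⟩, ⟨m', hm1'⟩⟩ e
      have e1 : s = s' := congrArg (fun z => z.1.1) e
      subst e1
      have e2 : (m : G) = m' :=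
        mul_left_cancel (congrArg (fun z => (z.1.2 : G)) e : (s : G) * m = (s : G) * m')
      have hPP : P = P' := by
        obtain ⟨R, hR, -⟩ := hreal s m s.2 (hinvert P s s.2 hsN m m.2)
          (fun e => hm1 (Subtype.ext e))
          (by obtain ⟨j, hj⟩ := IsPGroup.iff_orderOf.1 P.2 m
              exact ⟨j, by rwa [← Subgroup.orderOf_coe] at hj⟩)
        have h1 : ∀ T : Sylow p G, (m : G) ∈ (T : Subgroup G) → T = R := fun T hT =>
          Sylow.ext (Subgroup.eq_of_le_of_card_ge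
            (hR ▸ fun a ha => mem_centralizer_singleton_iff.2 (C.abel _ T.2 a ha m hT))
            (by rw [R.card_eq_multiplicity, T.card_eq_multiplicity]))
        rw [h1 P m.2, h1 P' (e2 ▸ m'.2)]
      subst hPP
      have : m = m' := Subtype.ext e2
      subst this
      rfl
    · rintro ⟨⟨s, t⟩, hst'⟩
      obtain ⟨R, hR, hsR⟩ := hreal s _ s.2 (CfsgLib.Signalizer.conj_mul_eq_inv s.2 t.2)
        (fun e => hst' (by rw [← inv_eq_of_mul_eq_one_right e,
          CfsgLib.Signalizer.involution_inv s.2]))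
        (C.pair_pElement hTI s.2 t.2 hst')
      refine ⟨⟨R, ⟨s, hsR⟩, ⟨⟨(s : G) * t, hR ▸ mem_centralizer_singleton_iff.2 rfl⟩, fun e => ?_⟩⟩,
        ?_⟩
      · have e' : (s : G) * t = 1 := congrArg Subtype.val e
        exact hst' (by rw [← inv_eq_of_mul_eq_one_right e', CfsgLib.Signalizer.involution_inv s.2])
      · refine Subtype.ext (Prod.ext rfl (Subtype.ext ?_))
        show (s : G) * ((s : G) * t) = t
        rw [← mul_assoc, CfsgLib.Signalizer.involution_sq s.2, one_mul]
  -- every fibre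
  have hfibre : ∀ P : Sylow p G, Nat.card ({s : I // (s : G) ∈ normalizer ((P : Subgroup G) : Set G)} ×
      {m : (P : Subgroup G) // m ≠ 1}) = w * (w - 1) := by
    intro P
    obtain ⟨h, hh⟩ := MulAction.exists_smul_eq G P P₀
    have hwP : Nat.card (P : Subgroup G) = w := by
      rw [P.card_eq_multiplicity, hw, P₀.card_eq_multiplicity]
    have hNmem : ∀ y : G, y ∈ normalizer ((P : Subgroup G) : Set G) ↔
        h * y * h⁻¹ ∈ normalizer ((P₀ : Subgroup G) : Set G) := by
      have hcoe : ∀ (T : Sylow p G) (y : G),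
          y ∈ normalizer ((T : Subgroup G) : Set G) ↔ y • T = T := fun T y =>
        Sylow.smul_eq_iff_mem_normalizer.symm
      intro y
      rw [hcoe, hcoe, ← hh, ← mul_smul, inv_mul_cancel_right, mul_smul, smul_left_cancel_iff]
    rw [Nat.card_prod]
    congr 1
    · have e1 : {s : I // (s : G) ∈ normalizer ((P : Subgroup G) : Set G)} ≃
          {s : G // orderOf s = 2 ∧ s ∈ normalizer ((P₀ : Subgroup G) : Set G)} :=
        { toFun := fun s => ⟨h * (s.1 : G) * h⁻¹, C.orderOf_conj_two s.1.2 h, (hNmem _).1 s.2⟩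
          invFun := fun s => ⟨⟨h⁻¹ * (s : G) * h, by
              have := C.orderOf_conj_two s.2.1 h⁻¹
              simpa using this⟩, (hNmem _).2 (by simpa [mul_assoc] using s.2.2)⟩
          left_inv := fun s => Subtype.ext (Subtype.ext (by simp [mul_assoc]))
          right_inv := fun s => Subtype.ext (by simp [mul_assoc]) }
      rw [Nat.card_congr e1, hw]
      refine (Nat.card_congr (Equiv.ofBijective (fun a : (P₀ : Subgroup G) =>
        (⟨s₀ * a, (hA _).2 ⟨a, a.2, rfl⟩⟩ :
          {s : G // orderOf s = 2 ∧ s ∈ normalizer ((P₀ : Subgroup G) : Set G)})) ⟨?_, ?_⟩)).symm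
      · intro a b e
        exact Subtype.ext (mul_left_cancel (congrArg Subtype.val e))
      · intro s
        obtain ⟨a, ha, hsa⟩ := (hA _).1 s.2
        exact ⟨⟨a, ha⟩, Subtype.ext hsa.symm⟩
    · classical
      have := Fintype.ofFinite (P : Subgroup G)
      rw [Nat.card_eq_fintype_card, Fintype.card_subtype_compl, Fintype.card_subtype_eq,
        ← Nat.card_eq_fintype_card, hwP]
  have hF : Nat.card F = Nat.card (Sylow p G) * (w * (w - 1)) := by
    haveI := Fintype.ofFinite (Sylow p G)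
    rw [Nat.card_sigma, Finset.sum_congr rfl (fun P _ => hfibre P), Finset.sum_const,
      Finset.card_univ, smul_eq_mul, Nat.card_eq_fintype_card]
  set i := Nat.card I with hi
  have htotal : i * i = i * p + Nat.card (Sylow p G) * (w * (w - 1)) := by
    classical
    have := Nat.card_congr (Equiv.sumCompl fun st : I × I => Commute (st.1 : G) (st.2 : G))
    rw [Nat.card_sum, hcomm, hNC, hF, Nat.card_prod] at this
    exact this.symm
  have hG1 : i * (p + 1) = Nat.card G := by
    rw [hi, ← C.card_mul_involutions ht₀ ht₀1, hcent t₀ ht₀ ht₀1, C.cardQ]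
  have hG2 : Nat.card (Sylow p G) * (2 * w) = Nat.card G := by
    rw [P₀.card_eq_index_normalizer, ← hN]
    exact index_mul_card _
  haveI : Nonempty I := ⟨⟨s₀, hs₀⟩⟩
  have hi0 : 0 < i := Nat.card_pos
  have hpw : p ∣ w := by
    obtain ⟨j, hj⟩ := IsPGroup.iff_card.1 P₀.2
    rcases j with _ | j
    · exfalso
      have hbot : (P₀ : Subgroup G) = ⊥ := Subgroup.card_eq_one.1 (by rw [hj, pow_zero])
      rw [hbot, Subgroup.mem_bot] at hm₀P
      exact hm₀ hm₀P
    · exact hw ▸ hj ▸ dvd_pow_self p (Nat.succ_ne_zero j)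
  have hw1 : 1 ≤ w := hw ▸ Nat.card_pos
  have key : 2 * i = 2 * p + (p + 1) * (w - 1) := by
    refine Nat.eq_of_mul_eq_mul_left hi0 ?_
    calc i * (2 * i) = 2 * (i * p) + (Nat.card (Sylow p G) * (2 * w)) * (w - 1) := by
          rw [show i * (2 * i) = 2 * (i * i) by ring, htotal]; ring
      _ = i * (2 * p + (p + 1) * (w - 1)) := by rw [hG2, ← hG1]; ring
  have hpi : p ∣ i := by
    have : p ∣ i * (p + 1) := hG1 ▸ hG2 ▸ (hpw.mul_left 2).mul_left _
    refine (Nat.Prime.dvd_mul hp.out).1 this |>.resolve_right fun h => ?_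
    exact hp.out.ne_one (Nat.dvd_one.1 ((Nat.dvd_add_right dvd_rfl).1 h))
  have h1 : p ∣ (p + 1) * (w - 1) := (Nat.dvd_add_right (dvd_mul_left p 2)).1 (key ▸ hpi.mul_left 2)
  have h2 : p ∣ w - 1 := (Nat.Prime.dvd_mul hp.out).1 h1 |>.resolve_left fun h =>
    hp.out.ne_one (Nat.dvd_one.1 ((Nat.dvd_add_right dvd_rfl).1 h))
  have h3 := Nat.dvd_sub hpw h2
  rw [Nat.sub_sub_self hw1] at h3
  exact hp.out.ne_one (Nat.dvd_one.1 h3)

end CfsgLib.Orders.Mixed
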