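import Cfsg.Agent.Lib.Orders.TwoPrimeCount
import Cfsg.Agent.Lib.TwoGroups.KleinSylow
import Cfsg.Agent.Lib.Blocks.KleinOrder
import Cfsg.Agent.Lib.CharDegree.Basic
import Cfsg.Agent.Lib.ZStar.PrincipalBlock

/-!
# The configuration with a four-group as Sylow `2`-subgroup

An involution centralizer with nontrivial `3`-part bounds the number of involutions from above by
counting pairs, and from below by the order formula of the principal `2`-block; the two bounds
are incompatible.
-/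

set_option autoImplicit false
set_option linter.all false

namespace CfsgLib.Orders.Mixed

open Cfsg Subgroup
open scoped Pointwise Classical commutatorElement

universe u

variable {G : Type u} [Group G] [Finite G] {p : ℕ} [hp : Fact p.Prime] {Q : Subgroup G} {x : G}

omit hp in
theorem mem_normalizer_of_forall {H : Subgroup G} {g : G} (h : ∀ a ∈ H, g * a * g⁻¹ ∈ H) :
    g ∈ normalizer (H : Set G) := by
  have h1 : H.map (MulAut.conj g).toMonoidHom ≤ H := by
    rintro _ ⟨a, ha, rfl⟩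
    exact h a ha
  have h2 := Subgroup.eq_of_le_of_card_ge h1
    (Subgroup.card_map_of_injective (MulAut.conj g).injective).ge
  refine mem_normalizer_iff.2 fun a => ⟨h a, fun ha => ?_⟩
  obtain ⟨b, hb, e⟩ : g * a * g⁻¹ ∈ H.map (MulAut.conj g).toMonoidHom := h2.symm ▸ ha
  exact (MulAut.conj g).injective e ▸ hb

omit hp in
theorem isPGroup_klein {W : Subgroup G} (hW : IsKleinFour W) : IsPGroup 2 W :=
  IsPGroup.of_card (n := 2) (by rw [hW.card_four]; norm_num)

omit hp in
/-- The elements of `A` inverted by `w`. -/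
def invSub (A : Subgroup G) (hA : ∀ a ∈ A, ∀ b ∈ A, a * b = b * a) (w : G) : Subgroup G where
  carrier := {a | a ∈ A ∧ w * a * w⁻¹ = a⁻¹}
  one_mem' := ⟨one_mem A, by simp⟩
  mul_mem' := by
    rintro a b ⟨ha, ha'⟩ ⟨hb, hb'⟩
    refine ⟨mul_mem ha hb, ?_⟩
    rw [hA a ha b hb]
    calc w * (b * a) * w⁻¹ = (w * b * w⁻¹) * (w * a * w⁻¹) := by group
      _ = (b * a)⁻¹ := by rw [ha', hb', mul_inv_rev, hA _ (inv_mem hb) _ (inv_mem ha)]
  inv_mem' := by
    rintro a ⟨ha, ha'⟩
    refine ⟨inv_mem ha, ?_⟩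
    calc w * a⁻¹ * w⁻¹ = (w * a * w⁻¹)⁻¹ := by group
      _ = a⁻¹⁻¹ := by rw [ha']

variable (C : Config p Q x)
include C

theorem Config.klein (h4 : Nat.card Q = 4) : IsKleinFour Q := by
  refine ⟨h4, ?_⟩
  haveI : Nontrivial Q := by
    rw [← Finite.one_lt_card_iff_nontrivial, h4]; norm_num
  refine (Monoid.exponent_eq_prime_iff Nat.prime_two).2 fun g hg => ?_
  rw [← Subgroup.orderOf_coe]
  exact C.orderOf_mem g.2 fun e => hg (Subtype.ext e)

/-- Elements fixed or inverted by an involution of `Q` control the size of a stable abelian group. -/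
theorem Config.card_le_fixed_mul {A : Subgroup G} (hA : IsPGroup p A) {w : G} (hw : w ∈ Q)
    (hw1 : w ≠ 1) (hwA : ∀ a ∈ A, w * a * w⁻¹ ∈ A) :
    Nat.card A ≤ Nat.card (Pt w) * Nat.card (invSub A (C.abel A hA) w) := by
  have hcomm := C.abel A hA
  let f : A →* A :=
    { toFun := fun a => ⟨(a : G) * (w * a * w⁻¹), mul_mem a.2 (hwA a a.2)⟩
      map_one' := Subtype.ext (by simp)
      map_mul' := fun a b => Subtype.ext (by
        show (a : G) * b * (w * ((a : G) * b) * w⁻¹) = _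
        have := hcomm _ (hwA a a.2) b b.2
        calc (a : G) * b * (w * ((a : G) * b) * w⁻¹)
            = (a : G) * ((b : G) * (w * a * w⁻¹)) * (w * b * w⁻¹) := by group
          _ = (a : G) * ((w * a * w⁻¹) * b) * (w * b * w⁻¹) := by rw [this]
          _ = _ := by simp [mul_assoc]) }
  have hker : Nat.card f.ker ≤ Nat.card (invSub A hcomm w) := by
    refine Nat.card_le_card_of_injective (fun a : f.ker => (⟨((a : A) : G), (a : A).2, ?_⟩ :
      invSub A hcomm w)) fun a b e => Subtype.ext (Subtype.ext ?_)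
    · exact eq_inv_of_mul_eq_one_right (congrArg Subtype.val (MonoidHom.mem_ker.1 a.2))
    · exact (congrArg Subtype.val e :)
  have hrange : Nat.card f.range ≤ Nat.card (Pt w) := by
    refine Nat.card_le_card_of_injective (fun a : f.range => (⟨((a : A) : G), ?_⟩ : Pt w))
      fun a b e => Subtype.ext (Subtype.ext (congrArg Subtype.val e :))
    obtain ⟨b, hb⟩ := a.2
    refine (C.mem_Pt (C.orderOf_mem hw hw1)).2 ⟨?_, ?_⟩
    · rw [← hb]
      show (b : G) * (w * b * w⁻¹) * w = w * ((b : G) * (w * b * w⁻¹))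
      have hwi := CfsgLib.Signalizer.involution_inv (C.orderOf_mem hw hw1)
      rw [hcomm b b.2 _ (hwA b b.2)]
      conv_lhs => rw [hwi]
      conv_rhs => rw [← hcomm b b.2 _ (hwA b b.2)]
      calc w * b * w * b * w = (w * b * w⁻¹) * b * w := by rw [hwi]
        _ = b * (w * b * w⁻¹) * w := by rw [hcomm b b.2 _ (hwA b b.2)]
        _ = b * (w * b) := by group
        _ = (w * w) * b * (w * b) := by rw [C.sq w hw, one_mul]
        _ = w * (w * b * w⁻¹ * w * w * b) := by group
        _ = w * ((w * b * w⁻¹) * b) := by rw [mul_assoc _ w w, C.sq w hw, mul_one]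
        _ = w * (b * (w * b * w⁻¹)) := by rw [hcomm b b.2 _ (hwA b b.2)]
    · obtain ⟨j, hj⟩ := IsPGroup.iff_orderOf.1 hA (a : A)
      exact ⟨j, by rwa [← Subgroup.orderOf_coe] at hj⟩
  calc Nat.card A = Nat.card f.ker * f.ker.index := (f.ker.card_mul_index).symm
    _ = Nat.card f.ker * Nat.card f.range := by rw [Subgroup.index_ker]
    _ ≤ _ := by rw [mul_comm (Nat.card (Pt w))]; exact Nat.mul_le_mul hker hrange

/-- A nontrivial `p`-element commutes with no four-group. -/
theorem Config.eq_one_of_two_involutions (h4 : Nat.card Q = 4) {a b y : G} (ha : orderOf a = 2)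
    (hb : orderOf b = 2) (hab : Commute a b) (hne : a ≠ b) (hya : Commute y a) (hyb : Commute y b)
    (hy : ∃ k : ℕ, orderOf y = p ^ k) : y = 1 := by
  have ha2 := CfsgLib.Signalizer.involution_sq ha
  have hb2 := CfsgLib.Signalizer.involution_sq hb
  obtain ⟨h, hh⟩ := C.exists_conj_mem (isPGroup_klein (CfsgLib.TwoGroups.isKleinFour_fourOf
    ha2 hb2 hab.eq (CfsgLib.Signalizer.involution_ne_one ha)
    (CfsgLib.Signalizer.involution_ne_one hb) hne))
  have haQ := hh a ((CfsgLib.TwoGroups.mem_fourOf _ _ _).2 (Or.inr (Or.inl rfl)))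
  have hbQ := hh b ((CfsgLib.TwoGroups.mem_fourOf _ _ _).2 (Or.inr (Or.inr (Or.inl rfl))))
  have hmem : h * y * h⁻¹ ∈ cQ Q := by
    obtain ⟨k, hk⟩ := hy
    refine C.mem_cQ.2 ⟨fun t ht => ?_, k, by rw [CfsgLib.Signalizer.orderOf_conj, hk]⟩
    have h1 := (commute_conj_iff h y a).2 hya
    have h2 := (commute_conj_iff h y b).2 hyb
    rcases CfsgLib.TwoGroups.klein_cases (C.klein h4) haQ hbQ
      (fun e => CfsgLib.Signalizer.involution_ne_one ha (conj_eq_one_iff.1 e))
      (fun e => CfsgLib.Signalizer.involution_ne_one hb (conj_eq_one_iff.1 e))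
      (fun e => hne (by simpa using e)) ht with rfl | rfl | rfl | rfl
    exacts [Commute.one_right _, h1, h2, h1.mul_right h2]
  rw [C.cQ_eq_bot, Subgroup.mem_bot] at hmem
  exact conj_eq_one_iff.1 hmem

/-- The `p`-elements commuting with a `p`-element fixed by an involution form a Sylow subgroup. -/
theorem Config.exists_sylow_of_fixed (h4 : Nat.card Q = 4) {y z : G} (hy1 : y ≠ 1)
    (hy : ∃ k : ℕ, orderOf y = p ^ k) (hz : orderOf z = 2) (hzy : Commute y z) :
    ∃ P : Sylow p G, ∀ a : G, a ∈ (P : Subgroup G) ↔ Commute a y ∧ ∃ k : ℕ, orderOf a = p ^ k := by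
  haveI : Fact (Nat.Prime 2) := ⟨Nat.prime_two⟩
  set K := centralizer ({y} : Set G) with hK
  have hKtop : K ≠ ⊤ := by
    intro htop
    have hn : (zpowers y).Normal := ⟨fun a ha g => by
      have hsc : Commute g y :=
        mem_centralizer_singleton_iff.1 (show g ∈ K by rw [htop]; exact mem_top g)
      obtain ⟨j, rfl⟩ := mem_zpowers_iff.1 ha
      rw [(hsc.zpow_right j).eq, mul_inv_cancel_right]
      exact ⟨j, rfl⟩⟩
    rcases C.simple _ hn with h | h
    · exact hy1 (zpowers_eq_bot.1 h)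
    · have h2 : 2 ∣ Nat.card (⊤ : Subgroup G) := C.two_dvd.trans (card_dvd_of_le le_top)
      rw [← h, Nat.card_zpowers] at h2
      exact absurd ((C.coprime_two_of_pElement hy).coprime_dvd_left h2) (by decide)
  have hzK : z ∈ K := mem_centralizer_singleton_iff.2 hzy.symm.eq
  have h2K : 2 ∣ Nat.card K := hz ▸ Subgroup.orderOf_dvd_natCard K hzK
  have hsmall : ∀ U : Subgroup G, IsPGroup 2 U → U ≤ K → Nat.card U ≤ 2 := by
    intro U hU hUK
    by_contra hc
    push Not at hc
    have hsq : ∀ a ∈ U, a * a = 1 := fun a ha => by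
      obtain ⟨h, hh⟩ := C.exists_conj_mem hU
      have := C.sq _ (hh a ha)
      have h2 : h * (a * a) * h⁻¹ = 1 := by rw [← this]; group
      exact conj_eq_one_iff.1 h2
    obtain ⟨a, b, ha, hb, ha1, hb1, hab⟩ : ∃ a b, a ∈ U ∧ b ∈ U ∧ a ≠ 1 ∧ b ≠ 1 ∧ a ≠ b := by
      by_contra hcon
      push Not at hcon
      rcases eq_or_ne U ⊥ with hb | hb
      · rw [hb, Subgroup.card_bot] at hc; omega
      obtain ⟨⟨a, ha⟩, ha1⟩ := Subgroup.ne_bot_iff_exists_ne_one.1 hb
      have ha1' : a ≠ 1 := fun e => ha1 (Subtype.ext e)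
      have : Nat.card U ≤ 2 := by
        rw [← SetLike.coe_sort_coe, Nat.card_coe_set_eq]
        refine le_trans (Set.ncard_le_ncard (t := ({1, a} : Set G)) (fun b hb => ?_)
          (Set.toFinite _)) ((Set.ncard_insert_le _ _).trans (by simp))
        rcases eq_or_ne b 1 with rfl | hb1
        · exact Or.inl rfl
        · exact Or.inr (hcon a b ha hb ha1' hb1).symm
      omega
    exact hy1 (C.eq_one_of_two_involutions h4
      (CfsgLib.Signalizer.orderOf_eq_two_of ha1 (hsq a ha))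
      (CfsgLib.Signalizer.orderOf_eq_two_of hb1 (hsq b hb)) (C.comm_two hU ha hb) hab
      (mem_centralizer_singleton_iff.1 (hUK ha) : Commute a y).symm
      (mem_centralizer_singleton_iff.1 (hUK hb) : Commute b y).symm hy)
  obtain ⟨S⟩ : Nonempty (Sylow 2 K) := inferInstance
  have hc : HasNormalPComplement 2 K := by
    refine CfsgLib.Transfer.hasNormalPComplement_of_centralizes S fun U hU g hg hgq => ?_
    by_contra hnc
    set U' := U.map K.subtype with hU'
    have hU'2 : IsPGroup 2 U' := (S.2.to_le hU).map _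
    have hg' : (g : G) ∈ normalizer (U' : Set G) :=
      Subgroup.le_normalizer_map K.subtype ⟨g, hg, rfl⟩
    have hnc' : (g : G) ∉ centralizer (U' : Set G) := fun hc => hnc (mem_centralizer_iff.2
      fun w hw => Subtype.ext (mem_centralizer_iff.1 hc (w : G) ⟨w, hw, rfl⟩))
    have hU1 : U' ≠ ⊥ := fun e => hnc' (by
      rw [e, mem_centralizer_iff]; intro w hw
      rw [SetLike.mem_coe, Subgroup.mem_bot] at hw; subst hw; simp)
    obtain ⟨hd, hlt, hmod⟩ := fixed_card hg'
      (C.mixed.orderOf_normalizing C.hp2 hU'2 hU1 hg' (by rwa [Subgroup.orderOf_coe])) hnc'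
    have hle := hsmall U' hU'2 (map_subtype_le _)
    have h2 := Nat.le_of_dvd (by omega) ((Nat.modEq_iff_dvd' hlt.le).1 hmod.symm)
    have h0 : 0 < Nat.card (U' ⊓ centralizer ({(g : G)} : Set G) : Subgroup G) := Nat.card_pos
    have := hp.out.two_le
    omega
  set R := (pResidual 2 K).map K.subtype with hR
  have hRmem : ∀ a, a ∈ R ↔ Commute a y ∧ ∃ k : ℕ, orderOf a = p ^ k := by
    intro a
    constructor
    · rintro ⟨w, hw, rfl⟩
      refine ⟨mem_centralizer_singleton_iff.1 w.2, C.pElement_of_odd hKtop h2K w.2 ?_⟩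
      show (orderOf (w : G)).Coprime 2
      rw [Subgroup.orderOf_coe]
      exact (CfsgLib.Transfer.mem_pResidual_iff_coprime hc).1 hw
    · rintro ⟨hay, hap⟩
      refine ⟨⟨a, mem_centralizer_singleton_iff.2 hay.eq⟩,
        (CfsgLib.Transfer.mem_pResidual_iff_coprime hc).2 ?_, rfl⟩
      rw [← Subgroup.orderOf_coe]
      exact C.coprime_two_of_pElement hap
  have hRp : IsPGroup p R := fun a => by
    obtain ⟨-, k, hk⟩ := (hRmem a).1 a.2
    exact ⟨k, Subtype.ext (by rw [SubmonoidClass.coe_pow, ← hk, pow_orderOf_eq_one]; rfl)⟩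
  obtain ⟨P, hP⟩ := hRp.exists_le_sylow
  refine ⟨P, fun a => ⟨fun ha => ?_, fun ha => hP ((hRmem a).2 ha)⟩⟩
  obtain ⟨j, hj⟩ := IsPGroup.iff_orderOf.1 P.2 ⟨a, ha⟩
  rw [← Subgroup.orderOf_coe] at hj
  exact ⟨C.abel _ P.2 a ha y (hP ((hRmem y).2 ⟨Commute.refl y, hy⟩)), j, hj⟩

/-- A Klein four Sylow subgroup forces involution centralizers without `3`-part. -/
theorem Config.Pt_eq_bot_of_klein (h4 : Nat.card Q = 4) {t : G} (ht : t ∈ Q) (ht1 : t ≠ 1) :
    Pt t = ⊥ := by
  haveI : Fact (Nat.Prime 2) := ⟨Nat.prime_two⟩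
  by_contra hne
  have hK := C.klein h4
  have hp3 : p = 3 := by have := C.cardQ; omega
  set u := Nat.card (Pt t) with hu
  have hPtu : ∀ w ∈ Q, w ≠ 1 → Nat.card (Pt w) = u := fun w hw hw1 =>
    C.card_Pt_eq hw hw1 ht ht1
  have hu3 : 3 ≤ u := by
    obtain ⟨k, hk⟩ := IsPGroup.iff_card.1 (C.isPGroup_Pt (C.orderOf_mem ht ht1))
    rcases k with _ | k
    · exact absurd (Subgroup.card_eq_one.1 (by rw [hk, pow_zero])) hne
    · rw [hu, hk, hp3]; exact Nat.le_self_pow (Nat.succ_ne_zero k) 3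
  have hinvert : ∀ z ∈ Q, z ≠ 1 → ∀ s ∈ Q, s ≠ 1 → s ≠ z → ∀ y ∈ Pt z, s * y * s⁻¹ = y⁻¹ := by
    intro z hz hz1 s hs hs1 hsz y hy
    have hzo := C.orderOf_mem hz hz1
    have hy' : s * y * s⁻¹ ∈ Pt z := by
      have := C.mem_Pt_conj hzo s hy
      rwa [C.comm s hs z hz, mul_inv_cancel_right] at this
    have hw := (Pt z).mul_mem hy hy'
    refine eq_inv_of_mul_eq_one_right (C.eq_one_of_two_involutions h4 hzo (C.orderOf_mem hs hs1)
      (C.comm z hz s hs) (Ne.symm hsz) ((C.mem_Pt hzo).1 hw).1 ?_ ((C.mem_Pt hzo).1 hw).2)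
    show y * (s * y * s⁻¹) * s = s * (y * (s * y * s⁻¹))
    have hc := C.abel _ (C.isPGroup_Pt hzo) y hy _ hy'
    calc y * (s * y * s⁻¹) * s = y * (s * y) := by group
      _ = s * ((s⁻¹ * y * s) * y) := by group
      _ = s * ((s * y * s⁻¹) * y) := by
          rw [CfsgLib.Signalizer.involution_inv (C.orderOf_mem hs hs1)]
      _ = s * (y * (s * y * s⁻¹)) := by rw [← hc]
  obtain ⟨⟨y₀, hy₀⟩, hy₀1⟩ := Subgroup.ne_bot_iff_exists_ne_one.1 hne
  have hto := C.orderOf_mem ht ht1
  have hy₀1' : y₀ ≠ 1 := fun e => hy₀1 (Subtype.ext e)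
  obtain ⟨hy₀t, hy₀p⟩ := (C.mem_Pt hto).1 hy₀
  obtain ⟨P₀, hP₀⟩ := C.exists_sylow_of_fixed h4 hy₀1' hy₀p hto hy₀t
  have hPelt : ∀ (P : Sylow p G) (a : G), a ∈ (P : Subgroup G) → ∃ k : ℕ, orderOf a = p ^ k := by
    intro P a ha
    obtain ⟨j, hj⟩ := IsPGroup.iff_orderOf.1 P.2 ⟨a, ha⟩
    exact ⟨j, by rwa [← Subgroup.orderOf_coe] at hj⟩
  have hPt_le : Pt t ≤ (P₀ : Subgroup G) := fun a ha => (hP₀ a).2
    ⟨C.abel _ (C.isPGroup_Pt hto) a ha y₀ hy₀, ((C.mem_Pt hto).1 ha).2⟩
  have hQN : Q ≤ normalizer ((P₀ : Subgroup G) : Set G) := by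
    intro q hq
    refine mem_normalizer_of_forall fun a ha => ?_
    obtain ⟨hay, j, hj⟩ := (hP₀ a).1 ha
    refine (hP₀ _).2 ⟨?_, j, by rw [CfsgLib.Signalizer.orderOf_conj, hj]⟩
    have h1 := (commute_conj_iff q a y₀).2 hay
    rcases eq_or_ne q 1 with rfl | hq1
    · simpa using hay
    rcases eq_or_ne q t with rfl | hqt
    · rwa [← hy₀t.eq, mul_inv_cancel_right] at h1
    · rw [hinvert t ht ht1 q hq hq1 hqt y₀ hy₀] at h1
      simpa using h1.inv_right
  have hthird : ∀ w ∈ Q, w ≠ 1 → ∀ a ∈ (P₀ : Subgroup G), a ≠ 1 → Commute a w →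
      Pt w ≤ (P₀ : Subgroup G) := by
    intro w hw hw1 a ha ha1 haw
    have hwo := C.orderOf_mem hw hw1
    obtain ⟨P', hP'⟩ := C.exists_sylow_of_fixed h4 ha1 (hPelt P₀ a ha) hwo haw
    have heq : (P₀ : Subgroup G) = P' := Subgroup.eq_of_le_of_card_ge
      (fun b hb => (hP' b).2 ⟨C.abel _ P₀.2 b hb a ha, hPelt P₀ b hb⟩)
      (by rw [P₀.card_eq_multiplicity, P'.card_eq_multiplicity])
    intro c hc
    rw [heq]
    exact (hP' c).2 ⟨C.abel _ (C.isPGroup_Pt hwo) c hc a
      ((C.mem_Pt hwo).2 ⟨haw, hPelt P₀ a ha⟩), ((C.mem_Pt hwo).1 hc).2⟩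
  -- the third involution
  have htwo : ∀ w ∈ Q, w ≠ 1 → w ≠ t → Pt w ≤ (P₀ : Subgroup G) →
      ∀ v ∈ Q, v ≠ 1 → v ≠ t → v ≠ w → Pt v ≤ (P₀ : Subgroup G) := by
    intro w hw hw1 hwt hPw v hv hv1 hvt hvw
    obtain ⟨k, hk⟩ := C.trans t ht w hw ht1 hw1
    obtain ⟨j, hj⟩ := C.xp
    have hgfix : ∀ z ∈ Q, z ≠ 1 →
        (x ^ k) * (x ^ k * z * (x ^ k)⁻¹) * (x ^ k)⁻¹ = z → x ^ k * z * (x ^ k)⁻¹ = z := by
      intro z hz hz1 h
      have h2 : Commute (x ^ k * x ^ k) z := by
        show x ^ k * x ^ k * z = z * (x ^ k * x ^ k)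
        have := congrArg (fun s => s * (x ^ k * x ^ k)) h
        simpa [mul_assoc] using this
      -- `x ^ k` is a power of its square
      have hcop : (orderOf (x ^ k)).Coprime 2 :=
        (C.coprime_two_of_pElement C.xp).coprime_dvd_left (orderOf_pow_dvd k)
      obtain ⟨i, hi⟩ := exists_pow_eq_self_of_coprime (x := x ^ k) (n := 2) hcop.symm
      rw [pow_two] at hi
      have h3 : Commute (x ^ k) z := hi ▸ h2.pow_left i
      rw [h3.eq, mul_inv_cancel_right]
    set v' := x ^ k * w * (x ^ k)⁻¹ with hv'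
    have hv'Q : v' ∈ Q := (mem_normalizer_iff.1 (pow_mem C.xN k) w).1 hw
    have hv'1 : v' ≠ 1 := fun e => hw1 (conj_eq_one_iff.1 e)
    have hv't : v' ≠ t := by
      intro e
      have := hgfix t ht ht1 (by rw [hk]; exact e)
      rw [hk] at this
      exact hwt this
    have hv'w : v' ≠ w := by
      intro e
      exact hwt (by
        have h2 : x ^ k * w * (x ^ k)⁻¹ = x ^ k * t * (x ^ k)⁻¹ := e.trans hk.symm
        simpa using h2)
    have hveq : v = v' := by
      rcases CfsgLib.TwoGroups.klein_cases hK ht hw ht1 hw1 hwt.symm hv with h | h | h | h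
      · exact absurd h hv1
      · exact absurd h hvt
      · exact absurd h hvw
      rcases CfsgLib.TwoGroups.klein_cases hK ht hw ht1 hw1 hwt.symm hv'Q with h' | h' | h' | h'
      · exact absurd h' hv'1
      · exact absurd h' hv't
      · exact absurd h' hv'w
      rw [h, h']
    -- `x ^ k` normalizes `P₀`
    have hwo := C.orderOf_mem hw hw1
    set y₁ := x ^ k * y₀ * (x ^ k)⁻¹ with hy₁
    have hy₁w : y₁ ∈ Pt w := hk ▸ C.mem_Pt_conj hto (x ^ k) hy₀
    have hxN : x ^ k ∈ normalizer ((P₀ : Subgroup G) : Set G) := by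
      obtain ⟨P', hP'⟩ := C.exists_sylow_of_fixed h4
        (fun e => hy₀1' (conj_eq_one_iff.1 e)) ((C.mem_Pt hwo).1 hy₁w).2 hwo
        ((C.mem_Pt hwo).1 hy₁w).1
      have heq : (P₀ : Subgroup G) = P' := Subgroup.eq_of_le_of_card_ge
        (fun b hb => (hP' b).2 ⟨C.abel _ P₀.2 b hb y₁ (hPw hy₁w), hPelt P₀ b hb⟩)
        (by rw [P₀.card_eq_multiplicity, P'.card_eq_multiplicity])
      refine mem_normalizer_of_forall fun a ha => ?_
      obtain ⟨hay, i, hi⟩ := (hP₀ a).1 ha
      rw [heq]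
      exact (hP' _).2 ⟨(commute_conj_iff (x ^ k) a y₀).2 hay, i,
        by rw [CfsgLib.Signalizer.orderOf_conj, hi]⟩
    rw [hveq]
    intro c hc
    have hc' : (x ^ k)⁻¹ * c * x ^ k ∈ Pt w := by
      have hv'o := C.orderOf_mem hv'Q hv'1
      have := C.mem_Pt_conj hv'o (x ^ k)⁻¹ hc
      rw [hv'] at this
      simpa [mul_assoc] using this
    have := (mem_normalizer_iff.1 hxN _).1 (hPw hc')
    simpa [mul_assoc] using this
  have hcomm₀ := C.abel _ P₀.2
  set w₀ := Nat.card (P₀ : Subgroup G) with hw₀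
  have hinvmem : ∀ (v : G), v ∈ Q → ∀ a ∈ (P₀ : Subgroup G), v * a * v⁻¹ ∈ (P₀ : Subgroup G) :=
    fun v hv a ha => (mem_normalizer_iff.1 (hQN hv) a).1 ha
  obtain ⟨s₀, hs₀, hs₀1, hs₀t⟩ : ∃ s, s ∈ Q ∧ s ≠ 1 ∧ s ≠ t := by
    by_contra hcon
    push Not at hcon
    have : Nat.card Q ≤ 2 := by
      rw [← SetLike.coe_sort_coe, Nat.card_coe_set_eq]
      refine le_trans (Set.ncard_le_ncard (t := ({1, t} : Set G)) (fun a ha => ?_)
        (Set.toFinite _)) ((Set.ncard_insert_le _ _).trans (by simp))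
      rcases eq_or_ne a 1 with rfl | ha1
      · exact Or.inl rfl
      · exact Or.inr (hcon a ha ha1)
    omega
  have hs₁ := mul_mem ht hs₀
  have hs₁1 : t * s₀ ≠ 1 := fun e => hs₀t (by
    rw [← inv_eq_of_mul_eq_one_right e,
      CfsgLib.Signalizer.involution_inv (C.orderOf_mem ht ht1)])
  have hs₁t : t * s₀ ≠ t := fun e => hs₀1 (mul_eq_left.1 e)
  have hs₁s : t * s₀ ≠ s₀ := fun e => ht1 (mul_eq_right.1 e)
  -- `|P₀| ≤ u³`
  have hcube : w₀ ≤ u * (u * u) := by
    refine (C.card_le_fixed_mul P₀.2 ht ht1 (hinvmem t ht)).trans ?_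
    refine Nat.mul_le_mul le_rfl ?_
    set A := invSub (P₀ : Subgroup G) hcomm₀ t with hA
    have hAP : IsPGroup p A := P₀.2.to_le fun a ha => ha.1
    refine (C.card_le_fixed_mul hAP hs₀ hs₀1 fun a ha => ⟨hinvmem s₀ hs₀ a ha.1, ?_⟩).trans ?_
    · calc t * (s₀ * a * s₀⁻¹) * t⁻¹ = (t * s₀) * a * (t * s₀)⁻¹ := by group
        _ = (s₀ * t) * a * (s₀ * t)⁻¹ := by rw [C.comm t ht s₀ hs₀]
        _ = s₀ * (t * a * t⁻¹) * s₀⁻¹ := by group
        _ = _ := by rw [ha.2]; group
    rw [hPtu s₀ hs₀ hs₀1]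
    refine Nat.mul_le_mul le_rfl ?_
    rw [← hPtu _ hs₁ hs₁1]
    refine Subgroup.card_le_of_le fun a ha => ?_
    obtain ⟨⟨ha1, ha2⟩, ha3⟩ := ha
    refine (C.mem_Pt (C.orderOf_mem hs₁ hs₁1)).2 ⟨?_, hPelt P₀ a ha1⟩
    have h1 : t * s₀ * a * (t * s₀)⁻¹ = a := by
      calc t * s₀ * a * (t * s₀)⁻¹ = t * (s₀ * a * s₀⁻¹) * t⁻¹ := by group
        _ = (t * a * t⁻¹)⁻¹ := by rw [ha3]; group
        _ = a := by rw [ha2, inv_inv]
    exact (mul_inv_eq_iff_eq_mul.1 h1).symm
  -- the inverted parts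
  have hinv_le : ∀ w ∈ Q, w ≠ 1 →
      Nat.card (invSub (P₀ : Subgroup G) hcomm₀ w) ^ 2 ≤ u * w₀ := by
    intro w hw hw1
    by_cases hPw : Pt w ≤ (P₀ : Subgroup G)
    · set A := invSub (P₀ : Subgroup G) hcomm₀ w with hA
      have hAu : u * Nat.card A ≤ w₀ := by
        rw [← hPtu w hw hw1, ← Nat.card_prod]
        refine Nat.card_le_card_of_injective (fun z : Pt w × A =>
          (⟨(z.1 : G) * z.2, (P₀ : Subgroup G).mul_mem (hPw z.1.2) z.2.2.1⟩ : (P₀ : Subgroup G))) ?_
        intro z z' e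
        have e' : (z.1 : G) * z.2 = (z'.1 : G) * z'.2 := congrArg Subtype.val e
        have h1 : (z'.1 : G)⁻¹ * z.1 = (z'.2 : G) * (z.2 : G)⁻¹ := by
          rw [inv_mul_eq_iff_eq_mul, ← mul_assoc, eq_mul_inv_iff_mul_eq, e']
        set c := (z'.1 : G)⁻¹ * z.1 with hc
        have hcPt : c ∈ Pt w := (Pt w).mul_mem ((Pt w).inv_mem z'.1.2) z.1.2
        have hcA : c ∈ A := h1 ▸ A.mul_mem z'.2.2 (A.inv_mem z.2.2)
        have hc1 : c = 1 := C.eq_one_of_commute_inverts
          ((C.mem_Pt (C.orderOf_mem hw hw1)).1 hcPt).1.symm hcA.2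
          ((C.mem_Pt (C.orderOf_mem hw hw1)).1 hcPt).2
        have h2 : z.1 = z'.1 := Subtype.ext (inv_mul_eq_one.1 hc1).symm
        refine Prod.ext h2 (Subtype.ext ?_)
        rw [h2] at e'
        exact mul_left_cancel e'
      have h1 : (u * Nat.card A) ^ 2 ≤ w₀ * (u * (u * u)) := by
        rw [pow_two]; exact Nat.mul_le_mul hAu (hAu.trans hcube)
      have hu0 : 0 < u ^ 2 := by positivity
      refine Nat.le_of_mul_le_mul_left ?_ hu0
      calc u ^ 2 * Nat.card A ^ 2 = (u * Nat.card A) ^ 2 := by ring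
        _ ≤ w₀ * (u * (u * u)) := h1
        _ = u ^ 2 * (u * w₀) := by ring
    · have hwt : w ≠ t := fun e => hPw (e ▸ hPt_le)
      have hfpf : ∀ v ∈ Q, v ≠ 1 → v ≠ t → ∀ a ∈ (P₀ : Subgroup G), v * a * v⁻¹ = a⁻¹ := by
        intro v hv hv1 hvt a ha
        have hb := hinvmem v hv a ha
        by_contra hne'
        have hPv := hthird v hv hv1 _ ((P₀ : Subgroup G).mul_mem ha hb)
          (fun e => hne' (eq_inv_of_mul_eq_one_right e)) (by
            show a * (v * a * v⁻¹) * v = v * (a * (v * a * v⁻¹))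
            calc a * (v * a * v⁻¹) * v = a * (v * a) := by group
              _ = v * ((v⁻¹ * a * v) * a) := by group
              _ = v * ((v * a * v⁻¹) * a) := by
                  rw [CfsgLib.Signalizer.involution_inv (C.orderOf_mem hv hv1)]
              _ = v * (a * (v * a * v⁻¹)) := by rw [hcomm₀ a ha _ hb])
        rcases eq_or_ne w v with rfl | hwv
        · exact hPw hPv
        · exact hPw (htwo v hv hv1 hvt hPv w hw hw1 hwt hwv)
      have hPle : w₀ ≤ u := by
        refine Subgroup.card_le_of_le (H := (P₀ : Subgroup G)) (K := Pt t) fun a ha => ?_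
        refine (C.mem_Pt hto).2 ⟨?_, hPelt P₀ a ha⟩
        have h1 : t * a * t⁻¹ = a := by
          calc t * a * t⁻¹ = (t * s₀ * s₀) * a * (t * s₀ * s₀)⁻¹ := by
                rw [mul_assoc t s₀ s₀, C.sq s₀ hs₀, mul_one]
            _ = (t * s₀) * (s₀ * a * s₀⁻¹) * (t * s₀)⁻¹ := by group
            _ = ((t * s₀) * a * (t * s₀)⁻¹)⁻¹ := by rw [hfpf s₀ hs₀ hs₀1 hs₀t a ha]; group
            _ = a := by rw [hfpf _ hs₁ hs₁1 hs₁t a ha, inv_inv]
        exact (mul_inv_eq_iff_eq_mul.1 h1).symm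
      have hle : Nat.card (invSub (P₀ : Subgroup G) hcomm₀ w) ≤ w₀ :=
        Subgroup.card_le_of_le fun a ha => ha.1
      calc Nat.card (invSub (P₀ : Subgroup G) hcomm₀ w) ^ 2 ≤ w₀ ^ 2 := Nat.pow_le_pow_left hle 2
        _ = w₀ * w₀ := pow_two w₀
        _ ≤ u * w₀ := Nat.mul_le_mul hPle le_rfl
  -- the normalizer of `P₀`
  set N := normalizer ((P₀ : Subgroup G) : Set G) with hNdef
  have hNsup : N = Q ⊔ (P₀ : Subgroup G) := by
    refine le_antisymm ?_ (sup_le hQN le_normalizer)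
    have hNtop : N ≠ ⊤ := by
      intro htop
      rcases C.simple _ (normalizer_eq_top_iff.1 htop) with h | h
      · exact hy₀1' (by
          have := hPt_le hy₀
          rwa [h, Subgroup.mem_bot] at this)
      · exact absurd (C.coprime_two_of_pElement (hPelt P₀ t (h ▸ mem_top t)))
          (by rw [hto]; decide)
    rw [← relIndex_eq_one]
    refine Nat.eq_one_iff_not_exists_prime_dvd.2 fun r hr hrd => ?_
    have hrN : r ∣ Nat.card N := hrd.trans (relIndex_dvd_card _ _)
    rcases C.small N hNtop (C.two_dvd.trans (card_dvd_of_le hQN)) r hr hrN with rfl | rfl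
    · exact P₀.not_dvd_index (hrd.trans ((relIndex_dvd_of_le_left N le_sup_right).trans
        (by rw [← relIndex_mul_index (le_normalizer : (P₀ : Subgroup G) ≤ N)]; exact dvd_mul_right _ _)))
    · exact C.index (hrd.trans ((relIndex_dvd_of_le_left N le_sup_left).trans
        (by rw [← relIndex_mul_index hQN]; exact dvd_mul_right _ _)))
  have hNcard : Nat.card N = 4 * w₀ := by
    rw [hNsup, CfsgLib.Core.card_sup_of_coprime _ _ hQN ?_, h4]
    obtain ⟨i, hi⟩ := IsPGroup.iff_card.1 P₀.2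
    rw [h4, hi, show (4 : ℕ) = 2 ^ 2 by norm_num]
    exact Nat.Coprime.pow_left 2 (((Nat.coprime_primes Nat.prime_two hp.out).2 C.hp2.symm).pow_right i)
  -- pairs `(s, m)` in one normalizer
  let D : Sylow p G → Type u := fun P =>
    {sm : G × G // orderOf sm.1 = 2 ∧ sm.1 ∈ normalizer ((P : Subgroup G) : Set G) ∧
      sm.2 ∈ (P : Subgroup G) ∧ sm.1 * sm.2 * sm.1⁻¹ = sm.2⁻¹}
  have hD₀ : Nat.card (D P₀) ≤ 3 * (u * w₀) := by
    let W := {w : Q // w ≠ 1}
    have hsplit : ∀ d : D P₀, ∃ wa : W × G, wa.2 ∈ invSub (P₀ : Subgroup G) hcomm₀ (wa.1.1 : G) ∧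
        d.1.1 = (wa.1.1 : G) * wa.2 ∧ d.1.2 ∈ invSub (P₀ : Subgroup G) hcomm₀ (wa.1.1 : G) := by
      rintro ⟨⟨s, m⟩, hs, hsN, hm, hinv⟩
      have hsN' : s ∈ N := hsN
      rw [hNsup] at hsN'
      obtain ⟨w, hw, a, ha, rfl⟩ := (CfsgLib.Core.mem_sup_iff_mul hQN).1 hsN'
      have hw1 : w ≠ 1 := by
        rintro rfl
        rw [one_mul] at hs
        exact absurd (C.coprime_two_of_pElement (hPelt P₀ a ha)) (by rw [hs]; decide)
      have hwa : w * a * w⁻¹ = a⁻¹ := by
        have := CfsgLib.Signalizer.involution_sq hs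
        calc w * a * w⁻¹ = (w * a * (w * a)) * a⁻¹ * (w * w)⁻¹ := by group
          _ = a⁻¹ := by rw [this, C.sq w hw, one_mul, inv_one, mul_one]
      refine ⟨(⟨⟨w, hw⟩, fun e => hw1 (congrArg Subtype.val e)⟩, a), ⟨ha, hwa⟩, rfl, hm, ?_⟩
      calc w * m * w⁻¹ = w * (a * m * a⁻¹) * w⁻¹ := by
            rw [hcomm₀ a ha m hm, mul_inv_cancel_right]
        _ = (w * a) * m * (w * a)⁻¹ := by group
        _ = m⁻¹ := hinv
    choose f hf1 hf2 hf3 using hsplit
    haveI := Fintype.ofFinite W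
    calc Nat.card (D P₀) ≤ Nat.card (Σ w : W, invSub (P₀ : Subgroup G) hcomm₀ (w.1 : G) ×
          invSub (P₀ : Subgroup G) hcomm₀ (w.1 : G)) := by
          refine Nat.card_le_card_of_injective
            (fun d => ⟨(f d).1, ⟨(f d).2, hf1 d⟩, ⟨d.1.2, hf3 d⟩⟩) fun d d' e => ?_
          refine Subtype.ext (Prod.ext ?_ ?_)
          · rw [hf2 d, hf2 d']
            exact congrArg (fun z : (Σ w : W, invSub (P₀ : Subgroup G) hcomm₀ (w.1 : G) ×
              invSub (P₀ : Subgroup G) hcomm₀ (w.1 : G)) => (z.1.1 : G) * (z.2.1 : G)) e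
          · exact congrArg (fun z : (Σ w : W, invSub (P₀ : Subgroup G) hcomm₀ (w.1 : G) ×
              invSub (P₀ : Subgroup G) hcomm₀ (w.1 : G)) => (z.2.2 : G)) e
      _ = ∑ w : W, Nat.card (invSub (P₀ : Subgroup G) hcomm₀ (w.1 : G)) ^ 2 := by
          rw [Nat.card_sigma]
          exact Finset.sum_congr rfl fun w _ => by rw [Nat.card_prod, pow_two]
      _ ≤ ∑ _w : W, u * w₀ := Finset.sum_le_sum fun w _ =>
          hinv_le w.1 w.1.2 fun e => w.2 (Subtype.ext e)
      _ = 3 * (u * w₀) := by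
          rw [Finset.sum_const, Finset.card_univ, smul_eq_mul]
          congr 1
          haveI := Fintype.ofFinite Q
          rw [Fintype.card_subtype_compl, Fintype.card_subtype_eq, ← Nat.card_eq_fintype_card, h4]
  have hD : ∀ P : Sylow p G, Nat.card (D P) ≤ 3 * (u * w₀) := by
    intro P
    refine le_trans ?_ hD₀
    obtain ⟨h, hh⟩ := MulAction.exists_smul_eq G P P₀
    have hcoe : ∀ (T : Sylow p G) (y : G),
        y ∈ normalizer ((T : Subgroup G) : Set G) ↔ y • T = T := fun T y =>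
      Sylow.smul_eq_iff_mem_normalizer.symm
    have hNmem : ∀ y : G, y ∈ normalizer ((P : Subgroup G) : Set G) →
        h * y * h⁻¹ ∈ normalizer ((P₀ : Subgroup G) : Set G) := by
      intro y hy
      rw [hcoe] at hy ⊢
      rw [← hh, ← mul_smul, inv_mul_cancel_right, mul_smul, hy]
    have hmem : ∀ a ∈ (P : Subgroup G), h * a * h⁻¹ ∈ (P₀ : Subgroup G) := by
      intro a ha
      rw [← hh, Sylow.smul_def, Sylow.pointwise_smul_def]
      exact ⟨a, ha, rfl⟩
    refine Nat.card_le_card_of_injective (fun d : D P =>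
      (⟨(h * d.1.1 * h⁻¹, h * d.1.2 * h⁻¹), C.orderOf_conj_two d.2.1 h, hNmem _ d.2.2.1,
        hmem _ d.2.2.2.1, conj_inverts d.2.2.2.2 h⟩ : D P₀)) fun d d' e => ?_
    have e1 := congrArg (fun z : D P₀ => z.1.1) e
    have e2 := congrArg (fun z : D P₀ => z.1.2) e
    simp only at e1 e2
    exact Subtype.ext (Prod.ext (by simpa using e1) (by simpa using e2))
  -- the centralizers of involutions
  let I := {s : G // orderOf s = 2}
  set i := Nat.card I with hi
  have hcz : centralizer ({t} : Set G) = Q ⊔ Pt t := by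
    have hQP : Q ≤ normalizer (Pt t : Set G) := fun q hq => mem_normalizer_of_forall fun a ha => by
      have := C.mem_Pt_conj hto q ha
      rwa [C.comm q hq t ht, mul_inv_cancel_right] at this
    refine (Subgroup.eq_of_le_of_card_ge (sup_le
      (fun q hq => mem_centralizer_singleton_iff.2 (C.comm q hq t ht))
      (fun a ha => mem_centralizer_singleton_iff.2 ((C.mem_Pt hto).1 ha).1.eq)) ?_).symm
    rw [C.card_centralizer ht ht1, CfsgLib.Core.card_sup_of_coprime _ _ hQP ?_]
    obtain ⟨k, hk⟩ := IsPGroup.iff_card.1 (C.isPGroup_Pt hto)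
    rw [hk, h4, show (4 : ℕ) = 2 ^ 2 by norm_num]
    exact Nat.Coprime.pow_left 2 (((Nat.coprime_primes Nat.prime_two hp.out).2 C.hp2.symm).pow_right k)
  have hQP : Q ≤ normalizer (Pt t : Set G) := fun q hq => mem_normalizer_of_forall fun a ha => by
    have := C.mem_Pt_conj hto q ha
    rwa [C.comm q hq t ht, mul_inv_cancel_right] at this
  have hI2 : Nat.card {s : G // orderOf s = 2 ∧ Commute s t ∧ s ≠ t} ≤ 2 * u := by
    have hsplit : ∀ s : {s : G // orderOf s = 2 ∧ Commute s t ∧ s ≠ t},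
        ∃ ba : Bool × Pt t, (s : G) = (bif ba.1 then s₀ else t * s₀) * ba.2 := by
      rintro ⟨s, hs, hst, hne'⟩
      have hsC : s ∈ Q ⊔ Pt t := hcz ▸ mem_centralizer_singleton_iff.2 hst.eq
      obtain ⟨w, hw, a, ha, rfl⟩ := (CfsgLib.Core.mem_sup_iff_mul hQP).1 hsC
      rcases CfsgLib.TwoGroups.klein_cases hK ht hs₀ ht1 hs₀1 hs₀t.symm hw with e | e | e | e <;>
        simp only [e] at hs hst hne' hsC ⊢
      · exfalso
        rw [one_mul] at hs
        exact absurd (C.coprime_two_of_pElement ((C.mem_Pt hto).1 ha).2) (by rw [hs]; decide)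
      · exfalso
        refine hne' ?_
        have hc : Commute a t := ((C.mem_Pt hto).1 ha).1
        have h2 : a * a = 1 := by
          have := CfsgLib.Signalizer.involution_sq hs
          calc a * a = (t * t) * (a * a) := by rw [C.sq t ht, one_mul]
            _ = (t * a) * (t * a) := by rw [hc.symm.mul_mul_mul_comm]
            _ = 1 := this
        rcases eq_or_ne a 1 with rfl | ha1
        · exact mul_one t
        · exact absurd (C.coprime_two_of_pElement ((C.mem_Pt hto).1 ha).2)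
            (by rw [CfsgLib.Signalizer.orderOf_eq_two_of ha1 h2]; decide)
      · exact ⟨(true, ⟨a, ha⟩), rfl⟩
      · exact ⟨(false, ⟨a, ha⟩), rfl⟩
    choose f hf using hsplit
    refine le_trans (Nat.card_le_card_of_injective f fun s s' e => Subtype.ext ?_)
      (by rw [Nat.card_prod, Nat.card_eq_fintype_card, Fintype.card_bool])
    rw [hf s, hf s', e]
  -- pairs with even product
  let E : Type u := Σ z : I, {s : G // orderOf s = 2 ∧ Commute s (z : G) ∧ s ≠ z} × Pt (z : G)
  have hE : Nat.card E ≤ i * (2 * u * u) := by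
    haveI := Fintype.ofFinite I
    rw [Nat.card_sigma]
    refine le_trans (Finset.sum_le_card_nsmul _ _ (2 * u * u) fun z _ => ?_) (by
      rw [Finset.card_univ, smul_eq_mul, hi, Nat.card_eq_fintype_card])
    rw [Nat.card_prod]
    obtain ⟨h, hh⟩ := C.conj_involution z.2 ht ht1
    refine Nat.mul_le_mul (le_trans ?_ hI2) ?_
    · refine Nat.card_le_card_of_injective (fun s => ⟨h * (s : G) * h⁻¹, C.orderOf_conj_two s.2.1 h,
        hh ▸ (commute_conj_iff h _ _).2 s.2.2.1, fun e => s.2.2.2 ?_⟩) fun s s' e => ?_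
      · rw [← hh] at e; simpa using e
      · have := congrArg Subtype.val e
        exact Subtype.ext (by simpa using this)
    · refine Nat.card_le_card_of_injective
        (fun a : Pt (z : G) => (⟨h * (a : G) * h⁻¹, hh ▸ C.mem_Pt_conj z.2 h a.2⟩ : Pt t))
        fun a a' e => ?_
      have := congrArg Subtype.val e
      simpa using this
  -- classification of pairs
  let Z := (I ⊕ E) ⊕ (Σ P : Sylow p G, D P)
  let val : Z → G × G := Sum.elim (Sum.elim (fun s => ((s : G), (s : G)))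
      (fun e => ((e.2.1 : G), (e.2.1 : G) * ((e.1 : G) * (e.2.2 : G)))))
    (fun d => (d.2.1.1, d.2.1.1 * d.2.1.2))
  have hsurj : ∀ st : I × I, ∃ z : Z, val z = ((st.1 : G), (st.2 : G)) := by
    rintro ⟨⟨s, hs⟩, ⟨t', ht'⟩⟩
    rcases eq_or_ne s t' with rfl | hne'
    · exact ⟨Sum.inl (Sum.inl ⟨s, hs⟩), rfl⟩
    set c := s * t' with hc
    have hinv : s * c * s⁻¹ = c⁻¹ := CfsgLib.Signalizer.conj_mul_eq_inv hs ht'
    rcases Nat.even_or_odd (orderOf c) with he | ho
    · obtain ⟨hz, hzs, hzt⟩ := CfsgLib.Signalizer.central_involution hs ht' he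
      obtain ⟨j, hj⟩ := he
      rw [← hc, show orderOf c / 2 = j by omega] at hz hzs hzt
      set z := c ^ j with hzdef
      have hjodd : Odd j := by
        rw [← Nat.not_even_iff_odd]
        rintro ⟨l, hl⟩
        have hpos := orderOf_pos c
        have h4' : orderOf (c ^ l) = 4 := by
          rw [orderOf_pow, hj, hl]
          have : Nat.gcd (l + l + (l + l)) l = l := by
            rw [Nat.gcd_eq_right]; exact ⟨4, by ring⟩
          rw [this, show l + l + (l + l) = 4 * l by ring, Nat.mul_div_left]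
          · omega
          all_goals omega
        have h2 : IsPGroup 2 (zpowers (c ^ l)) :=
          IsPGroup.of_card (n := 2) (by rw [Nat.card_zpowers, h4']; norm_num)
        obtain ⟨h, hh⟩ := C.exists_conj_mem h2
        have h3 := C.sq _ (hh _ (mem_zpowers _))
        have h5 : orderOf (h * c ^ l * h⁻¹) ∣ 2 := orderOf_dvd_of_pow_eq_one (by rw [pow_two]; exact h3)
        rw [CfsgLib.Signalizer.orderOf_conj, h4'] at h5
        exact absurd h5 (by decide)
      set d := z * c with hd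
      have hdj : d ^ j = 1 := by
        obtain ⟨l, hl⟩ := hjodd
        rw [hd, hzdef, ← pow_succ, ← pow_mul,
          show (j + 1) * j = (j + j) * (l + 1) by rw [hl]; ring, pow_mul, ← hj,
          pow_orderOf_eq_one, one_pow]
      have hzd : t' = s * (z * d) := by
        rw [hd, ← mul_assoc z, CfsgLib.Signalizer.involution_sq hz, one_mul, hc, ← mul_assoc,
          CfsgLib.Signalizer.involution_sq hs, one_mul]
      have hcz' : Commute c z := by rw [hzdef]; exact Commute.self_pow c j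
      have hdodd : (orderOf d).Coprime 2 := by
        obtain ⟨l, hl⟩ := hjodd
        exact ((Nat.coprime_two_right (n := j)).2 ⟨l, hl⟩).coprime_dvd_left
          (orderOf_dvd_of_pow_eq_one hdj)
      have hsz : s ≠ z := by
        intro e
        have htd : t' = d := by
          rw [hzd, e, ← mul_assoc, CfsgLib.Signalizer.involution_sq hz, one_mul]
        rw [← htd, ht'] at hdodd
        exact absurd hdodd (by decide)
      have hdmem : d ∈ Pt z := by
        refine (C.mem_Pt hz).2 ⟨?_, C.pElement_of_odd (C.not_top_of_involution hz) ?_ ?_ hdodd⟩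
        · exact (Commute.refl z).mul_left hcz'
        · exact hz ▸ Subgroup.orderOf_dvd_natCard _ (mem_centralizer_singleton_iff.2 rfl)
        · exact mem_centralizer_singleton_iff.2 ((Commute.refl z).mul_left hcz').eq
      refine ⟨Sum.inl (Sum.inr ⟨⟨z, hz⟩, ⟨s, hs, hzs.symm, hsz⟩, ⟨d, hdmem⟩⟩), ?_⟩
      show (s, s * (z * d)) = (s, t')
      rw [← hzd]
    · have hc1 : c ≠ 1 := fun e => hne' (by
        rw [← inv_eq_of_mul_eq_one_right e, CfsgLib.Signalizer.involution_inv hs])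
      have hcp := C.pElement_of_inverted hs hinv (Nat.coprime_two_right.2 ho)
      obtain ⟨P, hcP, hsP⟩ : ∃ P : Sylow p G, c ∈ (P : Subgroup G) ∧
          s ∈ normalizer ((P : Subgroup G) : Set G) := by
        by_cases h2 : 2 ∣ Nat.card (centralizer ({c} : Set G))
        · obtain ⟨z, hz⟩ := exists_prime_orderOf_dvd_card' 2 h2
          obtain ⟨P, hP⟩ := C.exists_sylow_of_fixed h4 hc1 hcp
            (z := (z : G)) (by rw [Subgroup.orderOf_coe, hz])
            (mem_centralizer_singleton_iff.1 z.2 : Commute (z : G) c).symm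
          refine ⟨P, (hP c).2 ⟨Commute.refl c, hcp⟩, mem_normalizer_of_forall fun a ha => ?_⟩
          obtain ⟨hac, l, hl⟩ := (hP a).1 ha
          refine (hP _).2 ⟨?_, l, by rw [CfsgLib.Signalizer.orderOf_conj, hl]⟩
          have h1 := (commute_conj_iff s a c).2 hac
          rw [hinv] at h1
          simpa using h1.inv_right
        · obtain ⟨P, hP, hsP⟩ := C.centralizer_sylow hs hinv hcp h2
          exact ⟨P, hP ▸ mem_centralizer_singleton_iff.2 rfl, hsP⟩
      refine ⟨Sum.inr ⟨P, ⟨(s, c), hs, hsP, hcP, hinv⟩⟩, ?_⟩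
      show (s, s * c) = (s, t')
      rw [hc, ← mul_assoc, CfsgLib.Signalizer.involution_sq hs, one_mul]
  have hcount : i * i ≤ i + i * (2 * u * u) + Nat.card (Sylow p G) * (3 * (u * w₀)) := by
    choose f hf using hsurj
    calc i * i = Nat.card (I × I) := (Nat.card_prod _ _).symm
      _ ≤ Nat.card Z := Nat.card_le_card_of_injective f fun a b e => by
          have := (hf a).symm.trans ((congrArg val e).trans (hf b))
          exact Prod.ext (Subtype.ext (congrArg Prod.fst this)) (Subtype.ext (congrArg Prod.snd this))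
      _ = i + Nat.card E + Nat.card (Σ P : Sylow p G, D P) := by rw [Nat.card_sum, Nat.card_sum]
      _ ≤ _ := by
          refine Nat.add_le_add (Nat.add_le_add le_rfl hE) ?_
          haveI := Fintype.ofFinite (Sylow p G)
          rw [Nat.card_sigma]
          exact (Finset.sum_le_card_nsmul _ _ _ fun P _ => hD P).trans
            (by rw [Finset.card_univ, smul_eq_mul, Nat.card_eq_fintype_card])
  have hct : Nat.card (centralizer ({t} : Set G)) = 4 * u := by
    rw [C.card_centralizer ht ht1, h4]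
  have hG1 : i * (4 * u) = Nat.card G := by rw [hi, ← C.card_mul_involutions ht ht1, hct]
  have hG2 : Nat.card (Sylow p G) * (4 * w₀) = Nat.card G := by
    rw [P₀.card_eq_index_normalizer, ← hNcard]
    exact index_mul_card _
  haveI : Nonempty I := ⟨⟨t, hto⟩⟩
  have hi0 : 0 < i := Nat.card_pos
  have hupper : i ≤ 5 * (u * u) + 1 := by
    have h1 : Nat.card (Sylow p G) * w₀ = i * u := by
      have : 4 * (Nat.card (Sylow p G) * w₀) = 4 * (i * u) := by
        rw [show 4 * (Nat.card (Sylow p G) * w₀) = Nat.card (Sylow p G) * (4 * w₀) by ring, hG2,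
          ← hG1]; ring
      omega
    refine Nat.le_of_mul_le_mul_left (a := i) ?_ hi0
    calc i * i ≤ i + i * (2 * u * u) + Nat.card (Sylow p G) * (3 * (u * w₀)) := hcount
      _ = i + i * (2 * u * u) + 3 * u * (Nat.card (Sylow p G) * w₀) := by ring
      _ = i * (5 * (u * u) + 1) := by rw [h1]; ring
  -- the order formula
  haveI := Fintype.ofFinite G
  obtain ⟨J, hJ⟩ := CfsgLib.ZStar.exists_isPModular Nat.prime_two
  haveI : J.IsPrime := hJ.2.1.isPrime
  let Q' : Sylow 2 G := C.isPGroup.toSylow C.index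
  have hQ'K : IsKleinFour (Q' : Subgroup G) := hK
  have hone : ∀ a b : G, orderOf a = 2 → orderOf b = 2 → IsConj a b := by
    intro a b ha hb
    obtain ⟨h, hh⟩ := C.conj_involution ha ht ht1
    obtain ⟨h', hh'⟩ := C.conj_involution hb ht ht1
    exact (isConj_iff.2 ⟨h, hh⟩).trans (isConj_iff.2 ⟨h', hh'⟩).symm
  have hformula := CfsgLib.Blocks.order_formula (G := G) Q' hQ'K hone hJ (J := t) ht hto
  obtain ⟨hk4, hsign⟩ := CfsgLib.Blocks.principal_signs Q' hQ'K hone hJ (z := t) ht hto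
  have hCQ : Nat.card (centralizer ((Q' : Subgroup G) : Set G)) = 4 := by
    have : centralizer ((Q' : Subgroup G) : Set G) = Q := by
      refine le_antisymm (fun g hg => ?_) fun q hq => mem_centralizer_iff.2 fun r hr =>
        C.comm r hr q hq
      have hgt : g ∈ Q ⊔ Pt t := hcz ▸ mem_centralizer_singleton_iff.2
        (mem_centralizer_iff.1 hg t ht).symm
      obtain ⟨w, hw, a, ha, rfl⟩ := (CfsgLib.Core.mem_sup_iff_mul hQP).1 hgt
      have hacQ : a ∈ cQ Q := by
        refine C.mem_cQ.2 ⟨fun r hr => ?_, ((C.mem_Pt hto).1 ha).2⟩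
        have h1 : Commute r (w * a) := mem_centralizer_iff.1 hg r hr
        have h2 : Commute r a := by
          have h3 := (Commute.inv_right (C.comm r hr w hw : Commute r w)).mul_right h1
          simpa using h3
        exact h2.symm
      rw [C.cQ_eq_bot, Subgroup.mem_bot] at hacQ
      rw [hacQ, mul_one]; exact hw
    rw [this, h4]
  haveI := Fintype.ofFinite (IrrCharacter G)
  set B := (Set.toFinite (principalBlock J G)).toFinset with hB
  have hmemB : ∀ χ, χ ∈ B ↔ χ ∈ principalBlock J G := fun χ => Set.Finite.mem_toFinset _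
  choose! ε hε1 hε2 hε3 using hsign
  set d : IrrCharacter G → ℕ := fun χ => charDegree (χ : G → ℂ) with hd
  have hSeq : ∑ᶠ χ ∈ principalBlock J G, (χ : G → ℂ) t ^ 3 / (χ : G → ℂ) 1 =
      ((∑ χ ∈ B, (ε χ : ℝ) / (d χ : ℝ) : ℝ) : ℂ) := by
    rw [finsum_mem_eq_finite_toFinset_sum _ (Set.toFinite _), Complex.ofReal_sum]
    refine Finset.sum_congr rfl fun χ hχ => ?_
    rw [hε2 χ ((hmemB χ).1 hχ), CfsgLib.Blocks.apply_one_eq_charDegree]
    have h3 : ε χ ^ 3 = ε χ := by
      rcases hε1 χ ((hmemB χ).1 hχ) with e | e <;> rw [e] <;> norm_num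
    push_cast
    rw [← Int.cast_pow, h3]
  set S : ℝ := ∑ χ ∈ B, (ε χ : ℝ) / (d χ : ℝ) with hS
  rw [hSeq, hct, hCQ, ← hG1] at hformula
  have heq : 8 * ((u : ℝ) * u) = (i : ℝ) * S := by
    have h1 : (8 : ℂ) * ((u : ℂ) * u) * (64 * (u : ℂ)) = (i : ℂ) * (S : ℂ) * (64 * (u : ℂ)) := by
      push_cast at hformula
      linear_combination hformula
    have hu0 : (u : ℂ) ≠ 0 := Nat.cast_ne_zero.2 (by omega)
    have h2 := mul_right_cancel₀ (mul_ne_zero (by norm_num) hu0) h1
    exact_mod_cast h2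
  have htriv : CfsgLib.Char.trivChar G ∈ B :=
    (hmemB _).2 CfsgLib.Blocks.trivChar_mem_principalBlock
  have hdpos : ∀ χ : IrrCharacter G, 0 < d χ := fun χ => CfsgLib.Blocks.charDegree_pos χ
  have hd1 : ∀ χ ∈ B, χ ≠ CfsgLib.Char.trivChar G → d χ ≠ 1 := by
    intro χ hχ hne' h1
    have h2 := (CfsgLib.CharDegree.charDegree_eq_one_iff_commutator χ).1 h1
    have htop : commutator G = ⊤ := by
      rcases C.simple (commutator G) inferInstance with h | h
      · exfalso
        obtain ⟨a, b, ha, hb, hab⟩ := C.exists_noncommuting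
        have hm : ⁅a, b⁆ ∈ commutator G :=
          Subgroup.commutator_mem_commutator (mem_top a) (mem_top b)
        rw [h, Subgroup.mem_bot] at hm
        exact hab (commutatorElement_eq_one_iff_commute.1 hm)
      · exact h
    refine hne' (Subtype.ext (funext fun g => ?_))
    rw [h2 g (htop ▸ mem_top g), CfsgLib.Blocks.apply_one_eq_charDegree, CfsgLib.Char.trivChar_apply]
    show ((d χ : ℕ) : ℂ) = 1
    rw [h1, Nat.cast_one]
  have hterm : ∀ χ ∈ B, χ ≠ CfsgLib.Char.trivChar G → (ε χ : ℝ) / (d χ : ℝ) ≤ 1 / 5 := by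
    intro χ hχ hne'
    rcases hε1 χ ((hmemB χ).1 hχ) with e | e
    · have hdd : 5 ≤ d χ := by
        have h1 := hε3 χ ((hmemB χ).1 hχ)
        rw [e] at h1
        have := hd1 χ hχ hne'
        have := hdpos χ
        obtain ⟨c, hc⟩ := h1
        have hc' : (d χ : ℤ) - 1 = 4 * c := hc
        omega
      rw [e, Int.cast_one]
      refine one_div_le_one_div_of_le (by norm_num) ?_
      exact_mod_cast hdd
    · rw [e]
      refine le_trans (div_nonpos_of_nonpos_of_nonneg (by norm_num) (Nat.cast_nonneg _)) ?_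
      norm_num
  -- a negative sign
  have hneg : ∃ χ ∈ B, ε χ = -1 := by
    by_contra hcon
    push Not at hcon
    have h := CfsgLib.Blocks.sum_block_regular_singular hJ
      (CfsgLib.Blocks.isPBlock_principalBlock (M := J) (G := G)) (x := (1 : G)) (y := t)
      (by simp) (by rw [hto])
    rw [finsum_mem_eq_finite_toFinset_sum _ (Set.toFinite _), ← hB] at h
    have h1 : ((∑ χ ∈ B, d χ : ℕ) : ℂ) = 0 := by
      rw [← h, Nat.cast_sum]
      refine Finset.sum_congr rfl fun χ hχ => ?_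
      rw [CfsgLib.Blocks.apply_one_eq_charDegree, hε2 χ ((hmemB χ).1 hχ),
        ((hε1 χ ((hmemB χ).1 hχ)).resolve_right (hcon χ hχ)), Int.cast_one, mul_one]
    exact (Finset.sum_pos (fun χ _ => hdpos χ) ⟨_, htriv⟩).ne' (by exact_mod_cast h1)
  obtain ⟨χ₁, hχ₁, hχ₁e⟩ := hneg
  have hεtriv : ε (CfsgLib.Char.trivChar G) = 1 := by
    have h := hε2 _ ((hmemB _).1 htriv)
    rw [CfsgLib.Char.trivChar_apply] at h
    exact_mod_cast h.symm
  have hχ₁ne : χ₁ ≠ CfsgLib.Char.trivChar G := fun e => by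
    rw [e, hεtriv] at hχ₁e; norm_num at hχ₁e
  have hB4 : B.card = 4 := by
    rw [← hk4, Nat.card_coe_set_eq, Set.ncard_eq_toFinset_card _ (Set.toFinite _)]
  have hSle : S ≤ 7 / 5 := by
    have h1 : χ₁ ∈ B.erase (CfsgLib.Char.trivChar G) := Finset.mem_erase.2 ⟨hχ₁ne, hχ₁⟩
    rw [hS, ← Finset.add_sum_erase B _ htriv, ← Finset.add_sum_erase _ _ h1]
    have hA : (ε (CfsgLib.Char.trivChar G) : ℝ) / (d (CfsgLib.Char.trivChar G) : ℝ) ≤ 1 := by
      rw [hεtriv, Int.cast_one, div_le_one (by exact_mod_cast hdpos _)]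
      exact_mod_cast hdpos _
    have hBb : (ε χ₁ : ℝ) / (d χ₁ : ℝ) ≤ 0 := by
      rw [hχ₁e]
      exact div_nonpos_of_nonpos_of_nonneg (by norm_num) (Nat.cast_nonneg _)
    have hrest := Finset.sum_le_card_nsmul ((B.erase (CfsgLib.Char.trivChar G)).erase χ₁)
      (fun χ => (ε χ : ℝ) / (d χ : ℝ)) (1 / 5) fun χ hχ => hterm χ
        (Finset.mem_of_mem_erase (Finset.mem_of_mem_erase hχ))
        (Finset.ne_of_mem_erase (Finset.mem_of_mem_erase hχ))
    rw [Finset.card_erase_of_mem h1, Finset.card_erase_of_mem htriv, hB4] at hrest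
    norm_num at hrest
    linarith
  have hup : (i : ℝ) ≤ 5 * ((u : ℝ) * u) + 1 := by exact_mod_cast hupper
  have hu3' : (3 : ℝ) ≤ u := by exact_mod_cast hu3
  nlinarith [mul_le_mul_of_nonneg_left hSle (Nat.cast_nonneg i : (0 : ℝ) ≤ i)]

/-- There is no configuration. -/
theorem Config.elim : False := by
  rcases Nat.eq_or_lt_of_le C.four_le with h | h
  · exact C.false_of_Pt_eq_bot fun t ht ht1 => C.Pt_eq_bot_of_klein h.symm ht ht1
  · exact C.false_of_Pt_eq_bot fun t ht ht1 => C.Pt_eq_bot h ht ht1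

end CfsgLib.Orders.Mixed
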