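import Cfsg.Agent.Lib.Orders.TwoPrimeKlein

/-!
# The boundary case `|G|_2 = p + 1` of `Mixed p 2 G` with abelian Sylow `p`-subgroups

Only the primes `2` and `p` divide the order: by induction a counterexample is a simple group
in the configuration `Config`, which does not exist.
-/

set_option autoImplicit false
set_option linter.all false

namespace CfsgLib.Orders.Mixed

open Cfsg Subgroup
open scoped Pointwise

universe u

/-- The boundary case. -/
theorem two_primes_of_equal {p : ℕ} [hp : Fact p.Prime] (hp2 : p ≠ 2) :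
    ∀ (n : ℕ) (G : Type u) [Group G] [Finite G], Nat.card G = n → Mixed p 2 G → 2 ∣ Nat.card G →
      2 ^ (Nat.card G).factorization 2 = p + 1 →
      (∀ P : Sylow p G, IsMulCommutative (P : Subgroup G)) →
      ∀ r : ℕ, r.Prime → r ∣ Nat.card G → r = p ∨ r = 2 := by
  intro n
  induction n using Nat.strong_induction_on with
  | _ n ih =>
  intro G _ _ hn hmix h2G hb habel r₀ hr₀ hr₀G
  haveI : Fact (Nat.Prime 2) := ⟨Nat.prime_two⟩
  by_contra hcon
  push Not at hcon
  have habel' : ∀ A : Subgroup G, IsPGroup p A → ∀ a ∈ A, ∀ b ∈ A, a * b = b * a := by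
    intro A hA a ha b hb
    obtain ⟨P, hP⟩ := hA.exists_le_sylow
    exact congrArg Subtype.val ((habel P).is_comm.comm ⟨a, hP ha⟩ ⟨b, hP hb⟩)
  have hsmall : ∀ H : Subgroup G, H ≠ ⊤ → 2 ∣ Nat.card H →
      ∀ r : ℕ, r.Prime → r ∣ Nat.card H → r = p ∨ r = 2 := by
    intro H hH h2H r hr hrH
    have hlt : Nat.card H < n := hn ▸ lt_of_le_of_ne
      (Nat.le_of_dvd Nat.card_pos (card_subgroup_dvd_card H))
      fun e => hH (Subgroup.eq_top_of_card_eq H e)
    have hle : (Nat.card H).factorization 2 ≤ (Nat.card G).factorization 2 :=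
      (Nat.factorization_le_iff_dvd Nat.card_pos.ne' Nat.card_pos.ne').2
        (card_subgroup_dvd_card H) 2
    rcases hle.eq_or_lt with he | hlt'
    · refine ih _ hlt H rfl (hmix.subgroup H) h2H (he ▸ hb) (fun P => ⟨⟨fun a b => ?_⟩⟩) r hr hrH
      exact Subtype.ext (Subtype.ext (habel' _ (P.2.map H.subtype) _ ⟨_, a.2, rfl⟩ _ ⟨_, b.2, rfl⟩))
    · refine two_primes_of_small (hmix.subgroup H) hp2 h2H ?_ hr hrH
      have h1 := Nat.pow_le_pow_right two_pos (Nat.succ_le_of_lt hlt')
      rw [hb, pow_succ] at h1
      have := hp.out.two_le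
      omega
  obtain ⟨Q⟩ : Nonempty (Sylow 2 G) := inferInstance
  have hQ1 : (Q : Subgroup G) ≠ ⊥ := Sylow.ne_bot_of_dvd_card Q h2G
  -- simplicity
  have hsimple : ∀ N : Subgroup G, N.Normal → N = ⊥ ∨ N = ⊤ := by
    intro N hN
    by_contra hc
    push Not at hc
    obtain ⟨hNb, hNt⟩ := hc
    have hodd : ∀ M : Subgroup G, M.Normal → M ≠ ⊥ → ¬ 2 ∣ Nat.card M → False := by
      intro M hM hMb hM2
      have hMp : IsPGroup p M := by
        refine IsPGroup.of_card (Nat.eq_prime_pow_of_unique_prime_dvd Nat.card_pos.ne'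
          fun {r} hr hrd => ?_)
        by_contra hrp
        haveI : Fact r.Prime := ⟨hr⟩
        have hr2 : r ≠ 2 := fun e => hM2 (e ▸ hrd)
        haveI : Group.IsNilpotent (Q : Subgroup G) := Q.2.isNilpotent
        obtain ⟨a, ha⟩ := IsPGroup.iff_card.1 Q.2
        obtain ⟨R, hR⟩ := CfsgLib.Core.exists_invariant_sylow (K := M) (A := (Q : Subgroup G))
          (fun y _ => by rw [normalizer_eq_top_iff.2 hM]; exact mem_top y)
          (by rw [ha]; exact (Nat.prime_two.coprime_iff_not_dvd.2 hM2).pow_left a)
          (Or.inl inferInstance) r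
        obtain ⟨b, hb'⟩ := IsPGroup.iff_card.1 (R.2.map M.subtype)
        have hbot := hmix.eq_bot hp2 Q.2 hQ1 (R := (R : Subgroup M).map M.subtype)
          (by
            rw [hb']
            exact (Nat.Coprime.mul_right ((Nat.coprime_primes hr hp.out).2 hrp)
              ((Nat.coprime_primes hr Nat.prime_two).2 hr2)).pow_left b)
          (Or.inl hR)
        rw [Subgroup.map_eq_bot_iff, M.ker_subtype, le_bot_iff] at hbot
        exact Sylow.ne_bot_of_dvd_card R hrd hbot
      haveI := hM
      have hcard : Nat.card G = Nat.card (G ⧸ M) * Nat.card M :=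
        Subgroup.card_eq_card_quotient_mul_card_subgroup M
      have hM1 : 1 < Nat.card M := (Subgroup.one_lt_card_iff_ne_bot M).2 hMb
      have hlt : Nat.card (G ⧸ M) < n := by
        rw [← hn, hcard]
        exact lt_mul_of_one_lt_right Nat.card_pos hM1
      have hfac : (Nat.card (G ⧸ M)).factorization 2 = (Nat.card G).factorization 2 := by
        rw [hcard, Nat.factorization_mul Nat.card_pos.ne' Nat.card_pos.ne', Finsupp.add_apply,
          Nat.factorization_eq_zero_of_not_dvd hM2, add_zero]
      obtain ⟨k, hk⟩ := IsPGroup.iff_card.1 hMp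
      have h2' : 2 ∣ Nat.card (G ⧸ M) := by
        rw [hcard] at h2G
        exact (Nat.prime_two.dvd_mul.1 h2G).resolve_right hM2
      have habelq : ∀ P : Sylow p (G ⧸ M), IsMulCommutative (P : Subgroup (G ⧸ M)) := by
        intro P
        obtain ⟨P', hP'⟩ := Sylow.mapSurjective_surjective (QuotientGroup.mk'_surjective M) p P
        refine ⟨⟨fun a b => Subtype.ext ?_⟩⟩
        obtain ⟨a', ha', hae⟩ : (a : G ⧸ M) ∈ (P' : Subgroup G).map (QuotientGroup.mk' M) := by
          have h := a.2
          have e : (P : Subgroup (G ⧸ M)) = (P' : Subgroup G).map (QuotientGroup.mk' M) := by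
            rw [← hP']; rfl
          exact e.le h
        obtain ⟨b', hb', hbe⟩ : (b : G ⧸ M) ∈ (P' : Subgroup G).map (QuotientGroup.mk' M) := by
          have h := b.2
          have e : (P : Subgroup (G ⧸ M)) = (P' : Subgroup G).map (QuotientGroup.mk' M) := by
            rw [← hP']; rfl
          exact e.le h
        show (a : G ⧸ M) * b = b * a
        rw [← hae, ← hbe, ← map_mul, ← map_mul, habel' _ P'.2 a' ha' b' hb']
      have hrQ : r₀ ∣ Nat.card (G ⧸ M) := by
        rw [hcard, hk] at hr₀G
        exact (hr₀.dvd_mul.1 hr₀G).resolve_right fun h =>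
          hcon.1 ((Nat.prime_dvd_prime_iff_eq hr₀ hp.out).1 (hr₀.dvd_of_dvd_pow h))
      exact (ih _ hlt (G ⧸ M) rfl (hmix.quotient M hMp) h2' (hfac ▸ hb) habelq r₀ hr₀ hrQ).elim
        hcon.1 hcon.2
    by_cases h2N : 2 ∣ Nat.card N
    · haveI := hN
      have hNsolv : Group.IsSolvable N := by
        have h := hsmall N hNt h2N
        have hc : Nat.card N =
            p ^ (Nat.card N).factorization p * 2 ^ (Nat.card N).factorization 2 := by
          refine Nat.eq_of_factorization_eq Nat.card_pos.ne'
            (mul_ne_zero (pow_ne_zero _ hp.out.ne_zero) (pow_ne_zero _ two_ne_zero)) fun r => ?_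
          rw [Nat.factorization_mul (pow_ne_zero _ hp.out.ne_zero) (pow_ne_zero _ two_ne_zero),
            Nat.Prime.factorization_pow hp.out, Nat.Prime.factorization_pow Nat.prime_two,
            Finsupp.add_apply, Finsupp.single_apply, Finsupp.single_apply]
          rcases eq_or_ne r p with rfl | hrp
          · simp [hp2.symm]
          rcases eq_or_ne r 2 with rfl | hr2
          · simp [hp2]
          rw [if_neg hrp.symm, if_neg hr2.symm, add_zero]
          by_cases hr : r.Prime
          · exact Nat.factorization_eq_zero_of_not_dvd fun hd => (h r hr hd).elim hrp hr2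
          · exact Nat.factorization_eq_zero_of_not_prime _ hr
        exact CfsgLib.Burnside.isSolvable_of_card_eq hp.out Nat.prime_two hc
      -- a nontrivial core of `N`
      set F := Cfsg.pCore p N with hF
      by_cases hF1 : F = ⊥
      · set T := Cfsg.pPrimeCore p N with hT
        have hdual := CfsgLib.PGroups.centralizer_pPrimeCore_le
          (CfsgLib.Core.isPSolvable_of_isSolvable hNsolv) hF1
        have hT1 : T ≠ ⊥ := by
          intro hT0
          refine hNb (Subgroup.eq_bot_iff_forall N |>.2 fun a ha => ?_)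
          have hmem : (⟨a, ha⟩ : N) ∈ centralizer (T : Set N) := by
            rw [hT0, mem_centralizer_iff]
            intro w hw
            rw [SetLike.mem_coe, Subgroup.mem_bot] at hw
            subst hw
            simp
          have h2 : (⟨a, ha⟩ : N) ∈ T := hdual hmem
          rw [hT0, Subgroup.mem_bot] at h2
          exact congrArg Subtype.val h2
        haveI : T.Characteristic := CfsgLib.Components.pPrimeCore_characteristic p
        haveI hUn : (T.map N.subtype).Normal := inferInstance
        set U := T.map N.subtype with hU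
        have hU2 : IsPGroup 2 U := by
          refine IsPGroup.of_card (Nat.eq_prime_pow_of_unique_prime_dvd Nat.card_pos.ne'
            fun {r} hr hrd => ?_)
          rw [Subgroup.card_map_of_injective N.subtype_injective] at hrd
          refine (hsmall N hNt h2N r hr (hrd.trans (card_subgroup_dvd_card T))).resolve_left ?_
          rintro rfl
          exact hp.out.coprime_iff_not_dvd.1
            (CfsgLib.Core.coprime_card_pPrimeCore r N).symm hrd
        have hU1 : U ≠ ⊥ := by
          rw [hU, Ne, Subgroup.map_eq_bot_iff, N.ker_subtype, le_bot_iff]; exact hT1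
        haveI : Fact r₀.Prime := ⟨hr₀⟩
        obtain ⟨g, hg⟩ := exists_prime_orderOf_dvd_card' r₀ hr₀G
        obtain ⟨k, hk⟩ := hmix.orderOf_normalizing hp2 hU2 hU1 (g := g)
          (by rw [normalizer_eq_top_iff.2 hUn]; exact mem_top g)
          (by rw [hg]; exact (Nat.coprime_primes hr₀ Nat.prime_two).2 hcon.2)
        rw [hg] at hk
        exact hcon.1 ((Nat.prime_dvd_prime_iff_eq hr₀ hp.out).1
          (hr₀.dvd_of_dvd_pow (dvd_of_eq hk)))
      · haveI : F.Characteristic := CfsgLib.Components.pCore_characteristic p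
        haveI hUn : (F.map N.subtype).Normal := inferInstance
        refine hodd (F.map N.subtype) hUn
          (by rw [Ne, Subgroup.map_eq_bot_iff, N.ker_subtype, le_bot_iff]; exact hF1) ?_
        rw [Subgroup.card_map_of_injective N.subtype_injective]
        intro hd
        obtain ⟨i, hi⟩ := IsPGroup.iff_card.1 (CfsgLib.Core.isPGroup_pCore p N)
        rw [hF, hi] at hd
        exact hp2 ((Nat.prime_dvd_prime_iff_eq Nat.prime_two hp.out).1
          (Nat.prime_two.dvd_of_dvd_pow hd)).symm
    · exact hodd N hN hNb h2N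
  obtain ⟨-, hsq, hcomm, x, hxN, hxp, htrans⟩ :=
    exists_transitive hmix hp2 hp2 h2G hb Q hr₀ hr₀G hcon.1 hcon.2
  exact Config.elim (Q := (Q : Subgroup G)) (x := x)
    { hp2 := hp2
      simple := hsimple
      mixed := hmix
      small := hsmall
      hQ := ⟨_, Q.card_eq_multiplicity⟩
      cardQ := by rw [Q.card_eq_multiplicity, hb]
      index := Q.not_dvd_index
      sq := hsq
      comm := hcomm
      xN := hxN
      xp := hxp
      trans := htrans
      abel := habel'
      other := ⟨r₀, hr₀, hr₀G, hcon.1, hcon.2⟩ }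

end CfsgLib.Orders.Mixed
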