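import Cfsg.Agent.Lib.Transfer.Fusion
import Cfsg.Agent.Lib.Core.Coprime
import Cfsg.Agent.Lib.Core.Cores
import Cfsg.Agent.Lib.Core.Basic

/-!
# Groups in which every mixed subgroup of order divisible by `q` has order divisible by `p`

`Mixed p q G`: a subgroup of order divisible by `q` and prime to `p` is a `q`-group. If moreover
the `q`-part of `|G|` is at most `p`, all automizers of `q`-subgroups are `q`-groups and only the
primes `p`, `q` divide `|G|`; the only other case of interest is `q = 2`, `|G|_2 = p + 1`.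
-/

set_option autoImplicit false
set_option linter.all false

namespace CfsgLib.Orders.Mixed

open Cfsg Subgroup
open scoped Pointwise

universe u

variable {G : Type u} [Group G] {p q : ℕ}

/-- Every subgroup of order divisible by `q` and prime to `p` is a `q`-group. -/
def Mixed (p q : ℕ) (G : Type u) [Group G] : Prop :=
  ∀ H : Subgroup G, q ∣ Nat.card H → ¬ p ∣ Nat.card H → IsPGroup q H

theorem Mixed.subgroup (hG : Mixed p q G) (K : Subgroup G) : Mixed p q K := by
  intro H hq hp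
  have e : H ≃* H.map K.subtype := H.equivMapOfInjective _ K.subtype_injective
  rw [Nat.card_congr e.toEquiv] at hq hp
  exact (hG _ hq hp).of_equiv e.symm

theorem Mixed.quotient [Finite G] [Fact p.Prime] [Fact q.Prime] (hG : Mixed p q G)
    (N : Subgroup G) [N.Normal] (hN : IsPGroup p N) : Mixed p q (G ⧸ N) := by
  intro H hqH hpH
  obtain ⟨n, hn⟩ := IsPGroup.iff_card.1 hN
  set π := QuotientGroup.mk' N with hπ
  set K := H.comap π with hK
  have hNK : N ≤ K := fun x hx => by
    show π x ∈ H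
    rw [show π x = 1 from (QuotientGroup.eq_one_iff x).2 hx]
    exact one_mem _
  have hidx : (N.subgroupOf K).index = Nat.card H := by
    have h1 := CfsgLib.Core.card_map_mk' N K
    rw [← hπ, hK, Subgroup.map_comap_eq_self_of_surjective (QuotientGroup.mk'_surjective N)] at h1
    exact h1.symm
  have hcop : (Nat.card (N.subgroupOf K)).Coprime (N.subgroupOf K).index := by
    rw [hidx, Nat.card_congr (subgroupOfEquivOfLe hNK).toEquiv, hn]
    exact ((Fact.out (p := p.Prime)).coprime_iff_not_dvd.2 hpH).pow_left n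
  obtain ⟨C, hC⟩ := exists_right_complement'_of_coprime hcop
  have hcard : Nat.card C = Nat.card H := by
    rw [← hidx]
    exact (hC.symm.index_eq_card).symm
  have h := hG.subgroup K C (hcard ▸ hqH) (hcard ▸ hpH)
  obtain ⟨m, hm⟩ := IsPGroup.iff_card.1 h
  exact IsPGroup.of_card (n := m) (hcard ▸ hm)

variable [Finite G] [hp : Fact p.Prime] [hq : Fact q.Prime]

/-- A nontrivial `q`-group and a `{p,q}'`-subgroup cannot normalize one another. -/
theorem Mixed.eq_bot (hG : Mixed p q G) (hpq : p ≠ q) {A R : Subgroup G} (hA : IsPGroup q A)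
    (hA1 : A ≠ ⊥) (hR : (Nat.card R).Coprime (p * q))
    (h : A ≤ normalizer (R : Set G) ∨ R ≤ normalizer (A : Set G)) : R = ⊥ := by
  obtain ⟨a, ha⟩ := IsPGroup.iff_card.1 hA
  have ha0 : a ≠ 0 := fun e => hA1 (Subgroup.card_eq_one.1 (by rw [ha, e, pow_zero]))
  have hcop : (Nat.card A).Coprime (Nat.card R) := by
    rw [ha]
    exact (Nat.Coprime.coprime_mul_left_right hR).symm.pow_left a
  have hcard : Nat.card (A ⊔ R : Subgroup G) = Nat.card A * Nat.card R := by
    rcases h with h | h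
    · exact CfsgLib.Core.card_sup_of_coprime A R h hcop
    · rw [sup_comm, CfsgLib.Core.card_sup_of_coprime R A h hcop.symm, mul_comm]
  have hpd : ¬ p ∣ Nat.card (A ⊔ R : Subgroup G) := by
    rw [hcard, ha]
    intro hd
    rcases (Nat.Prime.dvd_mul hp.out).1 hd with h | h
    · exact hpq ((Nat.prime_dvd_prime_iff_eq hp.out hq.out).1 (hp.out.dvd_of_dvd_pow h))
    · exact hp.out.coprime_iff_not_dvd.1 (Nat.Coprime.coprime_mul_right_right hR).symm h
  have hqd : q ∣ Nat.card (A ⊔ R : Subgroup G) := by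
    rw [hcard, ha]
    exact (dvd_pow_self q ha0).mul_right _
  obtain ⟨m, hm⟩ := IsPGroup.iff_card.1 ((hG _ hqd hpd).to_le (le_sup_right : R ≤ A ⊔ R))
  have hRq : (Nat.card R).Coprime q := Nat.Coprime.coprime_mul_left_right hR
  rw [hm] at hRq
  refine Subgroup.card_eq_one.1 ?_
  rw [hm]
  rcases Nat.eq_zero_or_pos m with h0 | h0
  · rw [h0, pow_zero]
  · exact absurd ((Nat.coprime_pow_left_iff h0 q q).1 hRq)
      (fun hc => hq.out.ne_one ((Nat.coprime_self q).1 hc))

/-- An element normalizing a nontrivial `q`-subgroup, of order prime to `q`, is a `p`-element. -/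
theorem Mixed.orderOf_normalizing (hG : Mixed p q G) (hpq : p ≠ q) {U : Subgroup G}
    (hU : IsPGroup q U) (hU1 : U ≠ ⊥) {g : G} (hg : g ∈ normalizer (U : Set G))
    (hgq : (orderOf g).Coprime q) : ∃ k : ℕ, orderOf g = p ^ k := by
  obtain ⟨k, m, hm, hkm⟩ :=
    Nat.exists_eq_pow_mul_and_not_dvd (orderOf_pos g).ne' p hp.out.ne_one
  refine ⟨k, ?_⟩
  have hm0 : m ≠ 0 := fun e => hm (e ▸ dvd_zero p)
  have ho : orderOf (g ^ p ^ k) = m := by
    rw [orderOf_pow' _ (pow_ne_zero k hp.out.ne_zero), hkm, Nat.gcd_mul_right_left,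
      Nat.mul_div_cancel_left _ (pow_pos hp.out.pos k)]
  have hbot := hG.eq_bot hpq hU hU1 (R := zpowers (g ^ p ^ k)) (by
      rw [Nat.card_zpowers, ho]
      refine Nat.Coprime.mul_right (Nat.Coprime.symm (hp.out.coprime_iff_not_dvd.2 hm)) ?_
      exact hgq.coprime_dvd_left (hkm ▸ dvd_mul_left m _))
    (Or.inr (zpowers_le.2 (pow_mem hg _)))
  rw [zpowers_eq_bot] at hbot
  rw [hbot, orderOf_one] at ho
  rw [hkm, ← ho, mul_one]

omit hq in
/-- The fixed points of a `p`-element normalizing `U` form a proper subgroup of congruent order. -/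
theorem fixed_card {U : Subgroup G} {g : G} (hg : g ∈ normalizer (U : Set G))
    (hgp : ∃ k : ℕ, orderOf g = p ^ k) (hnc : g ∉ centralizer (U : Set G)) :
    Nat.card (U ⊓ centralizer ({g} : Set G) : Subgroup G) ∣ Nat.card U ∧
      Nat.card (U ⊓ centralizer ({g} : Set G) : Subgroup G) < Nat.card U ∧
      Nat.card U ≡ Nat.card (U ⊓ centralizer ({g} : Set G) : Subgroup G) [MOD p] := by
  obtain ⟨k, hk⟩ := hgp
  refine ⟨card_dvd_of_le inf_le_left, ?_, ?_⟩
  · refine lt_of_le_of_ne (Subgroup.card_le_of_le inf_le_left) fun he => hnc ?_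
    have := Subgroup.eq_of_le_of_card_ge (inf_le_left (b := centralizer ({g} : Set G))) he.ge
    rw [mem_centralizer_iff]
    intro x hx
    exact (mem_centralizer_singleton_iff.1 (this.ge hx).2)
  · let C : Subgroup G := zpowers g
    have hC : IsPGroup p C := IsPGroup.of_card (n := k) (by rw [Nat.card_zpowers, hk])
    have hCU : ∀ c ∈ C, ∀ x ∈ U, c * x * c⁻¹ ∈ U := fun c hc x hx =>
      (mem_normalizer_iff.1 ((zpowers_le.2 hg) hc) x).1 hx
    letI : MulAction C U :=
      { smul := fun c x => ⟨(c : G) * x * (c : G)⁻¹, hCU c c.2 x x.2⟩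
        one_smul := fun x => Subtype.ext (show ((1 : C) : G) * x * ((1 : C) : G)⁻¹ = x by simp)
        mul_smul := fun a b x => Subtype.ext
          (show ((a * b : C) : G) * x * ((a * b : C) : G)⁻¹
            = (a : G) * ((b : G) * x * (b : G)⁻¹) * (a : G)⁻¹ by simp [mul_assoc]) }
    have h := hC.card_modEq_card_fixedPoints U
    convert h using 1
    refine Nat.card_congr
      { toFun := fun x => ⟨⟨x, x.2.1⟩, ?_⟩
        invFun := fun x => ⟨(x.1 : G), x.1.2, ?_⟩
        left_inv := fun x => rfl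
        right_inv := fun x => rfl }
    · intro c
      obtain ⟨j, hj⟩ := mem_zpowers_iff.1 c.2
      refine Subtype.ext ?_
      show (c : G) * x * (c : G)⁻¹ = x
      rw [← hj, ← (Commute.zpow_right (mem_centralizer_singleton_iff.1 x.2.2 : Commute (x : G) g) j).eq,
        mul_inv_cancel_right]
    · have := congrArg Subtype.val (x.2 ⟨g, mem_zpowers g⟩)
      change g * (x.1 : G) * g⁻¹ = x.1 at this
      exact mem_centralizer_singleton_iff.2 (mul_inv_eq_iff_eq_mul.1 this).symm

/-- If all `q'`-elements normalizing `q`-subgroups centralize them, only `p` and `q` divide `|G|`. -/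
theorem two_primes_of_centralizes (hG : Mixed p q G) (hpq : p ≠ q) (hqG : q ∣ Nat.card G)
    (Q : Sylow q G)
    (h : ∀ U : Subgroup G, U ≤ (Q : Subgroup G) → ∀ g ∈ normalizer (U : Set G),
      (orderOf g).Coprime q → g ∈ centralizer (U : Set G))
    {r : ℕ} (hr : r.Prime) (hrG : r ∣ Nat.card G) : r = p ∨ r = q := by
  by_contra hcon
  push Not at hcon
  obtain ⟨N, hN, hNQ⟩ := (CfsgLib.Transfer.exists_complement_iff Q).2
    (CfsgLib.Transfer.hasNormalPComplement_of_centralizes Q h)
  obtain ⟨a, ha⟩ := IsPGroup.iff_card.1 Q.2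
  have hcard := hNQ.card_mul
  have hindex : N.index = Nat.card (Q : Subgroup G) := hNQ.symm.index_eq_card
  have hNq : ¬ q ∣ Nat.card N := by
    have h1 := hNQ.index_eq_card
    rw [← h1]
    exact Q.not_dvd_index
  have hrN : r ∣ Nat.card N := by
    rw [← hcard, ha] at hrG
    rcases (Nat.Prime.dvd_mul hr).1 hrG with h | h
    · exact h
    · exact absurd ((Nat.prime_dvd_prime_iff_eq hr hq.out).1 (hr.dvd_of_dvd_pow h)) hcon.2
  haveI : Fact r.Prime := ⟨hr⟩
  have hQ1 : (Q : Subgroup G) ≠ ⊥ := Sylow.ne_bot_of_dvd_card Q hqG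
  haveI : Group.IsNilpotent (Q : Subgroup G) := Q.2.isNilpotent
  obtain ⟨R, hR⟩ := CfsgLib.Core.exists_invariant_sylow (K := N) (A := (Q : Subgroup G))
    (fun x _ => by rw [normalizer_eq_top_iff.2 hN]; exact mem_top x)
    (by rw [ha]; exact (hq.out.coprime_iff_not_dvd.2 hNq).pow_left a) (Or.inl inferInstance) r
  obtain ⟨b, hb⟩ := IsPGroup.iff_card.1 (R.2.map N.subtype)
  have hbot := hG.eq_bot hpq Q.2 hQ1 (R := (R : Subgroup N).map N.subtype)
    (by
      rw [hb]
      exact (Nat.Coprime.mul_right ((Nat.coprime_primes hr hp.out).2 hcon.1)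
        ((Nat.coprime_primes hr hq.out).2 hcon.2)).pow_left b)
    (Or.inl hR)
  rw [Subgroup.map_eq_bot_iff, N.ker_subtype, le_bot_iff] at hbot
  exact Sylow.ne_bot_of_dvd_card R hrN hbot

/-- The generic case. -/
theorem two_primes_of_small (hG : Mixed p q G) (hpq : p ≠ q) (hqG : q ∣ Nat.card G)
    (hsmall : q ^ (Nat.card G).factorization q ≤ p)
    {r : ℕ} (hr : r.Prime) (hrG : r ∣ Nat.card G) : r = p ∨ r = q := by
  obtain ⟨Q⟩ : Nonempty (Sylow q G) := inferInstance
  refine two_primes_of_centralizes hG hpq hqG Q (fun U hU g hg hgq => ?_) hr hrG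
  by_contra hnc
  have hU1 : U ≠ ⊥ := fun e => hnc (by
    subst e; rw [mem_centralizer_iff]; intro x hx
    rw [SetLike.mem_coe, Subgroup.mem_bot] at hx; subst hx; simp)
  obtain ⟨hd, hlt, hmod⟩ := fixed_card hg
    (hG.orderOf_normalizing hpq (Q.2.to_le hU) hU1 hg hgq) hnc
  have hUle : Nat.card U ≤ p := le_trans (Subgroup.card_le_of_le hU)
    (by rw [Q.card_eq_multiplicity]; exact hsmall)
  have h2 := Nat.le_of_dvd (by omega) ((Nat.modEq_iff_dvd' hlt.le).1 hmod.symm)
  have h3 : 0 < Nat.card (U ⊓ centralizer ({g} : Set G) : Subgroup G) := Nat.card_pos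
  omega

/-- The boundary case `q ^ b = p + 1`: either only `p` and `q` divide the order, or `q = 2` and the
Sylow `q`-subgroup is elementary abelian with a `p`-element permuting it transitively. -/
theorem exists_transitive (hG : Mixed p q G) (hpq : p ≠ q) (hp2 : p ≠ 2) (hqG : q ∣ Nat.card G)
    (hb : q ^ (Nat.card G).factorization q = p + 1) (Q : Sylow q G)
    {r : ℕ} (hr : r.Prime) (hrG : r ∣ Nat.card G) (hrp : r ≠ p) (hrq : r ≠ q) :
    q = 2 ∧ (∀ u ∈ (Q : Subgroup G), u * u = 1) ∧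
      (∀ u ∈ (Q : Subgroup G), ∀ v ∈ (Q : Subgroup G), u * v = v * u) ∧
      ∃ g : G, g ∈ normalizer ((Q : Subgroup G) : Set G) ∧ (∃ k : ℕ, orderOf g = p ^ k) ∧
        ∀ u ∈ (Q : Subgroup G), ∀ v ∈ (Q : Subgroup G), u ≠ 1 → v ≠ 1 →
          ∃ k : ℕ, g ^ k * u * (g ^ k)⁻¹ = v := by
  have hcardQ : Nat.card (Q : Subgroup G) = p + 1 := by rw [Q.card_eq_multiplicity, hb]
  have hq2 : q = 2 := by
    obtain ⟨m, hm⟩ := hp.out.odd_of_ne_two hp2
    have h2 : 2 ∣ q ^ (Nat.card G).factorization q := ⟨m + 1, by omega⟩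
    exact ((Nat.prime_dvd_prime_iff_eq Nat.prime_two hq.out).1
      (Nat.prime_two.dvd_of_dvd_pow h2)).symm
  -- some automizer is not a `q`-group
  obtain ⟨U, hU, g, hg, hgq, hnc⟩ : ∃ U : Subgroup G, U ≤ (Q : Subgroup G) ∧
      ∃ g ∈ normalizer (U : Set G), (orderOf g).Coprime q ∧ g ∉ centralizer (U : Set G) := by
    by_contra hcon
    push Not at hcon
    exact (two_primes_of_centralizes hG hpq hqG Q hcon hr hrG).elim hrp hrq
  have hU1 : U ≠ ⊥ := fun e => hnc (by
    subst e; rw [mem_centralizer_iff]; intro x hx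
    rw [SetLike.mem_coe, Subgroup.mem_bot] at hx; subst hx; simp)
  have hgp := hG.orderOf_normalizing hpq (Q.2.to_le hU) hU1 hg hgq
  obtain ⟨hd, hlt, hmod⟩ := fixed_card hg hgp hnc
  set f := Nat.card (U ⊓ centralizer ({g} : Set G) : Subgroup G) with hf
  have hf0 : 0 < f := Nat.card_pos
  have hle : Nat.card U ≤ p + 1 := hcardQ ▸ Subgroup.card_le_of_le hU
  have h2 := Nat.le_of_dvd (by omega) ((Nat.modEq_iff_dvd' hlt.le).1 hmod.symm)
  have hf1 : f = 1 := by omega
  have hUQ : U = (Q : Subgroup G) := Subgroup.eq_of_le_of_card_ge hU (by omega)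
  subst hUQ
  -- orbits
  have hfix : ∀ u ∈ (Q : Subgroup G), Commute g u → u = 1 := by
    intro u hu hc
    have hmem : u ∈ ((Q : Subgroup G) ⊓ centralizer ({g} : Set G) : Subgroup G) :=
      ⟨hu, mem_centralizer_singleton_iff.2 hc.symm.eq⟩
    rw [Subgroup.card_eq_one.1 (hf.symm.trans hf1), Subgroup.mem_bot] at hmem
    exact hmem
  have hconjmem : ∀ k : ℕ, ∀ u ∈ (Q : Subgroup G), g ^ k * u * (g ^ k)⁻¹ ∈ (Q : Subgroup G) :=
    fun k u hu => (mem_normalizer_iff.1 (pow_mem hg k) u).1 hu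
  have htrans : ∀ u ∈ (Q : Subgroup G), ∀ v ∈ (Q : Subgroup G), u ≠ 1 → v ≠ 1 →
      ∃ k : ℕ, g ^ k * u * (g ^ k)⁻¹ = v := by
    intro u hu v hv hu1 hv1
    obtain ⟨k, hk⟩ := hgp
    let C : Subgroup G := zpowers g
    have hC : IsPGroup p C := IsPGroup.of_card (n := k) (by rw [Nat.card_zpowers, hk])
    let X := {w : G // w ∈ (Q : Subgroup G) ∧ w ≠ 1}
    letI : MulAction C X :=
      { smul := fun c w => ⟨(c : G) * w * (c : G)⁻¹,
          (mem_normalizer_iff.1 ((zpowers_le.2 hg) c.2) w.1).1 w.2.1,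
          fun e => w.2.2 (conj_eq_one_iff.1 e)⟩
        one_smul := fun x => Subtype.ext (show ((1 : C) : G) * x * ((1 : C) : G)⁻¹ = x by simp)
        mul_smul := fun a b x => Subtype.ext
          (show ((a * b : C) : G) * x * ((a * b : C) : G)⁻¹
            = (a : G) * ((b : G) * x * (b : G)⁻¹) * (a : G)⁻¹ by simp [mul_assoc]) }
    have hX : Nat.card X = p := by
      have h1 : Nat.card X = Nat.card {w : (Q : Subgroup G) // w ≠ 1} := Nat.card_congr
        { toFun := fun w => ⟨⟨w.1, w.2.1⟩, fun e => w.2.2 (congrArg Subtype.val e)⟩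
          invFun := fun w => ⟨w.1.1, w.1.2, fun e => w.2 (Subtype.ext e)⟩
          left_inv := fun _ => rfl
          right_inv := fun _ => rfl }
      rw [h1]
      have := Fintype.ofFinite (Q : Subgroup G)
      classical
      rw [Nat.card_eq_fintype_card, Fintype.card_subtype_compl, Fintype.card_subtype_eq,
        ← Nat.card_eq_fintype_card, hcardQ]
      omega
    let x : X := ⟨u, hu, hu1⟩
    obtain ⟨n, hn⟩ := hC.card_orbit x
    have hn0 : n ≠ 0 := by
      intro e
      rw [e, pow_zero, Nat.card_eq_one_iff_unique] at hn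
      have := hn.1.elim (⟨(⟨g, mem_zpowers g⟩ : C) • x, MulAction.mem_orbit x _⟩ : MulAction.orbit C x)
        ⟨x, MulAction.mem_orbit_self x⟩
      have h' : g * u * g⁻¹ = u := congrArg Subtype.val (congrArg Subtype.val this)
      exact hu1 (hfix u hu (mul_inv_eq_iff_eq_mul.1 h'))
    have hall : MulAction.orbit C x = Set.univ := by
      refine Set.eq_of_subset_of_ncard_le (Set.subset_univ _) ?_ (Set.toFinite _)
      rw [Set.ncard_univ, hX, ← Nat.card_coe_set_eq, hn]
      exact Nat.le_self_pow hn0 p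
    obtain ⟨⟨c, hc⟩, hcx⟩ : (⟨v, hv, hv1⟩ : X) ∈ MulAction.orbit C x := hall ▸ Set.mem_univ _
    obtain ⟨j, hj⟩ := mem_powers_iff_mem_zpowers.2 hc
    refine ⟨j, ?_⟩
    have h' : c * u * c⁻¹ = v := congrArg Subtype.val hcx
    simpa [← hj] using h'
  refine ⟨hq2, fun u hu => ?_, fun u hu v hv => ?_, g, hg, hgp, htrans⟩
  · subst hq2
    haveI : Nontrivial (Q : Subgroup G) := by
      rw [← Finite.one_lt_card_iff_nontrivial, hcardQ]; have := hp.out.two_le; omega
    obtain ⟨w, hw⟩ := exists_prime_orderOf_dvd_card' 2 (G := (Q : Subgroup G))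
      (by rw [hcardQ]; obtain ⟨m, hm⟩ := hp.out.odd_of_ne_two hp2; exact ⟨m + 1, by omega⟩)
    have hw2 : (w : G) * (w : G) = 1 := by
      have := pow_orderOf_eq_one w
      rw [hw, pow_two] at this
      exact congrArg Subtype.val this
    rcases eq_or_ne u 1 with rfl | hu1
    · exact one_mul 1
    obtain ⟨k, hk⟩ := htrans w w.2 u hu
      (fun e => by rw [show w = 1 from Subtype.ext e, orderOf_one] at hw; omega) hu1
    rw [← hk]
    calc g ^ k * w * (g ^ k)⁻¹ * (g ^ k * w * (g ^ k)⁻¹) = g ^ k * ((w : G) * w) * (g ^ k)⁻¹ := by group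
      _ = 1 := by rw [hw2, mul_one, mul_inv_cancel]
  · rcases eq_or_ne u 1 with rfl | hu1
    · simp
    haveI : Nontrivial (Q : Subgroup G) := by
      rw [← Finite.one_lt_card_iff_nontrivial, hcardQ]; have := hp.out.two_le; omega
    haveI := Q.2.center_nontrivial
    obtain ⟨⟨z, hz⟩, hz1⟩ := exists_ne (1 : Subgroup.center (Q : Subgroup G))
    obtain ⟨k, hk⟩ := htrans z z.2 u hu (fun e => hz1 (Subtype.ext (Subtype.ext e))) hu1
    have hw : (g ^ k)⁻¹ * v * g ^ k ∈ (Q : Subgroup G) :=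
      (mem_normalizer_iff''.1 (pow_mem hg k) v).1 hv
    have := congrArg Subtype.val (Subgroup.mem_center_iff.1 hz ⟨_, hw⟩)
    change (g ^ k)⁻¹ * v * g ^ k * (z : G) = (z : G) * ((g ^ k)⁻¹ * v * g ^ k) at this
    rw [← hk]
    have h2 := congrArg (fun t => g ^ k * t * (g ^ k)⁻¹) this
    simpa [mul_assoc] using h2.symm

end CfsgLib.Orders.Mixed
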