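import Cfsg.Agent.Lib.Orders.TwoPrimeConfig
import Cfsg.Agent.Lib.TwoGroups.FourSubgroups

/-!
# The configuration `|G|_2 = p + 1`: involution centralizers are small

In the configuration the centralizer of a Sylow `2`-subgroup has no `p`-part; if moreover
`|G|_2 ≥ 8` every involution centralizer is a Sylow `2`-subgroup; and that case is impossible by
counting the pairs of involutions.
-/

set_option autoImplicit false
set_option linter.all false

namespace CfsgLib.Orders.Mixed

open Cfsg Subgroup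
open scoped Pointwise

universe u

variable {G : Type u} [Group G] [Finite G] {p : ℕ} [hp : Fact p.Prime] {Q : Subgroup G} {x : G}

variable (C : Config p Q x)
include C

theorem Config.orderOf_conj_two {s : G} (hs : orderOf s = 2) (h : G) :
    orderOf (h * s * h⁻¹) = 2 := by rw [CfsgLib.Signalizer.orderOf_conj, hs]

omit C hp in
theorem commute_conj_iff (h a b : G) : Commute (h * a * h⁻¹) (h * b * h⁻¹) ↔ Commute a b := by
  constructor
  · intro hc
    exact (MulAut.conj h).injective (by simpa [mul_assoc] using hc.eq)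
  · intro hc
    exact (hc.map (MulAut.conj h).toMonoidHom : _)

omit C hp in
theorem conj_inverts {s m : G} (hinv : s * m * s⁻¹ = m⁻¹) (h : G) :
    (h * s * h⁻¹) * (h * m * h⁻¹) * (h * s * h⁻¹)⁻¹ = (h * m * h⁻¹)⁻¹ := by
  calc (h * s * h⁻¹) * (h * m * h⁻¹) * (h * s * h⁻¹)⁻¹ = h * (s * m * s⁻¹) * h⁻¹ := by group
    _ = (h * m * h⁻¹)⁻¹ := by rw [hinv]; group

/-- An element of order `2` normalizing `Q` lies in it. -/
theorem Config.mem_of_normalizes {s : G} (hs : orderOf s = 2)
    (hN : s ∈ normalizer (Q : Set G)) : s ∈ Q := by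
  haveI : Fact (Nat.Prime 2) := ⟨Nat.prime_two⟩
  have hsup : IsPGroup 2 (zpowers s ⊔ Q : Subgroup G) :=
    (IsPGroup.of_card (n := 1) (by rw [Nat.card_zpowers, hs, pow_one]) :
      IsPGroup 2 (zpowers s)).to_sup_of_normal_right' C.isPGroup (zpowers_le.2 hN)
  rw [Subgroup.eq_of_le_of_card_ge (le_sup_right : Q ≤ zpowers s ⊔ Q)
    (by rw [C.cardQ]; exact C.card_le hsup)]
  exact mem_sup_left (mem_zpowers s)

theorem Config.eq_one_of_commute_inverts {s m : G} (hc : Commute s m)
    (hinv : s * m * s⁻¹ = m⁻¹) (hm : ∃ k : ℕ, orderOf m = p ^ k) : m = 1 := by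
  rw [hc.eq, mul_inv_cancel_right] at hinv
  by_contra hm1
  have h2 : orderOf m = 2 :=
    CfsgLib.Signalizer.orderOf_eq_two_of hm1 (mul_eq_one_iff_eq_inv.2 hinv)
  have := C.coprime_two_of_pElement hm
  rw [h2] at this
  exact absurd this (by decide)

/-- An element of odd order inverted by an involution is a `p`-element. -/
theorem Config.pElement_of_inverted {s m : G} (hs : orderOf s = 2)
    (hinv : s * m * s⁻¹ = m⁻¹) (hodd : (orderOf m).Coprime 2) :
    ∃ k : ℕ, orderOf m = p ^ k := by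
  haveI : Fact (Nat.Prime 2) := ⟨Nat.prime_two⟩
  obtain ⟨k, j, hj, hkj⟩ :=
    Nat.exists_eq_pow_mul_and_not_dvd (orderOf_pos m).ne' p hp.out.ne_one
  refine ⟨k, ?_⟩
  have ho : orderOf (m ^ p ^ k) = j := by
    rw [orderOf_pow' _ (pow_ne_zero k hp.out.ne_zero), hkj, Nat.gcd_mul_right_left,
      Nat.mul_div_cancel_left _ (pow_pos hp.out.pos k)]
  have hn : zpowers s ≤ normalizer ((zpowers (m ^ p ^ k) : Subgroup G) : Set G) := by
    rw [zpowers_le]
    have key : ∀ w ∈ zpowers (m ^ p ^ k), s * w * s⁻¹ = w⁻¹ := by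
      rintro w ⟨i, rfl⟩
      show s * (m ^ p ^ k) ^ i * s⁻¹ = ((m ^ p ^ k) ^ i)⁻¹
      rw [← conj_zpow, ← conj_pow, hinv, inv_pow, inv_zpow]
    refine mem_normalizer_iff.2 fun w => ⟨fun hw => ?_, fun hw => ?_⟩
    · rw [key w hw]; exact inv_mem hw
    · have h1 := key _ hw
      have h2 : s * (s * w * s⁻¹) * s⁻¹ = w := by
        calc s * (s * w * s⁻¹) * s⁻¹ = (s * s) * w * (s * s)⁻¹ := by group
          _ = w := by rw [CfsgLib.Signalizer.involution_sq hs, one_mul, inv_one, mul_one]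
      rw [h2] at h1
      rw [h1]
      exact inv_mem hw
  have hbot := C.mixed.eq_bot C.hp2
    (IsPGroup.of_card (n := 1) (by rw [Nat.card_zpowers, hs, pow_one]) : IsPGroup 2 (zpowers s))
    (by rw [Ne, zpowers_eq_bot]; exact CfsgLib.Signalizer.involution_ne_one hs)
    (R := zpowers (m ^ p ^ k)) (by
      rw [Nat.card_zpowers, ho]
      exact Nat.Coprime.mul_right (hp.out.coprime_iff_not_dvd.2 hj).symm
        (hodd.coprime_dvd_left (hkj ▸ dvd_mul_left j _)))
    (Or.inl hn)
  rw [zpowers_eq_bot] at hbot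
  rw [hbot, orderOf_one] at ho
  rw [hkj, ← ho, mul_one]

omit C in
/-- `TI`: the involutions commuting with an involution of `Q` lie in `Q`. -/
def InvTI (Q : Subgroup G) : Prop :=
  ∀ z ∈ Q, z ≠ 1 → ∀ s : G, orderOf s = 2 → Commute s z → s ∈ Q

/-- With `InvTI`, the product of two noncommuting involutions is a `p`-element. -/
theorem Config.pair_pElement (hTI : InvTI Q) {s t : G} (hs : orderOf s = 2) (ht : orderOf t = 2)
    (hst : ¬ Commute s t) : ∃ k : ℕ, orderOf (s * t) = p ^ k := by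
  obtain ⟨t₀, ht₀, ht₀1⟩ := C.exists_mem
  refine C.pElement_of_inverted hs (CfsgLib.Signalizer.conj_mul_eq_inv hs ht) ?_
  rw [Nat.coprime_two_right]
  rcases Nat.even_or_odd (orderOf (s * t)) with he | ho
  · exfalso
    obtain ⟨hz, hzs, hzt⟩ := CfsgLib.Signalizer.central_involution hs ht he
    obtain ⟨h, hh⟩ := C.conj_involution hz ht₀ ht₀1
    refine hst ((commute_conj_iff h s t).1 ?_)
    refine C.comm _ (hTI t₀ ht₀ ht₀1 _ (C.orderOf_conj_two hs h) ?_) _
      (hTI t₀ ht₀ ht₀1 _ (C.orderOf_conj_two ht h) ?_)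
    · rw [← hh]; exact ((commute_conj_iff h _ s).2 hzs).symm
    · rw [← hh]; exact ((commute_conj_iff h _ t).2 hzt).symm
  · exact ho

/-- There are two noncommuting involutions. -/
theorem Config.exists_noncommuting : ∃ s t : G, orderOf s = 2 ∧ orderOf t = 2 ∧ ¬ Commute s t := by
  by_contra hcon
  push Not at hcon
  obtain ⟨r, hr, hrG, hrp, hr2⟩ := C.other
  obtain ⟨t₀, ht₀, ht₀1⟩ := C.exists_mem
  set N := closure {s : G | orderOf s = 2} with hN
  haveI : N.Normal := ⟨fun n hn g => by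
    induction hn using closure_induction with
    | mem a ha => exact subset_closure (C.orderOf_conj_two ha g)
    | one => simp
    | mul a b _ _ iha ihb =>
      have : g * (a * b) * g⁻¹ = (g * a * g⁻¹) * (g * b * g⁻¹) := by group
      rw [this]; exact mul_mem iha ihb
    | inv a _ iha =>
      have : g * a⁻¹ * g⁻¹ = (g * a * g⁻¹)⁻¹ := by group
      rw [this]; exact inv_mem iha⟩
  have hcomm : ∀ a ∈ N, ∀ s : G, orderOf s = 2 → Commute a s := by
    intro a ha s hs
    induction ha using closure_induction with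
    | mem a ha => exact hcon a s ha hs
    | one => exact Commute.one_left s
    | mul a b _ _ iha ihb => exact iha.mul_left ihb
    | inv a _ iha => exact iha.inv_left
  have hsq : ∀ a ∈ N, a * a = 1 := by
    intro a ha
    induction ha using closure_induction with
    | mem a ha => exact CfsgLib.Signalizer.involution_sq ha
    | one => exact one_mul 1
    | mul a b ha' hb iha ihb =>
      have hc : Commute a b := by
        clear ihb
        induction hb using closure_induction with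
        | mem b hb => exact hcomm a ha' b hb
        | one => exact Commute.one_right a
        | mul c d _ _ ihc ihd => exact ihc.mul_right ihd
        | inv c _ ihc => exact ihc.inv_right
      rw [hc.symm.mul_mul_mul_comm, iha, ihb, one_mul]
    | inv a _ iha => rw [← mul_inv_rev, iha, inv_one]
  rcases C.simple N inferInstance with h | h
  · have : t₀ ∈ N := subset_closure (C.orderOf_mem ht₀ ht₀1)
    rw [h, Subgroup.mem_bot] at this
    exact ht₀1 this
  · haveI : Fact r.Prime := ⟨hr⟩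
    obtain ⟨g, hg⟩ := exists_prime_orderOf_dvd_card' r hrG
    have h1 : orderOf g ∣ 2 :=
      orderOf_dvd_of_pow_eq_one (by rw [pow_two]; exact hsq g (h ▸ mem_top g))
    rw [hg] at h1
    exact hr2 ((Nat.prime_dvd_prime_iff_eq hr Nat.prime_two).1 h1)

/-- If `C(m)` has odd order and some involution inverts `m`, then `C(m)` is a Sylow `p`-subgroup
normalized by that involution. -/
theorem Config.centralizer_sylow {s m : G} (hs : orderOf s = 2) (hinv : s * m * s⁻¹ = m⁻¹)
    (hmp : ∃ k : ℕ, orderOf m = p ^ k) (hodd : ¬ 2 ∣ Nat.card (centralizer ({m} : Set G))) :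
    ∃ P : Sylow p G, (P : Subgroup G) = centralizer ({m} : Set G) ∧
      s ∈ normalizer ((P : Subgroup G) : Set G) := by
  haveI : Fact (Nat.Prime 2) := ⟨Nat.prime_two⟩
  set K := centralizer ({m} : Set G) with hK
  have hsN : s ∈ normalizer (K : Set G) := by
    have key : ∀ w : G, Commute m w → Commute m (s * w * s⁻¹) := by
      intro w hw
      have h1 := (commute_conj_iff s m w).2 hw
      rw [hinv] at h1
      simpa using h1.inv_left
    refine mem_normalizer_iff.2 fun w => ?_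
    simp only [SetLike.mem_coe, hK, mem_centralizer_singleton_iff]
    refine ⟨fun hw => (key w hw.symm).symm.eq, fun hw => ?_⟩
    have := key _ (hw : Commute _ m).symm
    have h2 : s * (s * w * s⁻¹) * s⁻¹ = w := by
      calc s * (s * w * s⁻¹) * s⁻¹ = (s * s) * w * (s * s)⁻¹ := by group
        _ = w := by rw [CfsgLib.Signalizer.involution_sq hs, one_mul, inv_one, mul_one]
    rw [h2] at this
    exact this.symm.eq
  have hKp : IsPGroup p K := by
    refine IsPGroup.of_card (Nat.eq_prime_pow_of_unique_prime_dvd Nat.card_pos.ne'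
      fun {r} hr hrd => ?_)
    by_contra hrp
    have hr2 : r ≠ 2 := fun e => hodd (e ▸ hrd)
    haveI : Fact r.Prime := ⟨hr⟩
    have hA : IsPGroup 2 (zpowers s) :=
      IsPGroup.of_card (n := 1) (by rw [Nat.card_zpowers, hs, pow_one])
    obtain ⟨R, hR⟩ := CfsgLib.Core.exists_invariant_sylow (K := K) (A := zpowers s)
      (zpowers_le.2 hsN)
      (by rw [Nat.card_zpowers, hs]; exact Nat.prime_two.coprime_iff_not_dvd.2 hodd)
      (Or.inl inferInstance) r
    obtain ⟨b, hb⟩ := IsPGroup.iff_card.1 (R.2.map K.subtype)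
    have hbot := C.mixed.eq_bot C.hp2 hA
      (by rw [Ne, zpowers_eq_bot]; exact CfsgLib.Signalizer.involution_ne_one hs)
      (R := (R : Subgroup K).map K.subtype)
      (by
        rw [hb]
        exact (Nat.Coprime.mul_right ((Nat.coprime_primes hr hp.out).2 hrp)
          ((Nat.coprime_primes hr Nat.prime_two).2 hr2)).pow_left b)
      (Or.inl hR)
    rw [Subgroup.map_eq_bot_iff, K.ker_subtype, le_bot_iff] at hbot
    exact Sylow.ne_bot_of_dvd_card R hrd hbot
  obtain ⟨P, hP⟩ := hKp.exists_le_sylow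
  obtain ⟨k, hk⟩ := hmp
  obtain ⟨P₁, hP₁⟩ := (IsPGroup.of_card (n := k) (by rw [Nat.card_zpowers, hk]) :
    IsPGroup p (zpowers m)).exists_le_sylow
  have hPK : (P₁ : Subgroup G) ≤ K := fun w hw => mem_centralizer_singleton_iff.2
    (C.abel _ P₁.2 w hw m (hP₁ (mem_zpowers m)))
  have heq : (P : Subgroup G) = K := le_antisymm
    (Subgroup.eq_of_le_of_card_ge (hPK.trans hP)
      (by rw [P.card_eq_multiplicity, P₁.card_eq_multiplicity]) ▸ hPK) hP
  exact ⟨P, heq, heq ▸ hsN⟩

/-- The centralizer of a Sylow `2`-subgroup has no `p`-part. -/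
theorem Config.cQ_eq_bot : cQ Q = ⊥ := by
  haveI : Fact (Nat.Prime 2) := ⟨Nat.prime_two⟩
  by_contra h0
  obtain ⟨t₀, ht₀, ht₀1⟩ := C.exists_mem
  have ht₀o := C.orderOf_mem ht₀ ht₀1
  have hne : ∀ {y : G}, y ≠ 1 → (∃ k : ℕ, orderOf y = p ^ k) → centralizer ({y} : Set G) ≠ ⊤ := by
    intro y hy1 hyp htop
    have hn : (zpowers y).Normal := ⟨fun a ha g => by
      have hsc : Commute g y := mem_centralizer_singleton_iff.1 (htop ▸ mem_top g)
      obtain ⟨j, rfl⟩ := mem_zpowers_iff.1 ha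
      rw [(hsc.zpow_right j).eq, mul_inv_cancel_right]
      exact ⟨j, rfl⟩⟩
    rcases C.simple _ hn with h | h
    · exact hy1 (zpowers_eq_bot.1 h)
    · have h2 : 2 ∣ Nat.card (⊤ : Subgroup G) := C.two_dvd.trans (card_dvd_of_le le_top)
      rw [← h, Nat.card_zpowers] at h2
      exact absurd ((C.coprime_two_of_pElement hyp).coprime_dvd_left h2) (by decide)
  have hxc : ∀ y ∈ cQ Q, x * y * x⁻¹ ∈ cQ Q := by
    intro y hy
    obtain ⟨h1, k, hk⟩ := C.mem_cQ.1 hy
    refine C.mem_cQ.2 ⟨fun t ht => ?_, k, by rw [CfsgLib.Signalizer.orderOf_conj, hk]⟩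
    have h2 := (commute_conj_iff x y _).2 (h1 _ ((mem_normalizer_iff''.1 C.xN t).1 ht))
    simpa [mul_assoc] using h2
  set M := normalizer (cQ Q : Set G) with hMdef
  have hM : M ≠ ⊤ := by
    intro htop
    rcases C.simple _ (normalizer_eq_top_iff.1 htop) with h | h
    · exact h0 h
    · have ht : t₀ ∈ cQ Q := h ▸ mem_top t₀
      have := C.coprime_two_of_pElement (C.mem_cQ.1 ht).2
      rw [ht₀o] at this
      exact absurd this (by decide)
  have hPtc : ∀ t ∈ Q, t ≠ 1 → ∀ a ∈ Pt t, ∀ y ∈ cQ Q, Commute a y := fun t ht ht1 a ha y hy =>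
    C.abel _ (C.isPGroup_Pt (C.orderOf_mem ht ht1)) a ha y (C.cQ_le ht ht1 hy)
  have hQM : Q ≤ M := fun q hq => Subgroup.centralizer_le_normalizer _ (mem_centralizer_iff.2
    fun y hy => ((C.mem_cQ.1 hy).1 q hq).eq)
  have hxM : x ∈ M := by
    refine mem_normalizer_iff.2 fun y => ⟨hxc y, fun hy => ?_⟩
    have hmem : x * y * x⁻¹ ∈ (cQ Q).map (MulAut.conj x).toMonoidHom := by
      rw [Subgroup.eq_of_le_of_card_ge (H := (cQ Q).map (MulAut.conj x).toMonoidHom) (K := cQ Q)
        (by rintro _ ⟨w, hw, rfl⟩; exact hxc w hw)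
        (Subgroup.card_map_of_injective (MulAut.conj x).injective).ge]
      exact hy
    obtain ⟨w, hw, e⟩ := hmem
    exact (MulAut.conj x).injective e ▸ hw
  have hPM : ∀ t ∈ Q, t ≠ 1 → Pt t ≤ M := fun t ht ht1 a ha =>
    Subgroup.centralizer_le_normalizer _ (mem_centralizer_iff.2
      fun y hy => (hPtc t ht ht1 a ha y hy).eq.symm)
  obtain ⟨hPt, -, hxy, hMN, -⟩ := C.pin hM hQM hxM hPM
  have hCy : ∀ y ∈ cQ Q, y ≠ 1 → centralizer ({y} : Set G) ≤ M := by
    intro y hy hy1
    obtain ⟨h1, h2⟩ := C.mem_cQ.1 hy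
    exact (C.pin (hne hy1 h2) (fun q hq => mem_centralizer_singleton_iff.2 (h1 q hq).symm.eq)
      (mem_centralizer_singleton_iff.2 (hxy y hy).eq)
      (fun t ht ht1 a ha => mem_centralizer_singleton_iff.2 (hPtc t ht ht1 a ha y hy).eq)).2.2.2.2
  have hTI : InvTI Q := by
    intro z hz hz1 s hs hsz
    refine C.mem_of_normalizes hs (hMN ?_)
    have key : ∀ y ∈ cQ Q, s * y * s⁻¹ ∈ cQ Q := by
      intro y hy
      rw [← hPt z hz hz1] at hy ⊢
      have := C.mem_Pt_conj (C.orderOf_mem hz hz1) s hy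
      rwa [hsz.eq, mul_inv_cancel_right] at this
    refine mem_normalizer_iff.2 fun y => ⟨key y, fun hy => ?_⟩
    have h2 : s * (s * y * s⁻¹) * s⁻¹ = y := by
      calc s * (s * y * s⁻¹) * s⁻¹ = (s * s) * y * (s * s)⁻¹ := by group
        _ = y := by rw [CfsgLib.Signalizer.involution_sq hs, one_mul, inv_one, mul_one]
    simpa only [h2] using key _ hy
  obtain ⟨s, t, hs, ht, hst⟩ := C.exists_noncommuting
  obtain ⟨k, hk⟩ := C.pair_pElement hTI hs ht hst
  set m := s * t with hm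
  have hinv : s * m * s⁻¹ = m⁻¹ := CfsgLib.Signalizer.conj_mul_eq_inv hs ht
  have hm1 : m ≠ 1 := by
    intro e
    have : t = s := by
      calc t = (s * s) * t := by rw [CfsgLib.Signalizer.involution_sq hs, one_mul]
        _ = s := by rw [mul_assoc, ← hm, e, mul_one]
    exact hst (this ▸ Commute.refl s)
  have hodd : ¬ 2 ∣ Nat.card (centralizer ({m} : Set G)) := by
    intro h2
    obtain ⟨z, hz⟩ := exists_prime_orderOf_dvd_card' 2 h2
    obtain ⟨h, hh⟩ := C.conj_involution (s := (z : G))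
      (by rw [Subgroup.orderOf_coe, hz]) ht₀ ht₀1
    set m' := h * m * h⁻¹ with hm'
    set s' := h * s * h⁻¹ with hs'
    have hm'1 : m' ≠ 1 := fun e => hm1 (conj_eq_one_iff.1 e)
    have hm'p : ∃ j : ℕ, orderOf m' = p ^ j := ⟨k, by rw [hm', CfsgLib.Signalizer.orderOf_conj, hk]⟩
    have hs'o : orderOf s' = 2 := C.orderOf_conj_two hs h
    have hm'C : m' ∈ cQ Q := by
      rw [← hPt t₀ ht₀ ht₀1]
      refine (C.mem_Pt ht₀o).2 ⟨?_, hm'p⟩
      rw [← hh]
      exact (commute_conj_iff h m (z : G)).2 (mem_centralizer_singleton_iff.1 z.2 : Commute (z : G) m).symm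
    have hinv' := conj_inverts hinv h
    -- every element of `Q` is sent into `Q`
    have hmemQ : ∀ q ∈ Q, s' * q * s'⁻¹ ∈ Q := by
      intro q hq
      rcases eq_or_ne q 1 with rfl | hq1
      · simp
      refine C.mem_of_normalizes (C.orderOf_conj_two (C.orderOf_mem hq hq1) s')
        (hMN (hCy m' hm'C hm'1 ?_))
      rw [mem_centralizer_singleton_iff]
      have hc := (commute_conj_iff s' m' q).2 ((C.mem_cQ.1 hm'C).1 q hq)
      rw [hinv'] at hc
      simpa using hc.inv_left.symm.eq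
    have hs'Q : s' ∈ Q := by
      refine C.mem_of_normalizes hs'o (mem_normalizer_iff.2 fun q => ⟨hmemQ q, fun hq => ?_⟩)
      have h2 : s' * (s' * q * s'⁻¹) * s'⁻¹ = q := by
        calc s' * (s' * q * s'⁻¹) * s'⁻¹ = (s' * s') * q * (s' * s')⁻¹ := by group
          _ = q := by rw [CfsgLib.Signalizer.involution_sq hs'o, one_mul, inv_one, mul_one]
      simpa only [h2] using hmemQ _ hq
    exact hm'1 (C.eq_one_of_commute_inverts ((C.mem_cQ.1 hm'C).1 s' hs'Q).symm hinv' hm'p)
  obtain ⟨P, hPeq, hsP⟩ := C.centralizer_sylow hs hinv ⟨k, hk⟩ hodd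
  -- move the Sylow subgroup over `cQ Q`
  have hcp : IsPGroup p (cQ Q) := (C.isPGroup_Pt ht₀o).to_le (C.cQ_le ht₀ ht₀1)
  obtain ⟨P₁, hP₁⟩ := hcp.exists_le_sylow
  obtain ⟨h, hh⟩ := MulAction.exists_smul_eq G P P₁
  have hmap : ∀ a, a ∈ (P : Subgroup G) ↔ h * a * h⁻¹ ∈ (P₁ : Subgroup G) := by
    intro a
    rw [← hh, Sylow.smul_def, Sylow.pointwise_smul_def]
    exact (Subgroup.smul_mem_pointwise_smul_iff (a := MulAut.conj h) (S := (P : Subgroup G))).symm
  set s' := h * s * h⁻¹ with hs'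
  have hs'o : orderOf s' = 2 := C.orderOf_conj_two hs h
  have hs'N : ∀ a ∈ (P₁ : Subgroup G), s' * a * s'⁻¹ ∈ (P₁ : Subgroup G) := by
    intro a ha
    have h1 : h⁻¹ * a * h ∈ (P : Subgroup G) := (hmap _).2 (by simpa [mul_assoc] using ha)
    have h2 := (hmap _).1 ((mem_normalizer_iff.1 hsP _).1 h1)
    rw [hs']
    simpa [mul_assoc] using h2
  by_cases hfix : ∃ y ∈ (P₁ : Subgroup G), y ≠ 1 ∧ Commute s' y
  · obtain ⟨y, hy, hy1, hys⟩ := hfix
    obtain ⟨l, hl⟩ := C.conj_involution hs'o ht₀ ht₀1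
    have hyp : ∃ j : ℕ, orderOf y = p ^ j := by
      obtain ⟨j, hj⟩ := IsPGroup.iff_orderOf.1 P₁.2 ⟨y, hy⟩
      exact ⟨j, by rwa [← Subgroup.orderOf_coe] at hj⟩
    set y' := l * y * l⁻¹ with hy'
    have hy'1 : y' ≠ 1 := fun e => hy1 (conj_eq_one_iff.1 e)
    have hy'C : y' ∈ cQ Q := by
      rw [← hPt t₀ ht₀ ht₀1]
      refine (C.mem_Pt ht₀o).2 ⟨?_, ?_⟩
      · rw [← hl]; exact (commute_conj_iff l y s').2 hys.symm
      · obtain ⟨j, hj⟩ := hyp; exact ⟨j, by rw [hy', CfsgLib.Signalizer.orderOf_conj, hj]⟩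
    -- the conjugate of `P₁` lies in `cQ Q`
    have hle : ∀ a ∈ (P₁ : Subgroup G), l * a * l⁻¹ ∈ cQ Q := by
      intro a ha
      have hap : ∃ j : ℕ, orderOf (l * a * l⁻¹) = p ^ j := by
        obtain ⟨j, hj⟩ := IsPGroup.iff_orderOf.1 P₁.2 ⟨a, ha⟩
        exact ⟨j, by rw [CfsgLib.Signalizer.orderOf_conj]; rwa [← Subgroup.orderOf_coe] at hj⟩
      have haN : l * a * l⁻¹ ∈ normalizer (Q : Set G) := hMN (hCy y' hy'C hy'1
        (mem_centralizer_singleton_iff.2 ((commute_conj_iff l a y).2 (C.abel _ P₁.2 a ha y hy)).eq))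
      set a' := l * a * l⁻¹ with ha'
      have h1 : t₀ * a' * t₀⁻¹ * a'⁻¹ ∈ Q := by
        have := mul_mem ht₀ ((mem_normalizer_iff.1 haN _).1 (inv_mem ht₀))
        simpa [mul_assoc] using this
      have h2 : s' * a * s'⁻¹ * a⁻¹ ∈ (P₁ : Subgroup G) :=
        (P₁ : Subgroup G).mul_mem (hs'N a ha) ((P₁ : Subgroup G).inv_mem ha)
      have h3 : t₀ * a' * t₀⁻¹ * a'⁻¹ = l * (s' * a * s'⁻¹ * a⁻¹) * l⁻¹ := by
        rw [← hl, ha']; group
      have h4 : t₀ * a' * t₀⁻¹ * a'⁻¹ = 1 := by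
        by_contra hne'
        have h5 := C.orderOf_mem h1 hne'
        rw [h3, CfsgLib.Signalizer.orderOf_conj] at h5
        obtain ⟨j, hj⟩ := IsPGroup.iff_orderOf.1 P₁.2 ⟨_, h2⟩
        rw [← Subgroup.orderOf_coe] at hj
        exact absurd (C.coprime_two_of_pElement ⟨j, hj⟩) (by rw [h5]; decide)
      rw [← hPt t₀ ht₀ ht₀1]
      refine (C.mem_Pt ht₀o).2 ⟨?_, hap⟩
      rw [mul_inv_eq_one, mul_inv_eq_iff_eq_mul] at h4
      exact h4.symm
    have hcard : Nat.card (P₁ : Subgroup G) ≤ Nat.card (cQ Q) := by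
      refine Nat.card_le_card_of_injective
        (fun a : (P₁ : Subgroup G) => (⟨l * a * l⁻¹, hle a a.2⟩ : cQ Q)) fun a b e => ?_
      have := congrArg Subtype.val e
      simpa using this
    -- but `x` and `cQ Q` generate a larger `p`-group
    have hxp : IsPGroup p (zpowers x ⊔ cQ Q : Subgroup G) := by
      obtain ⟨j, hj⟩ := C.xp
      exact (IsPGroup.of_card (n := j) (by rw [Nat.card_zpowers, hj]) :
        IsPGroup p (zpowers x)).to_sup_of_normal_right' hcp (zpowers_le.2 hxM)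
    obtain ⟨P₂, hP₂⟩ := hxp.exists_le_sylow
    have heq : cQ Q = zpowers x ⊔ cQ Q := Subgroup.eq_of_le_of_card_ge le_sup_right
      (le_trans (Subgroup.card_le_of_le hP₂)
        (by rw [P₂.card_eq_multiplicity, ← P₁.card_eq_multiplicity]; exact hcard))
    have hxQ : ∀ u ∈ Q, Commute x u :=
      fun u hu => (C.mem_cQ.1 (heq ▸ mem_sup_left (mem_zpowers x))).1 u hu
    have h4 := C.four_le
    have hexists : ∃ u ∈ Q, u ≠ 1 ∧ u ≠ t₀ := by
      by_contra hcon
      push Not at hcon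
      have : Nat.card Q ≤ 2 := by
        rw [← SetLike.coe_sort_coe, Nat.card_coe_set_eq]
        refine le_trans (Set.ncard_le_ncard (t := ({1, t₀} : Set G)) (fun u hu => ?_)
          (Set.toFinite _)) ((Set.ncard_insert_le _ _).trans (by simp))
        rcases eq_or_ne u 1 with rfl | hu1
        · exact Or.inl rfl
        · exact Or.inr (hcon u hu hu1)
      omega
    obtain ⟨u, hu, hu1, hut⟩ := hexists
    obtain ⟨j, hj⟩ := C.trans t₀ ht₀ u hu ht₀1 hu1
    rw [((hxQ t₀ ht₀).pow_left j).eq, mul_inv_cancel_right] at hj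
    exact hut hj.symm
  · push Not at hfix
    have hinvall : ∀ a ∈ (P₁ : Subgroup G), s' * a * s'⁻¹ = a⁻¹ := by
      intro a ha
      have hb := hs'N a ha
      by_contra hne'
      refine hfix (a * (s' * a * s'⁻¹)) ((P₁ : Subgroup G).mul_mem ha hb)
        (fun e => hne' (eq_inv_of_mul_eq_one_right e)) ?_
      show s' * (a * (s' * a * s'⁻¹)) = a * (s' * a * s'⁻¹) * s'
      rw [C.abel _ P₁.2 a ha _ hb]
      calc s' * (s' * a * s'⁻¹ * a) = (s' * s') * a * s'⁻¹ * a := by group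
        _ = a * s'⁻¹ * a := by rw [CfsgLib.Signalizer.involution_sq hs'o, one_mul]
        _ = a * s' * a := by rw [CfsgLib.Signalizer.involution_inv hs'o]
        _ = _ := by
          rw [show s' * a * s'⁻¹ * a * s' = (s' * a * s'⁻¹) * (a * s') by group,
            show a * s' * a = a * (s' * a * s'⁻¹) * s' by group,
            C.abel _ P₁.2 a ha _ hb]
          group
    have hs'M : s' ∈ M := by
      refine mem_normalizer_iff.2 fun y => ⟨fun hy => ?_, fun hy => ?_⟩
      · rw [hinvall y (hP₁ hy)]; exact inv_mem hy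
      · have h1 := hinvall _ (hP₁ hy)
        have h2 : s' * (s' * y * s'⁻¹) * s'⁻¹ = y := by
          calc s' * (s' * y * s'⁻¹) * s'⁻¹ = (s' * s') * y * (s' * s')⁻¹ := by group
            _ = y := by rw [CfsgLib.Signalizer.involution_sq hs'o, one_mul, inv_one, mul_one]
        rw [h2] at h1
        rw [h1]; exact inv_mem hy
    have hs'Q := C.mem_of_normalizes hs'o (hMN hs'M)
    obtain ⟨⟨y, hy⟩, hy1⟩ := Subgroup.ne_bot_iff_exists_ne_one.1 h0
    exact hy1 (Subtype.ext (C.eq_one_of_commute_inverts ((C.mem_cQ.1 hy).1 s' hs'Q).symm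
      (hinvall y (hP₁ hy)) (C.mem_cQ.1 hy).2))

/-- If `|Q| > 4`, the involution centralizers have no `p`-part. -/
theorem Config.Pt_eq_bot (h8 : 4 < Nat.card Q) {t : G} (ht : t ∈ Q) (ht1 : t ≠ 1) : Pt t = ⊥ := by
  haveI : Fact (Nat.Prime 2) := ⟨Nat.prime_two⟩
  have hnormQ : ∀ s ∈ Q, s ≠ 1 → Q ≤ normalizer (Pt s : Set G) := by
    intro s hs hs1 q hq
    have key : ∀ y ∈ Pt s, q * y * q⁻¹ ∈ Pt s := by
      intro y hy
      have := C.mem_Pt_conj (C.orderOf_mem hs hs1) q hy
      rwa [C.comm q hq s hs, mul_inv_cancel_right] at this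
    refine mem_normalizer_iff.2 fun y => ⟨key y, fun hy => ?_⟩
    have h2 : q * (q * y * q⁻¹) * q⁻¹ = y := by
      calc q * (q * y * q⁻¹) * q⁻¹ = (q * q) * y * (q * q)⁻¹ := by group
        _ = y := by rw [C.sq q hq, one_mul, inv_one, mul_one]
    simpa only [h2] using key _ hy
  have hgen : ∀ s ∈ Q, s ≠ 1 → ∀ a ∈ Q, ∀ b ∈ Q, a ≠ 1 → b ≠ 1 → a ≠ b → ∀ Y : Subgroup G,
      (∀ e ∈ Q, e = a ∨ e = b ∨ e = a * b → e ≠ 1 →
        ∀ y ∈ Pt s, Commute y e → y ∈ Y) → Pt s ≤ Y := by
    intro s hs hs1 a ha b hb ha1 hb1 hab Y hY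
    let A := CfsgLib.TwoGroups.fourOf (C.sq a ha) (C.sq b hb) (C.comm a ha b hb)
    have hAQ : A ≤ Q := CfsgLib.TwoGroups.fourOf_le _ _ _ ha hb
    have hK := CfsgLib.TwoGroups.isKleinFour_fourOf (C.sq a ha) (C.sq b hb) (C.comm a ha b hb)
      ha1 hb1 hab
    haveI : IsMulCommutative A := ⟨⟨fun u v => Subtype.ext (C.comm _ (hAQ u.2) _ (hAQ v.2))⟩⟩
    refine CfsgLib.LocalEven.le_of_centralizers_le (p := 2) (A := A)
      (fun u hu => by rw [pow_two, C.sq u (hAQ hu)]) (by rw [hK.card_four]; norm_num)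
      (hAQ.trans (hnormQ s hs hs1)) ?_ ?_
    · intro hd
      obtain ⟨i, hi⟩ := IsPGroup.iff_card.1 (C.isPGroup_Pt (C.orderOf_mem hs hs1))
      rw [hi] at hd
      exact C.hp2 ((Nat.prime_dvd_prime_iff_eq Nat.prime_two hp.out).1
        (Nat.prime_two.dvd_of_dvd_pow hd)).symm
    · intro e he he1 y hy
      refine hY e (hAQ he) ?_ he1 y hy.1 (mem_centralizer_singleton_iff.1 hy.2)
      exact ((CfsgLib.TwoGroups.mem_fourOf _ _ _).1 he).resolve_left he1
  -- the `Pt` commute
  have hcomm : ∀ t ∈ Q, t ≠ 1 → ∀ s ∈ Q, s ≠ 1 → Pt s ≤ centralizer (Pt t : Set G) := by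
    intro t ht ht1 s hs hs1
    rcases eq_or_ne s t with rfl | hst
    · exact fun y hy => mem_centralizer_iff.2 fun w hw =>
        C.abel _ (C.isPGroup_Pt (C.orderOf_mem hs hs1)) w hw y hy
    obtain ⟨u, hu, hu1, hut, hus, huts⟩ :
        ∃ u ∈ Q, u ≠ 1 ∧ u ≠ t ∧ u ≠ s ∧ u ≠ t * s := by
      by_contra hcon
      push Not at hcon
      have : Nat.card Q ≤ 4 := by
        rw [← SetLike.coe_sort_coe, Nat.card_coe_set_eq]
        refine le_trans (Set.ncard_le_ncard (t := ({1, t, s, t * s} : Set G)) (fun u hu => ?_)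
          (Set.toFinite _)) ?_
        · simp only [Set.mem_insert_iff, Set.mem_singleton_iff]
          by_contra hc
          push Not at hc
          exact hc.2.2.2 (hcon u hu hc.1 hc.2.1 hc.2.2.1)
        · refine (Set.ncard_insert_le _ _).trans ?_
          have := Set.ncard_insert_le t ({s, t * s} : Set G)
          have := Set.ncard_insert_le s ({t * s} : Set G)
          simp only [Set.ncard_singleton] at *
          omega
      omega
    refine hgen s hs hs1 t ht u hu ht1 hu1 (Ne.symm hut) _ fun v hv hvcase hv1 w hw hwv => ?_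
    rcases eq_or_ne v t with rfl | hvt
    · exact mem_centralizer_iff.2 fun a ha =>
        C.abel _ (C.isPGroup_Pt (C.orderOf_mem hv hv1)) a ha w
          ((C.mem_Pt (C.orderOf_mem hv hv1)).2 ⟨hwv, ((C.mem_Pt (C.orderOf_mem hs hs1)).1 hw).2⟩)
    have hvs : v ≠ s := by
      rcases hvcase with rfl | rfl | rfl
      · exact absurd rfl hvt
      · exact hus
      · intro e
        exact huts (by rw [← e, ← mul_assoc, C.sq t ht, one_mul])
    suffices h : Pt t ≤ centralizer ({w} : Set G) from mem_centralizer_iff.2 fun a ha =>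
      mem_centralizer_singleton_iff.1 (h ha)
    refine hgen t ht ht1 v hv s hs hv1 hs1 hvs _ fun e he hecase he1 a ha hae => ?_
    have hwe : Commute w e := by
      have hws := ((C.mem_Pt (C.orderOf_mem hs hs1)).1 hw).1
      rcases hecase with rfl | rfl | rfl
      · exact hwv
      · exact hws
      · exact hwv.mul_right hws
    exact mem_centralizer_singleton_iff.2 (C.abel _ (C.isPGroup_Pt (C.orderOf_mem he he1)) a
      ((C.mem_Pt (C.orderOf_mem he he1)).2 ⟨hae, ((C.mem_Pt (C.orderOf_mem ht ht1)).1 ha).2⟩) w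
      ((C.mem_Pt (C.orderOf_mem he he1)).2 ⟨hwe, ((C.mem_Pt (C.orderOf_mem hs hs1)).1 hw).2⟩))
  set S : Set G := {y | ∃ t, t ∈ Q ∧ t ≠ 1 ∧ y ∈ Pt t} with hS
  set W := closure S with hW
  have hSW : ∀ y ∈ S, ∀ w ∈ W, Commute y w := by
    rintro y ⟨s, hs, hs1, hy⟩ w hw
    induction hw using closure_induction with
    | mem w hw =>
      obtain ⟨s', hs', hs'1, hw'⟩ := hw
      exact (mem_centralizer_iff.1 (hcomm s' hs' hs'1 s hs hs1 hy) w hw' : Commute w y).symm
    | one => exact Commute.one_right y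
    | mul a b _ _ iha ihb => exact iha.mul_right ihb
    | inv a _ iha => exact iha.inv_right
  have hWp : ∀ w ∈ W, ∃ i : ℕ, w ^ p ^ i = 1 := by
    intro w hw
    induction hw using closure_induction with
    | mem w hw =>
      obtain ⟨s', hs', hs'1, hw'⟩ := hw
      obtain ⟨i, hi⟩ := ((C.mem_Pt (C.orderOf_mem hs' hs'1)).1 hw').2
      exact ⟨i, by rw [← hi, pow_orderOf_eq_one]⟩
    | one => exact ⟨0, one_pow _⟩
    | mul a b ha hb iha ihb =>
      obtain ⟨i, hi⟩ := iha
      obtain ⟨j, hj⟩ := ihb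
      have hab : Commute a b := by
        clear hi
        induction ha using closure_induction with
        | mem a ha => exact hSW a ha b hb
        | one => exact Commute.one_left b
        | mul c d _ _ ihc ihd => exact ihc.mul_left ihd
        | inv c _ ihc => exact ihc.inv_left
      refine ⟨i + j, ?_⟩
      rw [hab.mul_pow, pow_add, pow_mul, hi, one_pow, one_mul, mul_comm (p ^ i) (p ^ j), pow_mul,
        hj, one_pow]
    | inv a _ iha =>
      obtain ⟨i, hi⟩ := iha
      exact ⟨i, by rw [inv_pow, hi, inv_one]⟩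
  by_cases hW1 : W = ⊥
  · refine le_bot_iff.1 fun y hy => ?_
    rw [← hW1]
    exact subset_closure ⟨t, ht, ht1, hy⟩
  set M := normalizer (W : Set G) with hMdef
  have hM : M ≠ ⊤ := by
    intro htop
    rcases C.simple _ (normalizer_eq_top_iff.1 htop) with h | h
    · exact hW1 h
    · obtain ⟨i, hi⟩ := hWp t (h ▸ mem_top t)
      have h2 : orderOf t ∣ p ^ i := orderOf_dvd_of_pow_eq_one hi
      rw [C.orderOf_mem ht ht1] at h2
      exact C.hp2 ((Nat.prime_dvd_prime_iff_eq Nat.prime_two hp.out).1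
        (Nat.prime_two.dvd_of_dvd_pow h2)).symm
  have hnormW : ∀ g : G, (∀ y ∈ S, g * y * g⁻¹ ∈ W) → g ∈ M := by
    intro g hg
    have h1 : W.map (MulAut.conj g).toMonoidHom ≤ W := by
      rw [hW, MonoidHom.map_closure, closure_le]
      rintro _ ⟨y, hy, rfl⟩
      exact hg y hy
    have h2 := Subgroup.eq_of_le_of_card_ge h1
      (Subgroup.card_map_of_injective (MulAut.conj g).injective).ge
    refine mem_normalizer_iff.2 fun y => ⟨fun hy => h1 ⟨y, hy, rfl⟩, fun hy => ?_⟩
    have hy' : g * y * g⁻¹ ∈ W.map (MulAut.conj g).toMonoidHom := h2.symm ▸ hy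
    obtain ⟨w, hw, e⟩ := hy'
    exact (MulAut.conj g).injective e ▸ hw
  have hQM : Q ≤ M := fun q hq => hnormW q fun y ⟨s, hs, hs1, hy⟩ =>
    subset_closure ⟨s, hs, hs1, (mem_normalizer_iff.1 (hnormQ s hs hs1 hq) y).1 hy⟩
  have hxM : x ∈ M := hnormW x fun y ⟨s, hs, hs1, hy⟩ => subset_closure
    ⟨x * s * x⁻¹, (mem_normalizer_iff.1 C.xN s).1 hs, fun e => hs1 (conj_eq_one_iff.1 e),
      C.mem_Pt_conj (C.orderOf_mem hs hs1) x hy⟩
  have hPM : ∀ s ∈ Q, s ≠ 1 → Pt s ≤ M := fun s hs hs1 y hy =>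
    Subgroup.centralizer_le_normalizer _ (mem_centralizer_iff.2 fun w hw =>
      (hSW y ⟨s, hs, hs1, hy⟩ w hw).eq.symm)
  rw [(C.pin hM hQM hxM hPM).1 t ht ht1, C.cQ_eq_bot]

end CfsgLib.Orders.Mixed
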